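import Mathlib.Data.Nat.Prime.Basic
import Mathlib.Data.Nat.Factorization.Basic
import Mathlib.Tactic.NormNum.Prime
import Mathlib.Tactic.Positivity
import Mathlib.Tactic.Linarith
import Mathlib.Tactic.IntervalCases
import Mathlib.Tactic.Ring
import Mathlib
import Cfsg.Agent.H56.Exc.Auto_m3
import Cfsg.Agent.S0146
import Cfsg.Agent.S0148
import Cfsg.Agent.S0198
import Cfsg.Agent.S0145
import Cfsg.Agent.Characters.Core
import Cfsg.Agent.Characters.Brauer
import Mathlib.GroupTheory.FiniteAbelian.Duality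
import Cfsg.Agent.Characters.DefectZero
import Cfsg.Agent.Characters.ClassMul
import Cfsg.Agent.Characters.GaloisBasic
import Cfsg.Agent.LieClassical.HermBasic
import Mathlib.LinearAlgebra.Matrix.Trace
import Mathlib.GroupTheory.Index
import Mathlib.FieldTheory.Finite.GaloisField
import Mathlib.RingTheory.AdjoinRoot
import Mathlib.Algebra.Polynomial.SpecificDegree
import Mathlib.LinearAlgebra.Determinant
import Mathlib.FieldTheory.Finite.Basic
import Cfsg.Agent.H494.TC.Base
import Cfsg.Agent.LieClassical.FieldTransfer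
import Mathlib.Algebra.QuadraticAlgebra.Basic
import Cfsg.Agent.H65.Ore.Split_m3
import Cfsg.Agent.Characters.GaloisIrr
import Cfsg.Agent.H678.CCData
import Cfsg.Agent.H713.Invol
import Cfsg.Agent.H686.CharKit
import Cfsg.Agent.SmallSimple.DihedralNormalizer
import Cfsg.Agent.S0141
import Cfsg.Agent.S0142
import Cfsg.Agent.S0138
import Cfsg.Agent.S0135
import Cfsg.Agent.H167.HasSt
import Mathlib.RingTheory.Polynomial.Cyclotomic.Factorization
import Cfsg.Agent.H104.Closed_m3
import Cfsg.Agent.H193.SsConj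
import Cfsg.Agent.H175.SympConj
import Cfsg.Agent.H68.CoInst_m3
import Cfsg.Agent.LieClassical.SympCount
import Mathlib.LinearAlgebra.SymplecticGroup
import Mathlib.LinearAlgebra.Matrix.ToLin
import Mathlib.Tactic
import Mathlib.Init
import Cfsg.Agent.H84.TwF4Cover
import Cfsg.Agent.H84.TitsLink
import Cfsg.Agent.H56.Exc.BigRows
import Cfsg.Agent.H946.RadD4_m3
import Cfsg.Agent.H115.ChevPar
import Cfsg.Agent.H35.ExcIdxTw_m3
import Cfsg.Agent.KFacts.RgdFiltChev
import Cfsg.Agent.KFacts.RgdBorelTits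
import Cfsg.Agent.Mrg.Omega.TwoF.E7Odd_mg_m3
import Cfsg.Agent.S1026
import Cfsg.Agent.S1035
import Cfsg.Agent.S1059
import Cfsg.Agent.H126.PwO.Nu_m3
import Cfsg.Agent.H140.TC.Fam_m3
import Cfsg.Agent.H126.PwO.FiveThree_m3
import Cfsg.Agent.S0243
import Cfsg.Agent.S0252
import Cfsg.Agent.S0253
import Cfsg.Agent.S1163
import Cfsg.Agent.S2455
import Cfsg.Agent.S2456
import Cfsg.Agent.S2457
import Cfsg.Agent.S2458
import Cfsg.Prelude.Def_LieTwisted
import Cfsg.Prelude.Def_Sz
import Cfsg.Agent.FastGrp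
import Cfsg.Agent.Prune
set_option linter.all false

section
prune_inst 0x7f00000000000000000000000000000000000000000000000000000000000000000000000000000000000000000000000000000000000000000000000000000000000000000000000000000000000000003ffc7667fffffffffffff7ffffffbeffbde3fe7fff

section
prune_inst 0xfeacfcebbdafffffff7fffffddddfc3b90dfffa4dff94bffe269ff0bbf039089cd63ad01e010fe0ef6c21414e87b43fbfeefffea6fdc7ffffdfff41ffbff8fbde7b508519488340f342fff83f0778e7f00038998000000000000080000000000401c018000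

-- part: H962/TC/Num
section
set_option linter.all false
open scoped Cfsg.Agent.FastGrp

/-!
# `q² - 1` and `q - 1` with no prime divisor `≥ 5`
-/

set_option autoImplicit false

namespace Cfsg.Agent.H962.TC

theorem smooth {n : ℕ} (hn : n ≠ 0) (h : ∀ s : ℕ, s.Prime → s ∣ n → s < 5) : ∃ a b, n = 2 ^ a * 3 ^ b := by
  induction n using Nat.strong_induction_on with
  | _ n ih =>
    rcases Nat.lt_or_ge n 2 with h1 | h1
    · exact ⟨0, 0, by omega⟩
    · obtain ⟨p, hp, hpn⟩ := Nat.exists_prime_and_dvd (show n ≠ 1 by omega)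
      obtain ⟨m, hm⟩ := hpn
      have hm0 : m ≠ 0 := by
        rintro rfl
        exact hn (by rw [hm, mul_zero])
      have h2 := hp.two_le
      have hlt : m < n := by
        rw [hm]
        nlinarith [Nat.pos_of_ne_zero hm0]
      obtain ⟨a, b, hab⟩ := ih m hlt hm0 fun s hs hsm => h s hs (hm ▸ Dvd.dvd.mul_left hsm p)
      have hp5 := h p hp ⟨m, hm⟩
      have hp4 : p ≠ 4 := by
        rintro rfl
        exact absurd hp (by norm_num)
      rcases (show p = 2 ∨ p = 3 by omega) with rfl | rfl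
      · exact ⟨a + 1, b, by rw [hm, hab, pow_succ]; ring⟩
      · exact ⟨a, b + 1, by rw [hm, hab, pow_succ]; ring⟩

theorem three_pow_mod (b : ℕ) : 3 ^ b % 8 = 1 ∨ 3 ^ b % 8 = 3 := by
  induction b with
  | zero => left; rfl
  | succ b ih => rw [pow_succ]; omega

theorem eight_dvd_of {k : ℕ} (hk : 3 ≤ k) : 2 ^ k % 8 = 0 := by
  obtain ⟨j, rfl⟩ := Nat.exists_eq_add_of_le hk
  rw [pow_add]
  omega

theorem plus_one {b k : ℕ} (h : 2 ^ k = 3 ^ b + 1) : k ≤ 2 := by
  by_contra hk
  have h1 := eight_dvd_of (show 3 ≤ k by omega)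
  have h2 := three_pow_mod b
  omega

theorem three_pow_mod' (b : ℕ) : 3 ^ b % 80 = 1 ∨ 3 ^ b % 80 = 3 ∨ 3 ^ b % 80 = 9 ∨ 3 ^ b % 80 = 27 := by
  induction b with
  | zero => left; rfl
  | succ b ih => rw [pow_succ]; omega

theorem two_pow_mod' (k : ℕ) : 2 ^ k % 5 ≠ 0 := by
  induction k with
  | zero => norm_num
  | succ b ih => rw [pow_succ]; omega

theorem minus_one {b k : ℕ} (h : 2 ^ k + 1 = 3 ^ b) : k ≤ 3 := by
  by_contra hk
  have h1 : 2 ^ k % 16 = 0 := by
    obtain ⟨j, rfl⟩ := Nat.exists_eq_add_of_le (show 4 ≤ k by omega)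
    rw [pow_add]
    omega
  have h2 := three_pow_mod' b
  have h3 := two_pow_mod' k
  omega

/-- **`q² - 1` has a prime divisor `≥ 5`** -/
theorem exists_prime_sq {q : ℕ} (h2 : 4 ≤ q) (h5 : q ≠ 5) (h7 : q ≠ 7) (h17 : q ≠ 17) :
    ∃ s : ℕ, s.Prime ∧ 5 ≤ s ∧ s ∣ q ^ 2 - 1 := by
  by_contra hcon
  push Not at hcon
  have hq : q ^ 2 - 1 = (q - 1) * (q + 1) := by
    obtain ⟨r, rfl⟩ := Nat.exists_eq_add_of_le (show 1 ≤ q by omega)
    simp only [Nat.add_sub_cancel_left]
    rw [Nat.sub_eq_iff_eq_add (Nat.one_le_pow _ _ (by omega))]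
    ring
  obtain ⟨a, b, hab⟩ := smooth (n := q - 1) (by omega) fun s hs hsd => by
    by_contra h
    exact hcon s hs (by omega) (hq ▸ Dvd.dvd.mul_right hsd _)
  obtain ⟨c, d, hcd⟩ := smooth (n := q + 1) (by omega) fun s hs hsd => by
    by_contra h
    exact hcon s hs (by omega) (hq ▸ Dvd.dvd.mul_left hsd _)
  have hA : ∀ k : ℕ, 2 ≤ k → 2 ^ k % 4 = 0 := by
    intro k hk
    obtain ⟨j, rfl⟩ := Nat.exists_eq_add_of_le hk
    rw [pow_add]
    omega
  have h3 : b = 0 ∨ d = 0 := by
    by_contra h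
    push Not at h
    obtain ⟨b', rfl⟩ := Nat.exists_eq_succ_of_ne_zero h.1
    obtain ⟨d', rfl⟩ := Nat.exists_eq_succ_of_ne_zero h.2
    have e1 : (q - 1) % 3 = 0 := by rw [hab, Nat.succ_eq_add_one, pow_succ, ← mul_assoc, Nat.mul_mod_left]
    have e2 : (q + 1) % 3 = 0 := by rw [hcd, Nat.succ_eq_add_one, pow_succ, ← mul_assoc, Nat.mul_mod_left]
    omega
  have h4 : a ≤ 1 ∨ c ≤ 1 := by
    by_contra h
    push Not at h
    have e1 : (q - 1) % 4 = 0 := by rw [hab, Nat.mul_mod, hA a (by omega), Nat.zero_mul, Nat.zero_mod]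
    have e2 : (q + 1) % 4 = 0 := by rw [hcd, Nat.mul_mod, hA c (by omega), Nat.zero_mul, Nat.zero_mod]
    omega
  have hpar : a = 0 ↔ c = 0 := by
    constructor
    · rintro rfl
      by_contra hc
      obtain ⟨c', rfl⟩ := Nat.exists_eq_succ_of_ne_zero hc
      have e2 : (q + 1) % 2 = 0 := by
        rw [hcd, Nat.succ_eq_add_one, pow_succ, mul_comm (2 ^ c') 2, mul_assoc, Nat.mul_mod_right]
      have := three_pow_mod b
      rw [pow_zero, one_mul] at hab
      omega
    · rintro rfl
      by_contra hc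
      obtain ⟨c', rfl⟩ := Nat.exists_eq_succ_of_ne_zero hc
      have e2 : (q - 1) % 2 = 0 := by
        rw [hab, Nat.succ_eq_add_one, pow_succ, mul_comm (2 ^ c') 2, mul_assoc, Nat.mul_mod_right]
      have := three_pow_mod d
      rw [pow_zero, one_mul] at hcd
      omega
  rcases Nat.eq_zero_or_pos a with ha | ha
  · -- both odd
    have hc := hpar.1 ha
    subst ha hc
    rcases h3 with rfl | rfl
    · rw [pow_zero, pow_zero] at hab
      omega
    · rw [pow_zero, pow_zero] at hcd
      omega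
  · have hc : 0 < c := Nat.pos_of_ne_zero fun h => by
      have := hpar.2 h
      omega
    rcases h4 with h4 | h4
    · obtain rfl : a = 1 := by omega
      rcases h3 with rfl | rfl
      · rw [pow_one, pow_zero] at hab
        omega
      · obtain ⟨c', rfl⟩ := Nat.exists_eq_succ_of_ne_zero hc.ne'
        rw [Nat.succ_eq_add_one, pow_succ, pow_zero] at hcd
        rw [pow_one] at hab
        have h6 := plus_one (show 2 ^ c' = 3 ^ b + 1 by omega)
        interval_cases c' <;> omega
    · obtain rfl : c = 1 := by omega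
      rcases h3 with rfl | rfl
      · obtain ⟨a', rfl⟩ := Nat.exists_eq_succ_of_ne_zero ha.ne'
        rw [Nat.succ_eq_add_one, pow_succ, pow_zero] at hab
        rw [pow_one] at hcd
        have h6 := minus_one (show 2 ^ a' + 1 = 3 ^ d by omega)
        have h9 := three_pow_mod d
        interval_cases a' <;> omega
      · rw [pow_one, pow_zero] at hcd
        omega

/-- **`2 ^ f - 1` has a prime divisor `≥ 5`** -/
theorem exists_prime_two {f : ℕ} (hf : 3 ≤ f) : ∃ s : ℕ, s.Prime ∧ 5 ≤ s ∧ s ∣ 2 ^ f - 1 := by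
  by_contra hcon
  push Not at hcon
  have h8 := eight_dvd_of hf
  have hpos : 0 < 2 ^ f := by positivity
  obtain ⟨a, b, hab⟩ := smooth (n := 2 ^ f - 1) (by omega) fun s hs hsd => by
    by_contra h
    exact hcon s hs (by omega) hsd
  rcases Nat.eq_zero_or_pos a with rfl | ha
  · have := three_pow_mod b
    rw [pow_zero, one_mul] at hab
    omega
  · obtain ⟨c', rfl⟩ := Nat.exists_eq_succ_of_ne_zero ha.ne'
    have e2 : (2 ^ f - 1) % 2 = 0 := by
      rw [hab, Nat.succ_eq_add_one, pow_succ, mul_comm (2 ^ c') 2, mul_assoc, Nat.mul_mod_right]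
    omega

end Cfsg.Agent.H962.TC
end

-- part: H957/TL/Obs_mg
section
prune_inst 0x11101140250000000000000022201c42b20000b2004b00008020034407c0844000c10a60ba30151012881c0148010040110000000220000000000c000006042180800000a0000208080007000080000000000000000000000000000000000000200000000
set_option linter.all false
open scoped Cfsg.Agent.FastGrp

-- part: H957/TL/Obs
section
/-!
# The last row of the adjugate of `X J - B` (helper957, Theorem L)
-/

set_option autoImplicit false

namespace Cfsg.Agent.H957.TL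

open Matrix Polynomial

variable {F : Type*} [Field F] {k : ℕ}

/-- the pencil `X J - B` -/
noncomputable def pen (J B : Matrix (Fin k) (Fin k) F) : Matrix (Fin k) (Fin k) F[X] :=
  (X : F[X]) • J.map C + (-B).map C

theorem pen_mulVec (J B : Matrix (Fin k) (Fin k) F) (v : Fin k → F) :
    pen J B *ᵥ (C ∘ v) = (X : F[X]) • (C ∘ (J *ᵥ v)) - C ∘ (B *ᵥ v) := by
  have h3 : ∀ M : Matrix (Fin k) (Fin k) F, M.map C *ᵥ (C ∘ v) = C ∘ (M *ᵥ v) := by
    intro M
    funext i
    exact (RingHom.map_mulVec C M v i).symm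
  rw [pen, add_mulVec, smul_mulVec, h3, h3, neg_mulVec]
  funext i
  simp [sub_eq_add_neg]

theorem det_pen_coeff (J B : Matrix (Fin k) (Fin k) F) : (pen J B).det.coeff 0 = (-B).det :=
  coeff_det_X_add_C_zero J (-B)

/-- the entries of the adjugate have degree `< k` -/
theorem adjugate_mem (J B : Matrix (Fin k) (Fin k) F) (i j : Fin k) : (pen J B).adjugate i j ∈ degreeLT F k := by
  have e : (pen J B).adjugate i j =
      det ((X : F[X]) • (J.updateRow j 0).map C + ((-B).updateRow j (Pi.single i 1)).map C) := by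
    rw [adjugate_apply, pen]
    congr 1
    ext a b
    by_cases h : a = j
    · subst h
      simp only [updateRow_self, Matrix.add_apply, Matrix.smul_apply, Matrix.map_apply, Pi.zero_apply, map_zero,
        smul_zero, zero_add]
      by_cases h2 : b = i
      · subst h2; simp
      · simp [Pi.single_eq_of_ne h2]
    · simp only [updateRow_ne h, _root_.Matrix.add_apply, _root_.Matrix.smul_apply, _root_.Matrix.map_apply, _root_.smul_eq_mul, _root_.Polynomial.X_mul_C, _root_.Matrix.neg_apply, _root_.map_neg, _root_.Polynomial.coeff_add, _root_.Polynomial.coeff_C_mul, _root_.Polynomial.coeff_neg]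
  rw [e, mem_degreeLT]
  have h1 := natDegree_det_X_add_C_le (J.updateRow j 0) ((-B).updateRow j (Pi.single i 1))
  have h2 := coeff_det_X_add_C_card (J.updateRow j 0) ((-B).updateRow j (Pi.single i 1))
  rw [Fintype.card_fin] at h1 h2
  have h3 : (J.updateRow j 0).det = 0 := det_eq_zero_of_row_eq_zero j (fun b => by simp)
  rw [h3] at h2
  set p := det ((X : F[X]) • (J.updateRow j 0).map C + ((-B).updateRow j (Pi.single i 1)).map C) with hp
  rcases eq_or_ne p 0 with h0 | h0
  · rw [h0, degree_zero]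
    exact WithBot.bot_lt_coe k
  · rw [degree_eq_natDegree h0]
    have h4 : p.natDegree ≠ k := by
      intro h5
      apply h0
      rw [← leadingCoeff_eq_zero, leadingCoeff, h5, h2]
    exact_mod_cast lt_of_le_of_ne h1 h4

/-- the row `ε adj (X J - B)` -/
noncomputable def row (eps : Fin k → F) (J B : Matrix (Fin k) (Fin k) F) : Fin k → F[X] :=
  (C ∘ eps) ᵥ* (pen J B).adjugate

theorem row_mem (eps : Fin k → F) (J B : Matrix (Fin k) (Fin k) F) (i : Fin k) : row eps J B i ∈ degreeLT F k := by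
  rw [row, vecMul, dotProduct]
  refine Submodule.sum_mem _ fun j _ => ?_
  rw [Function.comp_apply, ← smul_eq_C_mul]
  exact Submodule.smul_mem _ _ (adjugate_mem J B j i)

/-- the pair `(T, ε)` is observable -/
def Obs (T : Matrix (Fin k) (Fin k) F) (eps : Fin k → F) : Prop :=
  ∀ v : Fin k → F, (∀ i : ℕ, eps ⬝ᵥ ((T ^ i) *ᵥ v) = 0) → v = 0

theorem row_indep {eps : Fin k → F} {J B : Matrix (Fin k) (Fin k) F} (hB : B.det ≠ 0) (hobs : Obs (B⁻¹ * J) eps) :
    LinearIndependent F (row eps J B) := by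
  rw [Fintype.linearIndependent_iff]
  intro c hc
  have hB' : IsUnit B.det := isUnit_iff_ne_zero.2 hB
  have hc' : (C ∘ eps) ⬝ᵥ ((pen J B).adjugate *ᵥ (C ∘ c)) = 0 := by
    rw [dotProduct_mulVec, dotProduct, ← hc]
    refine Finset.sum_congr rfl fun i _ => ?_
    rw [smul_eq_C_mul, mul_comm]
    rfl
  let v : ℕ → Fin k → F := fun i => (B⁻¹ * J) ^ i *ᵥ (B⁻¹ *ᵥ c)
  have hv0 : B *ᵥ v 0 = c := by
    show B *ᵥ ((B⁻¹ * J) ^ 0 *ᵥ (B⁻¹ *ᵥ c)) = c
    rw [pow_zero, one_mulVec, mulVec_mulVec, mul_nonsing_inv _ hB', one_mulVec]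
  have hvs : ∀ i, B *ᵥ v (i + 1) = J *ᵥ v i := by
    intro i
    show B *ᵥ ((B⁻¹ * J) ^ (i + 1) *ᵥ (B⁻¹ *ᵥ c)) = J *ᵥ ((B⁻¹ * J) ^ i *ᵥ (B⁻¹ *ᵥ c))
    rw [pow_succ', ← mulVec_mulVec, ← mulVec_mulVec, mulVec_mulVec (M := B), mul_nonsing_inv _ hB', one_mulVec]
  let P : ℕ → Fin k → F[X] := fun N => ∑ i ∈ Finset.range N, (X : F[X]) ^ i • (C ∘ v i)
  have hP : ∀ N, pen J B *ᵥ P N = -(C ∘ c) + (X : F[X]) ^ N • (C ∘ (B *ᵥ v N)) := by
    intro N
    induction N with
    | zero =>
      show pen J B *ᵥ (∑ i ∈ Finset.range 0, (X : F[X]) ^ i • (C ∘ v i)) = _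
      rw [Finset.range_zero, Finset.sum_empty, mulVec_zero, hv0, pow_zero, one_smul, neg_add_cancel]
    | succ N ih =>
      show pen J B *ᵥ (∑ i ∈ Finset.range (N + 1), (X : F[X]) ^ i • (C ∘ v i)) = _
      rw [Finset.sum_range_succ, mulVec_add]
      have ih' : pen J B *ᵥ (∑ i ∈ Finset.range N, (X : F[X]) ^ i • (C ∘ v i)) = _ := ih
      rw [ih', mulVec_smul, pen_mulVec, hvs, smul_sub, smul_smul, ← pow_succ]
      abel
  have key : ∀ N, (X : F[X]) ^ N ∣ (pen J B).det * ((C ∘ eps) ⬝ᵥ P N) := by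
    intro N
    have h1 : (pen J B).adjugate *ᵥ (pen J B *ᵥ P N) = (pen J B).det • P N := by
      rw [mulVec_mulVec, adjugate_mul, smul_mulVec, one_mulVec]
    rw [hP, mulVec_add, mulVec_neg, mulVec_smul] at h1
    have h2 := congrArg (fun w => (C ∘ eps) ⬝ᵥ w) h1
    simp only [dotProduct_add, dotProduct_neg, dotProduct_smul, smul_eq_mul, hc', neg_zero, zero_add] at h2
    exact ⟨_, h2.symm⟩
  have h0 : B⁻¹ *ᵥ c = 0 := by
    apply hobs
    intro i
    have h1 := key (i + 1)
    have h2 : IsCoprime ((X : F[X]) ^ (i + 1)) (pen J B).det := by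
      apply IsCoprime.pow_left
      rw [(Polynomial.prime_X (R := F)).irreducible.coprime_iff_not_dvd, X_dvd_iff, det_pen_coeff, det_neg]
      exact mul_ne_zero (pow_ne_zero _ (neg_ne_zero.2 one_ne_zero)) hB
    have h3 := h2.dvd_of_dvd_mul_left h1
    rw [X_pow_dvd_iff] at h3
    have h4 := h3 i (Nat.lt_succ_self i)
    have h5 : (C ∘ eps) ⬝ᵥ P (i + 1) = ∑ l ∈ Finset.range (i + 1), C (eps ⬝ᵥ v l) * (X : F[X]) ^ l := by
      show (C ∘ eps) ⬝ᵥ (∑ l ∈ Finset.range (i + 1), (X : F[X]) ^ l • (C ∘ v l)) = _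
      rw [dotProduct_sum]
      refine Finset.sum_congr rfl fun l _ => ?_
      rw [dotProduct_smul, smul_eq_mul, mul_comm, RingHom.map_dotProduct]
    rw [h5, finsetSum_coeff] at h4
    simp only [coeff_C_mul, coeff_X_pow] at h4
    rw [Finset.sum_eq_single i] at h4
    · rw [if_pos rfl, mul_one] at h4
      exact h4
    · intro b _ hb
      rw [if_neg (fun h => hb h.symm), mul_zero]
    · intro h
      exact absurd (Finset.mem_range.2 (Nat.lt_succ_self i)) h
  have h1 : c = 0 := by
    have h2 := congrArg (fun w => B *ᵥ w) h0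
    simp only [mulVec_mulVec, mul_nonsing_inv _ hB', one_mulVec, mulVec_zero] at h2
    exact h2
  intro i
  rw [h1]
  rfl

end Cfsg.Agent.H957.TL
end

-- part: H957/TL/Det
section
/-!
# Block determinants with a lower left block of rank one (helper957, Theorem L)
-/

set_option autoImplicit false

namespace Cfsg.Agent.H957.TL

open Matrix Polynomial

section Det

variable {m n : Type*} [Fintype m] [DecidableEq m] [Fintype n] [DecidableEq n]

theorem det_rank1_field {K : Type*} [Field K] (P : Matrix m m K) (U : Matrix m n K) (S : Matrix n n K) (c : K)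
    (e : n → K) (eps : m → K) (hP : P.det ≠ 0) (hS : S.det ≠ 0) :
    (fromBlocks P U (c • vecMulVec e eps) S).det =
      P.det * S.det - c * (eps ⬝ᵥ (P.adjugate *ᵥ (U *ᵥ (S.adjugate *ᵥ e)))) := by
  have hS' : IsUnit S.det := isUnit_iff_ne_zero.2 hS
  have hP' : IsUnit P.det := isUnit_iff_ne_zero.2 hP
  have := invertibleOfIsUnitDet S hS'
  rw [det_fromBlocks₂₂]
  have h1 : P - U * ⅟S * (c • vecMulVec e eps) =
      P + replicateCol Unit (-(c • (U *ᵥ (S⁻¹ *ᵥ e)))) * replicateRow Unit eps := by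
    rw [sub_eq_add_neg, invOf_eq_nonsing_inv, Matrix.mul_smul, ← vecMulVec_eq Unit]
    congr 1
    rw [Matrix.mul_assoc, Matrix.mul_vecMulVec, Matrix.mul_vecMulVec]
    ext i j
    simp only [vecMulVec, mul_assoc, _root_.Matrix.mulVec_mulVec, _root_.Matrix.smul_of, _root_.Matrix.neg_apply, _root_.Matrix.of_apply, _root_.Pi.smul_apply, _root_.smul_eq_mul, _root_.Pi.neg_apply, _root_.neg_mul]
  rw [h1, det_add_replicateCol_mul_replicateRow hP']
  have h2 : (1 + replicateRow Unit eps * P⁻¹ * replicateCol Unit (-(c • (U *ᵥ (S⁻¹ *ᵥ e))))).det =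
      1 - c * (eps ⬝ᵥ (P⁻¹ *ᵥ (U *ᵥ (S⁻¹ *ᵥ e)))) := by
    rw [det_unique, Matrix.add_apply, Matrix.one_apply_eq, sub_eq_add_neg, Matrix.mul_assoc,
      ← Matrix.replicateCol_mulVec, Matrix.replicateRow_mul_replicateCol_apply, mulVec_neg, dotProduct_neg,
      mulVec_smul, dotProduct_smul, smul_eq_mul]
  rw [h2]
  have h3 : ∀ v : n → K, S.det • (S⁻¹ *ᵥ v) = S.adjugate *ᵥ v := by
    intro v
    rw [inv_def, smul_mulVec, smul_smul, Ring.inverse_eq_inv', mul_inv_cancel₀ hS, one_smul]
  have h4 : ∀ v : m → K, P.det • (P⁻¹ *ᵥ v) = P.adjugate *ᵥ v := by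
    intro v
    rw [inv_def, smul_mulVec, smul_smul, Ring.inverse_eq_inv', mul_inv_cancel₀ hP, one_smul]
  rw [← h3, ← h4, mulVec_smul, mulVec_smul, smul_smul, dotProduct_smul, smul_eq_mul]
  ring

theorem map_mulVec' {R S : Type*} [CommRing R] [CommRing S] (φ : R →+* S) {a b : Type*} [Fintype b] (M : Matrix a b R)
    (v : b → R) : M.map φ *ᵥ (φ ∘ v) = φ ∘ (M *ᵥ v) := by
  funext i
  exact (RingHom.map_mulVec φ M v i).symm

theorem det_rank1 {R : Type*} [CommRing R] [IsDomain R] (P : Matrix m m R) (U : Matrix m n R) (S : Matrix n n R) (c : R)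
    (e : n → R) (eps : m → R) (hP : P.det ≠ 0) (hS : S.det ≠ 0) :
    (fromBlocks P U (c • vecMulVec e eps) S).det =
      P.det * S.det - c * (eps ⬝ᵥ (P.adjugate *ᵥ (U *ᵥ (S.adjugate *ᵥ e)))) := by
  let φ := algebraMap R (FractionRing R)
  have hφ : Function.Injective φ := IsFractionRing.injective R (FractionRing R)
  apply hφ
  have hP' : (P.map φ).det ≠ 0 := by
    rw [← RingHom.mapMatrix_apply, ← RingHom.map_det]
    exact fun h => hP (hφ (by rw [h, map_zero]))
  have hS' : (S.map φ).det ≠ 0 := by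
    rw [← RingHom.mapMatrix_apply, ← RingHom.map_det]
    exact fun h => hS (hφ (by rw [h, map_zero]))
  have h1 := det_rank1_field (P.map φ) (U.map φ) (S.map φ) (φ c) (φ ∘ e) (φ ∘ eps) hP' hS'
  have h2 : fromBlocks (P.map φ) (U.map φ) (φ c • vecMulVec (φ ∘ e) (φ ∘ eps)) (S.map φ) =
      φ.mapMatrix (fromBlocks P U (c • vecMulVec e eps) S) := by
    rw [RingHom.mapMatrix_apply, fromBlocks_map]
    congr 1
    ext i j
    simp only [vecMulVec, _root_.Function.comp_apply, _root_.Matrix.smul_apply, _root_.Matrix.of_apply, _root_.smul_eq_mul, _root_.Matrix.smul_of, _root_.Matrix.map_apply, _root_.Pi.smul_apply, _root_.map_mul]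
  rw [h2, ← RingHom.map_det] at h1
  rw [h1, map_sub, map_mul, map_mul, RingHom.map_det, RingHom.map_det, RingHom.mapMatrix_apply,
    RingHom.mapMatrix_apply]
  congr 2
  rw [← RingHom.mapMatrix_apply, ← RingHom.map_adjugate, RingHom.mapMatrix_apply, ← RingHom.mapMatrix_apply (M := S),
    ← RingHom.map_adjugate, RingHom.mapMatrix_apply, map_mulVec', map_mulVec',
    map_mulVec', RingHom.map_dotProduct]

end Det

end Cfsg.Agent.H957.TL
end

private theorem dce_a5c2d6c0caa3 : _root_.True := by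
  try have : _root_.True := by simp only [_root_.Cfsg.Agent.H957.TL.pen.eq_1]
  try have : _root_.True := by simp only [_root_.Cfsg.Agent.H957.TL.row.eq_1]
  exact _root_.True.intro
end

-- part: H957/TL/Glue
section
prune_inst 0x11000100250000000000000022201c42b2000022004000000000000407c0c44000c10020b21000101280100148000040000000000000000000000400000200000080000020400000800006000000000000000000000000000000000000000000000000000
set_option linter.all false
open scoped Cfsg.Agent.FastGrp

-- part: H957/TL/ObsEx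
section
/-!
# Two observable pairs (helper957, Theorem L)
-/

set_option autoImplicit false
set_option linter.unusedSectionVars false

namespace Cfsg.Agent.H957.TL

open Matrix Polynomial

variable {F : Type*} [Field F] {m : ℕ}

/-- add a zero column on the left -/
def toSq (T : Matrix (Fin (m + 1)) (Fin m) F) : Matrix (Fin (m + 1)) (Fin (m + 1)) F :=
  fun i => Fin.cons 0 (T i)

theorem mul_toSq (C : Matrix (Fin (m + 1)) (Fin (m + 1)) F) (T : Matrix (Fin (m + 1)) (Fin m) F) :
    C * toSq T = toSq (C * T) := by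
  ext i j
  refine Fin.cases ?_ (fun j => ?_) j
  · simp [toSq, Matrix.mul_apply]
  · simp [toSq, Matrix.mul_apply]

/-- `e₀` -/
def e0 : Fin (m + 1) → F := Pi.single 0 1

theorem cons_vecMul (z : Fin m → F) (T : Matrix (Fin (m + 1)) (Fin m) F) :
    (Fin.cons 0 z : Fin (m + 1) → F) ᵥ* toSq T = Fin.cons 0 (z ᵥ* (Matrix.of fun i => T i.succ)) := by
  funext j
  refine Fin.cases ?_ (fun j => ?_) j
  · simp [toSq, vecMul, dotProduct]
  · rw [vecMul, dotProduct, Fin.sum_univ_succ]
    simp only [toSq, vecMul, dotProduct, _root_.Fin.cons_zero, _root_.Fin.cons_succ, _root_.MulZeroClass.zero_mul, _root_.zero_add, _root_.Matrix.of_apply]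

theorem e0_vecMul (T : Matrix (Fin (m + 1)) (Fin m) F) : e0 ᵥ* toSq T = Fin.cons 0 (T 0) := by
  rw [e0, single_one_vecMul]
  rfl

/-- observable pairs have independent columns -/
theorem indep_of_obs {T : Matrix (Fin (m + 1)) (Fin m) F} (h : Obs (toSq T) e0) :
    LinearIndependent F (fun (j : Fin m) (i : Fin (m + 1)) => T i j) := by
  rw [Fintype.linearIndependent_iff]
  intro c hc
  have h1 : toSq T *ᵥ (Fin.cons 0 c : Fin (m + 1) → F) = 0 := by
    funext i
    rw [mulVec, dotProduct, Fin.sum_univ_succ]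
    have h2 := congrFun hc i
    simp only [Finset.sum_apply, Pi.smul_apply, smul_eq_mul, Pi.zero_apply] at h2
    simp only [toSq, Fin.cons_zero, Fin.cons_succ, zero_mul, zero_add, Pi.zero_apply]
    rw [← h2]
    exact Finset.sum_congr rfl fun _ _ => mul_comm _ _
  have h2 := h (Fin.cons 0 c) (by
    intro i
    rcases i with _ | i
    · rw [pow_zero, one_mulVec, e0, single_one_dotProduct, Fin.cons_zero]
    · rw [pow_succ, ← mulVec_mulVec, h1, mulVec_zero, dotProduct_zero])
  intro i
  have h3 := congrFun h2 i.succ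
  rwa [Fin.cons_succ] at h3

/-- the rows `b₁, …, b_m, w` -/
def rows (b : Matrix (Fin m) (Fin m) F) (w : Fin m → F) : Fin (m + 1) → Fin m → F := Fin.snoc (fun i j => b i j) w

/-- the rows `b₂, …, b_m, w` -/
def rowsS (b : Matrix (Fin m) (Fin m) F) (w : Fin m → F) : Matrix (Fin m) (Fin m) F :=
  Matrix.of fun i => rows b w i.succ

theorem rows_castSucc (b : Matrix (Fin m) (Fin m) F) (w : Fin m → F) (l : Fin m) :
    rows b w l.castSucc = b l := Fin.snoc_castSucc (α := fun _ => Fin m → F) ..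

theorem rows_last (b : Matrix (Fin m) (Fin m) F) (w : Fin m → F) :
    rows b w (Fin.last m) = w := Fin.snoc_last (α := fun _ => Fin m → F) ..

/-- the lower part -/
def low (T : Matrix (Fin (m + 1)) (Fin m) F) : Matrix (Fin m) (Fin m) F := Matrix.of fun i => T i.succ

/-- the matrix with the chain `e₀, b₁, …, b_m, w` -/
noncomputable def mk (b : GL (Fin m) F) (w : Fin m → F) : Matrix (Fin (m + 1)) (Fin m) F :=
  Matrix.of (Fin.cons (rows (b : Matrix (Fin m) (Fin m) F) w 0)
    (fun i => (((b⁻¹ : GL (Fin m) F) : Matrix (Fin m) (Fin m) F) * rowsS (b : Matrix (Fin m) (Fin m) F) w) i))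

theorem mk_zero (b : GL (Fin m) F) (w : Fin m → F) : mk b w 0 = rows (b : Matrix (Fin m) (Fin m) F) w 0 := rfl

theorem low_mk (b : GL (Fin m) F) (w : Fin m → F) :
    low (mk b w) = ((b⁻¹ : GL (Fin m) F) : Matrix (Fin m) (Fin m) F) * rowsS (b : Matrix (Fin m) (Fin m) F) w := by
  ext i j
  rfl

theorem vecMul_mk (b : GL (Fin m) F) (w : Fin m → F) (l : Fin m) :
    (rows (b : Matrix (Fin m) (Fin m) F) w l.castSucc) ᵥ* low (mk b w) =
      rows (b : Matrix (Fin m) (Fin m) F) w l.succ := by
  rw [rows_castSucc, low_mk]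
  have h3 : (b : Matrix (Fin m) (Fin m) F) l ᵥ* (((b⁻¹ : GL (Fin m) F) : Matrix (Fin m) (Fin m) F) *
      rowsS (b : Matrix (Fin m) (Fin m) F) w) =
      ((b : Matrix (Fin m) (Fin m) F) * (((b⁻¹ : GL (Fin m) F) : Matrix (Fin m) (Fin m) F) *
      rowsS (b : Matrix (Fin m) (Fin m) F) w)) l := rfl
  rw [h3, ← Matrix.mul_assoc, ← Units.val_mul, mul_inv_cancel, Units.val_one, Matrix.one_mul]
  rfl

theorem obs_mk (b : GL (Fin m) F) (w : Fin m → F) : Obs (toSq (mk b w)) e0 := by
  have key : ∀ l (hl : l < m + 1), e0 ᵥ* (toSq (mk b w)) ^ (l + 1) =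
      Fin.cons 0 (rows (b : Matrix (Fin m) (Fin m) F) w ⟨l, hl⟩) := by
    intro l
    induction l with
    | zero =>
      intro hl
      rw [zero_add, pow_one, e0_vecMul, mk_zero]
      rfl
    | succ l ih =>
      intro hl
      rw [pow_succ, ← vecMul_vecMul, ih (by omega), cons_vecMul]
      have h1 := vecMul_mk b w ⟨l, by omega⟩
      exact congrArg (fun z => (Fin.cons 0 z : Fin (m + 1) → F)) h1
  intro v hv
  have h0 : v 0 = 0 := by
    have := hv 0
    rwa [pow_zero, one_mulVec, e0, single_one_dotProduct] at this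
  have h1 : (b : Matrix (Fin m) (Fin m) F) *ᵥ (fun i => v i.succ) = 0 := by
    funext l
    have h2 := hv (l + 1)
    rw [dotProduct_mulVec, key l (by omega)] at h2
    have h3 : rows (b : Matrix (Fin m) (Fin m) F) w ⟨l, by omega⟩ = (b : Matrix (Fin m) (Fin m) F) l :=
      rows_castSucc _ _ l
    rw [h3, dotProduct, Fin.sum_univ_succ, Fin.cons_zero, zero_mul, zero_add] at h2
    simpa only [mulVec, dotProduct, _root_.Pi.zero_apply, _root_.Fin.cons_succ] using h2
  have h2 : (fun i : Fin m => v i.succ) = 0 := by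
    have h3 := congrArg (fun z => ((b⁻¹ : GL (Fin m) F) : Matrix (Fin m) (Fin m) F) *ᵥ z) h1
    simpa only [mulVec_mulVec, ← Units.val_mul, inv_mul_cancel, Units.val_one, one_mulVec, mulVec_zero] using h3
  funext i
  refine Fin.cases h0 (fun j => ?_) i
  exact congrFun h2 j

theorem mk_injective : Function.Injective (fun p : GL (Fin m) F × (Fin m → F) => mk p.1 p.2) := by
  rintro ⟨b, w⟩ ⟨b', w'⟩ h
  have h : mk b w = mk b' w' := h
  have key : ∀ l (hl : l < m + 1), rows (b : Matrix (Fin m) (Fin m) F) w ⟨l, hl⟩ =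
      rows (b' : Matrix (Fin m) (Fin m) F) w' ⟨l, hl⟩ := by
    intro l
    induction l with
    | zero =>
      intro hl
      have h1 := congrArg (fun T : Matrix (Fin (m + 1)) (Fin m) F => T 0) h
      exact h1
    | succ l ih =>
      intro hl
      have h1 := vecMul_mk b w ⟨l, by omega⟩
      have h2 := vecMul_mk b' w' ⟨l, by omega⟩
      have h3 : rows (b : Matrix (Fin m) (Fin m) F) w ⟨l + 1, hl⟩ =
          rows (b : Matrix (Fin m) (Fin m) F) w (⟨l, by omega⟩ : Fin m).succ := rfl
      have h4 : rows (b' : Matrix (Fin m) (Fin m) F) w' ⟨l + 1, hl⟩ =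
          rows (b' : Matrix (Fin m) (Fin m) F) w' (⟨l, by omega⟩ : Fin m).succ := rfl
      have h5 : rows (b : Matrix (Fin m) (Fin m) F) w (⟨l, by omega⟩ : Fin m).castSucc =
          rows (b' : Matrix (Fin m) (Fin m) F) w' (⟨l, by omega⟩ : Fin m).castSucc := ih (by omega)
      rw [h3, h4, ← h1, ← h2, h5, h]
  have hb : (b : Matrix (Fin m) (Fin m) F) = b' := by
    ext l j
    rw [← rows_castSucc (b : Matrix (Fin m) (Fin m) F) w l, ← rows_castSucc (b' : Matrix (Fin m) (Fin m) F) w' l]
    exact congrFun (key l (by omega)) j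
  have hw : w = w' := by
    rw [← rows_last (b : Matrix (Fin m) (Fin m) F) w, ← rows_last (b' : Matrix (Fin m) (Fin m) F) w']
    exact key m (by omega)
  exact Prod.ext (Units.ext hb) hw

/-- **two observable pairs**, all finite fields -/
theorem exists_obs [Finite F] {C : Matrix (Fin (m + 1)) (Fin (m + 1)) F} (hC : C.det ≠ 0) :
    ∃ (T : Matrix (Fin (m + 1)) (Fin (m + 1)) F) (eps : Fin (m + 1) → F), Obs T eps ∧ Obs (C * T) eps := by
  classical
  have := Fintype.ofFinite F
  by_contra hcon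
  push Not at hcon
  have hCu : IsUnit C.det := isUnit_iff_ne_zero.2 hC
  let 𝒯 : Set (Matrix (Fin (m + 1)) (Fin m) F) := {T | Obs (toSq T) e0}
  let 𝒮 : Set (Matrix (Fin (m + 1)) (Fin m) F) := {T | LinearIndependent F (fun (j : Fin m) (i : Fin (m + 1)) => T i j)}
  have h1 : Disjoint 𝒯 ((fun T => C * T) '' 𝒯) := by
    rw [Set.disjoint_left]
    rintro _ hT ⟨T, hT2, rfl⟩
    have hT' : Obs (toSq (C * T)) e0 := hT
    rw [← mul_toSq] at hT'
    exact hcon _ _ hT2 hT'
  have h2 : 𝒯 ∪ ((fun T => C * T) '' 𝒯) ⊆ 𝒮 := by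
    rintro _ (hT | ⟨T, hT, rfl⟩)
    · exact indep_of_obs hT
    · have h3 := indep_of_obs hT
      show LinearIndependent F (fun (j : Fin m) (i : Fin (m + 1)) => (C * T) i j)
      have h4 : (fun (j : Fin m) (i : Fin (m + 1)) => (C * T) i j) =
          C.mulVecLin ∘ (fun (j : Fin m) (i : Fin (m + 1)) => T i j) := by
        funext j i
        simp [Matrix.mul_apply, mulVec, dotProduct]
      rw [h4]
      refine h3.map' _ ?_
      rw [LinearMap.ker_eq_bot]
      exact (mulVec_injective_iff_isUnit.2 ((isUnit_iff_isUnit_det C).2 hCu))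
  have h3 := Set.ncard_le_ncard h2 (Set.toFinite _)
  have hinj : Function.Injective (fun T : Matrix (Fin (m + 1)) (Fin m) F => C * T) := by
    intro T T' h
    have h' : C * T = C * T' := h
    have h5 := congrArg (fun z => C⁻¹ * z) h'
    simpa only [← Matrix.mul_assoc, nonsing_inv_mul _ hCu, Matrix.one_mul] using h5
  rw [Set.ncard_union_eq h1 (Set.toFinite _) (Set.toFinite _), Set.ncard_image_of_injective _ hinj] at h3
  have h4 : Nat.card (GL (Fin m) F × (Fin m → F)) ≤ 𝒯.ncard := by
    have h5 : Set.range (fun p : GL (Fin m) F × (Fin m → F) => mk p.1 p.2) ⊆ 𝒯 := by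
      rintro _ ⟨p, rfl⟩
      exact obs_mk p.1 p.2
    have h6 := Set.ncard_le_ncard h5 (Set.toFinite _)
    rwa [← Set.image_univ, Set.ncard_image_of_injective _ mk_injective, Set.ncard_univ] at h6
  have h5 : 𝒮.ncard = ∏ i : Fin m, (Fintype.card F ^ (m + 1) - Fintype.card F ^ (i : ℕ)) := by
    have h6 := card_linearIndependent (K := F) (V := Fin (m + 1) → F) (k := m) (by
      rw [Module.finrank_fin_fun]; omega)
    rw [Module.finrank_fin_fun] at h6
    rw [← h6]
    exact Nat.card_congr (Equiv.subtypeEquiv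
      { toFun := fun T j i => T i j
        invFun := fun s => Matrix.of fun i j => s j i
        left_inv := fun _ => rfl
        right_inv := fun _ => rfl } (fun T => Iff.rfl))
  have h6 : Nat.card (GL (Fin m) F × (Fin m → F)) =
      ∏ i : Fin m, (Fintype.card F ^ (m + 1) - Fintype.card F ^ ((i : ℕ) + 1)) := by
    rw [Nat.card_prod, card_GL_field, Nat.card_eq_fintype_card (α := Fin m → F), Fintype.card_fun, Fintype.card_fin]
    calc (∏ i : Fin m, (Fintype.card F ^ m - Fintype.card F ^ (i : ℕ))) * Fintype.card F ^ m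
        = (∏ i : Fin m, (Fintype.card F ^ m - Fintype.card F ^ (i : ℕ))) * ∏ _i : Fin m, Fintype.card F := by
          rw [Fin.prod_const]
      _ = _ := by
          rw [← Finset.prod_mul_distrib]
          refine Finset.prod_congr rfl fun i _ => ?_
          rw [Nat.sub_mul, ← pow_succ, ← pow_succ]
  have hq : 2 ≤ Fintype.card F := Fintype.one_lt_card
  generalize Fintype.card F = q at h5 h6 hq
  rw [h6] at h4
  rw [h5] at h3
  clear h5 h6
  rw [Fin.prod_univ_eq_prod_range (fun i => q ^ (m + 1) - q ^ (i + 1)) m] at h4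
  rw [Fin.prod_univ_eq_prod_range (fun i => q ^ (m + 1) - q ^ i) m] at h3
  rcases m with _ | m
  · simp only [_root_.Nat.reduceAdd, _root_.Finset.range_zero, _root_.zero_add, _root_.pow_one, _root_.Finset.prod_empty] at h3 h4
    omega
  · rw [Finset.prod_range_succ] at h4
    rw [Finset.prod_range_succ'] at h3
    have hpos : 0 < ∏ i ∈ Finset.range m, (q ^ (m + 1 + 1) - q ^ (i + 1)) := by
      apply Finset.prod_pos
      intro i hi
      have h7 : q ^ (i + 1) < q ^ (m + 1 + 1) := Nat.pow_lt_pow_right (by omega) (by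
        have := Finset.mem_range.1 hi
        omega)
      omega
    have h7 : 2 * (q ^ (m + 1 + 1) - q ^ (m + 1)) ≤ q ^ (m + 1 + 1) - q ^ 0 := by
      have h8 : (∏ i ∈ Finset.range m, (q ^ (m + 1 + 1) - q ^ (i + 1))) * (2 * (q ^ (m + 1 + 1) - q ^ (m + 1))) ≤
          (∏ i ∈ Finset.range m, (q ^ (m + 1 + 1) - q ^ (i + 1))) * (q ^ (m + 1 + 1) - q ^ 0) := by
        calc _ = 2 * ((∏ i ∈ Finset.range m, (q ^ (m + 1 + 1) - q ^ (i + 1))) * (q ^ (m + 1 + 1) - q ^ (m + 1))) := by
              ring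
          _ ≤ _ := by
              rw [two_mul]
              exact (Nat.add_le_add h4 h4).trans h3
      exact Nat.le_of_mul_le_mul_left h8 hpos
    have h8 : 2 * q ^ (m + 1) ≤ q ^ (m + 1 + 1) := by
      rw [pow_succ q (m + 1), mul_comm]
      exact Nat.mul_le_mul le_rfl hq
    rw [pow_zero] at h7
    have h9 : 1 ≤ q ^ (m + 1) := Nat.one_le_pow _ _ (by omega)
    omega

end Cfsg.Agent.H957.TL
end

-- part: H957/TL/Span
section
/-!
# Products of two bases of polynomials span (helper957, Theorem L)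
-/

set_option autoImplicit false

namespace Cfsg.Agent.H957.TL

open Polynomial

variable {F : Type*} [Field F]

/-- `k` independent polynomials of degree `< k` span. -/
theorem exists_comb {k : ℕ} (m : Fin k → F[X]) (hm : LinearIndependent F m) (hm' : ∀ i, m i ∈ degreeLT F k)
    {p : F[X]} (hp : p ∈ degreeLT F k) : ∃ a : Fin k → F, ∑ i, a i • m i = p := by
  let m' : Fin k → degreeLT F k := fun i => ⟨m i, hm' i⟩
  have h1 : LinearIndependent F m' := by
    apply LinearIndependent.of_comp (degreeLT F k).subtype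
    exact hm
  have := Module.Finite.equiv (degreeLTEquiv F k).symm
  have h2 : Module.finrank F (degreeLT F k) = k := by
    rw [(degreeLTEquiv F k).finrank_eq, Module.finrank_fin_fun]
  have h3 : Submodule.span F (Set.range m') = ⊤ := h1.span_eq_top_of_card_eq_finrank' (by rw [Fintype.card_fin, h2])
  have h4 : (⟨p, hp⟩ : degreeLT F k) ∈ Submodule.span F (Set.range m') := by rw [h3]; trivial
  rw [Submodule.mem_span_range_iff_exists_fun] at h4
  obtain ⟨a, ha⟩ := h4
  refine ⟨a, ?_⟩
  have h5 := congrArg (degreeLT F k).subtype ha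
  rw [map_sum] at h5
  exact h5

theorem span_mul {k r : ℕ} (m : Fin k → F[X]) (n : Fin r → F[X])
    (hm : LinearIndependent F m) (hm' : ∀ i, m i ∈ degreeLT F k)
    (hn : LinearIndependent F n) (hn' : ∀ j, n j ∈ degreeLT F r)
    {G : F[X]} (hk : 0 < k) (hr : 0 < r) (hG : G ∈ degreeLT F (k + r - 1)) :
    ∃ Q : Matrix (Fin k) (Fin r) F, ∑ i, ∑ j, Q i j • (m i * n j) = G := by
  classical
  let Φ : Matrix (Fin k) (Fin r) F →ₗ[F] F[X] :=
    { toFun := fun Q => ∑ i, ∑ j, Q i j • (m i * n j)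
      map_add' := by
        intro Q Q'
        rw [← Finset.sum_add_distrib]
        refine Finset.sum_congr rfl fun i _ => ?_
        rw [← Finset.sum_add_distrib]
        exact Finset.sum_congr rfl fun j _ => add_smul _ _ _
      map_smul' := by
        intro c Q
        rw [Finset.smul_sum]
        refine Finset.sum_congr rfl fun i _ => ?_
        rw [Finset.smul_sum]
        exact Finset.sum_congr rfl fun j _ => mul_smul _ _ _ }
  have h1 : degreeLT F (k + r - 1) ≤ LinearMap.range Φ := by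
    rw [degreeLT_eq_span_X_pow, Submodule.span_le]
    intro p hp
    simp only [Finset.coe_image, Finset.coe_range, Set.mem_image, Set.mem_Iio] at hp
    obtain ⟨d, hd, rfl⟩ := hp
    have ha : (X : F[X]) ^ (min d (k - 1)) ∈ degreeLT F k := by
      rw [mem_degreeLT, degree_X_pow]
      exact_mod_cast (by omega : min d (k - 1) < k)
    have hb : (X : F[X]) ^ (d - min d (k - 1)) ∈ degreeLT F r := by
      rw [mem_degreeLT, degree_X_pow]
      exact_mod_cast (by omega : d - min d (k - 1) < r)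
    obtain ⟨a, ha'⟩ := exists_comb m hm hm' ha
    obtain ⟨b, hb'⟩ := exists_comb n hn hn' hb
    refine ⟨fun i j => a i * b j, ?_⟩
    show ∑ i, ∑ j, (a i * b j) • (m i * n j) = X ^ d
    have e : (X : F[X]) ^ d = X ^ (min d (k - 1)) * X ^ (d - min d (k - 1)) := by
      rw [← pow_add]
      congr 1
      omega
    rw [e, ← ha', ← hb', Finset.sum_mul_sum]
    refine Finset.sum_congr rfl fun i _ => Finset.sum_congr rfl fun j _ => ?_
    rw [smul_mul_smul_comm]
  obtain ⟨Q, hQ⟩ := h1 hG
  exact ⟨Q, hQ⟩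

end Cfsg.Agent.H957.TL
end

-- part: H957/TL/Core
section
/-!
# Theorem L, the block construction (helper957)

`A' = [[B, Q], [0, E]] = X Y` with `X = [[J, X₁₂], [e ε, J₂]]`, prescribed characteristic polynomials.
-/

set_option autoImplicit false
set_option linter.unusedSectionVars false

namespace Cfsg.Agent.H957.TL

open Matrix Polynomial

variable {F : Type*} [Field F]

/-- output injection -/
theorem Obs.inj {k : ℕ} {T : Matrix (Fin k) (Fin k) F} {eps : Fin k → F} (h : Obs T eps) (x : Fin k → F) :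
    Obs (T + vecMulVec x eps) eps := by
  intro v hv
  have key : ∀ i : ℕ, (T + vecMulVec x eps) ^ i *ᵥ v = T ^ i *ᵥ v := by
    intro i
    induction i with
    | zero => rw [pow_zero, pow_zero]
    | succ i ih =>
      have h1 := hv i
      rw [ih] at h1
      rw [pow_succ', ← mulVec_mulVec, ih, add_mulVec, vecMulVec_mulVec, h1, pow_succ', ← mulVec_mulVec]
      simp
  apply h
  intro i
  rw [← key]
  exact hv i

theorem Obs.ne_zero {k : ℕ} {T : Matrix (Fin (k + 1)) (Fin (k + 1)) F} {eps : Fin (k + 1) → F} (h : Obs T eps) :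
    ∃ i, eps i ≠ 0 := by
  by_contra hc
  push Not at hc
  have h1 : eps = 0 := _root_.funext hc
  have h2 := h (Pi.single 0 1) (fun i => by rw [h1, zero_dotProduct])
  have h3 := congrFun h2 0
  rw [Pi.single_eq_same] at h3
  exact one_ne_zero h3

theorem det_pen_one {k : ℕ} (T : Matrix (Fin k) (Fin k) F) : (pen 1 T).det = T.charpoly := by
  rw [Matrix.charpoly, charmatrix, pen]
  congr 1
  ext i j
  simp only [Matrix.smul_apply, Matrix.one_apply, sub_eq_add_neg, Matrix.scalar_apply, Matrix.diagonal_apply, _root_.map_zero, _root_.map_one, _root_.Matrix.map_one, _root_.Matrix.add_apply, _root_.smul_eq_mul, _root_.mul_ite, _root_.mul_one, _root_.MulZeroClass.mul_zero, _root_.Matrix.map_apply, _root_.Matrix.neg_apply, _root_.map_neg, _root_.Polynomial.coeff_add, _root_.Polynomial.coeff_neg, _root_.RingHom.mapMatrix_apply, _root_.Matrix.sub_apply]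

/-- the row for the characteristic matrix -/
theorem row_indep_one {k : ℕ} {eps : Fin k → F} {T : Matrix (Fin k) (Fin k) F} (hobs : Obs T eps) :
    LinearIndependent F (row eps 1 T) := by
  rw [Fintype.linearIndependent_iff]
  intro c hc
  have hcomb : ∀ c : Fin k → F, (C ∘ eps) ⬝ᵥ ((pen 1 T).adjugate *ᵥ (C ∘ c)) = ∑ i, c i • row eps 1 T i := by
    intro c
    rw [dotProduct_mulVec, dotProduct]
    refine Finset.sum_congr rfl fun i _ => ?_
    rw [smul_eq_C_mul, mul_comm]
    rfl
  let v : ℕ → Fin k → F := fun i => T ^ i *ᵥ c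
  let P : ℕ → Fin k → F[X] := fun N => ∑ i ∈ Finset.range N, (X : F[X]) ^ (N - 1 - i) • (C ∘ v i)
  have hPs : ∀ N, P (N + 1) = (X : F[X]) • P N + C ∘ v N := by
    intro N
    show ∑ i ∈ Finset.range (N + 1), (X : F[X]) ^ (N + 1 - 1 - i) • (C ∘ v i) = _
    rw [Finset.sum_range_succ, Nat.add_sub_cancel, Nat.sub_self, pow_zero, one_smul]
    congr 1
    show _ = (X : F[X]) • ∑ i ∈ Finset.range N, (X : F[X]) ^ (N - 1 - i) • (C ∘ v i)
    rw [Finset.smul_sum]
    refine Finset.sum_congr rfl fun i hi => ?_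
    rw [smul_smul, ← pow_succ']
    congr 2
    have := Finset.mem_range.1 hi
    omega
  have hP : ∀ N, pen 1 T *ᵥ P N = (X : F[X]) ^ N • (C ∘ c) - C ∘ v N := by
    intro N
    induction N with
    | zero =>
      show pen 1 T *ᵥ (∑ i ∈ Finset.range 0, (X : F[X]) ^ (0 - 1 - i) • (C ∘ v i)) = _
      rw [Finset.range_zero, Finset.sum_empty, mulVec_zero, pow_zero, one_smul]
      have : v 0 = c := by
        show T ^ 0 *ᵥ c = c
        rw [pow_zero, one_mulVec]
      rw [this, sub_self]
    | succ N ih =>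
      rw [hPs, mulVec_add, mulVec_smul, ih, pen_mulVec, one_mulVec]
      have h1 : T *ᵥ v N = v (N + 1) := by
        show T *ᵥ (T ^ N *ᵥ c) = T ^ (N + 1) *ᵥ c
        rw [mulVec_mulVec, ← pow_succ']
      rw [h1, smul_sub, smul_smul, ← pow_succ']
      abel
  have hs : ∀ N, (C ∘ eps) ⬝ᵥ P N = 0 := by
    intro N
    by_contra hne
    have h1 : (pen 1 T).adjugate *ᵥ (pen 1 T *ᵥ P N) = (pen 1 T).det • P N := by
      rw [mulVec_mulVec, adjugate_mul, smul_mulVec, one_mulVec]
    rw [hP, mulVec_sub, mulVec_smul] at h1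
    have h2 := congrArg (fun w => (C ∘ eps) ⬝ᵥ w) h1
    simp only [dotProduct_sub, dotProduct_smul, smul_eq_mul] at h2
    rw [hcomb, hc, mul_zero, zero_sub, hcomb, det_pen_one] at h2
    have h3 : -∑ i, v N i • row eps 1 T i ∈ degreeLT F k :=
      Submodule.neg_mem _ (Submodule.sum_mem _ fun i _ => Submodule.smul_mem _ _ (row_mem eps 1 T i))
    rw [h2, mem_degreeLT, degree_mul, charpoly_degree_eq_dim, Fintype.card_fin,
      degree_eq_natDegree hne] at h3
    have h4 : k + ((C ∘ eps) ⬝ᵥ P N).natDegree < k := by exact_mod_cast h3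
    omega
  have h0 : c = 0 := by
    apply hobs
    intro i
    have h1 := hs (i + 1)
    rw [hPs, dotProduct_add, dotProduct_smul, hs i, smul_zero, zero_add, ← RingHom.map_dotProduct] at h1
    exact C_eq_zero.1 h1
  intro i
  rw [h0]
  rfl

/-- monic polynomials of the same degree with the same second coefficient -/
theorem sub_mem {n : ℕ} {p q : F[X]} (hp : p.Monic) (hq : q.Monic) (hpn : p.natDegree = n + 1) (hqn : q.natDegree = n + 1)
    (h : p.nextCoeff = q.nextCoeff) : p - q ∈ degreeLT F n := by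
  rw [mem_degreeLT, degree_lt_iff_coeff_zero]
  intro d hd
  rw [coeff_sub]
  rcases Nat.lt_or_ge (n + 1) d with h1 | h1
  · rw [coeff_eq_zero_of_natDegree_lt (by omega), coeff_eq_zero_of_natDegree_lt (by omega), sub_zero]
  · rcases Nat.eq_or_lt_of_le h1 with h2 | h2
    · rw [h2, ← hpn, hp.coeff_natDegree, hpn, ← hqn, hq.coeff_natDegree, sub_self]
    · have h3 : d = n := by omega
      rw [nextCoeff_of_natDegree_pos (by omega), nextCoeff_of_natDegree_pos (by omega), hpn, hqn] at h
      rw [h3]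
      simpa only [_root_.add_tsub_cancel_right] using sub_eq_zero.2 h

section Block

variable {k r : ℕ}

/-- the matrix `X` -/
def XX (J : Matrix (Fin k) (Fin k) F) (U : Matrix (Fin k) (Fin r) F) (e : Fin r → F) (eps : Fin k → F)
    (J₂ : Matrix (Fin r) (Fin r) F) : Matrix (Fin k ⊕ Fin r) (Fin k ⊕ Fin r) F :=
  fromBlocks J U (vecMulVec e eps) J₂

/-- `adj(S) e` as a row -/
theorem adj_mulVec (J₂ E : Matrix (Fin r) (Fin r) F) (e : Fin r → F) :
    (pen J₂ E).adjugate *ᵥ (C ∘ e) = row e J₂ᵀ Eᵀ := by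
  have h1 : pen J₂ᵀ Eᵀ = (pen J₂ E)ᵀ := by
    rw [pen, pen]
    ext i j
    simp only [_root_.Matrix.add_apply, _root_.Matrix.smul_apply, _root_.Matrix.map_apply, _root_.Matrix.transpose_apply, _root_.smul_eq_mul, _root_.Polynomial.X_mul_C, _root_.Matrix.neg_apply, _root_.map_neg, _root_.Polynomial.coeff_add, _root_.Polynomial.coeff_C_mul, _root_.Polynomial.coeff_neg]
  rw [row, h1, ← adjugate_transpose, vecMul_transpose]

/-- the double sum -/
theorem sum_eq (m : Fin k → F[X]) (n : Fin r → F[X]) (Q : Matrix (Fin k) (Fin r) F) :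
    m ⬝ᵥ (Q.map C *ᵥ n) = ∑ i, ∑ j, Q i j • (m i * n j) := by
  rw [dotProduct]
  refine Finset.sum_congr rfl fun i _ => ?_
  rw [mulVec, dotProduct, Finset.mul_sum]
  refine Finset.sum_congr rfl fun j _ => ?_
  rw [smul_eq_C_mul, Matrix.map_apply]
  ring

theorem charpoly_XX (J : Matrix (Fin k) (Fin k) F) (U : Matrix (Fin k) (Fin r) F) (e : Fin r → F) (eps : Fin k → F)
    (J₂ : Matrix (Fin r) (Fin r) F) :
    (XX J U e eps J₂).charpoly = J.charpoly * J₂.charpoly - ∑ i, ∑ j, U i j • (row eps 1 J i * row e 1 J₂ᵀ j) := by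
  have h1 : charmatrix (XX J U e eps J₂) =
      fromBlocks (pen 1 J) (-(U.map C)) ((-1 : F[X]) • vecMulVec (C ∘ e) (C ∘ eps)) (pen 1 J₂) := by
    rw [XX, charmatrix_fromBlocks]
    congr 1
    · ext i j
      simp only [charmatrix, pen, Matrix.one_apply, Matrix.diagonal_apply, sub_eq_add_neg, _root_.Matrix.scalar_apply, _root_.RingHom.mapMatrix_apply, _root_.Matrix.sub_apply, _root_.Matrix.map_apply, _root_.Polynomial.coeff_add, _root_.Polynomial.coeff_neg, _root_.map_zero, _root_.map_one, _root_.Matrix.map_one, _root_.Matrix.add_apply, _root_.Matrix.smul_apply, _root_.smul_eq_mul, _root_.mul_ite, _root_.mul_one, _root_.MulZeroClass.mul_zero, _root_.Matrix.neg_apply, _root_.map_neg]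
    · ext i j
      simp only [vecMulVec, _root_.Matrix.neg_apply, _root_.Matrix.map_apply, _root_.Matrix.of_apply, _root_.map_mul, _root_.Polynomial.coeff_neg, _root_.Polynomial.coeff_mul_C, _root_.Function.comp_apply, _root_.Matrix.smul_apply, _root_.smul_eq_mul, _root_.neg_mul, _root_.one_mul]
    · ext i j
      simp only [charmatrix, pen, Matrix.one_apply, Matrix.diagonal_apply, sub_eq_add_neg, _root_.Matrix.scalar_apply, _root_.RingHom.mapMatrix_apply, _root_.Matrix.sub_apply, _root_.Matrix.map_apply, _root_.Polynomial.coeff_add, _root_.Polynomial.coeff_neg, _root_.map_zero, _root_.map_one, _root_.Matrix.map_one, _root_.Matrix.add_apply, _root_.Matrix.smul_apply, _root_.smul_eq_mul, _root_.mul_ite, _root_.mul_one, _root_.MulZeroClass.mul_zero, _root_.Matrix.neg_apply, _root_.map_neg]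
  have hne : ∀ {l : ℕ} (T : Matrix (Fin l) (Fin l) F), (pen 1 T).det ≠ 0 := by
    intro l T
    rw [det_pen_one]
    exact T.charpoly_monic.ne_zero
  rw [Matrix.charpoly, h1, det_rank1 _ _ _ _ _ _ (hne J) (hne J₂), det_pen_one, det_pen_one, adj_mulVec,
    dotProduct_mulVec, neg_mulVec, dotProduct_neg, Matrix.transpose_one, ← sum_eq]
  simp only [row]
  ring

theorem det_pen_XX (J : Matrix (Fin k) (Fin k) F) (U : Matrix (Fin k) (Fin r) F) (e : Fin r → F) (eps : Fin k → F)
    (J₂ : Matrix (Fin r) (Fin r) F) {B : Matrix (Fin k) (Fin k) F} {E : Matrix (Fin r) (Fin r) F}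
    (Q : Matrix (Fin k) (Fin r) F) (hB : B.det ≠ 0) (hE : E.det ≠ 0) :
    ((X : F[X]) • (XX J U e eps J₂).map C + (-(fromBlocks B Q 0 E)).map C).det =
      (pen J B).det * (pen J₂ E).det - X * ((row eps J B) ⬝ᵥ (((X : F[X]) • U.map C - Q.map C) *ᵥ row e J₂ᵀ Eᵀ)) := by
  have h1 : (X : F[X]) • (XX J U e eps J₂).map C + (-(fromBlocks B Q 0 E)).map C =
      fromBlocks (pen J B) ((X : F[X]) • U.map C - Q.map C) ((X : F[X]) • vecMulVec (C ∘ e) (C ∘ eps)) (pen J₂ E) := by
    rw [XX]
    ext (i | i) (j | j) <;> simp only [pen, sub_eq_add_neg, vecMulVec, _root_.Matrix.add_apply, _root_.Matrix.smul_apply, _root_.Matrix.map_apply, _root_.Matrix.fromBlocks_apply₁₁, _root_.smul_eq_mul, _root_.Polynomial.X_mul_C, _root_.Matrix.neg_apply, _root_.map_neg, _root_.Polynomial.coeff_add, _root_.Polynomial.coeff_C_mul, _root_.Polynomial.coeff_neg, _root_.Function.comp_apply, _root_.Matrix.smul_of, _root_.Matrix.fromBlocks_apply₁₂, _root_.Matrix.fromBlocks_apply₂₁, _root_.Matrix.of_apply, _root_.map_mul,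 _root_.Matrix.zero_apply, _root_.neg_zero, _root_.map_zero, _root_.add_zero, _root_.Pi.smul_apply, _root_.Matrix.fromBlocks_apply₂₂]
  have hne : ∀ {l : ℕ} (T S : Matrix (Fin l) (Fin l) F), S.det ≠ 0 → (pen T S).det ≠ 0 := by
    intro l T S hS h
    have h2 := det_pen_coeff T S
    rw [h, coeff_zero, det_neg] at h2
    exact mul_ne_zero (pow_ne_zero _ (neg_ne_zero.2 one_ne_zero)) hS h2.symm
  rw [h1, det_rank1 _ _ _ _ _ _ (hne J B hB) (hne J₂ E hE), adj_mulVec, dotProduct_mulVec]
  rfl

end Block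

end Cfsg.Agent.H957.TL
end

-- part: H957/TL/CoreOf
section
/-!
# Theorem L, the two characteristic polynomials of a block factorization (helper957)
-/

set_option autoImplicit false
set_option linter.unusedSectionVars false

namespace Cfsg.Agent.H957.TL

open Matrix Polynomial

variable {F : Type*} [Field F]

/-- `charpoly (X⁻¹ A)` from the determinant of the pencil -/
theorem charpoly_of_det {n : Type*} [Fintype n] [DecidableEq n] (M A : Matrix n n F) (hM : M.det ≠ 0) {g : F[X]}
    (h : ((X : F[X]) • M.map C + (-A).map C).det = C M.det * g) : (M⁻¹ * A).charpoly = g := by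
  have hM' : IsUnit M.det := isUnit_iff_ne_zero.2 hM
  have h1 : M.map C * charmatrix (M⁻¹ * A) = (X : F[X]) • M.map C + (-A).map C := by
    rw [charmatrix, mul_sub, sub_eq_add_neg]
    congr 1
    · ext i j : 2
      rw [Matrix.scalar_apply, Matrix.mul_diagonal, Matrix.smul_apply, smul_eq_mul, mul_comm]
    · rw [RingHom.mapMatrix_apply, ← Matrix.map_mul, ← Matrix.mul_assoc, Matrix.mul_nonsing_inv _ hM', Matrix.one_mul]
      ext i j
      simp only [_root_.Matrix.neg_apply, _root_.Matrix.map_apply, _root_.Polynomial.coeff_neg, _root_.map_neg]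
  have h2 := congrArg Matrix.det h1
  rw [det_mul, h, ← RingHom.mapMatrix_apply, ← RingHom.map_det] at h2
  have h3 : (C M.det : F[X]) ≠ 0 := C_ne_zero.2 hM
  exact mul_left_cancel₀ h3 h2

section

variable {k r : ℕ}

theorem core_of {B : Matrix (Fin (k + 1)) (Fin (k + 1)) F} {E : Matrix (Fin (r + 1)) (Fin (r + 1)) F}
    (hB : B.det ≠ 0) (hE : E.det ≠ 0) {J : Matrix (Fin (k + 1)) (Fin (k + 1)) F} {eps : Fin (k + 1) → F}
    (h1 : Obs J eps) {T : Matrix (Fin (r + 1)) (Fin (r + 1)) F} {e : Fin (r + 1) → F}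
    (h3 : Obs T e) {f g : F[X]} (hf : f.Monic) (hg : g.Monic)
    (hfn : f.natDegree = (k + 1) + (r + 1)) (hgn : g.natDegree = (k + 1) + (r + 1))
    (h0 : f.coeff 0 * g.coeff 0 = B.det * E.det) :
    ∃ (x : Fin (k + 1) → F) (G : F[X]), G ∈ degreeLT F (k + r + 1) ∧
      ∀ Q : Matrix (Fin (k + 1)) (Fin (r + 1)) F,
        ∑ i, ∑ j, Q i j • (row eps (J + vecMulVec x eps) B i * row e T Eᵀ j) = G →
        ∃ M N : Matrix (Fin (k + 1) ⊕ Fin (r + 1)) (Fin (k + 1) ⊕ Fin (r + 1)) F,
          M * N = fromBlocks B Q 0 E ∧ M.charpoly = f ∧ N.charpoly = g := by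
  obtain ⟨i0, hi0⟩ := h1.ne_zero
  let x : Fin (k + 1) → F := Pi.single i0 ((eps i0)⁻¹ * (-(f.nextCoeff) - J.trace - T.trace))
  have hx : x ⬝ᵥ eps = -(f.nextCoeff) - J.trace - T.trace := by
    rw [single_dotProduct, mul_comm, ← mul_assoc, mul_inv_cancel₀ hi0, one_mul]
  let J' := J + vecMulVec x eps
  have hJ' : Obs J' eps := h1.inj x
  have htr : J'.trace = -(f.nextCoeff) - T.trace := by
    show (J + vecMulVec x eps).trace = _
    rw [trace_add, trace_vecMulVec, hx]
    ring
  have hcm : (J'.charpoly * Tᵀ.charpoly).Monic := (charpoly_monic _).mul (charpoly_monic _)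
  have hcn : (J'.charpoly * Tᵀ.charpoly).natDegree = (k + r + 1) + 1 := by
    rw [(charpoly_monic _).natDegree_mul (charpoly_monic _), charpoly_natDegree_eq_dim, charpoly_natDegree_eq_dim,
      Fintype.card_fin, Fintype.card_fin]
    ring
  have hnc : (J'.charpoly * Tᵀ.charpoly).nextCoeff = f.nextCoeff := by
    rw [(charpoly_monic _).nextCoeff_mul (charpoly_monic _)]
    have e1 := trace_eq_neg_charpoly_nextCoeff J'
    have e2 := trace_eq_neg_charpoly_nextCoeff Tᵀ
    rw [trace_transpose] at e2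
    rw [htr, e2] at e1
    linear_combination e1
  have hG1 : J'.charpoly * Tᵀ.charpoly - f ∈ degreeLT F ((k + 1) + (r + 1) - 1) := by
    have e1 : (k + 1) + (r + 1) - 1 = k + r + 1 := by (clear * -; omega)
    rw [e1]
    exact sub_mem hcm hf hcn (by rw [hfn]; ring) hnc
  obtain ⟨U, hU⟩ := span_mul (row eps 1 J') (row e 1 T) (row_indep_one hJ') (row_mem eps 1 J') (row_indep_one h3)
    (row_mem e 1 T) (by omega) (by omega) hG1
  let M := XX J' U e eps Tᵀ
  have hM : M.charpoly = f := by
    show (XX J' U e eps Tᵀ).charpoly = f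
    rw [charpoly_XX, transpose_transpose, hU]
    ring
  have hf0 : f.coeff 0 ≠ 0 := by
    intro h
    rw [h, zero_mul] at h0
    exact mul_ne_zero hB hE h0.symm
  have hMd : M.det = (-1) ^ ((k + 1) + (r + 1)) * f.coeff 0 := by
    rw [det_eq_sign_charpoly_coeff, hM, Fintype.card_sum, Fintype.card_fin, Fintype.card_fin]
  have hMd0 : M.det ≠ 0 := by
    rw [hMd]
    exact mul_ne_zero (pow_ne_zero _ (neg_ne_zero.2 one_ne_zero)) hf0
  let D0 : F[X] := ((X : F[X]) • M.map C + (-(fromBlocks B 0 0 E)).map C).det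
  have hdet : ∀ Q : Matrix (Fin (k + 1)) (Fin (r + 1)) F,
      ((X : F[X]) • M.map C + (-(fromBlocks B Q 0 E)).map C).det =
        D0 + X * ∑ i, ∑ j, Q i j • (row eps J' B i * row e T Eᵀ j) := by
    intro Q
    show ((X : F[X]) • (XX J' U e eps Tᵀ).map C + (-(fromBlocks B Q 0 E)).map C).det =
      ((X : F[X]) • (XX J' U e eps Tᵀ).map C + (-(fromBlocks B 0 0 E)).map C).det + _
    rw [det_pen_XX _ _ _ _ _ _ hB hE, det_pen_XX _ _ _ _ _ _ hB hE, transpose_transpose, ← sum_eq, sub_mulVec,
      sub_mulVec, dotProduct_sub, dotProduct_sub, Matrix.map_zero _ (map_zero C), zero_mulVec, dotProduct_zero]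
    ring
  let R : F[X] := C M.det * g - D0
  have hR0 : R.coeff 0 = 0 := by
    have e1 : D0.coeff 0 = (-(fromBlocks B 0 0 E)).det := coeff_det_X_add_C_zero M _
    show (C M.det * g - D0).coeff 0 = 0
    rw [coeff_sub, coeff_C_mul, e1, det_neg, det_fromBlocks_zero₂₁, hMd, Fintype.card_sum, Fintype.card_fin,
      Fintype.card_fin, ← h0]
    ring
  have hRd : ∀ d, (k + 1) + (r + 1) ≤ d → R.coeff d = 0 := by
    intro d hd
    show (C M.det * g - D0).coeff d = 0
    rw [coeff_sub, coeff_C_mul]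
    rcases Nat.eq_or_lt_of_le hd with h | h
    · have e1 : D0.coeff (Fintype.card (Fin (k + 1) ⊕ Fin (r + 1))) = M.det := coeff_det_X_add_C_card M _
      rw [Fintype.card_sum, Fintype.card_fin, Fintype.card_fin, h] at e1
      rw [e1, ← h, ← hgn, hg.coeff_natDegree, mul_one, sub_self]
    · have e1 : D0.natDegree ≤ (k + 1) + (r + 1) := by
        have := natDegree_det_X_add_C_le M (-(fromBlocks B 0 0 E))
        rwa [Fintype.card_sum, Fintype.card_fin, Fintype.card_fin] at this
      rw [coeff_eq_zero_of_natDegree_lt (by omega : g.natDegree < d),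
        coeff_eq_zero_of_natDegree_lt (by omega : D0.natDegree < d), mul_zero, sub_zero]
  have hRX : X * R.divX = R := by
    have := divX_mul_X_add R
    rw [hR0, C_0, add_zero, mul_comm] at this
    exact this
  refine ⟨x, R.divX, ?_, ?_⟩
  · rw [mem_degreeLT, degree_lt_iff_coeff_zero]
    intro d hd
    rw [coeff_divX]
    exact hRd _ (by omega)
  · intro Q hQ
    refine ⟨M, M⁻¹ * fromBlocks B Q 0 E, ?_, hM, ?_⟩
    · rw [← Matrix.mul_assoc, Matrix.mul_nonsing_inv _ (isUnit_iff_ne_zero.2 hMd0), Matrix.one_mul]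
    · apply charpoly_of_det _ _ hMd0
      rw [hdet, hQ, hRX]
      show D0 + (C M.det * g - D0) = _
      ring

/-- the core of Theorem L -/
theorem core [Finite F] {B : Matrix (Fin (k + 1)) (Fin (k + 1)) F} {E : Matrix (Fin (r + 1)) (Fin (r + 1)) F}
    (hB : B.det ≠ 0) (hE : E.det ≠ 0) {f g : F[X]} (hf : f.Monic) (hg : g.Monic)
    (hfn : f.natDegree = (k + 1) + (r + 1)) (hgn : g.natDegree = (k + 1) + (r + 1))
    (h0 : f.coeff 0 * g.coeff 0 = B.det * E.det) :
    ∃ (m : Fin (k + 1) → F[X]) (n : Fin (r + 1) → F[X]) (G : F[X]),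
      LinearIndependent F m ∧ LinearIndependent F n ∧ (∀ i, m i ∈ degreeLT F (k + 1)) ∧
      (∀ i, n i ∈ degreeLT F (r + 1)) ∧ G ∈ degreeLT F (k + r + 1) ∧
      ∀ Q : Matrix (Fin (k + 1)) (Fin (r + 1)) F, ∑ i, ∑ j, Q i j • (m i * n j) = G →
        ∃ M N : Matrix (Fin (k + 1) ⊕ Fin (r + 1)) (Fin (k + 1) ⊕ Fin (r + 1)) F,
          M * N = fromBlocks B Q 0 E ∧ M.charpoly = f ∧ N.charpoly = g := by
  have hB' : (B⁻¹).det ≠ 0 := by
    rw [det_nonsing_inv, Ring.inverse_eq_inv']
    exact inv_ne_zero hB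
  have hE1 : (Eᵀ).det ≠ 0 := by rwa [det_transpose]
  have hE' : ((Eᵀ)⁻¹).det ≠ 0 := by
    rw [det_nonsing_inv, Ring.inverse_eq_inv']
    exact inv_ne_zero hE1
  obtain ⟨J, eps, h1, h2⟩ := exists_obs hB'
  obtain ⟨T, e, h3, h4⟩ := exists_obs hE'
  obtain ⟨x, G, hG, h⟩ := core_of hB hE h1 h3 hf hg hfn hgn h0
  refine ⟨row eps (J + vecMulVec x eps) B, row e T Eᵀ, G, ?_, row_indep hE1 h4, row_mem _ _ _, row_mem _ _ _, hG, h⟩
  apply row_indep hB
  rw [mul_add, mul_vecMulVec]
  exact h2.inj _

end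

end Cfsg.Agent.H957.TL
end

-- part: H957/TL/Glue
section
/-!
# Theorem L, conjugation (helper957)
-/

set_option autoImplicit false
set_option linter.unusedSectionVars false

namespace Cfsg.Agent.H957.TL

open Matrix Polynomial

variable {F : Type*} [Field F]

section

variable {m n : Type*} [Fintype m] [DecidableEq m] [Fintype n] [DecidableEq n]

theorem card_eq_of_inv {P : Matrix m n F} {P' : Matrix n m F} (h1 : P * P' = 1) (h2 : P' * P = 1) :
    Fintype.card m = Fintype.card n := by
  have e : (m → F) ≃ₗ[F] (n → F) :=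
    { toLinearMap := Matrix.mulVecLin P'
      invFun := fun v => P *ᵥ v
      left_inv := fun v => by
        show P *ᵥ (P' *ᵥ v) = v
        rw [mulVec_mulVec, h1, one_mulVec]
      right_inv := fun v => by
        show P' *ᵥ (P *ᵥ v) = v
        rw [mulVec_mulVec, h2, one_mulVec] }
  have := e.finrank_eq
  rwa [Module.finrank_fintype_fun_eq_card, Module.finrank_fintype_fun_eq_card] at this

theorem charpoly_conj {P : Matrix m n F} {P' : Matrix n m F} (h1 : P * P' = 1) (h2 : P' * P = 1) (M : Matrix n n F) :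
    (P * M * P').charpoly = M.charpoly := by
  have hc := card_eq_of_inv h1 h2
  have h := charpoly_mul_comm' P (M * P')
  rw [Matrix.mul_assoc M, h2, Matrix.mul_one, hc, ← Matrix.mul_assoc] at h
  exact mul_left_cancel₀ (pow_ne_zero _ X_ne_zero) h

/-- the conclusion of Theorem L for `A`, `f`, `g` -/
def Fac (A : Matrix m m F) (f g : F[X]) : Prop :=
  ∃ M N : Matrix m m F, M * N = A ∧ M.charpoly = f ∧ N.charpoly = g

/-- transfer along a change of basis (of index types) -/
theorem Fac.transfer {A : Matrix m m F} {A' : Matrix n n F} {P : Matrix m n F} {P' : Matrix n m F} {f g : F[X]}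
    (h : Fac A' f g) (h1 : P * P' = 1) (h2 : P' * P = 1) (hA : P' * A * P = A') : Fac A f g := by
  obtain ⟨M, N, hMN, hM, hN⟩ := h
  refine ⟨P * M * P', P * N * P', ?_, ?_, ?_⟩
  · have e : P * M * P' * (P * N * P') = P * (M * N) * P' := by
      rw [← Matrix.mul_assoc, ← Matrix.mul_assoc, Matrix.mul_assoc (P * M), h2, Matrix.mul_one, ← Matrix.mul_assoc]
    rw [e, hMN, ← hA]
    have e2 : P * (P' * A * P) * P' = (P * P') * A * (P * P') := by
      simp only [Matrix.mul_assoc]
    rw [e2, h1, Matrix.one_mul, Matrix.mul_one]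
  · rw [charpoly_conj h1 h2, hM]
  · rw [charpoly_conj h1 h2, hN]

end

section

variable {k r : ℕ}

/-- the block triangular matrix is similar to the block diagonal one when `Q = B S - S E` -/
theorem Fac.unblock {B : Matrix (Fin k) (Fin k) F} {E : Matrix (Fin r) (Fin r) F} {Q S : Matrix (Fin k) (Fin r) F}
    (hS : B * S - S * E = Q) {f g : F[X]} (h : Fac (fromBlocks B Q 0 E) f g) : Fac (fromBlocks B 0 0 E) f g := by
  refine h.transfer (P := fromBlocks 1 S 0 1) (P' := fromBlocks 1 (-S) 0 1) ?_ ?_ ?_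
  · rw [fromBlocks_multiply]
    simp only [_root_.mul_one, _root_.Matrix.mul_zero, _root_.add_zero, _root_.Matrix.mul_neg, _root_.Matrix.one_mul, _root_.Matrix.mul_one, _root_.neg_add_cancel, _root_.Matrix.zero_mul, _root_.neg_zero, _root_.zero_add, _root_.Matrix.fromBlocks_one]
  · rw [fromBlocks_multiply]
    simp only [_root_.mul_one, _root_.Matrix.mul_zero, _root_.add_zero, _root_.Matrix.one_mul, _root_.Matrix.mul_one, _root_.add_neg_cancel, _root_.Matrix.zero_mul, _root_.zero_add, _root_.Matrix.fromBlocks_one]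
  · rw [fromBlocks_multiply, fromBlocks_multiply, ← hS]
    simp [sub_eq_add_neg]

/-- Theorem L for `B ⊕ E` when the Sylvester equation of `(B, E)` is solvable (all `f`, `g`, all `q`) -/
theorem fac_blocks [Finite F] {B : Matrix (Fin (k + 1)) (Fin (k + 1)) F} {E : Matrix (Fin (r + 1)) (Fin (r + 1)) F}
    (hS : ∀ Q : Matrix (Fin (k + 1)) (Fin (r + 1)) F, ∃ S : Matrix (Fin (k + 1)) (Fin (r + 1)) F, B * S - S * E = Q)
    (hB : B.det ≠ 0) (hE : E.det ≠ 0) {f g : F[X]} (hf : f.Monic) (hg : g.Monic)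
    (hfn : f.natDegree = (k + 1) + (r + 1)) (hgn : g.natDegree = (k + 1) + (r + 1))
    (h0 : f.coeff 0 * g.coeff 0 = B.det * E.det) : Fac (fromBlocks B 0 0 E) f g := by
  obtain ⟨m, n, G, hm, hn, hm', hn', hG, h⟩ := core hB hE hf hg hfn hgn h0
  obtain ⟨Q, hQ⟩ := span_mul m n hm hm' hn hn' (by omega) (by omega) (G := G) (by
    have e1 : (k + 1) + (r + 1) - 1 = k + r + 1 := by omega
    rwa [e1])
  obtain ⟨S, hS'⟩ := hS Q
  exact Fac.unblock hS' (h Q hQ)

end

end Cfsg.Agent.H957.TL
end

private theorem dce_1b9a027cfc4b : _root_.True := by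
  try have : _root_.True := by simp only [_root_.Cfsg.Agent.H957.TL.XX.eq_1]
  try have : _root_.True := by simp only [_root_.Cfsg.Agent.H957.TL.e0.eq_1]
  try have : _root_.True := by simp only [_root_.Cfsg.Agent.H957.TL.toSq.eq_1]
  exact _root_.True.intro
end

-- part: H376/TL/RankOne
section
prune_inst 0x10101100250000000000000022001c42b2000002004b00008020010005c0044000410a20ba10151010881800480000001100000002280000000004000007040100800000a0080208880006000000000000000000000000000000000000000000200000000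
set_option linter.all false
open scoped Cfsg.Agent.FastGrp

/-!
# Factorization of a scalar plus a rank one matrix (helper376, for Theorem L)

`A = a + u φ` with `a ≠ 0` is a product `X Y` with prescribed characteristic polynomials `f` (irreducible)
and `g` of `X` and `Y`, as soon as the determinants agree and `a X⁻¹` does not have characteristic
polynomial `g`.
-/

set_option autoImplicit false

namespace Cfsg.Agent.H376.TL

open Matrix Polynomial Cfsg.Agent.H957.TL

variable {F : Type*} [Field F]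

/-- a matrix of rank one is `u φ` -/
theorem exists_vecMulVec {m n : ℕ} (A : Matrix (Fin m) (Fin n) F) (h : A.rank = 1) :
    ∃ (u : Fin m → F) (φ : Fin n → F), u ≠ 0 ∧ φ ≠ 0 ∧ A = vecMulVec u φ := by
  rw [Matrix.rank, finrank_eq_one_iff'] at h
  obtain ⟨⟨v, hv⟩, hv0, hall⟩ := h
  have hv0' : v ≠ 0 := fun h => hv0 (Subtype.ext h)
  have hcol : ∀ j : Fin n, ∃ c : F, c • v = A.col j := by
    intro j
    obtain ⟨c, hc⟩ := hall ⟨A.mulVecLin (Pi.single j 1), LinearMap.mem_range_self _ _⟩
    refine ⟨c, ?_⟩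
    have := congrArg Subtype.val hc
    simp only [Submodule.coe_smul, mulVecLin_apply, mulVec_single_one] at this
    exact this
  choose c hc using hcol
  have hA : A = vecMulVec v c := by
    ext i j
    rw [vecMulVec_apply, mul_comm]
    exact (congrFun (hc j) i).symm
  refine ⟨v, c, hv0', ?_, hA⟩
  intro h0
  have hA0 : A = 0 := by
    rw [hA]
    ext i j
    rw [vecMulVec_apply, h0]
    exact mul_zero _
  obtain ⟨x, hx⟩ := hv
  apply hv0'
  rw [← hx, hA0]
  simp

/-- two nonzero functionals are both nonzero somewhere -/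
theorem exists_both {n : ℕ} {p q : Fin n → F} (hp : p ≠ 0) (hq : q ≠ 0) :
    ∃ x : Fin n → F, p ⬝ᵥ x = 1 ∧ q ⬝ᵥ x ≠ 0 := by
  have key : ∃ x : Fin n → F, p ⬝ᵥ x ≠ 0 ∧ q ⬝ᵥ x ≠ 0 := by
    obtain ⟨i, hi⟩ := Function.ne_iff.1 hp
    obtain ⟨j, hj⟩ := Function.ne_iff.1 hq
    by_cases h1 : q i = 0
    · by_cases h2 : p j = 0
      · refine ⟨Pi.single i 1 + Pi.single j 1, ?_, ?_⟩
        · rw [dotProduct_add, dotProduct_single_one, dotProduct_single_one, h2, add_zero]
          exact hi
        · rw [dotProduct_add, dotProduct_single_one, dotProduct_single_one, h1, zero_add]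
          exact hj
      · refine ⟨Pi.single j 1, ?_, ?_⟩
        · rwa [dotProduct_single_one]
        · rw [dotProduct_single_one]; exact hj
    · refine ⟨Pi.single i 1, ?_, ?_⟩
      · rw [dotProduct_single_one]; exact hi
      · rwa [dotProduct_single_one]
  obtain ⟨x, hx, hy⟩ := key
  refine ⟨(p ⬝ᵥ x)⁻¹ • x, ?_, ?_⟩
  · rw [dotProduct_smul, smul_eq_mul, inv_mul_cancel₀ hx]
  · rw [dotProduct_smul, smul_eq_mul]
    exact mul_ne_zero (inv_ne_zero hx) hy

theorem det_one_add_vecMulVec {n : ℕ} (u v : Fin n → F) : (1 + vecMulVec u v).det = 1 + v ⬝ᵥ u := by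
  rw [vecMulVec_eq Unit, det_one_add_replicateCol_mul_replicateRow]

/-- the orbits of `GL` on pairs (vector, functional) -/
theorem exists_conj {n : ℕ} {u u' φ φ' : Fin n → F} (hu : u ≠ 0) (hu' : u' ≠ 0) (hφ : φ ≠ 0) (hφ' : φ' ≠ 0)
    (h : φ ⬝ᵥ u = φ' ⬝ᵥ u') :
    ∃ S : Matrix (Fin n) (Fin n) F, IsUnit S.det ∧ S *ᵥ u' = u ∧ φ ᵥ* S = φ' := by
  obtain ⟨ψ, h1, h2⟩ := exists_both hu' hu
  let S₁ : Matrix (Fin n) (Fin n) F := 1 + vecMulVec (u - u') ψ
  have hd₁ : S₁.det ≠ 0 := by
    show (1 + vecMulVec (u - u') ψ).det ≠ 0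
    rw [det_one_add_vecMulVec, dotProduct_sub, dotProduct_comm ψ u, dotProduct_comm ψ u', h1]
    simpa using h2
  have hS₁ : S₁ *ᵥ u' = u := by
    show (1 + vecMulVec (u - u') ψ) *ᵥ u' = u
    rw [add_mulVec, one_mulVec, vecMulVec_mulVec, dotProduct_comm ψ u', h1, MulOpposite.op_one, one_smul]
    abel
  have hU₁ : IsUnit S₁.det := isUnit_iff_ne_zero.2 hd₁
  let φ'' : Fin n → F := φ' ᵥ* S₁⁻¹
  have hφ'' : φ'' ᵥ* S₁ = φ' := by
    show (φ' ᵥ* S₁⁻¹) ᵥ* S₁ = φ'
    rw [vecMul_vecMul, nonsing_inv_mul _ hU₁, vecMul_one]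
  have hφ''0 : φ'' ≠ 0 := by
    intro h0
    rw [h0, zero_vecMul] at hφ''
    exact hφ' hφ''.symm
  have h3 : φ'' ⬝ᵥ u = φ ⬝ᵥ u := by
    have e1 : φ'' ⬝ᵥ (S₁ *ᵥ u') = (φ'' ᵥ* S₁) ⬝ᵥ u' := dotProduct_mulVec φ'' S₁ u'
    rw [hS₁, hφ''] at e1
    rw [h, e1]
  obtain ⟨x, h4, h5⟩ := exists_both hφ hφ''0
  let S₂ : Matrix (Fin n) (Fin n) F := 1 + vecMulVec x (φ'' - φ)
  have hd₂ : S₂.det ≠ 0 := by
    show (1 + vecMulVec x (φ'' - φ)).det ≠ 0
    rw [det_one_add_vecMulVec, sub_dotProduct, h4]
    simpa using h5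
  refine ⟨S₂ * S₁, ?_, ?_, ?_⟩
  · rw [det_mul]
    exact isUnit_iff_ne_zero.2 (mul_ne_zero hd₂ hd₁)
  · rw [← mulVec_mulVec, hS₁]
    show (1 + vecMulVec x (φ'' - φ)) *ᵥ u = u
    rw [add_mulVec, one_mulVec, vecMulVec_mulVec, sub_dotProduct, h3, sub_self, MulOpposite.op_zero, zero_smul,
      add_zero]
  · rw [← vecMul_vecMul]
    have : φ ᵥ* S₂ = φ'' := by
      show φ ᵥ* (1 + vecMulVec x (φ'' - φ)) = φ''
      rw [vecMul_add, vecMul_one, vecMul_vecMulVec, h4, one_smul]
      abel
    rw [this, hφ'']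

/-- with an irreducible characteristic polynomial every nonzero vector is cyclic -/
theorem linearIndependent_pow {n : ℕ} (A : Matrix (Fin n) (Fin n) F) (hA : Irreducible A.charpoly) {v : Fin n → F}
    (hv : v ≠ 0) : LinearIndependent F (fun i : Fin n => (A ^ (i : ℕ)) *ᵥ v) := by
  rw [Fintype.linearIndependent_iff]
  intro c hc
  let p : F[X] := ∑ i : Fin n, C (c i) * X ^ (i : ℕ)
  have hdeg : p.degree < (n : WithBot ℕ) := by
    have : p ∈ degreeLT F n := by
      refine Submodule.sum_mem _ fun i _ => ?_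
      rw [mem_degreeLT]
      exact lt_of_le_of_lt (degree_C_mul_X_pow_le _ _) (by exact_mod_cast i.2)
    exact mem_degreeLT.1 this
  have hpv : (aeval A p) *ᵥ v = 0 := by
    rw [← hc]
    show (aeval A (∑ i : Fin n, C (c i) * X ^ (i : ℕ))) *ᵥ v = _
    rw [map_sum, sum_mulVec]
    refine Finset.sum_congr rfl fun i _ => ?_
    rw [map_mul, map_pow, aeval_X, aeval_C, ← Algebra.smul_def, smul_mulVec]
  have hp0 : p = 0 := by
    by_contra hp
    have hcop : IsCoprime A.charpoly p := by
      rw [hA.coprime_iff_not_dvd]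
      intro hd
      have h1 := degree_le_of_dvd hd hp
      rw [A.charpoly_degree_eq_dim, Fintype.card_fin] at h1
      exact absurd hdeg (not_lt.2 h1)
    obtain ⟨a, b, hab⟩ := hcop
    have h1 := congrArg (aeval A) hab
    rw [map_add, map_mul, map_mul, Matrix.aeval_self_charpoly, mul_zero, zero_add, map_one] at h1
    apply hv
    rw [← one_mulVec v, ← h1, ← mulVec_mulVec, hpv, mulVec_zero]
  intro i
  have h1 : p.coeff (i : ℕ) = c i := by
    show (∑ j : Fin n, C (c j) * X ^ (j : ℕ)).coeff (i : ℕ) = c i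
    rw [finsetSum_coeff, Finset.sum_eq_single i]
    · rw [coeff_C_mul, coeff_X_pow, if_pos rfl, mul_one]
    · intro j _ hj
      rw [coeff_C_mul, coeff_X_pow, if_neg (fun h => hj (Fin.ext h).symm), mul_zero]
    · intro h
      exact absurd (Finset.mem_univ i) h
  rw [← h1, hp0, coeff_zero]

theorem obs_of_irreducible {n : ℕ} (A : Matrix (Fin n) (Fin n) F) (hA : Irreducible A.charpoly) {w : Fin n → F}
    (hw : w ≠ 0) : Obs A w := by
  intro v hv
  by_contra h0
  have hli := linearIndependent_pow A hA h0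
  have hspan := hli.span_eq_top_of_card_eq_finrank' (by rw [Fintype.card_fin, Module.finrank_fin_fun])
  apply hw
  have h1 : ∀ x : Fin n → F, w ⬝ᵥ x = 0 := by
    intro x
    have hx : x ∈ Submodule.span F (Set.range fun i : Fin n => (A ^ (i : ℕ)) *ᵥ v) := by
      rw [hspan]; trivial
    induction hx using Submodule.span_induction with
    | mem x hx => obtain ⟨i, rfl⟩ := hx; exact hv i
    | zero => exact dotProduct_zero w
    | add x y _ _ hx hy => rw [dotProduct_add, hx, hy, add_zero]
    | smul a x _ hx => rw [dotProduct_smul, hx, smul_zero]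
  funext i
  have := h1 (Pi.single i 1)
  rwa [dotProduct_single_one] at this

theorem obs_smul {n : ℕ} {A : Matrix (Fin n) (Fin n) F} {w : Fin n → F} (h : Obs A w) {c : F} (hc : c ≠ 0) :
    Obs (c • A) w := by
  intro v hv
  apply h
  intro i
  have h1 := hv i
  rw [_root_.smul_pow, smul_mulVec, dotProduct_smul, smul_eq_mul] at h1
  exact (mul_eq_zero.1 h1).resolve_left (pow_ne_zero _ hc)

/-- `n` independent polynomials of degree `< n` span -/
theorem exists_comb {n : ℕ} (p : Fin n → F[X]) (hp : ∀ j, p j ∈ degreeLT F n) (hl : LinearIndependent F p) (q : F[X])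
    (hq : q ∈ degreeLT F n) : ∃ c : Fin n → F, ∑ j, c j • p j = q := by
  let Φ : (Fin n → F) →ₗ[F] (Fin n → F) :=
    LinearMap.pi fun i => (lcoeff F (i : ℕ)) ∘ₗ (Fintype.linearCombination F p)
  have hΦ : ∀ c i, Φ c i = (∑ j, c j • p j).coeff (i : ℕ) := by
    intro c i
    rfl
  have ext0 : ∀ r : F[X], r ∈ degreeLT F n → (∀ i : Fin n, r.coeff (i : ℕ) = 0) → r = 0 := by
    intro r hr h0
    ext k
    rw [coeff_zero]
    by_cases hk : k < n
    · exact h0 ⟨k, hk⟩
    · rw [mem_degreeLT] at hr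
      exact coeff_eq_zero_of_degree_lt (lt_of_lt_of_le hr (by exact_mod_cast not_lt.1 hk))
  have hmem : ∀ c : Fin n → F, (∑ j, c j • p j) ∈ degreeLT F n := fun c =>
    Submodule.sum_mem _ fun j _ => Submodule.smul_mem _ _ (hp j)
  have hinj : Function.Injective Φ := by
    rw [injective_iff_map_eq_zero]
    intro c hc
    have h1 : ∑ j, c j • p j = 0 := ext0 _ (hmem c) fun i => by rw [← hΦ, hc]; rfl
    funext i
    exact Fintype.linearIndependent_iff.1 hl c h1 i
  obtain ⟨c, hc⟩ := (LinearMap.injective_iff_surjective.1 hinj) (fun i => q.coeff (i : ℕ))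
  refine ⟨c, ?_⟩
  rw [← sub_eq_zero]
  refine ext0 _ (Submodule.sub_mem _ (hmem c) hq) fun i => ?_
  rw [coeff_sub, ← hΦ, hc, sub_self]

/-- characteristic polynomial of a rank one update -/
theorem charpoly_add_vecMulVec {n : ℕ} (M : Matrix (Fin n) (Fin n) F) (w φ : Fin n → F) :
    (M + vecMulVec w φ).charpoly =
      M.charpoly - (C ∘ φ) ⬝ᵥ (M.charmatrix.adjugate *ᵥ (C ∘ w)) := by
  have h1 : M.charmatrix.det ≠ 0 := M.charpoly_monic.ne_zero
  have h2 := det_rank1 (n := Unit) M.charmatrix (replicateCol Unit (C ∘ w : Fin n → F[X])) 1 1 (fun _ => 1)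
    (C ∘ φ : Fin n → F[X]) h1 (by rw [det_one]; exact one_ne_zero)
  rw [det_fromBlocks_one₂₂, one_smul, det_one, mul_one, one_mul, adjugate_one, one_mulVec] at h2
  have h3 : replicateCol Unit (C ∘ w : Fin n → F[X]) *ᵥ (fun _ => (1 : F[X])) = (C ∘ w : Fin n → F[X]) := by
    funext i
    simp [mulVec, dotProduct]
  rw [h3] at h2
  rw [Matrix.charpoly, Matrix.charpoly, ← h2]
  congr 1
  ext i j
  simp [charmatrix_apply, vecMulVec, Matrix.mul_apply]
  ring

/-- pole placement from an observable pair -/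
theorem exists_charpoly {n : ℕ} (M : Matrix (Fin n) (Fin n) F) (hM : M.det ≠ 0) (w : Fin n → F)
    (hobs : Obs (Mᵀ)⁻¹ w) (g : F[X]) (hg : g.Monic) (hgn : g.natDegree = n) :
    ∃ φ : Fin n → F, (M + vecMulVec w φ).charpoly = g := by
  have hpen : pen (1 : Matrix (Fin n) (Fin n) F) Mᵀ = M.charmatrixᵀ := by
    rw [pen]
    ext i j : 2
    simp only [Matrix.add_apply, Matrix.smul_apply, Matrix.map_apply, Matrix.transpose_apply, Matrix.neg_apply,
      charmatrix_apply, Matrix.diagonal_apply, Matrix.one_apply]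
    by_cases h : i = j
    · subst h
      simp [sub_eq_add_neg]
    · simp [h, Ne.symm h]
  have hrow : ∀ j, Cfsg.Agent.H957.TL.row w 1 Mᵀ j = (M.charmatrix.adjugate *ᵥ (C ∘ w)) j := by
    intro j
    rw [Cfsg.Agent.H957.TL.row, hpen, ← adjugate_transpose, vecMul_transpose]
  have hdet : (Mᵀ).det ≠ 0 := by rwa [det_transpose]
  have hli : LinearIndependent F (Cfsg.Agent.H957.TL.row w 1 Mᵀ) := row_indep hdet (by rwa [Matrix.mul_one])
  have hq : g - M.charpoly ∈ degreeLT F n := by
    rw [mem_degreeLT]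
    have h1 : g.degree = (n : WithBot ℕ) := by rw [degree_eq_natDegree hg.ne_zero, hgn]
    have h2 : M.charpoly.degree = (n : WithBot ℕ) := by rw [M.charpoly_degree_eq_dim, Fintype.card_fin]
    rw [← h1]
    exact degree_sub_lt_left (h1.trans h2.symm) hg.ne_zero (by rw [hg.leadingCoeff, M.charpoly_monic.leadingCoeff])
  obtain ⟨c, hc⟩ := exists_comb _ (row_mem w 1 Mᵀ) hli _ hq
  refine ⟨-c, ?_⟩
  rw [charpoly_add_vecMulVec]
  have h3 : ((C ∘ (-c)) : Fin n → F[X]) ⬝ᵥ (M.charmatrix.adjugate *ᵥ (C ∘ w)) = -(g - M.charpoly) := by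
    rw [← hc, dotProduct, ← Finset.sum_neg_distrib]
    refine Finset.sum_congr rfl fun j _ => ?_
    rw [← hrow, smul_eq_C_mul, Function.comp_apply, Pi.neg_apply, map_neg, neg_mul]
  rw [h3]
  ring

theorem det_smul_one_add {n : ℕ} {a : F} (ha : a ≠ 0) (u φ : Fin n → F) :
    (a • (1 : Matrix (Fin n) (Fin n) F) + vecMulVec u φ).det = a ^ n * (1 + a⁻¹ * (φ ⬝ᵥ u)) := by
  have h1 : a • (1 : Matrix (Fin n) (Fin n) F) + vecMulVec u φ = a • (1 + vecMulVec (a⁻¹ • u) φ) := by
    rw [smul_add, smul_vecMulVec, smul_smul, mul_inv_cancel₀ ha, one_smul]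
  rw [h1, det_smul, Fintype.card_fin, det_one_add_vecMulVec, dotProduct_smul, smul_eq_mul]

/-- **the factorization of `a + u φ`** -/
theorem factor_vecMulVec {n : ℕ} (hn : 2 ≤ n) (a : F) (ha : a ≠ 0) (u φ : Fin n → F) (hu : u ≠ 0) (hφ : φ ≠ 0)
    (f g : F[X]) (hf : Irreducible f) (hg : g.Monic) (hgn : g.natDegree = n)
    (hdet : f.coeff 0 * g.coeff 0 = (a • (1 : Matrix (Fin n) (Fin n) F) + vecMulVec u φ).det)
    (X₀ : Matrix (Fin n) (Fin n) F) (hX : X₀.charpoly = f) (hne : (a • X₀⁻¹).charpoly ≠ g) :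
    ∃ X Y : Matrix (Fin n) (Fin n) F,
      X * Y = a • (1 : Matrix (Fin n) (Fin n) F) + vecMulVec u φ ∧ X.charpoly = f ∧ Y.charpoly = g := by
  subst hX
  have hndeg : X₀.charpoly.natDegree = n := by rw [X₀.charpoly_natDegree_eq_dim, Fintype.card_fin]
  have hc0 : X₀.charpoly.coeff 0 ≠ 0 := by
    intro h0
    have h1 : (X : F[X]) ∣ X₀.charpoly := X_dvd_iff.2 h0
    have h2 := (irreducible_X (R := F)).dvd_irreducible_iff_associated hf |>.1 h1
    have h3 := natDegree_eq_of_degree_eq (degree_eq_degree_of_associated h2)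
    rw [natDegree_X, hndeg] at h3
    omega
  have hd0 : X₀.det ≠ 0 := by
    rw [det_eq_sign_charpoly_coeff]
    exact mul_ne_zero (pow_ne_zero _ (neg_ne_zero.2 one_ne_zero)) hc0
  have hU0 : IsUnit X₀.det := isUnit_iff_ne_zero.2 hd0
  let M : Matrix (Fin n) (Fin n) F := a • X₀⁻¹
  have hXM : X₀ * M = a • (1 : Matrix (Fin n) (Fin n) F) := by
    show X₀ * (a • X₀⁻¹) = _
    rw [Matrix.mul_smul, mul_nonsing_inv _ hU0]
  have hMd : M.det ≠ 0 := by
    intro h0
    have h1 := congrArg Matrix.det hXM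
    rw [det_mul, h0, mul_zero, det_smul, det_one, mul_one] at h1
    exact pow_ne_zero _ ha h1.symm
  have hMT : (Mᵀ)⁻¹ = a⁻¹ • X₀ᵀ := by
    apply inv_eq_left_inv
    rw [Matrix.smul_mul, ← transpose_mul]
    have h1 : M * X₀ = a • (1 : Matrix (Fin n) (Fin n) F) := by
      show (a • X₀⁻¹) * X₀ = _
      rw [Matrix.smul_mul, nonsing_inv_mul _ hU0]
    rw [h1, transpose_smul, transpose_one, smul_smul, inv_mul_cancel₀ ha, one_smul]
  have hobs : Obs (Mᵀ)⁻¹ u := by
    rw [hMT]
    refine obs_smul (obs_of_irreducible _ ?_ hu) (inv_ne_zero ha)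
    rwa [charpoly_transpose]
  obtain ⟨φ', hφ'⟩ := exists_charpoly M hMd u hobs g hg hgn
  have hφ'0 : φ' ≠ 0 := by
    intro h0
    apply hne
    rw [← hφ', h0]
    congr 1
    ext i j
    rw [Matrix.add_apply, vecMulVec_apply, Pi.zero_apply, mul_zero, add_zero]
  let Y₀ : Matrix (Fin n) (Fin n) F := M + vecMulVec u φ'
  have hA' : X₀ * Y₀ = a • (1 : Matrix (Fin n) (Fin n) F) + vecMulVec (X₀ *ᵥ u) φ' := by
    show X₀ * (M + vecMulVec u φ') = _
    rw [Matrix.mul_add, hXM, mul_vecMulVec]
  have hu'0 : X₀ *ᵥ u ≠ 0 := by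
    intro h0
    apply hu
    rw [← one_mulVec u, ← nonsing_inv_mul _ hU0, ← mulVec_mulVec, h0, mulVec_zero]
  have hdd : φ ⬝ᵥ u = φ' ⬝ᵥ (X₀ *ᵥ u) := by
    have h1 := congrArg Matrix.det hA'
    rw [det_mul, det_eq_sign_charpoly_coeff X₀, det_eq_sign_charpoly_coeff Y₀, hφ', Fintype.card_fin,
      mul_mul_mul_comm, ← mul_pow, neg_one_mul, neg_neg, one_pow, one_mul, hdet, det_smul_one_add ha,
      det_smul_one_add ha] at h1
    have h2 := mul_left_cancel₀ (pow_ne_zero _ ha) h1
    exact mul_left_cancel₀ (inv_ne_zero ha) (add_left_cancel h2)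
  obtain ⟨S, hS, hS1, hS2⟩ := exists_conj hu hu'0 hφ hφ'0 hdd
  let U : (Matrix (Fin n) (Fin n) F)ˣ := S.nonsingInvUnit hS
  have hUv : (U : Matrix (Fin n) (Fin n) F) = S := rfl
  refine ⟨S * X₀ * S⁻¹, S * Y₀ * S⁻¹, ?_, ?_, ?_⟩
  · have h1 : S * X₀ * S⁻¹ * (S * Y₀ * S⁻¹) = S * (X₀ * Y₀) * S⁻¹ := by
      rw [show S * X₀ * S⁻¹ * (S * Y₀ * S⁻¹) = S * X₀ * (S⁻¹ * S) * Y₀ * S⁻¹ by simp only [Matrix.mul_assoc],
        nonsing_inv_mul _ hS, Matrix.mul_one]
      simp only [Matrix.mul_assoc]
    rw [h1, hA', Matrix.mul_add, Matrix.add_mul, Matrix.mul_smul, Matrix.smul_mul, Matrix.mul_one,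
      mul_nonsing_inv _ hS, mul_vecMulVec, hS1, vecMulVec_mul]
    congr 2
    rw [← hS2, vecMul_vecMul, mul_nonsing_inv _ hS, vecMul_one]
  · have := charpoly_units_conj U X₀
    rwa [hUv] at this
  · have := charpoly_units_conj U Y₀
    rw [hUv] at this
    rw [this]
    exact hφ'

/-- **the rank one case of the factorization** -/
theorem factor_rank_one {n : ℕ} (hn : 2 ≤ n) (A : Matrix (Fin n) (Fin n) F) (a : F) (ha : a ≠ 0)
    (hA : (A - Matrix.scalar (Fin n) a).rank = 1) (f g : F[X]) (hf : Irreducible f)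
    (hg : g.Monic) (hgn : g.natDegree = n) (hdet : f.coeff 0 * g.coeff 0 = A.det)
    (X₀ : Matrix (Fin n) (Fin n) F) (hX : X₀.charpoly = f) (hne : (a • X₀⁻¹).charpoly ≠ g) :
    ∃ X Y : Matrix (Fin n) (Fin n) F, X * Y = A ∧ X.charpoly = f ∧ Y.charpoly = g := by
  obtain ⟨u, φ, hu, hφ, h⟩ := exists_vecMulVec _ hA
  have hA' : A = a • (1 : Matrix (Fin n) (Fin n) F) + vecMulVec u φ := by
    rw [← h, scalar_apply, smul_one_eq_diagonal]
    abel
  rw [hA'] at hdet ⊢
  exact factor_vecMulVec hn a ha u φ hu hφ f g hf hg hgn hdet X₀ hX hne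

end Cfsg.Agent.H376.TL
end

-- part: H641/TC6/Tor
section
set_option linter.all false
open scoped Cfsg.Agent.FastGrp

/-!
# S2464, `G₂(q)`: the tori of order `Φ₃`, `Φ₆`, abstract part (helper641)

`TorD G m n w A T` : `T` is cyclic of order `m`, `A ≤ T` has order `n`, `T` is the centraliser of every element `≠ 1`
of `A`, `A` is a TI subgroup, `N(A) = N(T)` has order `w * m`.

`exists_torD` : from a cyclic subgroup of order `m` and the big primes dividing `n`.
-/

set_option autoImplicit false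
set_option linter.unusedSectionVars false

namespace Cfsg.Agent.H641.TC6

open Subgroup Cfsg.Agent.H56.Exc

/-- the torus data -/
structure TorD (G : Type*) [Group G] (m n w : ℕ) (A T : Subgroup G) : Prop where
  le : A ≤ T
  cycT : IsCyclic ↥T
  cardA : Nat.card ↥A = n
  cardT : Nat.card ↥T = m
  cent : ∀ a ∈ A, a ≠ 1 → centralizer {a} = T
  ti : ∀ g : G, ∀ a ∈ A, a ≠ 1 → g * a * g⁻¹ ∈ A → g ∈ normalizer (A : Set G)
  normA : normalizer (A : Set G) = normalizer (T : Set G)
  cardN : Nat.card ↥(normalizer (A : Set G)) = w * m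
  free : ∀ g : G, ∀ a ∈ A, a ≠ 1 → g * a = a * g → g ∈ T

variable {G : Type*} [Group G] [Finite G]

theorem mem_norm {A : Subgroup G} {g : G} (h : ∀ x ∈ A, g * x * g⁻¹ ∈ A) : g ∈ normalizer (A : Set G) := by
  have h2 : A.map (MulAut.conj g).toMonoidHom = A := by
    apply Subgroup.eq_of_le_of_card_ge
    · rintro _ ⟨a, ha, rfl⟩
      exact h a ha
    · exact (Nat.card_congr (A.equivMapOfInjective _ (MulAut.conj g).injective).toEquiv).le
  rw [mem_normalizer_iff]
  intro a
  refine ⟨fun ha => h a ha, fun h3 => ?_⟩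
  have h4 : g * a * g⁻¹ ∈ A.map (MulAut.conj g).toMonoidHom := by rw [h2]; exact h3
  obtain ⟨b, hb, hb'⟩ := h4
  have h5 : g * b * g⁻¹ = g * a * g⁻¹ := hb'
  have h6 : b = a := mul_left_cancel (mul_right_cancel h5)
  rw [← h6]; exact hb

theorem conj_mem {A : Subgroup G} {g x : G} (h : g ∈ normalizer (A : Set G)) (hx : x ∈ A) : g * x * g⁻¹ ∈ A :=
  (mem_normalizer_iff.1 h x).1 hx

theorem orderOf_conj (g x : G) : orderOf (g * x * g⁻¹) = orderOf x := by
  rw [← MulAut.conj_apply]; exact (MulAut.conj g).orderOf_eq x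

theorem comm_of_cyc {T : Subgroup G} (hT : IsCyclic ↥T) {x y : G} (hx : x ∈ T) (hy : y ∈ T) : x * y = y * x := by
  let _ := IsCyclic.commGroup (α := ↥T)
  have h1 : (⟨x, hx⟩ : T) * ⟨y, hy⟩ = ⟨y, hy⟩ * ⟨x, hx⟩ := mul_comm _ _
  exact congrArg Subtype.val h1

theorem exists_torD {m n w : ℕ} {T : Subgroup G} (hT : IsCyclic ↥T) (hTm : Nat.card ↥T = m) (hnm : n ∣ m)
    (hbig : ∀ r : ℕ, r.Prime → r ∣ n → ∃ e, Big G r m e) {r₀ : ℕ} (hr₀ : r₀.Prime) (hr₀n : r₀ ∣ n)
    {K : ℤ} (hG : (Nat.card G : ℤ) = m * K) (hK : (K : ZMod r₀) = w) (hw : w < r₀) :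
    ∃ A : Subgroup G, TorD G m n w A T := by
  have hfact : Fact r₀.Prime := ⟨hr₀⟩
  have hm0 : 0 < m := hTm ▸ Nat.card_pos
  have hn0 : 0 < n := Nat.pos_of_dvd_of_pos hnm hm0
  -- a generator
  obtain ⟨⟨t, htT⟩, htgen⟩ := hT.exists_generator
  have htz : ∀ x ∈ T, x ∈ zpowers t := by
    intro x hx
    obtain ⟨j, hj⟩ := htgen ⟨x, hx⟩
    exact ⟨j, congrArg Subtype.val hj⟩
  have htT' : zpowers t = T := le_antisymm (by rw [zpowers_le]; exact htT) htz
  have hot : orderOf t = m := by rw [← Nat.card_zpowers, htT', hTm]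
  obtain ⟨k, hk⟩ := hnm
  have hk0 : k ≠ 0 := by rintro rfl; rw [mul_zero] at hk; omega
  have hoa : orderOf (t ^ k) = n := by
    rw [orderOf_pow_of_dvd hk0 (by rw [hot, hk]; exact dvd_mul_left _ _), hot, hk]
    exact Nat.mul_div_cancel _ (Nat.pos_of_ne_zero hk0)
  obtain ⟨A, hA⟩ : ∃ A, A = zpowers (t ^ k) := ⟨_, rfl⟩
  have hAT : A ≤ T := by rw [hA, zpowers_le]; exact pow_mem htT k
  have hcA : Nat.card ↥A = n := by rw [hA, Nat.card_zpowers, hoa]
  have hmemA : ∀ x ∈ T, orderOf x ∣ n → x ∈ A := by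
    intro x hx h
    rw [hA]
    exact mem_zpowers_of_cyclic hT (pow_mem htT k) hx (by rw [hoa]; exact h)
  have hordA : ∀ x ∈ A, orderOf x ∣ n := by
    intro x hx
    rw [← hcA]
    exact Subgroup.orderOf_dvd_natCard A hx
  have hTC : ∀ x ∈ T, T ≤ centralizer {x} := by
    intro x hx y hy
    rw [mem_centralizer_singleton_iff]
    exact comm_of_cyc hT hy hx
  have hprime : ∀ b ∈ T, ∀ r : ℕ, r.Prime → r ∣ n → orderOf b = r → centralizer {b} = T := by
    intro b hb r hr hrn hbo
    obtain ⟨e, he⟩ := hbig r hr hrn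
    symm
    apply Subgroup.eq_of_le_of_card_ge (hTC b hb)
    rw [hTm]
    exact Nat.le_of_dvd hm0 (he.card b hbo)
  have hcent : ∀ a ∈ A, a ≠ 1 → centralizer {a} = T := by
    intro a ha ha1
    have h1 : orderOf a ≠ 1 := by rwa [Ne, orderOf_eq_one_iff]
    obtain ⟨r, hr, hra⟩ := Nat.exists_prime_and_dvd h1
    obtain ⟨s, hs⟩ := hra
    have ha0 : orderOf a ≠ 0 := (orderOf_pos a).ne'
    have hs0 : s ≠ 0 := by rintro rfl; rw [mul_zero] at hs; exact ha0 hs
    have hb : orderOf (a ^ s) = r := by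
      rw [orderOf_pow_of_dvd hs0 (by rw [hs]; exact dvd_mul_left _ _), hs]
      exact Nat.mul_div_cancel _ (Nat.pos_of_ne_zero hs0)
    refine le_antisymm ?_ (hTC a (hAT ha))
    rw [← hprime (a ^ s) (pow_mem (hAT ha) s) r hr ((Dvd.intro _ hs.symm).trans (hordA a ha)) hb]
    intro y hy
    rw [mem_centralizer_singleton_iff] at hy ⊢
    exact (show Commute y a from hy).pow_right s
  have hconjT : ∀ g : G, ∀ a ∈ A, a ≠ 1 → g * a * g⁻¹ ∈ A → ∀ x ∈ T, g * x * g⁻¹ ∈ T := by
    intro g a ha ha1 hg x hx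
    have h1 : g * a * g⁻¹ ≠ 1 := by
      intro h
      apply ha1
      have h2 := congrArg (fun z => g⁻¹ * z * g) h
      simpa [mul_assoc] using h2
    rw [← hcent _ hg h1, mem_centralizer_singleton_iff]
    have h3 : x * a = a * x := comm_of_cyc hT hx (hAT ha)
    have e1 : g * x * g⁻¹ * (g * a * g⁻¹) = g * (x * a) * g⁻¹ := by group
    have e2 : g * a * g⁻¹ * (g * x * g⁻¹) = g * (a * x) * g⁻¹ := by group
    rw [e1, e2, h3]
  have hNT : ∀ g : G, (∀ x ∈ T, g * x * g⁻¹ ∈ T) → g ∈ normalizer (A : Set G) := by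
    intro g hg
    apply mem_norm
    intro x hx
    exact hmemA _ (hg x (hAT hx)) (by rw [orderOf_conj]; exact hordA x hx)
  have hti : ∀ g : G, ∀ a ∈ A, a ≠ 1 → g * a * g⁻¹ ∈ A → g ∈ normalizer (A : Set G) :=
    fun g a ha ha1 hg => hNT g (hconjT g a ha ha1 hg)
  -- an element of order `r₀`
  obtain ⟨z', hz'⟩ := exists_prime_orderOf_dvd_card' (G := ↥A) r₀ (by rw [hcA]; exact hr₀n)
  obtain ⟨z, hzA, hz⟩ : ∃ z ∈ A, orderOf z = r₀ := ⟨z', z'.2, by rw [Subgroup.orderOf_coe, hz']⟩
  have hz1 : z ≠ 1 := by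
    rintro rfl
    rw [orderOf_one] at hz
    exact hr₀.one_lt.ne hz
  have hzT : z ∈ T := hAT hzA
  have hNA : ∀ g ∈ normalizer (A : Set G), ∀ x ∈ T, g * x * g⁻¹ ∈ T :=
    fun g hg => hconjT g z hzA hz1 (conj_mem hg hzA)
  have hnorm : normalizer (A : Set G) = normalizer (T : Set G) := by
    apply le_antisymm
    · intro g hg
      exact mem_norm (hNA g hg)
    · intro g hg
      exact hNT g fun x hx => conj_mem hg hx
  have hzz : ∀ x ∈ T, orderOf x = r₀ → x ∈ zpowers z := fun x hx h =>
    mem_zpowers_of_cyclic hT hzT hx (by rw [h, hz])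
  have hNz : normalizer (A : Set G) = normalizer (zpowers z : Set G) := by
    apply le_antisymm
    · intro g hg
      apply mem_norm
      rintro _ ⟨j, rfl⟩
      show g * z ^ j * g⁻¹ ∈ _
      rw [← conj_zpow]
      exact zpow_mem (hzz _ (hAT (conj_mem hg hzA)) (by rw [orderOf_conj, hz])) j
    · intro g hg
      refine hti g z hzA hz1 ?_
      have h1 : g * z * g⁻¹ ∈ zpowers z := conj_mem hg (mem_zpowers z)
      exact (zpowers_le.2 hzA) h1
  obtain ⟨a, ha1, ha2, ha0, -⟩ := exists_automizer hr₀ hz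
  rw [hcent z hzA hz1, hTm, ← hNz] at ha1
  -- the Sylow subgroup
  have hyp : IsPGroup r₀ (zpowers z) := by
    rw [IsPGroup.iff_card]; exact ⟨1, by rw [Nat.card_zpowers, hz, pow_one]⟩
  obtain ⟨P, hP⟩ := hyp.exists_le_sylow
  have hP1 : (P : Subgroup G) ≠ ⊥ := by
    intro h1
    rw [h1, le_bot_iff, zpowers_eq_bot] at hP
    exact hz1 hP
  obtain ⟨y, hyP, hy, hPy⟩ := exists_central_orderOf P.2 hP1
  have hyT : y ∈ T := by
    rw [← hcent z hzA hz1, mem_centralizer_singleton_iff]
    have h1 := mem_centralizer_singleton_iff.1 (hPy (hP (mem_zpowers _)))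
    exact h1.symm
  have hPT : (P : Subgroup G) ≤ T := by
    rw [hprime y hyT r₀ hr₀ hr₀n hy] at hPy
    exact hPy
  have hPc : IsCyclic ↥(P : Subgroup G) :=
    isCyclic_of_injective (Subgroup.inclusion hPT) (Subgroup.inclusion_injective hPT)
  obtain ⟨⟨c, hcP⟩, hgen⟩ := hPc.exists_generator
  have hgen' : (P : Subgroup G) = zpowers c := by
    apply le_antisymm
    · intro x hx
      obtain ⟨j, hj⟩ := hgen ⟨x, hx⟩
      exact ⟨j, congrArg Subtype.val hj⟩
    · rw [zpowers_le]; exact hcP
  have hNP : normalizer ((P : Subgroup G) : Set G) = normalizer (A : Set G) := by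
    apply le_antisymm
    · intro g hg
      rw [hNz]
      apply mem_norm
      rintro _ ⟨j, rfl⟩
      show g * z ^ j * g⁻¹ ∈ _
      rw [← conj_zpow]
      exact zpow_mem (hzz _ (hPT (conj_mem hg (hP (mem_zpowers z)))) (by rw [orderOf_conj, hz])) j
    · intro g hg
      apply mem_norm
      intro x hx
      rw [hgen']
      refine mem_zpowers_of_cyclic hT (hPT hcP) (hNA g hg x (hPT hx)) ?_
      rw [orderOf_conj, ← Nat.card_zpowers c, ← hgen']
      exact Subgroup.orderOf_dvd_natCard _ hx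
  have hsyl : Nat.card (Sylow r₀ G) = (normalizer (A : Set G)).index := by
    rw [Sylow.card_eq_index_normalizer P]
    exact congrArg Subgroup.index hNP
  have hmod : (normalizer (A : Set G)).index ≡ 1 [MOD r₀] := by
    rw [← hsyl]
    exact card_sylow_modEq_one r₀ G
  have hcard : Nat.card G = a * m * (normalizer (A : Set G)).index := by
    rw [← ha1]
    exact (Subgroup.card_mul_index _).symm
  have hKa : (K : ℤ) = a * (normalizer (A : Set G)).index := by
    have h1 : (m : ℤ) * K = m * (a * (normalizer (A : Set G)).index) := by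
      rw [← hG, hcard]
      push_cast
      ring
    exact mul_left_cancel₀ (by exact_mod_cast hm0.ne') h1
  have hmodz : (((normalizer (A : Set G)).index : ℕ) : ZMod r₀) = 1 := by
    have := (ZMod.natCast_eq_natCast_iff _ _ _).2 hmod
    simpa using this
  have haw : (a : ZMod r₀) = w := by
    rw [← hK, hKa]
    push_cast
    rw [hmodz, mul_one]
  have har : a < r₀ := by
    have := hr₀.two_le
    exact lt_of_le_of_lt (Nat.le_of_dvd (by omega) ha2) (by omega)
  have haw' : a = w := by
    rw [ZMod.natCast_eq_natCast_iff, Nat.ModEq, Nat.mod_eq_of_lt har, Nat.mod_eq_of_lt hw] at haw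
    exact haw
  refine ⟨A, hAT, hT, hcA, hTm, hcent, hti, hnorm, by rw [ha1, haw'], fun g a ha ha1 hg => ?_⟩
  rw [← hcent a ha ha1, mem_centralizer_singleton_iff]
  exact hg

namespace TorD

variable {m n w : ℕ} {A T : Subgroup G}

theorem mem (h : TorD G m n w A T) {x : G} (hx : x ∈ T) (hxn : orderOf x ∣ n) : x ∈ A := by
  have hT := h.cycT
  have hA : IsCyclic ↥A :=
    isCyclic_of_injective (Subgroup.inclusion h.le) (Subgroup.inclusion_injective h.le)
  obtain ⟨⟨c, hc⟩, hgen⟩ := hA.exists_generator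
  have hA' : A = zpowers c := by
    apply le_antisymm
    · intro y hy
      obtain ⟨j, hj⟩ := hgen ⟨y, hy⟩
      exact ⟨j, congrArg Subtype.val hj⟩
    · rw [zpowers_le]; exact hc
  have hco : orderOf c = n := by rw [← Nat.card_zpowers, ← hA', h.cardA]
  rw [hA']
  exact mem_zpowers_of_cyclic hT (h.le hc) hx (by rw [hco]; exact hxn)

end TorD

end Cfsg.Agent.H641.TC6
end
end

-- part: H221/TC/One
section
prune_inst 0x389980000000000000000000000000010008000
set_option linter.all false
open scoped Cfsg.Agent.FastGrp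

-- part: H221/TC/Gram
section
/-!
# Clean tori: the Gram matrix of the differences (helper221; S2464)
-/

set_option autoImplicit false
set_option linter.unusedSectionVars false

open Cfsg Subgroup
open scoped ComplexConjugate

namespace Cfsg.Agent.H221.TC

open Cfsg.Agent.Characters.Core

universe u

variable {G : Type u} [Group G]

/-- A clean torus: `T` abelian, `A ≤ T`, centralizers of nonidentity elements of `A` in `T`. -/
structure Tor (A T : Subgroup G) (m : ℕ) : Prop where
  comm : ∀ a ∈ T, ∀ b ∈ T, a * b = b * a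
  le : A ≤ T
  cent : ∀ a ∈ A, a ≠ 1 → Subgroup.centralizer ({a} : Set G) ≤ T
  pow : ∀ t ∈ T, t ^ m ∈ A
  cop : Nat.Coprime m (Nat.card A)

/-- the function of a linear character -/
def lf {T : Subgroup G} (l : T →* ℂˣ) : T → ℂ := fun t => ((l t : ℂˣ) : ℂ)

theorem lf_apply {T : Subgroup G} (l : T →* ℂˣ) (t : T) : lf l t = ((l t : ℂˣ) : ℂ) := rfl

theorem lf_one {T : Subgroup G} (l : T →* ℂˣ) : lf l 1 = 1 := by simp [lf]

theorem lf_inj {T : Subgroup G} {l l' : T →* ℂˣ} (h : lf l = lf l') : l = l' := by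
  ext t
  exact congrFun h t

/-- conjugation of `T` by an element of its normalizer -/
def cj {T : Subgroup G} (x : normalizer (T : Set G)) : T →* T where
  toFun t := ⟨(x : G)⁻¹ * t * x, by
    have h := (mem_normalizer_iff.1 (inv_mem x.2) (t : G)).1 t.2
    simpa using h⟩
  map_one' := by ext; simp
  map_mul' a b := by ext; simp only [mul_assoc, _root_.Subgroup.coe_mul, _root_.MulMemClass.mk_mul_mk, _root_.mul_inv_cancel_left]

theorem cj_apply {T : Subgroup G} (x : normalizer (T : Set G)) (t : T) : ((cj x t : T) : G) = (x : G)⁻¹ * t * x := rfl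

variable {A T : Subgroup G} {m : ℕ}

namespace Tor

variable (h : Tor A T m)
include h

/-- the elements with a nontrivial `A`-part have centralizer in `T` -/
theorem cent' {t : G} (ht : t ∈ T) (h1 : t ^ m ≠ 1) {x : G} (hx : x * t = t * x) : x ∈ T := by
  refine h.cent (t ^ m) (h.pow t ht) h1 ?_
  rw [Subgroup.mem_centralizer_singleton_iff]
  exact (Commute.pow_right (show Commute x t from hx) m).eq

/-- the support is a trivial intersection set -/
theorem ti [Finite G] {t x : G} (ht : t ∈ T) (h1 : t ^ m ≠ 1) (hx : x⁻¹ * t * x ∈ T) : x ∈ normalizer (T : Set G) := by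
  have h2 : (x⁻¹ * t * x) ^ m = x⁻¹ * t ^ m * x := by
    have := conj_pow (i := m) (a := x⁻¹) (b := t)
    simpa only [_root_.inv_inv] using this
  have h3 : (x⁻¹ * t * x) ^ m ≠ 1 := by
    rw [h2]
    intro h4
    apply h1
    have : t ^ m = x * (x⁻¹ * t ^ m * x) * x⁻¹ := by group
    rw [this, h4]; group
  -- `x⁻¹ T x ≤ T`
  have h5 : ∀ s ∈ T, x⁻¹ * s * x ∈ T := by
    intro s hs
    refine h.cent' hx h3 ?_
    have := h.comm s hs t ht
    calc x⁻¹ * s * x * (x⁻¹ * t * x) = x⁻¹ * (s * t) * x := by group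
      _ = x⁻¹ * (t * s) * x := by rw [this]
      _ = x⁻¹ * t * x * (x⁻¹ * s * x) := by group
  have h6 : T.map (MulAut.conj x⁻¹).toMonoidHom = T := by
    refine Subgroup.eq_of_le_of_card_ge ?_ ?_
    · rintro _ ⟨s, hs, rfl⟩
      simpa only [_root_.map_inv, _root_.MulEquiv.toMonoidHom_eq_coe, _root_.MonoidHom.coe_coe, _root_.MulAut.inv_apply, _root_.MulAut.conj_symm_apply] using h5 s hs
    · rw [Subgroup.card_map_of_injective (MulAut.conj x⁻¹).injective]
  rw [mem_normalizer_iff]
  intro s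
  constructor
  · intro hs
    have : s ∈ T.map (MulAut.conj x⁻¹).toMonoidHom := by rw [h6]; exact hs
    obtain ⟨r, hr, rfl⟩ := this
    have h7 : x * ((MulAut.conj x⁻¹).toMonoidHom r) * x⁻¹ = r := by simp only [mul_assoc, _root_.map_inv, _root_.MulEquiv.toMonoidHom_eq_coe, _root_.MonoidHom.coe_coe, _root_.MulAut.inv_apply, _root_.MulAut.conj_symm_apply, _root_.mul_inv_cancel_left, _root_.mul_inv_cancel, _root_.mul_one]
    rw [h7]; exact hr
  · intro hs
    have := h5 _ hs
    have h7 : x⁻¹ * (x * s * x⁻¹) * x = s := by group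
    rwa [h7] at this

end Tor

section Gram

/-- linear characters are irreducible -/
theorem isIrr_lf (l : T →* ℂˣ) : IsIrrCharacter T (lf l) := by
  let ρ : Representation ℂ T ℂ :=
    { toFun := fun t => ((l t : ℂˣ) : ℂ) • (1 : ℂ →ₗ[ℂ] ℂ)
      map_one' := by simp
      map_mul' := fun a b => by ext; simp only [mul_comm, _root_.map_mul, _root_.Units.val_mul, _root_.LinearMap.smul_apply, _root_.Module.End.one_apply, _root_.smul_eq_mul, _root_.one_mul, _root_.Algebra.mul_smul_comm, _root_.mul_one] }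
  have h1 : ρ.character = lf l := by
    funext t
    show LinearMap.trace ℂ ℂ (((l t : ℂˣ) : ℂ) • (1 : ℂ →ₗ[ℂ] ℂ)) = _
    simp only [lf, _root_.map_smul, _root_.LinearMap.trace_one, _root_.Module.finrank_self, _root_.Nat.cast_one, _root_.smul_eq_mul, _root_.mul_one]
  rw [← h1]
  exact isIrrCharacter_of_rep ρ (isIrr_of_finrank_one (by simp) ρ)

theorem inner_lf [Fintype T] (l l' : T →* ℂˣ) : classInner (lf l) (lf l') = if l = l' then 1 else 0 := by
  rw [classInner_irr (isIrr_lf l) (isIrr_lf l')]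
  by_cases hl : l = l'
  · rw [if_pos hl, if_pos (by rw [hl])]
  · rw [if_neg hl, if_neg fun h => hl (lf_inj h)]

/-- a class function of `T` composed with conjugation -/
def twist (β : T → ℂ) (x : normalizer (T : Set G)) : T → ℂ := fun t => β (cj x t)

theorem twist_lf (l : T →* ℂˣ) (x : normalizer (T : Set G)) : twist (lf l) x = lf (l.comp (cj x)) := rfl

variable [Fintype G] [Fintype (normalizer (T : Set G))] [Fintype T]

/-- values of the induced function on the support -/
theorem indFun_apply_supp (h : Tor A T m) {β : T → ℂ} {t : T} (ht : t ^ m ≠ 1) :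
    indFun T β t = (Nat.card T : ℂ)⁻¹ * ∑ x : normalizer (T : Set G), twist β x t := by
  classical
  have ht' : (t : G) ^ m ≠ 1 := fun h1 => ht (Subtype.ext (by simpa only [_root_.SubmonoidClass.coe_pow, _root_.OneMemClass.coe_one] using h1))
  rw [indFun_apply]
  congr 1
  have h1 : ∑ x : G, extendByZero T β (x⁻¹ * (t : G) * x) =
      ∑ x ∈ Finset.univ.filter (· ∈ normalizer (T : Set G)), extendByZero T β (x⁻¹ * (t : G) * x) := by
    symm
    refine Finset.sum_subset (Finset.filter_subset _ _) fun x _ hx => ?_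
    refine extendByZero_of_notMem T β fun hm => hx ?_
    exact Finset.mem_filter.2 ⟨Finset.mem_univ _, h.ti t.2 ht' hm⟩
  rw [h1, Finset.sum_subtype (Finset.univ.filter (· ∈ normalizer (T : Set G)))
    (p := (· ∈ normalizer (T : Set G))) (by simp)]
  refine Finset.sum_congr rfl fun x _ => ?_
  exact extendByZero_of_mem T β (cj x t).2

/-- **the Gram formula** -/
theorem gram (h : Tor A T m) {α β : T → ℂ} (hα : ∀ t : T, t ^ m = 1 → α t = 0) :
    classInner (indFun T α) (indFun T β) =
      (Nat.card T : ℂ)⁻¹ * ∑ x : normalizer (T : Set G), classInner α (twist β x) := by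
  classical
  have hcf : IsClassFunction G (indFun T β) := Cfsg.Agent.Characters.Brauer.indFun_isClassFunction T β
  rw [S0146.result T α (indFun T β) hcf, classInner_def]
  simp only [classInner_def]
  have h1 : ∀ t : T, α t * conj (indFun T β (t : G)) =
      (Nat.card T : ℂ)⁻¹ * ∑ x : normalizer (T : Set G), α t * conj (twist β x t) := by
    intro t
    by_cases ht : t ^ m = 1
    · rw [hα t ht]; simp only [_root_.MulZeroClass.zero_mul, _root_.Nat.card_eq_fintype_card, _root_.Finset.sum_const_zero, _root_.MulZeroClass.mul_zero]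
    · rw [indFun_apply_supp h ht, map_mul, map_sum, map_inv₀, Complex.conj_natCast, ← Finset.mul_sum]
      ring
  rw [Finset.sum_congr rfl fun t _ => h1 t, ← Finset.mul_sum, Finset.sum_comm, ← Finset.mul_sum]

/-- nontrivial on `A` -/
def Nt (A : Subgroup G) {T : Subgroup G} (l : T →* ℂˣ) : Prop := ∃ a : T, (a : G) ∈ A ∧ l a ≠ 1

/-- the number of elements of the normalizer moving `l'` to `l` -/
noncomputable def mv (l l' : T →* ℂˣ) : ℕ := Nat.card {x : normalizer (T : Set G) // l'.comp (cj x) = l}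

theorem sum_inner (l l' : T →* ℂˣ) :
    ∑ x : normalizer (T : Set G), classInner (lf l) (twist (lf l') x) = (mv l l' : ℂ) := by
  classical
  have h1 : ∀ x : normalizer (T : Set G), classInner (lf l) (twist (lf l') x) =
      if l'.comp (cj x) = l then 1 else 0 := by
    intro x
    rw [twist_lf, inner_lf]
    by_cases hx : l = l'.comp (cj x)
    · rw [if_pos hx, if_pos hx.symm]
    · rw [if_neg hx, if_neg fun h => hx h.symm]
  rw [Finset.sum_congr rfl fun x _ => h1 x, Finset.sum_boole, mv, Nat.card_eq_fintype_card, Fintype.card_subtype]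

omit [Fintype (normalizer (T : Set G))] [Fintype T] in
/-- a regular character is moved by everything outside `T` -/
theorem mem_of_fix (h : Tor A T m) {l : T →* ℂˣ} (hl : Nt A l) {x : normalizer (T : Set G)}
    (hx : l.comp (cj x) = l) : (x : G) ∈ T := by
  classical
  by_contra hxT
  obtain ⟨a, haA, ha⟩ := hl
  apply ha
  -- `a ↦ a⁻¹ a^x` is injective on `A`
  have hst : ∀ b : T, (b : G) ∈ A → ((cj x b : T) : G) ∈ A := by
    intro b hb
    -- `b` is an `m`-th power in `A`
    have h1 : ∃ k : ℕ, (b ^ k) ^ m = b := by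
      have h2 : (orderOf b).Coprime m := by
        have h3 : orderOf b ∣ Nat.card A := by
          have := Subgroup.orderOf_dvd_natCard A hb
          rwa [Subgroup.orderOf_coe] at this
        exact (Nat.Coprime.coprime_dvd_right h3 h.cop).symm
      obtain ⟨k, hk⟩ := exists_pow_eq_self_of_coprime h2.symm
      exact ⟨k, by rw [← pow_mul, mul_comm, pow_mul]; exact hk⟩
    obtain ⟨k, hk⟩ := h1
    rw [← hk, map_pow, Subgroup.coe_pow]
    exact h.pow _ (cj x _).2
  let AT : Subgroup T := A.subgroupOf T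
  let f : AT → AT := fun b => ⟨(b : T)⁻¹ * cj x b, by
    rw [mem_subgroupOf]
    exact A.mul_mem (A.inv_mem b.2) (hst _ b.2)⟩
  have hinj : Function.Injective f := by
    intro b b' hbb
    have h1 : (b : T)⁻¹ * cj x b = (b' : T)⁻¹ * cj x b' := congrArg Subtype.val hbb
    have h2 : cj x ((b : T) * (b' : T)⁻¹) = (b : T) * (b' : T)⁻¹ := by
      have hc : ∀ s t : T, s * t = t * s := fun s t => Subtype.ext (h.comm _ s.2 _ t.2)
      rw [map_mul, map_inv]
      have h3 : cj x (b : T) = b * ((b' : T)⁻¹ * cj x b') := by rw [← h1]; group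
      rw [h3, mul_assoc, mul_assoc, mul_inv_cancel, mul_one]
    have h3 : ((b : T) * (b' : T)⁻¹ : T) = 1 := by
      by_contra h4
      apply hxT
      have h5 : (((b : T) * (b' : T)⁻¹ : T) : G) ∈ A := A.mul_mem b.2 (A.inv_mem b'.2)
      refine h.cent _ h5 (fun h6 => h4 (Subtype.ext h6)) ?_
      rw [mem_centralizer_singleton_iff]
      have h6 := congrArg (Subtype.val : T → G) h2
      rw [cj_apply] at h6
      calc (x : G) * (((b : T) * (b' : T)⁻¹ : T) : G)
          = (x : G) * ((x : G)⁻¹ * (((b : T) * (b' : T)⁻¹ : T) : G) * x) := by rw [h6]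
        _ = _ := by group
    exact Subtype.ext (mul_inv_eq_one.1 h3)
  obtain ⟨b, hb⟩ := (Finite.injective_iff_surjective.1 hinj) ⟨a, haA⟩
  have h1 : (b : T)⁻¹ * cj x b = a := congrArg Subtype.val hb
  rw [← h1, map_mul, map_inv]
  have h2 : l (cj x (b : T)) = l b := DFunLike.congr_fun hx _
  rw [h2, inv_mul_cancel]

omit [Fintype G] [Fintype (normalizer (T : Set G))] [Fintype T] in
theorem cj_of_mem (h : Tor A T m) {x : normalizer (T : Set G)} (hx : (x : G) ∈ T) : cj x = MonoidHom.id T := by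
  ext t
  rw [cj_apply, h.comm _ (T.inv_mem hx) _ t.2]
  simp

omit [Fintype G] [Fintype (normalizer (T : Set G))] [Fintype T] in
theorem cj_mul (x y : normalizer (T : Set G)) : cj (x * y) = (cj y).comp (cj x) := by
  ext t
  simp only [cj_apply, MonoidHom.comp_apply, Subgroup.coe_mul]
  group

omit [Fintype (normalizer (T : Set G))] [Fintype T] in
/-- the stabilizer count of a regular character -/
theorem mv_self (h : Tor A T m) {l : T →* ℂˣ} (hl : Nt A l) : mv l l = Nat.card T := by
  have hle : T ≤ normalizer (T : Set G) := le_normalizer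
  refine Nat.card_congr ⟨fun x => ⟨x.1, mem_of_fix h hl x.2⟩, fun t => ⟨⟨t, hle t.2⟩, ?_⟩, ?_, ?_⟩
  · rw [cj_of_mem h (x := ⟨t, hle t.2⟩) t.2, MonoidHom.comp_id]
  · intro x; rfl
  · intro t; rfl

omit [Fintype G] [Fintype (normalizer (T : Set G))] [Fintype T] in
theorem mv_eq_zero {l l' : T →* ℂˣ} (hl : ∀ x : normalizer (T : Set G), l'.comp (cj x) ≠ l) : mv l l' = 0 := by
  rw [mv]
  have : IsEmpty {x : normalizer (T : Set G) // l'.comp (cj x) = l} := ⟨fun x => hl x.1 x.2⟩
  exact Nat.card_of_isEmpty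

/-- same restriction to the elements of order dividing `m` -/
def SameE (m : ℕ) {T : Subgroup G} (l l' : T →* ℂˣ) : Prop := ∀ t : T, t ^ m = 1 → l t = l' t

/-- inner products of differences -/
theorem gram_diff (h : Tor A T m) {l₁ l₂ l₃ l₄ : T →* ℂˣ} (h12 : SameE m l₁ l₂) :
    classInner (indFun T (lf l₁ - lf l₂)) (indFun T (lf l₃ - lf l₄)) =
      (Nat.card T : ℂ)⁻¹ * ((mv l₁ l₃ : ℂ) - mv l₁ l₄ - mv l₂ l₃ + mv l₂ l₄) := by
  have hα : ∀ t : T, t ^ m = 1 → (lf l₁ - lf l₂) t = 0 := by
    intro t ht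
    rw [Pi.sub_apply, lf_apply, lf_apply, h12 t ht, sub_self]
  rw [gram h hα]
  congr 1
  have h1 : ∀ x : normalizer (T : Set G), classInner (lf l₁ - lf l₂) (twist (lf l₃ - lf l₄) x) =
      classInner (lf l₁) (twist (lf l₃) x) - classInner (lf l₁) (twist (lf l₄) x) -
      classInner (lf l₂) (twist (lf l₃) x) + classInner (lf l₂) (twist (lf l₄) x) := by
    intro x
    have h2 : twist (lf l₃ - lf l₄) x = twist (lf l₃) x - twist (lf l₄) x := rfl
    rw [h2, classInner_sub_left, classInner_sub_right, classInner_sub_right]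
    ring
  rw [Finset.sum_congr rfl fun x _ => h1 x, Finset.sum_add_distrib, Finset.sum_sub_distrib, Finset.sum_sub_distrib,
    sum_inner, sum_inner, sum_inner, sum_inner]

end Gram

end Cfsg.Agent.H221.TC
end

-- part: H221/TC/Fam
section
/-!
# Clean tori: the exceptional families (helper221; S2464)
-/

set_option autoImplicit false
set_option linter.unusedSectionVars false

open Cfsg Subgroup
open scoped ComplexConjugate

namespace Cfsg.Agent.H221.TC

open Cfsg.Agent.Characters.Core

universe u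

variable {G : Type u} [Group G] {A T : Subgroup G} {m : ℕ}

theorem cj_one : cj (1 : normalizer (T : Set G)) = MonoidHom.id T := by
  ext t
  simp only [cj_apply, _root_.OneMemClass.coe_one, _root_.inv_one, _root_.one_mul, _root_.mul_one, _root_.MonoidHom.id_apply]

theorem finite_hom [Finite G] : Finite (T →* ℂˣ) := by
  have := finite_irr (G := T)
  exact Finite.of_injective (fun l : T →* ℂˣ => (⟨lf l, isIrr_lf l⟩ : IrrCharacter T))
    fun l l' h => lf_inj (congrArg Subtype.val h)

theorem nt_comp (h : Tor A T m) [Finite G] {l : T →* ℂˣ} (hl : Nt A l) (x : normalizer (T : Set G)) :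
    Nt A (l.comp (cj x)) := by
  obtain ⟨a, haA, ha⟩ := hl
  -- `a = b ^ m`
  have h1 : ∃ k : ℕ, (a ^ k) ^ m = a := by
    have h2 : (orderOf a).Coprime m := by
      have h3 : orderOf a ∣ Nat.card A := by
        have := Subgroup.orderOf_dvd_natCard A haA
        rwa [Subgroup.orderOf_coe] at this
      exact (Nat.Coprime.coprime_dvd_right h3 h.cop).symm
    obtain ⟨k, hk⟩ := exists_pow_eq_self_of_coprime h2.symm
    exact ⟨k, by rw [← pow_mul, mul_comm, pow_mul]; exact hk⟩
  obtain ⟨k, hk⟩ := h1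
  refine ⟨cj x⁻¹ a, ?_, ?_⟩
  · rw [← hk, map_pow, Subgroup.coe_pow]
    exact h.pow _ (cj x⁻¹ _).2
  · rw [MonoidHom.comp_apply]
    have h2 : cj x (cj x⁻¹ a) = a := by
      have := DFunLike.congr_fun (cj_mul x⁻¹ x) a
      rw [inv_mul_cancel, cj_one] at this
      exact this.symm
    rw [h2]
    exact ha

/-- the family of `l₀` -/
def InFam (A : Subgroup G) (m : ℕ) (l₀ l : T →* ℂˣ) : Prop := Nt A l ∧ SameE m l l₀

/-- conjugacy on the family -/
def setoidFam (A : Subgroup G) (m : ℕ) (l₀ : T →* ℂˣ) : Setoid {l : T →* ℂˣ // InFam A m l₀ l} where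
  r l l' := ∃ x : normalizer (T : Set G), l.1 = l'.1.comp (cj x)
  iseqv := by
    refine ⟨fun l => ⟨1, by rw [cj_one, MonoidHom.comp_id]⟩, ?_, ?_⟩
    · rintro l l' ⟨x, hx⟩
      refine ⟨x⁻¹, ?_⟩
      rw [hx, MonoidHom.comp_assoc, ← cj_mul, inv_mul_cancel, cj_one, MonoidHom.comp_id]
    · rintro l l' l'' ⟨x, hx⟩ ⟨y, hy⟩
      refine ⟨x * y, ?_⟩
      rw [hx, hy, MonoidHom.comp_assoc, ← cj_mul]

/-- **The exceptional family**: representatives of the conjugacy classes on the family of `l₀`, and irreducible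
characters of `G` such that induction of differences gives differences. -/
theorem exists_fam [Fintype G] (h : Tor A T m) {l₀ : T →* ℂˣ} (hl₀ : Nt A l₀) :
    ∃ (n : ℕ) (rep : Fin n → (T →* ℂˣ)) (ε : ℂ) (μ : Fin n → (G → ℂ)), (ε = 1 ∨ ε = -1) ∧
      (∀ i, IsIrrCharacter G (μ i)) ∧ Function.Injective μ ∧ (∀ i, InFam A m l₀ (rep i)) ∧
      (∀ i j, i ≠ j → ∀ x : normalizer (T : Set G), (rep j).comp (cj x) ≠ rep i) ∧
      (∀ l, InFam A m l₀ l → ∃ i, ∃ x : normalizer (T : Set G), l = (rep i).comp (cj x)) ∧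
      (∀ i j, indFun T (lf (rep i) - lf (rep j)) = ε • (μ i - μ j)) := by
  classical
  have : Finite (T →* ℂˣ) := finite_hom
  have : Fintype T := Fintype.ofFinite _
  have : Fintype (normalizer (T : Set G)) := Fintype.ofFinite _
  let st := setoidFam A m l₀
  have : Finite (Quotient st) := inferInstance
  obtain ⟨n, ⟨e⟩⟩ := Finite.exists_equiv_fin (Quotient st)
  let rep : Fin n → (T →* ℂˣ) := fun i => (Quotient.out (e.symm i)).1
  have hrep : ∀ i, InFam A m l₀ (rep i) := fun i => (Quotient.out (e.symm i)).2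
  have hdis : ∀ i j, i ≠ j → ∀ x : normalizer (T : Set G), (rep j).comp (cj x) ≠ rep i := by
    intro i j hij x hx
    apply hij
    apply e.symm.injective
    rw [← Quotient.out_eq (e.symm i), ← Quotient.out_eq (e.symm j)]
    exact Quotient.sound ⟨x, hx.symm⟩
  have hcov : ∀ l, InFam A m l₀ l → ∃ i, ∃ x : normalizer (T : Set G), l = (rep i).comp (cj x) := by
    intro l hl
    refine ⟨e (Quotient.mk st ⟨l, hl⟩), ?_⟩
    have h1 : Quotient.mk st (Quotient.out (e.symm (e (Quotient.mk st ⟨l, hl⟩)))) = Quotient.mk st ⟨l, hl⟩ := by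
      rw [Quotient.out_eq, Equiv.symm_apply_apply]
    obtain ⟨x, hx⟩ := Quotient.exact h1.symm
    exact ⟨x, hx⟩
  obtain ⟨i₀, -⟩ := hcov l₀ ⟨hl₀, fun t _ => rfl⟩
  have hE : ∀ i j, SameE m (rep i) (rep j) := fun i j t ht => by rw [(hrep i).2 t ht, (hrep j).2 t ht]
  let τ : Fin n → (G → ℂ) := fun i => indFun T (lf (rep i) - lf (rep i₀))
  have hsub : ∀ i j, indFun T (lf (rep i) - lf (rep j)) = indFun T (lf (rep i)) - indFun T (lf (rep j)) :=
    fun i j => Cfsg.Agent.Characters.Brauer.indFun_sub T _ _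
  have h0 : τ i₀ = 0 := by
    show indFun T (lf (rep i₀) - lf (rep i₀)) = 0
    rw [hsub, sub_self]
  have hgen : ∀ i, IsGeneralizedCharacter G (τ i) := fun i =>
    ⟨_, _, S0148.result _ _ (isIrr_isCharacter (isIrr_lf (rep i))), S0148.result _ _ (isIrr_isCharacter (isIrr_lf (rep i₀))),
      hsub i i₀⟩
  have hone : ∀ i, τ i 1 = 0 := by
    intro i
    show indFun T (lf (rep i) - lf (rep i₀)) 1 = 0
    rw [indFun_apply]
    have h1 : ∀ x : G, extendByZero T (lf (rep i) - lf (rep i₀)) (x⁻¹ * 1 * x) = 0 := by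
      intro x
      rw [mul_one, inv_mul_cancel, extendByZero_of_mem T _ T.one_mem]
      rw [Pi.sub_apply]
      show lf (rep i) 1 - lf (rep i₀) 1 = 0
      rw [lf_one, lf_one, sub_self]
    rw [Finset.sum_eq_zero fun x _ => h1 x, mul_zero]
  have hT0 : (Nat.card T : ℂ) ≠ 0 := by exact_mod_cast Nat.card_pos.ne'
  have hmv : ∀ i j, (mv (rep i) (rep j) : ℂ) = if i = j then (Nat.card T : ℂ) else 0 := by
    intro i j
    by_cases hij : i = j
    · subst hij
      rw [if_pos rfl, mv_self h (hrep i).1]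
    · rw [if_neg hij, mv_eq_zero (hdis i j hij), Nat.cast_zero]
  have hgram : ∀ i j, i ≠ i₀ → j ≠ i₀ → classInner (τ i) (τ j) = if i = j then 2 else 1 := by
    intro i j hi hj
    show classInner (indFun T (lf (rep i) - lf (rep i₀))) (indFun T (lf (rep j) - lf (rep i₀))) = _
    rw [gram_diff h (hE i i₀), hmv, hmv, hmv, hmv, if_neg hi, if_neg (Ne.symm hj), if_pos rfl]
    by_cases hij : i = j
    · rw [if_pos hij, if_pos hij, sub_zero, sub_zero, ← two_mul, mul_comm, mul_assoc, mul_inv_cancel₀ hT0, mul_one]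
    · rw [if_neg hij, if_neg hij, sub_zero, sub_zero, zero_add, inv_mul_cancel₀ hT0]
  obtain ⟨ε, hε, μ, hμ, hinj, hτ⟩ := S0198.result n i₀ τ h0 hgen hone hgram
  refine ⟨n, rep, ε, μ, hε, hμ, hinj, hrep, hdis, hcov, fun i j => ?_⟩
  have h1 : indFun T (lf (rep i) - lf (rep j)) = τ i - τ j := by
    show _ = indFun T (lf (rep i) - lf (rep i₀)) - indFun T (lf (rep j) - lf (rep i₀))
    rw [hsub, hsub, hsub]; abel
  rw [h1, hτ i, hτ j, ← smul_sub]
  congr 1
  abel

/-- the number of conjugacy classes on a family -/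
theorem card_fam_le [Finite G] (h : Tor A T m) {l₀ : T →* ℂˣ} {n : ℕ} {rep : Fin n → (T →* ℂˣ)}
    (hcov : ∀ l, InFam A m l₀ l → ∃ i, ∃ x : normalizer (T : Set G), l = (rep i).comp (cj x)) :
    Nat.card {l : T →* ℂˣ // InFam A m l₀ l} ≤ n * T.relIndex (normalizer (T : Set G)) := by
  classical
  have : Finite (T →* ℂˣ) := finite_hom
  let N := normalizer (T : Set G)
  have h1 : ∀ l : {l : T →* ℂˣ // InFam A m l₀ l}, ∃ p : Fin n × (N ⧸ T.subgroupOf N),
      l.1 = (rep p.1).comp (cj (Quotient.out p.2)) := by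
    intro l
    obtain ⟨i, x, hx⟩ := hcov l.1 l.2
    refine ⟨(i, QuotientGroup.mk x), ?_⟩
    rw [hx]
    obtain ⟨t, ht⟩ := QuotientGroup.mk_out_eq_mul (T.subgroupOf N) x
    have h2 : (((t : N)) : G) ∈ T := mem_subgroupOf.1 t.2
    show (rep i).comp (cj x) = (rep i).comp (cj (Quotient.out (QuotientGroup.mk x : N ⧸ T.subgroupOf N)))
    have h3 : Quotient.out (QuotientGroup.mk x : N ⧸ T.subgroupOf N) = x * t := ht
    rw [h3, cj_mul, cj_of_mem h h2, MonoidHom.id_comp]
  choose f hf using h1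
  have hinj : Function.Injective f := by
    intro l l' hll
    apply Subtype.ext
    rw [hf l, hf l', hll]
  have h2 := Nat.card_le_card_of_injective f hinj
  rwa [Nat.card_prod, Nat.card_fin] at h2

/-- the linear character agreeing with `l₀` on the elements of order dividing `m`, trivial on `A` -/
theorem exists_gam [Finite G] (h : Tor A T m) (l₀ : T →* ℂˣ) :
    ∃ g : T →* ℂˣ, SameE m g l₀ ∧ ¬ Nt A g := by
  obtain ⟨s, hs1, hs2⟩ := Nat.chineseRemainder h.cop 1 0
  letI : CommGroup T := { (inferInstance : Group T) with mul_comm := fun a b => Subtype.ext (h.comm _ a.2 _ b.2) }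
  refine ⟨l₀ ^ s, ?_, ?_⟩
  · intro t ht
    rw [MonoidHom.pow_apply, ← map_pow]
    congr 1
    have h1 : orderOf t ∣ m := orderOf_dvd_of_pow_eq_one ht
    have h2 : s ≡ 1 [MOD orderOf t] := hs1.of_dvd h1
    rw [pow_eq_pow_iff_modEq.2 h2, pow_one]
  · rintro ⟨a, haA, ha⟩
    apply ha
    rw [MonoidHom.pow_apply, ← map_pow]
    have h1 : orderOf a ∣ Nat.card A := by
      have := Subgroup.orderOf_dvd_natCard A haA
      rwa [Subgroup.orderOf_coe] at this
    have h2 : s ≡ 0 [MOD orderOf a] := hs2.of_dvd h1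
    rw [pow_eq_pow_iff_modEq.2 h2, pow_zero, map_one]

/-- the size of a family -/
theorem card_fam_ge [Finite G] (h : Tor A T m) (l₀ : T →* ℂˣ) :
    Nat.card A ≤ Nat.card {l : T →* ℂˣ // InFam A m l₀ l} + 1 := by
  classical
  have : Finite (T →* ℂˣ) := finite_hom
  obtain ⟨g, hg, hgA⟩ := exists_gam h l₀
  letI : CommGroup T := { (inferInstance : Group T) with mul_comm := fun a b => Subtype.ext (h.comm _ a.2 _ b.2) }
  letI : CommGroup A := { (inferInstance : Group A) with mul_comm := fun a b => Subtype.ext (h.comm _ (h.le a.2) _ (h.le b.2)) }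
  -- the power map
  let pw : T →* A :=
    { toFun := fun t => ⟨(t : G) ^ m, h.pow t t.2⟩
      map_one' := by ext; simp
      map_mul' := fun a b => by
        ext
        show ((a * b : T) : G) ^ m = (a : G) ^ m * (b : G) ^ m
        rw [← Subgroup.coe_pow, mul_pow]; rfl }
  have hpw : Function.Surjective pw := by
    intro a
    have h2 : (orderOf a).Coprime m := (Nat.Coprime.coprime_dvd_right (_root_.orderOf_dvd_natCard a) h.cop).symm
    obtain ⟨k, hk⟩ := exists_pow_eq_self_of_coprime h2.symm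
    refine ⟨⟨(a ^ k : A), h.le (a ^ k).2⟩, ?_⟩
    ext
    show (((a ^ k : A) : G)) ^ m = a
    have h3 : ((a ^ k) ^ m : A) = a := by rw [← pow_mul, mul_comm, pow_mul]; exact hk
    exact congrArg Subtype.val h3
  have hcard : Nat.card (A →* ℂˣ) = Nat.card A := CommGroup.card_monoidHom_of_hasEnoughRootsOfUnity A ℂ
  have : Finite (A →* ℂˣ) := Nat.finite_of_card_ne_zero (by rw [hcard]; exact Nat.card_pos.ne')
  -- the map
  have hmem : ∀ α : {α : A →* ℂˣ // α ≠ 1}, InFam A m l₀ (g * α.1.comp pw) := by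
    intro α
    constructor
    · have h1 : ∃ a : A, α.1 a ≠ 1 := by
        by_contra hc
        push Not at hc
        exact α.2 (MonoidHom.ext hc)
      obtain ⟨a, ha⟩ := h1
      obtain ⟨k, hk⟩ := exists_pow_eq_self_of_coprime
        (Nat.Coprime.coprime_dvd_right (_root_.orderOf_dvd_natCard a) h.cop).symm.symm
      refine ⟨⟨(a ^ k : A), h.le (a ^ k).2⟩, (a ^ k).2, ?_⟩
      rw [MonoidHom.mul_apply, MonoidHom.comp_apply]
      have h2 : g ⟨(a ^ k : A), h.le (a ^ k).2⟩ = 1 := by
        by_contra hc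
        exact hgA ⟨_, (a ^ k).2, hc⟩
      have h3 : pw ⟨(a ^ k : A), h.le (a ^ k).2⟩ = a := by
        ext
        show (((a ^ k : A) : G)) ^ m = a
        have h3 : ((a ^ k) ^ m : A) = a := by rw [← pow_mul, mul_comm, pow_mul]; exact hk
        exact congrArg Subtype.val h3
      rw [h2, h3, one_mul]
      exact ha
    · intro t ht
      rw [MonoidHom.mul_apply, MonoidHom.comp_apply]
      have h2 : pw t = 1 := by
        ext
        show (t : G) ^ m = 1
        rw [← Subgroup.coe_pow, ht]; rfl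
      rw [h2, map_one, mul_one]
      exact hg t ht
  have hinj : Function.Injective (fun α : {α : A →* ℂˣ // α ≠ 1} =>
      (⟨g * α.1.comp pw, hmem α⟩ : {l : T →* ℂˣ // InFam A m l₀ l})) := by
    intro α β hαβ
    have h1 : g * α.1.comp pw = g * β.1.comp pw := congrArg Subtype.val hαβ
    have h2 := mul_left_cancel h1
    apply Subtype.ext
    ext a
    obtain ⟨t, rfl⟩ := hpw a
    exact congrArg Units.val (DFunLike.congr_fun h2 t)
  have h1 := Nat.card_le_card_of_injective _ hinj
  have h2 : Nat.card {α : A →* ℂˣ // α ≠ 1} + 1 = Nat.card A := by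
    rw [← hcard]
    have : Fintype (A →* ℂˣ) := Fintype.ofFinite _
    rw [Nat.card_eq_fintype_card, Nat.card_eq_fintype_card, Fintype.card_subtype_compl, Fintype.card_subtype_eq]
    have : 0 < Fintype.card (A →* ℂˣ) := Fintype.card_pos
    omega
  omega

end Cfsg.Agent.H221.TC
end

-- part: H221/TC/Val
section
/-!
# Clean tori: values of the nonexceptional characters (helper221; S2464)
-/

set_option autoImplicit false
set_option linter.unusedSectionVars false
set_option linter.style.haveILetI false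

open Cfsg Subgroup
open scoped ComplexConjugate

namespace Cfsg.Agent.H221.TC

open Cfsg.Agent.Characters.Core

universe u

variable {G : Type u} [Group G] {A T : Subgroup G} {m : ℕ}

/-- a sum of characters over a set stable under multiplication by a character -/
theorem sum_zero [Fintype (T →* ℂˣ)] {S : Finset (T →* ℂˣ)} {β : T →* ℂˣ}
    (hmul : ∀ l : T →* ℂˣ, ∃ l' : T →* ℂˣ, ∀ s, l' s = β s * l s)
    (hS : ∀ l l' : T →* ℂˣ, (∀ s, l' s = β s * l s) → (l ∈ S ↔ l' ∈ S)) {u : T} (hβ : β u ≠ 1) :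
    ∑ l ∈ S, ((l u : ℂˣ) : ℂ) = 0 := by
  classical
  choose f hf using hmul
  have hinj : Function.Injective f := by
    intro l l' hll
    ext s
    have h1 := hf l s
    rw [hll, hf l' s] at h1
    exact congrArg Units.val (mul_left_cancel h1).symm
  have hbij : Function.Bijective f := (Finite.injective_iff_bijective).1 hinj
  have h1 : ∑ l ∈ S, ((l u : ℂˣ) : ℂ) = ∑ l ∈ S, ((f l u : ℂˣ) : ℂ) := by
    symm
    refine Finset.sum_bij (fun l _ => f l) (fun l hl => (hS l (f l) (hf l)).1 hl) (fun l _ l' _ h => hinj h) ?_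
      (fun l _ => rfl)
    intro l' hl'
    obtain ⟨l, rfl⟩ := hbij.2 l'
    exact ⟨l, (hS l (f l) (hf l)).2 hl', rfl⟩
  have h2 : ∑ l ∈ S, ((f l u : ℂˣ) : ℂ) = ((β u : ℂˣ) : ℂ) * ∑ l ∈ S, ((l u : ℂˣ) : ℂ) := by
    rw [Finset.mul_sum]
    refine Finset.sum_congr rfl fun l _ => ?_
    rw [hf l u, Units.val_mul]
  rw [h2] at h1
  have h3 : ((β u : ℂˣ) : ℂ) - 1 ≠ 0 := by
    rw [sub_ne_zero]
    intro h4
    exact hβ (Units.ext h4)
  have h4 : (((β u : ℂˣ) : ℂ) - 1) * ∑ l ∈ S, ((l u : ℂˣ) : ℂ) = 0 := by linear_combination -h1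
  exact (mul_eq_zero.1 h4).resolve_left h3

/-- products of linear characters of an abelian subgroup -/
theorem exists_mul (_ : Tor A T m) (β l : T →* ℂˣ) : ∃ l' : T →* ℂˣ, ∀ s, l' s = β s * l s := by
  refine ⟨{ toFun := fun s => β s * l s, map_one' := by simp, map_mul' := fun a b => ?_ }, fun s => rfl⟩
  rw [map_mul, map_mul]
  rw [mul_mul_mul_comm]

/-- separating characters, trivial on the elements of order dividing `m` -/
theorem exists_beta [Finite G] (h : Tor A T m) {t : T} (ht : t ^ m ≠ 1) :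
    ∃ β : T →* ℂˣ, (∀ s : T, s ^ m = 1 → β s = 1) ∧ β t ≠ 1 := by
  letI : CommGroup T := { (inferInstance : Group T) with mul_comm := fun a b => Subtype.ext (h.comm _ a.2 _ b.2) }
  letI : CommGroup A := { (inferInstance : Group A) with mul_comm := fun a b => Subtype.ext (h.comm _ (h.le a.2) _ (h.le b.2)) }
  let pw : T →* A :=
    { toFun := fun t => ⟨(t : G) ^ m, h.pow t t.2⟩
      map_one' := by ext; simp
      map_mul' := fun a b => by
        ext
        show ((a * b : T) : G) ^ m = (a : G) ^ m * (b : G) ^ m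
        rw [← Subgroup.coe_pow, mul_pow]; rfl }
  have h1 : pw t ≠ 1 := fun h2 => ht (Subtype.ext (by
    have := congrArg (Subtype.val : A → G) h2
    rw [Subgroup.coe_pow]
    exact this))
  obtain ⟨α, hα⟩ := CommGroup.exists_apply_ne_one_of_hasEnoughRootsOfUnity A ℂ h1
  refine ⟨α.comp pw, fun s hs => ?_, hα⟩
  rw [MonoidHom.comp_apply]
  have h2 : pw s = 1 := by
    ext
    show (s : G) ^ m = 1
    rw [← Subgroup.coe_pow, hs]; rfl
  rw [h2, map_one]

/-- separating characters -/
theorem exists_sep [Finite G] (h : Tor A T m) {t : T} (ht : t ≠ 1) : ∃ β : T →* ℂˣ, β t ≠ 1 := by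
  letI : CommGroup T := { (inferInstance : Group T) with mul_comm := fun a b => Subtype.ext (h.comm _ a.2 _ b.2) }
  exact CommGroup.exists_apply_ne_one_of_hasEnoughRootsOfUnity T ℂ ht

theorem card_hom [Finite G] (h : Tor A T m) : Nat.card (T →* ℂˣ) = Nat.card T := by
  letI : CommGroup T := { (inferInstance : Group T) with mul_comm := fun a b => Subtype.ext (h.comm _ a.2 _ b.2) }
  exact CommGroup.card_monoidHom_of_hasEnoughRootsOfUnity T ℂ

/-- characters trivial on `A` with the same restriction to the elements of order dividing `m` are equal -/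
theorem eq_of_same (h : Tor A T m) {g g' : T →* ℂˣ} (hg : ¬ Nt A g) (hg' : ¬ Nt A g') (hs : SameE m g g') : g = g' := by
  ext t
  congr 1
  -- Bezout
  have hA : ∀ s : T, g (s ^ m) = 1 ∧ g' (s ^ m) = 1 := by
    intro s
    have h1 : ((s ^ m : T) : G) ∈ A := by rw [Subgroup.coe_pow]; exact h.pow _ s.2
    exact ⟨by by_contra hc; exact hg ⟨_, h1, hc⟩, by by_contra hc; exact hg' ⟨_, h1, hc⟩⟩
  have hE : g (t ^ Nat.card A) = g' (t ^ Nat.card A) := by
    apply hs
    rw [← pow_mul, mul_comm, pow_mul]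
    have h1 : ((t ^ m : T) : G) ∈ A := by rw [Subgroup.coe_pow]; exact h.pow _ t.2
    have h2 : (⟨_, h1⟩ : A) ^ Nat.card A = 1 := pow_card_eq_one'
    have h3 := congrArg (Subtype.val : A → G) h2
    rw [Subgroup.coe_pow] at h3
    refine Subtype.ext ?_
    rw [Subgroup.coe_pow]
    exact h3
  have hb : (1 : ℤ) = m * Nat.gcdA m (Nat.card A) + Nat.card A * Nat.gcdB m (Nat.card A) := by
    have := Nat.gcd_eq_gcd_ab m (Nat.card A)
    rw [h.cop] at this
    exact_mod_cast this
  have h1 : ∀ f : T →* ℂˣ, f t = f (t ^ m) ^ Nat.gcdA m (Nat.card A) * f (t ^ Nat.card A) ^ Nat.gcdB m (Nat.card A) := by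
    intro f
    rw [map_pow, map_pow, ← zpow_natCast, ← zpow_natCast, ← zpow_mul, ← zpow_mul, ← zpow_add, ← hb, zpow_one]
  rw [h1 g, h1 g', (hA t).1, (hA t).2, hE]

section Fourier

variable [Fintype T] [Fintype (T →* ℂˣ)]

theorem fourier [Finite G] (h : Tor A T m) (F : T → ℂ) (t : T) :
    F t = ∑ l : T →* ℂˣ, classInner F (lf l) * ((l t : ℂˣ) : ℂ) := by
  classical
  have hT0 : (Nat.card T : ℂ) ≠ 0 := by exact_mod_cast Nat.card_pos.ne'
  simp only [classInner_def]
  have h1 : ∀ l : T →* ℂˣ, (Nat.card T : ℂ)⁻¹ * (∑ s : T, F s * conj (lf l s)) * ((l t : ℂˣ) : ℂ) =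
      ∑ s : T, (Nat.card T : ℂ)⁻¹ * F s * ((l (s⁻¹ * t) : ℂˣ) : ℂ) := by
    intro l
    rw [Finset.mul_sum, Finset.sum_mul]
    refine Finset.sum_congr rfl fun s _ => ?_
    have h2 : conj (lf l s) = ((l s⁻¹ : ℂˣ) : ℂ) := by
      have := isCharacter_apply_inv (isIrr_isCharacter (isIrr_lf l)) s
      rw [← this]
      rfl
    rw [h2, map_mul, Units.val_mul]
    ring
  rw [Finset.sum_congr rfl fun l _ => h1 l, Finset.sum_comm]
  have h2 : ∀ s : T, ∑ l : T →* ℂˣ, (Nat.card T : ℂ)⁻¹ * F s * ((l (s⁻¹ * t) : ℂˣ) : ℂ) =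
      if s = t then F t else 0 := by
    intro s
    rw [← Finset.mul_sum]
    by_cases hst : s = t
    · subst hst
      rw [if_pos rfl]
      have h3 : ∀ l : T →* ℂˣ, ((l (s⁻¹ * s) : ℂˣ) : ℂ) = 1 := fun l => by rw [inv_mul_cancel, map_one, Units.val_one]
      rw [Finset.sum_congr rfl fun l _ => h3 l, Finset.sum_const, Finset.card_univ, ← Nat.card_eq_fintype_card,
        card_hom h, nsmul_eq_mul, mul_one]
      field_simp
    · rw [if_neg hst]
      have h3 : s⁻¹ * t ≠ 1 := fun h4 => hst (inv_mul_eq_one.1 h4)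
      obtain ⟨β, hβ⟩ := exists_sep h h3
      rw [sum_zero (S := Finset.univ) (exists_mul h β) (fun _ _ _ => by simp) hβ, mul_zero]
  rw [Finset.sum_congr rfl fun s _ => h2 s, Finset.sum_ite_eq' Finset.univ t, if_pos (Finset.mem_univ _)]

/-- **value formula** for the functions with constant multiplicities on the families -/
theorem value [Finite G] (h : Tor A T m) {F : T → ℂ}
    (hF : ∀ l l' : T →* ℂˣ, Nt A l → Nt A l' → SameE m l l' → classInner F (lf l) = classInner F (lf l'))
    {sel : (T →* ℂˣ) → (T →* ℂˣ)} (hsel : ∀ g, ¬ Nt A g → InFam A m g (sel g)) [DecidablePred (Nt (T := T) A)]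
    {t : T} (ht : t ^ m ≠ 1) :
    F t = ∑ g : T →* ℂˣ, if Nt A g then 0 else
      (classInner F (lf g) - classInner F (lf (sel g))) * ((g t : ℂˣ) : ℂ) := by
  classical
  have hg : ∀ l : T →* ℂˣ, ∃ g : T →* ℂˣ, SameE m g l ∧ ¬ Nt A g := exists_gam h
  choose gam hgam1 hgam2 using hg
  obtain ⟨β, hβ1, hβ2⟩ := exists_beta h ht
  rw [fourier h F t, ← Finset.sum_fiberwise (s := Finset.univ) (g := gam)]
  refine Finset.sum_congr rfl fun g _ => ?_
  by_cases hgn : Nt A g
  · rw [if_pos hgn]
    refine Finset.sum_eq_zero fun l hl => ?_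
    exact absurd hgn ((Finset.mem_filter.1 hl).2 ▸ hgam2 l)
  · rw [if_neg hgn]
    have hmem : ∀ l : T →* ℂˣ, l ∈ Finset.univ.filter (fun l => gam l = g) ↔ SameE m l g := by
      intro l
      rw [Finset.mem_filter]
      constructor
      · rintro ⟨-, rfl⟩ s hs
        exact (hgam1 l s hs).symm
      · intro hs
        exact ⟨Finset.mem_univ _, eq_of_same h (hgam2 l) hgn fun s hs' => (hgam1 l s hs').trans (hs s hs')⟩
    have hz : ∑ l ∈ Finset.univ.filter (fun l => gam l = g), ((l t : ℂˣ) : ℂ) = 0 := by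
      refine sum_zero (exists_mul h β) ?_ hβ2
      intro l l' hll
      rw [hmem, hmem]
      constructor
      · intro hs s hs'
        rw [hll s, hβ1 s hs', one_mul, hs s hs']
      · intro hs s hs'
        have := hs s hs'
        rwa [hll s, hβ1 s hs', one_mul] at this
    have hgm : g ∈ Finset.univ.filter (fun l => gam l = g) := (hmem g).2 fun _ _ => rfl
    rw [← Finset.add_sum_erase _ _ hgm] at hz ⊢
    have h2 : ∀ l ∈ (Finset.univ.filter (fun l => gam l = g)).erase g,
        classInner F (lf l) * ((l t : ℂˣ) : ℂ) = classInner F (lf (sel g)) * ((l t : ℂˣ) : ℂ) := by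
      intro l hl
      have hl1 := (Finset.mem_erase.1 hl).1
      have hl2 := (hmem l).1 (Finset.mem_erase.1 hl).2
      have hln : Nt A l := by
        by_contra hc
        exact hl1 (eq_of_same h hc hgn hl2)
      rw [hF l (sel g) hln (hsel g hgn).1 fun s hs => (hl2 s hs).trans ((hsel g hgn).2 s hs).symm]
    rw [Finset.sum_congr rfl h2, ← Finset.mul_sum]
    linear_combination classInner F (lf (sel g)) * hz

end Fourier

end Cfsg.Agent.H221.TC
end

-- part: H221/TC/Sum
section
/-!
# Clean tori: the sum rule (helper221; S2464)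
-/

set_option autoImplicit false
set_option linter.unusedSectionVars false
set_option linter.style.haveILetI false

open Cfsg Subgroup
open scoped ComplexConjugate

namespace Cfsg.Agent.H221.TC

open Cfsg.Agent.Characters.Core

universe u

variable {G : Type u} [Group G] {A T : Subgroup G} {m : ℕ}

theorem not_nt_comp (h : Tor A T m) [Finite G] {g : T →* ℂˣ} (hg : ¬ Nt A g) (x : normalizer (T : Set G)) :
    ¬ Nt A (g.comp (cj x)) := by
  intro hn
  apply hg
  have := nt_comp h hn x⁻¹
  rwa [MonoidHom.comp_assoc, ← cj_mul, inv_mul_cancel, cj_one, MonoidHom.comp_id] at this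

/-- the multiplicities of linear characters -/
theorem exists_mult [Fintype G] [Fintype T] (χ : IrrCharacter G) (l : T →* ℂˣ) :
    ∃ a : ℕ, classInner (fun t : T => (χ : G → ℂ) t) (lf l) = a := by
  refine classInner_isNat ?_ (isIrr_isCharacter (isIrr_lf l))
  exact isCharacter_comp T.subtype (isIrr_isCharacter χ.2)

/-- **The sum rule.** -/
theorem sum_rule [Fintype G] [Fintype T] [Fintype (normalizer (T : Set G))] [Fintype (IrrCharacter G)]
    (h : Tor A T m) {g : T →* ℂˣ} (hg : ¬ Nt A g)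
    {n : ℕ} {rep : Fin n → (T →* ℂˣ)} {ε : ℂ} {μ : Fin n → (G → ℂ)} (hε : ε = 1 ∨ ε = -1)
    (hμ : ∀ i, IsIrrCharacter G (μ i)) (hinj : Function.Injective μ) (hrep : ∀ i, Nt A (rep i))
    (hsame : ∀ i, SameE m g (rep i))
    (hdis : ∀ i j, i ≠ j → ∀ x : normalizer (T : Set G), (rep j).comp (cj x) ≠ rep i)
    (hτ : ∀ i j, indFun T (lf (rep i) - lf (rep j)) = ε • (μ i - μ j))
    {W : ℕ} (hW : mv g g = W * Nat.card T) (hn : W + 3 ≤ n)
    (aN : IrrCharacter G → (T →* ℂˣ) → ℕ)
    (haN : ∀ (χ : IrrCharacter G) (l : T →* ℂˣ), classInner (fun t : T => (χ : G → ℂ) t) (lf l) = aN χ l) (i₀ : Fin n)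
    [DecidablePred fun χ : IrrCharacter G => ∃ i, (χ : G → ℂ) = μ i] :
    (∑ χ : IrrCharacter G, if ∃ i, (χ : G → ℂ) = μ i then (0 : ℤ) else ((aN χ g : ℤ) - aN χ (rep i₀)) ^ 2) = W := by
  classical
  have hT0 : (Nat.card T : ℂ) ≠ 0 := by exact_mod_cast Nat.card_pos.ne'
  let d : IrrCharacter G → ℤ := fun χ => (aN χ g : ℤ) - aN χ (rep i₀)
  let θ : G → ℂ := indFun T (lf g - lf (rep i₀))
  have hcf : ∀ β : T → ℂ, IsClassFunction G (indFun T β) := fun β =>
    Cfsg.Agent.Characters.Brauer.indFun_isClassFunction T β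
  have hθ : ∀ χ : IrrCharacter G, classInner θ (χ : G → ℂ) = (d χ : ℂ) := by
    intro χ
    show classInner (indFun T (lf g - lf (rep i₀))) _ = _
    rw [S0146.result T _ _ (isIrr_isClassFunction χ.2), classInner_sub_left, ← classInner_conj_symm, haN,
      ← classInner_conj_symm (fun t : T => (χ : G → ℂ) t), haN, Complex.conj_natCast, Complex.conj_natCast]
    show _ = (((aN χ g : ℤ) - aN χ (rep i₀) : ℤ) : ℂ)
    push_cast
    rfl
  -- the norm
  have hz1 : ∀ i, mv g (rep i) = 0 := fun i => mv_eq_zero fun x hx => by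
    have := nt_comp h (hrep i) x
    rw [hx] at this
    exact hg this
  have hz2 : ∀ i, mv (rep i) g = 0 := fun i => mv_eq_zero fun x hx => by
    have := not_nt_comp h hg x
    rw [hx] at this
    exact this (hrep i)
  have hnorm : classInner θ θ = (W : ℂ) + 1 := by
    show classInner (indFun T (lf g - lf (rep i₀))) (indFun T (lf g - lf (rep i₀))) = _
    rw [gram_diff h (hsame i₀), hz1, hz2, hW, mv_self h (hrep i₀)]
    push_cast
    field_simp
    ring
  have hpars : ∑ χ : IrrCharacter G, d χ ^ 2 = (W : ℤ) + 1 := by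
    have h1 := classInner_eq_sum (hcf (lf g - lf (rep i₀))) (hcf (lf g - lf (rep i₀)))
    have h2 : classInner θ θ = ∑ χ : IrrCharacter G, ((d χ : ℂ)) ^ 2 := by
      rw [h1]
      refine Finset.sum_congr rfl fun χ _ => ?_
      rw [show indFun T (lf g - lf (rep i₀)) = θ from rfl, hθ χ, map_intCast]
      ring
    rw [hnorm] at h2
    have h3 : ((∑ χ : IrrCharacter G, d χ ^ 2 : ℤ) : ℂ) = (((W : ℤ) + 1 : ℤ) : ℂ) := by
      push_cast
      exact h2.symm
    exact_mod_cast h3
  -- the exceptional characters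
  let M : Fin n → IrrCharacter G := fun i => ⟨μ i, hμ i⟩
  have hM : Function.Injective M := fun i j hij => hinj (congrArg Subtype.val hij)
  obtain ⟨e, he, heε⟩ : ∃ e : ℤ, (e = 1 ∨ e = -1) ∧ (e : ℂ) = ε := by
    rcases hε with h1 | h1
    · exact ⟨1, Or.inl rfl, by rw [h1]; norm_num⟩
    · exact ⟨-1, Or.inr rfl, by rw [h1]; norm_num⟩
  have hrel : ∀ i, i ≠ i₀ → d (M i) = d (M i₀) + e := by
    intro i hi
    have h1 : classInner θ (indFun T (lf (rep i) - lf (rep i₀))) = 1 := by
      show classInner (indFun T (lf g - lf (rep i₀))) _ = 1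
      rw [gram_diff h (hsame i₀), hz1, hz1, mv_eq_zero (hdis i₀ i hi.symm), mv_self h (hrep i₀)]
      push_cast
      field_simp
      ring
    rw [hτ i i₀, classInner_smul_right, classInner_sub_right] at h1
    have h2 := hθ (M i)
    have h3 := hθ (M i₀)
    rw [show ((M i : IrrCharacter G) : G → ℂ) = μ i from rfl] at h2
    rw [show ((M i₀ : IrrCharacter G) : G → ℂ) = μ i₀ from rfl] at h3
    rw [h2, h3, ← heε, map_intCast] at h1
    have h4 : e * (d (M i) - d (M i₀)) = 1 := by exact_mod_cast h1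
    rcases he with h5 | h5 <;> rw [h5] at h4 ⊢ <;> linarith only [h4]
  -- splitting the sum
  have hsplit : ∑ χ : IrrCharacter G, d χ ^ 2 =
      (∑ i, d (M i) ^ 2) + ∑ χ : IrrCharacter G, if ∃ i, (χ : G → ℂ) = μ i then (0 : ℤ) else d χ ^ 2 := by
    have h1 : ∀ χ : IrrCharacter G, d χ ^ 2 = (if ∃ i, (χ : G → ℂ) = μ i then d χ ^ 2 else 0) +
        (if ∃ i, (χ : G → ℂ) = μ i then (0 : ℤ) else d χ ^ 2) := by
      intro χ
      by_cases hχ : ∃ i, (χ : G → ℂ) = μ i
      · rw [if_pos hχ, if_pos hχ, add_zero]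
      · rw [if_neg hχ, if_neg hχ, zero_add]
    rw [Finset.sum_congr rfl fun χ _ => h1 χ, Finset.sum_add_distrib]
    congr 1
    rw [← Finset.sum_filter]
    symm
    refine Finset.sum_bij (fun i _ => M i) (fun i _ => Finset.mem_filter.2 ⟨Finset.mem_univ _, i, rfl⟩)
      (fun i _ j _ hij => hM hij) ?_ (fun _ _ => rfl)
    intro χ hχ
    obtain ⟨-, i, hi⟩ := Finset.mem_filter.1 hχ
    exact ⟨i, Finset.mem_univ _, Subtype.ext hi.symm⟩
  have hex : ∑ i, d (M i) ^ 2 = d (M i₀) ^ 2 + ((n : ℤ) - 1) * (d (M i₀) + e) ^ 2 := by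
    rw [← Finset.add_sum_erase _ _ (Finset.mem_univ i₀)]
    congr 1
    rw [Finset.sum_congr rfl (g := fun _ => (d (M i₀) + e) ^ 2) fun i hi => by rw [hrel i (Finset.mem_erase.1 hi).1],
      Finset.sum_const, Finset.card_erase_of_mem (Finset.mem_univ _), Finset.card_univ, Fintype.card_fin, nsmul_eq_mul,
      Nat.cast_sub (by omega), Nat.cast_one]
  have hpos : 0 ≤ ∑ χ : IrrCharacter G, if ∃ i, (χ : G → ℂ) = μ i then (0 : ℤ) else d χ ^ 2 := by
    refine Finset.sum_nonneg fun χ _ => ?_
    split_ifs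
    · exact le_rfl
    · (clear * -; positivity)
  rw [hpars, hex] at hsplit
  have h0 : d (M i₀) + e = 0 := by
    by_contra hc
    have h1 : 1 ≤ (d (M i₀) + e) ^ 2 := by
      have : 0 < (d (M i₀) + e) ^ 2 := by (clear * - hc; positivity)
      omega
    have h2 : (W : ℤ) + 2 ≤ ((n : ℤ) - 1) * (d (M i₀) + e) ^ 2 := by
      have h3 : (W : ℤ) + 3 ≤ n := by exact_mod_cast hn
      nlinarith only [hn, h1]
    have h4 : 0 ≤ d (M i₀) ^ 2 := by (clear * -; positivity)
    linarith only [hsplit, hpos, h2, h4]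
  have h1 : d (M i₀) ^ 2 = 1 := by
    have h2 : d (M i₀) = -e := by linarith only [h0]
    rw [h2]
    rcases he with h5 | h5 <;> rw [h5] <;> norm_num
  rw [h0, h1] at hsplit
  linarith only [hsplit]

end Cfsg.Agent.H221.TC
end

-- part: H221/TC/One
section
/-!
# Clean tori, `T` self-centralizing: the sum of squares of the constant values (helper221; S2464)
-/

set_option autoImplicit false
set_option linter.unusedSectionVars false
set_option linter.style.haveILetI false

open Cfsg Subgroup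
open scoped ComplexConjugate

namespace Cfsg.Agent.H221.TC

open Cfsg.Agent.Characters.Core

universe u

variable {G : Type u} [Group G] {T : Subgroup G}

theorem tor_one (hab : ∀ a ∈ T, ∀ b ∈ T, a * b = b * a)
    (hc : ∀ a ∈ T, a ≠ 1 → Subgroup.centralizer ({a} : Set G) ≤ T) : Tor T T 1 :=
  ⟨hab, le_rfl, hc, fun t ht => by rwa [pow_one], Nat.coprime_one_left _⟩

theorem nt_iff {l : T →* ℂˣ} : Nt T l ↔ l ≠ 1 := by
  constructor
  · rintro ⟨a, -, ha⟩ rfl
    exact ha rfl
  · intro hl
    by_contra hc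
    exact hl (MonoidHom.ext fun t => by by_contra hc'; exact hc ⟨t, t.2, hc'⟩)

/-- multiplicities of a function constant on the nonidentity elements -/
theorem inner_const [Fintype T] {F : T → ℂ} {z : ℂ} (hF : ∀ t : T, t ≠ 1 → F t = z) {l : T →* ℂˣ} (hl : l ≠ 1) :
    classInner F (lf l) = (Nat.card T : ℂ)⁻¹ * (F 1 - z) := by
  classical
  have h1 : classInner (lf (1 : T →* ℂˣ)) (lf l) = 0 := by rw [inner_lf, if_neg hl.symm]
  have hT0 : (Nat.card T : ℂ) ≠ 0 := by exact_mod_cast Nat.card_pos.ne'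
  rw [classInner_def] at h1 ⊢
  have h2 : ∑ t : T, conj (lf l t) = 0 := by
    have h3 := (mul_eq_zero.1 h1).resolve_left (inv_ne_zero hT0)
    rw [← h3]
    refine Finset.sum_congr rfl fun t _ => ?_
    simp [lf]
  have h4 : ∀ t : T, F t * conj (lf l t) = (if t = 1 then F 1 - z else 0) + z * conj (lf l t) := by
    intro t
    by_cases ht : t = 1
    · subst ht
      rw [if_pos rfl, lf_one, map_one]; ring
    · rw [if_neg ht, hF t ht]; ring
  rw [Finset.sum_congr rfl fun t _ => h4 t, Finset.sum_add_distrib, ← Finset.mul_sum, h2, Finset.sum_ite_eq',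
    if_pos (Finset.mem_univ _), mul_zero, add_zero]

/-- **The sum of squares.** `T` abelian, self-centralizing at every nonidentity element, `w = |N(T) : T|`,
`w (w + 2) + 1 < |T|`: the squares of the constant values on `T - 1` of the irreducible characters that are constant
there add up to `w`, and the nonconstant ones form one family of at least `w + 3` characters which agree outside the
conjugates of `T - 1`. -/
theorem sum_sq [Finite G] [Fintype (IrrCharacter G)] (hab : ∀ a ∈ T, ∀ b ∈ T, a * b = b * a)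
    (hc : ∀ a ∈ T, a ≠ 1 → Subgroup.centralizer ({a} : Set G) ≤ T) {w : ℕ}
    (hw : T.relIndex (normalizer (T : Set G)) = w) (hk : w * (w + 2) + 1 < Nat.card T) :
    ∃ c : IrrCharacter G → ℤ,
      (∀ χ : IrrCharacter G, (∃ z : ℂ, ∀ t ∈ T, t ≠ 1 → (χ : G → ℂ) t = z) →
        ∀ t ∈ T, t ≠ 1 → (χ : G → ℂ) t = c χ) ∧
      (∀ χ : IrrCharacter G, (¬ ∃ z : ℂ, ∀ t ∈ T, t ≠ 1 → (χ : G → ℂ) t = z) → c χ = 0) ∧
      ∑ χ : IrrCharacter G, c χ ^ 2 = w ∧
      ∃ (n : ℕ) (M : Fin n → IrrCharacter G), Function.Injective M ∧ w + 3 ≤ n ∧ Nat.card T ≤ n * w + 1 ∧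
        (∀ χ : IrrCharacter G, (¬ ∃ z : ℂ, ∀ t ∈ T, t ≠ 1 → (χ : G → ℂ) t = z) ↔ ∃ i, χ = M i) ∧
        ∀ i j, ∀ g : G, (∀ x : G, ∀ t ∈ T, t ≠ 1 → g ≠ x * t * x⁻¹) → (M i : G → ℂ) g = (M j : G → ℂ) g := by
  classical
  have := Fintype.ofFinite G
  have : Fintype T := Fintype.ofFinite _
  have : Fintype (normalizer (T : Set G)) := Fintype.ofFinite _
  have : Finite (T →* ℂˣ) := finite_hom
  have : Fintype (T →* ℂˣ) := Fintype.ofFinite _
  have h := tor_one hab hc
  -- a nontrivial character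
  obtain ⟨t₀, ht₀⟩ : ∃ t : T, t ≠ 1 := by
    have : 1 < Nat.card T := by omega
    have h1 : Nontrivial T := Finite.one_lt_card_iff_nontrivial.1 this
    exact exists_ne 1
  obtain ⟨l₀, hl₀⟩ := exists_sep h ht₀
  have hl₀' : Nt T l₀ := ⟨t₀, t₀.2, hl₀⟩
  obtain ⟨n, rep, ε, μ, hε, hμ, hinj, hrep, hdis, hcov, hτ⟩ := exists_fam h hl₀'
  have hsame : ∀ l l' : T →* ℂˣ, SameE 1 l l' := fun l l' t ht => by
    rw [pow_one] at ht
    rw [ht, map_one, map_one]
  have hn1 : Nat.card T ≤ n * w + 1 := by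
    have h1 := card_fam_le h hcov
    have h2 := card_fam_ge h l₀
    rw [hw] at h1
    omega
  have hn : w + 3 ≤ n := by
    by_contra hcon
    have h1 : n * w ≤ (w + 2) * w := Nat.mul_le_mul_right _ (by omega)
    have h2 : (w + 2) * w = w * (w + 2) := mul_comm _ _
    omega
  have i₀ : Fin n := ⟨0, by omega⟩
  choose aN haN using fun (χ : IrrCharacter G) (l : T →* ℂˣ) => exists_mult (T := T) χ l
  have hg1 : ¬ Nt T (1 : T →* ℂˣ) := fun hn => nt_iff.1 hn rfl
  have hW : mv (1 : T →* ℂˣ) 1 = w * Nat.card T := by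
    have h1 : mv (1 : T →* ℂˣ) 1 = Nat.card (normalizer (T : Set G)) := by
      refine Nat.card_congr ⟨fun x => x.1, fun x => ⟨x, ?_⟩, fun x => rfl, fun x => rfl⟩
      ext t; simp
    have h2 : Nat.card (T.subgroupOf (normalizer (T : Set G))) = Nat.card T :=
      Nat.card_congr (Subgroup.subgroupOfEquivOfLe le_normalizer).toEquiv
    rw [h1, ← hw, ← h2]
    exact (Subgroup.index_mul_card (T.subgroupOf (normalizer (T : Set G)))).symm
  have hsum := sum_rule h hg1 hε hμ hinj (fun i => (hrep i).1) (fun i => hsame _ _) hdis hτ hW hn aN haN i₀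
  -- the nonexceptional characters have equal multiplicities
  have hinner : ∀ (χ : IrrCharacter G) (i j : Fin n), classInner (indFun T (lf (rep i) - lf (rep j))) (χ : G → ℂ) =
      (aN χ (rep i) : ℂ) - aN χ (rep j) := by
    intro χ i j
    rw [S0146.result T _ _ (isIrr_isClassFunction χ.2), classInner_sub_left, ← classInner_conj_symm, haN,
      ← classInner_conj_symm (fun t : T => (χ : G → ℂ) t), haN, Complex.conj_natCast, Complex.conj_natCast]
  have heq : ∀ χ : IrrCharacter G, (¬ ∃ i, (χ : G → ℂ) = μ i) → ∀ i j, aN χ (rep i) = aN χ (rep j) := by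
    intro χ hχ i j
    have h1 := hinner χ i j
    rw [hτ i j, classInner_smul_left, classInner_sub_left, classInner_irr_ne (hμ i) χ.2 fun h => hχ ⟨i, h.symm⟩,
      classInner_irr_ne (hμ j) χ.2 fun h => hχ ⟨j, h.symm⟩] at h1
    have h2 : (aN χ (rep i) : ℂ) = aN χ (rep j) := by linear_combination -h1
    exact_mod_cast h2
  have hcomp : ∀ (χ : IrrCharacter G) (l : T →* ℂˣ) (x : normalizer (T : Set G)), aN χ (l.comp (cj x)) = aN χ l := by
    intro χ l x
    have h1 : (aN χ (l.comp (cj x)) : ℂ) = aN χ l := by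
      rw [← haN, ← haN, classInner_def, classInner_def]
      congr 1
      refine Fintype.sum_bijective (cj x) ?_ _ _ fun t => ?_
      · refine ⟨fun a b hab' => ?_, fun a => ⟨cj x⁻¹ a, ?_⟩⟩
        · have h2 := congrArg (cj x⁻¹) hab'
          have h3 : ∀ b : T, cj x⁻¹ (cj x b) = b := fun b => by
            have := DFunLike.congr_fun (cj_mul x x⁻¹) b
            rw [mul_inv_cancel, cj_one] at this
            exact this.symm
          rwa [h3, h3] at h2
        · have := DFunLike.congr_fun (cj_mul x⁻¹ x) a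
          rw [inv_mul_cancel, cj_one] at this
          exact this.symm
      · have h2 : (χ : G → ℂ) (t : G) = (χ : G → ℂ) ((cj x t : T) : G) := by
          rw [cj_apply]
          have := isIrr_isClassFunction χ.2 (t : G) (x : G)⁻¹
          rw [inv_inv] at this
          exact this.symm
        show (χ : G → ℂ) t * conj (lf (l.comp (cj x)) t) = (χ : G → ℂ) ((cj x t : T) : G) * conj (lf l (cj x t))
        rw [← h2]; rfl
    exact_mod_cast h1
  have hall : ∀ χ : IrrCharacter G, (¬ ∃ i, (χ : G → ℂ) = μ i) → ∀ l, Nt T l → aN χ l = aN χ (rep i₀) := by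
    intro χ hχ l hl
    obtain ⟨i, x, rfl⟩ := hcov l ⟨hl, hsame _ _⟩
    rw [hcomp, heq χ hχ i i₀]
  have hval : ∀ χ : IrrCharacter G, (¬ ∃ i, (χ : G → ℂ) = μ i) → ∀ t ∈ T, t ≠ 1 →
      (χ : G → ℂ) t = (((aN χ 1 : ℤ) - aN χ (rep i₀) : ℤ) : ℂ) := by
    intro χ hχ t ht ht1
    have h1 := value h (F := fun t : T => (χ : G → ℂ) t) (sel := fun _ => rep i₀)
      (fun l l' hl hl' _ => by rw [haN, haN, hall χ hχ l hl, hall χ hχ l' hl'])
      (fun g _ => ⟨(hrep i₀).1, hsame _ _⟩) (t := ⟨t, ht⟩) (by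
        rw [pow_one]; exact fun h2 => ht1 (congrArg Subtype.val h2))
    have h2 : (χ : G → ℂ) t = _ := h1
    rw [h2, Finset.sum_eq_single (1 : T →* ℂˣ)]
    · rw [if_neg hg1, haN, haN]
      push_cast
      simp
    · intro g _ hg
      rw [if_pos (nt_iff.2 hg)]
    · intro h3; exact absurd (Finset.mem_univ _) h3
  have hnc : ∀ i, ¬ ∃ z : ℂ, ∀ t ∈ T, t ≠ 1 → μ i t = z := by
    rintro i ⟨z, hz⟩
    obtain ⟨j, hj⟩ : ∃ j : Fin n, j ≠ i := by
      have : Nontrivial (Fin n) := Fin.nontrivial_iff_two_le.2 (by omega)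
      exact exists_ne i
    have h1 := hinner ⟨μ i, hμ i⟩ i j
    rw [hτ i j, classInner_smul_left, classInner_sub_left] at h1
    have h2 : classInner (μ i) ((⟨μ i, hμ i⟩ : IrrCharacter G) : G → ℂ) = 1 := classInner_irr_self (hμ i)
    have h3 : classInner (μ j) ((⟨μ i, hμ i⟩ : IrrCharacter G) : G → ℂ) = 0 :=
      classInner_irr_ne (hμ j) (hμ i) fun h => hj (hinj h)
    rw [h2, h3, ← haN, ← haN] at h1
    have h4 : ∀ t : T, t ≠ 1 → (fun t : T => ((⟨μ i, hμ i⟩ : IrrCharacter G) : G → ℂ) t) t = z :=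
      fun t ht => hz t t.2 fun h => ht (Subtype.ext h)
    rw [inner_const h4 (nt_iff.1 (hrep i).1), inner_const h4 (nt_iff.1 (hrep j).1), sub_self] at h1
    rcases hε with h5 | h5 <;> rw [h5] at h1 <;> norm_num at h1
  refine ⟨fun χ => if ∃ i, (χ : G → ℂ) = μ i then 0 else (aN χ 1 : ℤ) - aN χ (rep i₀), ?_, ?_, ?_, n,
    fun i => ⟨μ i, hμ i⟩, fun i j hij => hinj (congrArg Subtype.val hij), hn, hn1, ?_, ?_⟩
  · rintro χ ⟨z, hz⟩ t ht ht1
    have hχ : ¬ ∃ i, (χ : G → ℂ) = μ i := by
      rintro ⟨i, hi⟩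
      exact hnc i ⟨z, fun t ht ht1 => by rw [← hi]; exact hz t ht ht1⟩
    beta_reduce
    rw [hval χ hχ t ht ht1, if_neg hχ]
  · intro χ hχ
    beta_reduce
    by_cases hχ' : ∃ i, (χ : G → ℂ) = μ i
    · rw [if_pos hχ']
    · exact absurd ⟨_, hval χ hχ'⟩ hχ
  · rw [← hsum]
    refine Finset.sum_congr rfl fun χ _ => ?_
    beta_reduce
    by_cases hχ : ∃ i, (χ : G → ℂ) = μ i
    · rw [if_pos hχ, if_pos hχ]; ring
    · rw [if_neg hχ, if_neg hχ]
  · intro χ
    constructor
    · intro hχ
      by_contra hcon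
      refine hχ ⟨_, hval χ ?_⟩
      rintro ⟨i, hi⟩
      exact hcon ⟨i, Subtype.ext hi⟩
    · rintro ⟨i, rfl⟩
      exact hnc i
  · intro i j g hg
    have h1 := congrFun (hτ i j) g
    have h2 : indFun T (lf (rep i) - lf (rep j)) g = 0 := by
      rw [indFun_apply]
      refine mul_eq_zero_of_right _ (Finset.sum_eq_zero fun x _ => ?_)
      by_cases hx : x⁻¹ * g * x ∈ T
      · have h3 : x⁻¹ * g * x = 1 := by
          by_contra h4
          exact hg x _ hx h4 (by group)
        rw [extendByZero_of_mem T _ hx]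
        have h4 : (⟨x⁻¹ * g * x, hx⟩ : T) = 1 := Subtype.ext h3
        rw [h4, Pi.sub_apply, lf_one, lf_one, sub_self]
      · exact extendByZero_of_notMem T _ hx
    rw [h2, Pi.smul_apply, Pi.sub_apply, smul_eq_mul] at h1
    have h5 : μ i g - μ j g = 0 := by
      rcases hε with h6 | h6 <;> rw [h6] at h1
      · linear_combination -h1
      · linear_combination h1
    exact sub_eq_zero.1 h5

end Cfsg.Agent.H221.TC
end

private theorem dce_faddff303e90 : _root_.True := by
  try have : _root_.True := by simp only [_root_.Cfsg.Agent.H221.TC.mv.eq_1]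
  try have : _root_.True := by simp only [_root_.Cfsg.Agent.H221.TC.lf.eq_1]
  exact _root_.True.intro
end

-- part: H221/TC/Cor
section
prune_inst 0x38198000000000000080000000000000c018000
set_option linter.all false
open scoped Cfsg.Agent.FastGrp

-- part: H221/TC/Three
section
/-!
# Exclusion of the value `±3` (helper221; S2464)
-/

set_option autoImplicit false
set_option linter.style.haveILetI false

open Cfsg Subgroup

namespace Cfsg.Agent.H221.TC

open Cfsg.Agent.Characters Cfsg.Agent.Characters.Core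

universe u

variable {G : Type u} [Group G]

/-- sums over a class, translated by an element commuting with `s`, modulo the order of `s` -/
theorem class_sum_mod [Fintype G] {χ : G → ℂ} (hχ : IsIrrCharacter G χ) {r : ℕ} (hr : r.Prime) {s e y : G}
    (hs : orderOf s = r) (hy : Commute s y) [DecidablePred (IsConj e)] [DecidablePred (Commute s)] :
    ∃ b : ℂ, IsIntegral ℤ b ∧ ∑ u with IsConj e u, χ (u * y) =
      ∑ u with (IsConj e u ∧ Commute s u), χ (u * y) + r * b := by
  classical
  letI : MulAction (zpowers s) G :=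
    MulAction.compHom G ((MulAut.conj : G →* MulAut G).comp (zpowers s).subtype)
  have hsm : ∀ (x : zpowers s) (u : G), x • u = x * u * (x : G)⁻¹ := fun x u => rfl
  have hcs : ∀ x ∈ zpowers s, ∀ z, Commute s z → Commute x z := by
    intro x hx z hz
    obtain ⟨k, rfl⟩ := mem_zpowers_iff.1 hx
    exact hz.zpow_left k
  have hcen : ∀ x ∈ zpowers s, ∀ u, Commute s (x * u * x⁻¹) ↔ Commute s u := by
    intro x hx u
    have hsx : Commute s x := (hcs x hx s (Commute.refl s)).symm
    constructor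
    · intro h
      have h1 := (hsx.inv_right.mul_right h).mul_right hsx
      have h2 : x⁻¹ * (x * u * x⁻¹) * x = u := by group
      rwa [h2] at h1
    · intro h
      exact (hsx.mul_right h).mul_right hsx.inv_right
  have hconj : ∀ x u : G, IsConj e (x * u * x⁻¹) ↔ IsConj e u := by
    intro x u
    have h1 : IsConj u (x * u * x⁻¹) := isConj_iff.2 ⟨x, rfl⟩
    exact ⟨fun h => h.trans h1.symm, fun h => h.trans h1⟩
  obtain ⟨b, hb, hsum⟩ := DefectZero.sum_eq_of_dvd_orbit (H := zpowers s) (X := G)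
    (integralClosure ℤ ℂ).toSubring r
    (fun u => if IsConj e u ∧ ¬ Commute s u then χ (u * y) else 0)
    (by
      intro x u
      simp only [hsm]
      have h1 : χ ((x : G) * u * (x : G)⁻¹ * y) = χ (u * y) := by
        have h2 : (x : G) * u * (x : G)⁻¹ * y = (x : G) * (u * y) * (x : G)⁻¹ := by
          have h3 := (hcs x x.2 y hy).inv_left
          rw [mul_assoc, h3.eq]; group
        rw [h2]
        exact isIrr_isClassFunction hχ _ _
      rw [h1]
      exact if_congr (and_congr (hconj _ u) (not_congr (hcen x x.2 u))) rfl rfl)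
    (by
      intro u
      by_cases h : IsConj e u ∧ ¬ Commute s u
      · simp only [if_pos h]
        exact GaloisBasic.isIntegral_apply (isIrr_isCharacter hχ) _
      · simp only [if_neg h]
        exact Subring.zero_mem _)
    (by
      intro u hu
      have h : IsConj e u ∧ ¬ Commute s u := by
        by_contra h
        exact hu (if_neg h)
      have h1 : Nat.card (MulAction.orbit (zpowers s) u) ∣ r := by
        have h2 := MulAction.card_orbit_mul_card_stabilizer_eq_card_group (zpowers s) u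
        rw [← Nat.card_eq_fintype_card, ← Nat.card_eq_fintype_card, ← Nat.card_eq_fintype_card, Nat.card_zpowers, hs] at h2
        exact Dvd.intro _ h2
      rcases (Nat.dvd_prime hr).1 h1 with h2 | h2
      · exfalso
        apply h.2
        have h3 := (Nat.card_eq_one_iff_unique.1 h2).1
        have h4 := h3.elim ⟨(⟨s, mem_zpowers s⟩ : zpowers s) • u, MulAction.mem_orbit u _⟩
          ⟨u, MulAction.mem_orbit_self u⟩
        have h5 : s * u * s⁻¹ = u := congrArg Subtype.val h4
        rw [mul_inv_eq_iff_eq_mul] at h5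
        exact h5
      · rw [h2])
  refine ⟨b, hb, ?_⟩
  rw [← hsum, Finset.sum_filter, Finset.sum_filter, ← Finset.sum_add_distrib]
  refine Finset.sum_congr rfl fun u _ => ?_
  by_cases h1 : IsConj e u
  · by_cases h2 : Commute s u
    · rw [if_pos h1, if_pos ⟨h1, h2⟩, if_neg (fun h => h.2 h2), add_zero]
    · rw [if_pos h1, if_neg (fun h => h2 h.2), if_pos ⟨h1, h2⟩, zero_add]
  · rw [if_neg h1, if_neg (fun h => h1 h.1), if_neg (fun h => h1 h.1), add_zero]

/-- **Exclusion of `±3`.** -/
theorem not_three [Finite G] {χ : G → ℂ} (hχ : IsIrrCharacter G χ) {r : ℕ} (hr : r.Prime) (hr3 : r ≠ 3) {s e : G}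
    (hs : orderOf s = r) (he : orderOf e = 3) (hse : Commute s e)
    (hK : ∀ k, IsConj e k → Commute s k → k = e ∨ k = e⁻¹) (hinv : IsConj e e⁻¹) {c : ℤ} (hc : c = 3 ∨ c = -3)
    (h1 : χ s = c) (h2 : χ (s * e) = 0) (h3 : χ (s * e⁻¹) = 0) : False := by
  classical
  have := Fintype.ofFinite G
  obtain ⟨b, hb, hsum⟩ := class_sum_mod hχ hr (e := e) (y := s * e) hs ((Commute.refl s).mul_right hse)
  rw [ClassMul.sum_class_char_mul hχ e (s * e), h2, mul_zero, zero_div] at hsum
  have hne : e ≠ e⁻¹ := by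
    intro h
    have h4 : e ^ 2 = 1 := by rw [pow_two]; nth_rewrite 2 [h]; rw [mul_inv_cancel]
    have h5 := orderOf_dvd_of_pow_eq_one h4
    rw [he] at h5
    omega
  have hset : Finset.univ.filter (fun u : G => IsConj e u ∧ Commute s u) = {e, e⁻¹} := by
    ext u
    rw [Finset.mem_filter, Finset.mem_insert, Finset.mem_singleton]
    constructor
    · rintro ⟨-, h4, h5⟩
      exact hK u h4 h5
    · rintro (rfl | rfl)
      · exact ⟨Finset.mem_univ _, IsConj.refl _, hse⟩
      · exact ⟨Finset.mem_univ _, hinv, hse.inv_right⟩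
  rw [hset, Finset.sum_pair hne] at hsum
  have h4 : e * (s * e) = s * e⁻¹ := by
    have h5 : e * e = e⁻¹ := by
      rw [eq_inv_iff_mul_eq_one, ← pow_three']
      rw [← he]; exact pow_orderOf_eq_one e
    rw [← mul_assoc, ← hse.eq, mul_assoc, h5]
  have h5 : e⁻¹ * (s * e) = s := by
    rw [hse.eq]; group
  rw [h4, h5, h3, h1, zero_add] at hsum
  -- `r b = -c`
  have h6 : (r : ℂ) * b = ((-c : ℤ) : ℂ) := by
    push_cast
    linear_combination -hsum
  have hr0 : (r : ℂ) ≠ 0 := by exact_mod_cast hr.ne_zero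
  have h7 : b = ((-c : ℤ) : ℂ) / (r : ℂ) := by
    rw [eq_div_iff hr0, mul_comm]; exact h6
  have h8 : ∃ z : ℤ, b = z := by
    have h9 : b = algebraMap ℚ ℂ ((-c : ℤ) / (r : ℚ)) := by
      rw [h7, map_div₀]; simp
    rw [h9] at hb ⊢
    have h10 : IsIntegral ℤ ((-c : ℤ) / (r : ℚ) : ℚ) := (isIntegral_algebraMap_iff (algebraMap ℚ ℂ).injective).1 hb
    obtain ⟨z, hz⟩ := IsIntegrallyClosed.isIntegral_iff.1 h10
    exact ⟨z, by rw [← hz]; simp⟩
  obtain ⟨z, hz⟩ := h8
  have h9 : (r : ℤ) * z = -c := by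
    rw [hz] at h6
    exact_mod_cast h6
  have h10 : (r : ℤ) ∣ 3 := by
    rcases hc with rfl | rfl
    · exact ⟨-z, by linarith⟩
    · exact ⟨z, by linarith⟩
  have h11 : r ∣ 3 := by exact_mod_cast h10
  exact hr3 ((Nat.prime_dvd_prime_iff_eq hr Nat.prime_three).1 h11)

end Cfsg.Agent.H221.TC
end

-- part: H221/TC/Cor
section
/-!
# Clean tori: the number of characters with a nonzero constant value (helper221; S2464)
-/

set_option autoImplicit false

open Cfsg Subgroup

namespace Cfsg.Agent.H221.TC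

open Cfsg.Agent.Characters.Core

universe u

variable {G : Type u} [Group G] {T : Subgroup G}

/-- a finset of irreducible characters with nonzero constant values on `T - 1`: the squares add up to at most `w` -/
theorem sum_le [Finite G] (hab : ∀ a ∈ T, ∀ b ∈ T, a * b = b * a)
    (hc : ∀ a ∈ T, a ≠ 1 → Subgroup.centralizer ({a} : Set G) ≤ T) {w : ℕ}
    (hw : T.relIndex (normalizer (T : Set G)) = w) (hk : w * (w + 2) + 1 < Nat.card T)
    (S : Finset (IrrCharacter G)) (d : IrrCharacter G → ℤ)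
    (hS : ∀ χ ∈ S, ∀ t ∈ T, t ≠ 1 → (χ : G → ℂ) t = d χ) : ∑ χ ∈ S, d χ ^ 2 ≤ w := by
  classical
  have : Finite (IrrCharacter G) := finite_irr
  have := Fintype.ofFinite (IrrCharacter G)
  obtain ⟨c, h1, h2, h3, -⟩ := sum_sq hab hc hw hk
  obtain ⟨t, ht, ht1⟩ : ∃ t ∈ T, t ≠ 1 := by
    have h4 : 1 < Nat.card T := by omega
    have h5 : Nontrivial T := Finite.one_lt_card_iff_nontrivial.1 h4
    obtain ⟨t, ht⟩ := exists_ne (1 : T)
    exact ⟨t, t.2, fun h => ht (Subtype.ext h)⟩
  have h4 : ∀ χ ∈ S, d χ = c χ := by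
    intro χ hχ
    have h5 := h1 χ ⟨d χ, hS χ hχ⟩ t ht ht1
    rw [hS χ hχ t ht ht1] at h5
    exact_mod_cast h5
  calc ∑ χ ∈ S, d χ ^ 2 = ∑ χ ∈ S, c χ ^ 2 := Finset.sum_congr rfl fun χ hχ => by rw [h4 χ hχ]
    _ ≤ ∑ χ, c χ ^ 2 := Finset.sum_le_sum_of_subset_of_nonneg (Finset.subset_univ _) fun _ _ _ => sq_nonneg _
    _ = w := h3

/-- there are at most `w` irreducible characters with a nonzero constant integer value on `T - 1` -/
theorem card_le [Finite G] (hab : ∀ a ∈ T, ∀ b ∈ T, a * b = b * a)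
    (hc : ∀ a ∈ T, a ≠ 1 → Subgroup.centralizer ({a} : Set G) ≤ T) {w : ℕ}
    (hw : T.relIndex (normalizer (T : Set G)) = w) (hk : w * (w + 2) + 1 < Nat.card T)
    (S : Finset (IrrCharacter G))
    (hS : ∀ χ ∈ S, ∃ c : ℤ, c ≠ 0 ∧ ∀ t ∈ T, t ≠ 1 → (χ : G → ℂ) t = c) : S.card ≤ w := by
  classical
  choose! d hd0 hd using hS
  have h1 := sum_le hab hc hw hk S d hd
  have h2 : (S.card : ℤ) ≤ ∑ χ ∈ S, d χ ^ 2 := by
    rw [Finset.card_eq_sum_ones]
    push_cast
    refine Finset.sum_le_sum fun χ hχ => ?_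
    have h3 := hd0 χ hχ
    have : 0 < d χ ^ 2 := by positivity
    omega
  exact_mod_cast h2.trans h1

/-- values on a torus: degree congruence -/
theorem deg_mod [Finite G] {A : Subgroup G} {χ : G → ℂ} (hχ : IsCharacter G χ) {c d : ℤ}
    (h : ∀ a ∈ A, a ≠ 1 → χ a = c) (hd : χ 1 = d) : (Nat.card A : ℤ) ∣ d - c := by
  classical
  have := Fintype.ofFinite A
  obtain ⟨a, ha⟩ := classInner_isNat (isCharacter_comp A.subtype hχ) (isCharacter_one (G := A))
  have hA0 : (Nat.card A : ℂ) ≠ 0 := by exact_mod_cast Nat.card_pos.ne'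
  rw [classInner_def] at ha
  have h1 : ∑ s : A, (fun x => χ (A.subtype x)) s * (starRingEnd ℂ) ((1 : A → ℂ) s) = d - c + (Nat.card A : ℂ) * c := by
    have h2 : ∀ s : A, (fun x => χ (A.subtype x)) s * (starRingEnd ℂ) ((1 : A → ℂ) s) =
        (if s = 1 then (d : ℂ) - c else 0) + c := by
      intro s
      by_cases hs : s = 1
      · subst hs
        simp [hd]
      · rw [if_neg hs, zero_add]
        have := h s s.2 fun h3 => hs (Subtype.ext h3)
        simp [this]
    rw [Finset.sum_congr rfl fun s _ => h2 s, Finset.sum_add_distrib, Finset.sum_ite_eq', if_pos (Finset.mem_univ _),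
      Finset.sum_const, Finset.card_univ, nsmul_eq_mul, Nat.card_eq_fintype_card]
  have h3 : (d : ℂ) - c = (Nat.card A : ℂ) * (a - c) := by
    have h4 : (Nat.card A : ℂ)⁻¹ * (d - c + (Nat.card A : ℂ) * c) = a := by
      rw [← h1]; exact ha
    field_simp at h4
    linear_combination h4
  refine ⟨(a : ℤ) - c, ?_⟩
  exact_mod_cast h3

end Cfsg.Agent.H221.TC
end
end

-- part: H4/TCG/Val
section
prune_inst 0x389900000000000000800000000000018008000
set_option linter.all false
open scoped Cfsg.Agent.FastGrp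

-- part: H4/TCG/Comb
section
/-!
# A counting inequality for integer functions on the classes of an equivalence relation (helper4; S2464, row G2(q))
-/

set_option autoImplicit false

namespace Cfsg.Agent.H4.TCG

variable {X : Type*} [Fintype X] [DecidableEq X] {r : X → X → Prop} [DecidableRel r]

/-- the number of elements of the class of `a` with another value -/
def dd (r : X → X → Prop) [DecidableRel r] (f : X → ℤ) (a : X) : ℕ :=
  (Finset.univ.filter fun b => r a b ∧ f a ≠ f b).card

/-- the quadratic form -/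
def QQ (r : X → X → Prop) [DecidableRel r] (f : X → ℤ) : ℤ :=
  ∑ a : X, ∑ b : X, if r a b then (f a - f b) ^ 2 else 0

/-- the indicator -/
def rho (r : X → X → Prop) [DecidableRel r] (f : X → ℤ) (a b : X) : ℤ := if r a b ∧ f a ≠ f b then 1 else 0

theorem rho_nonneg (f : X → ℤ) (a b : X) : 0 ≤ rho r f a b := by
  unfold rho; split_ifs <;> norm_num

theorem rho_le_one (f : X → ℤ) (a b : X) : rho r f a b ≤ 1 := by
  unfold rho; split_ifs <;> norm_num

theorem rho_symm (hs : ∀ a b, r a b → r b a) (f : X → ℤ) (a b : X) : rho r f a b = rho r f b a := by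
  unfold rho
  have : (r a b ∧ f a ≠ f b) ↔ (r b a ∧ f b ≠ f a) :=
    ⟨fun h => ⟨hs _ _ h.1, h.2.symm⟩, fun h => ⟨hs _ _ h.1, h.2.symm⟩⟩
  simp only [this]

theorem sum_rho (f : X → ℤ) (a : X) : ∑ b : X, rho r f a b = (dd r f a : ℤ) := by
  unfold rho dd
  rw [Finset.card_filter]
  push_cast
  rfl

theorem rho_le_sq (f : X → ℤ) (a b : X) : rho r f a b ≤ if r a b then (f a - f b) ^ 2 else 0 := by
  unfold rho
  by_cases h : r a b
  · by_cases h2 : f a = f b
    · simp [h2]
    · have h3 : f a - f b ≠ 0 := sub_ne_zero.2 h2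
      have h4 : 1 ≤ (f a - f b) ^ 2 := by
        have := sq_nonneg (f a - f b)
        have h5 : (f a - f b) ^ 2 ≠ 0 := pow_ne_zero 2 h3
        omega
      simp [h, h2, h4]
  · simp [h]

theorem sum_rho_le (f : X → ℤ) : ∑ a : X, ∑ b : X, rho r f a b ≤ QQ r f :=
  Finset.sum_le_sum fun a _ => Finset.sum_le_sum fun b _ => rho_le_sq f a b

/-- the general inequality for a set `S` -/
theorem QQ_ge_set (hs : ∀ a b, r a b → r b a) (f : X → ℤ) (S : Finset X) :
    2 * ∑ a ∈ S, (dd r f a : ℤ) - ∑ a ∈ S, ∑ b ∈ S, rho r f a b ≤ QQ r f := by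
  refine le_trans ?_ (sum_rho_le f)
  have h1 : ∑ a : X, ∑ b : X, rho r f a b = ∑ a ∈ S, ∑ b : X, rho r f a b + ∑ a ∈ Sᶜ, ∑ b : X, rho r f a b :=
    (Finset.sum_add_sum_compl S _).symm
  have h2 : ∑ a ∈ Sᶜ, ∑ b ∈ S, rho r f a b ≤ ∑ a ∈ Sᶜ, ∑ b : X, rho r f a b := by
    refine Finset.sum_le_sum fun a _ => ?_
    exact Finset.sum_le_sum_of_subset_of_nonneg (Finset.subset_univ _) fun b _ _ => rho_nonneg f a b
  have h3 : ∑ a ∈ S, ∑ b ∈ S, rho r f a b + ∑ a ∈ Sᶜ, ∑ b ∈ S, rho r f a b = ∑ a : X, ∑ b ∈ S, rho r f a b :=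
    Finset.sum_add_sum_compl S _
  have h4 : ∑ a : X, ∑ b ∈ S, rho r f a b = ∑ b ∈ S, (dd r f b : ℤ) := by
    rw [Finset.sum_comm]
    refine Finset.sum_congr rfl fun b _ => ?_
    rw [← sum_rho]
    exact Finset.sum_congr rfl fun a _ => rho_symm hs f a b
  have h5 : ∑ a ∈ S, ∑ b : X, rho r f a b = ∑ a ∈ S, (dd r f a : ℤ) := Finset.sum_congr rfl fun a _ => sum_rho f a
  rw [h1, h5]
  linarith

/-- **two sets of size `w` with two different values** -/
theorem QQ_ge (hs : ∀ a b, r a b → r b a) (f : X → ℤ) {S₁ S₂ : Finset X} {w k d₁ d₂ : ℕ} {u v : ℤ}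
    (h₁ : S₁.card = w) (h₂ : S₂.card = w) (hu : ∀ a ∈ S₁, f a = u) (hv : ∀ a ∈ S₂, f a = v) (huv : u ≠ v)
    (hd₁ : ∀ a ∈ S₁, d₁ ≤ dd r f a) (hd₂ : ∀ a ∈ S₂, d₂ ≤ dd r f a) (hk : k ≤ d₁ + d₂) :
    (2 * w * k : ℤ) - 2 * w ^ 2 ≤ QQ r f := by
  have hdis : Disjoint S₁ S₂ := by
    rw [Finset.disjoint_left]
    intro a ha hb
    exact huv ((hu a ha).symm.trans (hv a hb))
  refine le_trans ?_ (QQ_ge_set hs f (S₁ ∪ S₂))
  have h3 : (w * k : ℤ) ≤ ∑ a ∈ S₁ ∪ S₂, (dd r f a : ℤ) := by
    rw [Finset.sum_union hdis]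
    have e1 : (w : ℤ) * d₁ ≤ ∑ a ∈ S₁, (dd r f a : ℤ) := by
      have := Finset.card_nsmul_le_sum S₁ (fun a => (dd r f a : ℤ)) (d₁ : ℤ) fun a ha => by exact_mod_cast hd₁ a ha
      rw [h₁, nsmul_eq_mul] at this
      exact this
    have e2 : (w : ℤ) * d₂ ≤ ∑ a ∈ S₂, (dd r f a : ℤ) := by
      have := Finset.card_nsmul_le_sum S₂ (fun a => (dd r f a : ℤ)) (d₂ : ℤ) fun a ha => by exact_mod_cast hd₂ a ha
      rw [h₂, nsmul_eq_mul] at this
      exact this
    have e3 : (w * k : ℤ) ≤ w * d₁ + w * d₂ := by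
      rw [← mul_add]
      exact mul_le_mul_of_nonneg_left (by exact_mod_cast hk) (Int.natCast_nonneg _)
    linarith only [e1, e2, e3]
  have h4 : ∑ a ∈ S₁ ∪ S₂, ∑ b ∈ S₁ ∪ S₂, rho r f a b ≤ 2 * (w : ℤ) ^ 2 := by
    rw [Finset.sum_union hdis]
    have z : ∀ (U : Finset X) (c : ℤ), (∀ a ∈ U, f a = c) → ∀ a ∈ U, ∀ b ∈ U, rho r f a b = 0 := by
      intro U c hU a ha b hb
      unfold rho
      rw [if_neg]
      rintro ⟨-, h⟩
      exact h ((hU a ha).trans (hU b hb).symm)
    have e1 : ∑ a ∈ S₁, ∑ b ∈ S₁ ∪ S₂, rho r f a b ≤ (w : ℤ) ^ 2 := by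
      have : ∀ a ∈ S₁, ∑ b ∈ S₁ ∪ S₂, rho r f a b ≤ (w : ℤ) := by
        intro a ha
        rw [Finset.sum_union hdis, Finset.sum_eq_zero (z S₁ u hu a ha), zero_add]
        refine le_trans (Finset.sum_le_sum fun b _ => rho_le_one f a b) ?_
        simp [h₂]
      refine le_trans (Finset.sum_le_sum this) ?_
      simp [h₁, sq]
    have e2 : ∑ a ∈ S₂, ∑ b ∈ S₁ ∪ S₂, rho r f a b ≤ (w : ℤ) ^ 2 := by
      have : ∀ a ∈ S₂, ∑ b ∈ S₁ ∪ S₂, rho r f a b ≤ (w : ℤ) := by
        intro a ha
        rw [Finset.sum_union hdis, Finset.sum_eq_zero (z S₂ v hv a ha), add_zero]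
        refine le_trans (Finset.sum_le_sum fun b _ => rho_le_one f a b) ?_
        simp [h₁]
      refine le_trans (Finset.sum_le_sum this) ?_
      simp [h₂, sq]
    linarith only [e1, e2]
  linarith only [h3, h4]

/-- two related elements with different values: the numbers `dd` add up to at least the size of the class -/
theorem dd_add (hs : ∀ a b, r a b → r b a) (ht : ∀ a b c, r a b → r b c → r a c) (f : X → ℤ) {a a' : X} {k : ℕ}
    (hk : k ≤ (Finset.univ.filter fun b => r a b).card) (haa : r a a') (hf : f a ≠ f a') :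
    k ≤ dd r f a + dd r f a' := by
  refine hk.trans ?_
  unfold dd
  refine le_trans (Finset.card_le_card ?_) (Finset.card_union_le _ _)
  intro b hb
  have hb' := (Finset.mem_filter.1 hb).2
  rw [Finset.mem_union, Finset.mem_filter, Finset.mem_filter]
  by_cases h : f a = f b
  · right
    exact ⟨Finset.mem_univ _, ht _ _ _ (hs _ _ haa) hb', fun h2 => hf (h.trans h2.symm)⟩
  · left
    exact ⟨Finset.mem_univ _, hb', h⟩

/-- one pair with different values -/
theorem QQ_ge_two (hs : ∀ a b, r a b → r b a) (ht : ∀ a b c, r a b → r b c → r a c) (f : X → ℤ) {a a' : X} {k : ℕ}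
    (hk : k ≤ (Finset.univ.filter fun b => r a b).card) (haa : r a a') (hf : f a ≠ f a') :
    2 * (k : ℤ) - 2 ≤ QQ r f := by
  have := QQ_ge (S₁ := {a}) (S₂ := {a'}) (w := 1) (k := k) (d₁ := dd r f a) (d₂ := dd r f a') (u := f a) (v := f a')
    hs f (by simp) (by simp) (by simp) (by simp) hf (by simp) (by simp) (dd_add hs ht f hk haa hf)
  push_cast at this
  linarith

/-- a form different from `0` has a pair with different values -/
theorem exists_pair (f : X → ℤ) (h : QQ r f ≠ 0) : ∃ a b, r a b ∧ f a ≠ f b := by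
  by_contra hc
  push Not at hc
  apply h
  unfold QQ
  refine Finset.sum_eq_zero fun a _ => Finset.sum_eq_zero fun b _ => ?_
  by_cases hab : r a b
  · rw [if_pos hab, hc a b hab, sub_self]; norm_num
  · rw [if_neg hab]

end Cfsg.Agent.H4.TCG
end

-- part: H4/TCG/Ti
section
/-!
# The norm of a character on the support of two tori (helper4; S2464, row G2(q))
-/

set_option autoImplicit false
set_option linter.unusedSectionVars false

open Cfsg Subgroup
open scoped ComplexConjugate

namespace Cfsg.Agent.H4.TCG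

open Cfsg.Agent.Characters.Core Cfsg.Agent.H221.TC

universe u

variable {G : Type u} [Group G]

/-- the support: the elements of `T` whose `m`-th power is not `1` -/
noncomputable def supp [Fintype G] (T : Subgroup G) (m : ℕ) : Finset G := by
  classical exact Finset.univ.filter fun s => s ∈ T ∧ s ^ m ≠ 1

theorem mem_supp [Fintype G] {T : Subgroup G} {m : ℕ} {s : G} : s ∈ supp T m ↔ s ∈ T ∧ s ^ m ≠ 1 := by
  classical
  unfold supp
  rw [Finset.mem_filter]
  exact ⟨fun h => h.2, fun h => ⟨Finset.mem_univ _, h⟩⟩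

/-- the conjugates of the support -/
noncomputable def csupp [Fintype G] (T : Subgroup G) (m : ℕ) : Finset G := by
  classical exact Finset.univ.filter fun g => ∃ x, x⁻¹ * g * x ∈ supp T m

theorem mem_csupp [Fintype G] {T : Subgroup G} {m : ℕ} {g : G} : g ∈ csupp T m ↔ ∃ x, x⁻¹ * g * x ∈ supp T m := by
  classical
  unfold csupp
  rw [Finset.mem_filter]
  exact ⟨fun h => h.2, fun h => ⟨Finset.mem_univ _, h⟩⟩

variable {A T A' T' : Subgroup G} {m m' : ℕ}

/-- **trivial intersections** -/
theorem ti_sum [Fintype G] (h : Tor A T m) {φ : G → ℝ} (h0 : ∀ g, 0 ≤ φ g) (hφ : ∀ x g, φ (x⁻¹ * g * x) = φ g) :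
    (Nat.card G : ℝ) * ∑ s ∈ supp T m, φ s ≤
      Nat.card (normalizer (T : Set G)) * ∑ g ∈ csupp T m, φ g := by
  classical
  have h1 : (Nat.card G : ℝ) * ∑ s ∈ supp T m, φ s = ∑ x : G, ∑ g : G, if x⁻¹ * g * x ∈ supp T m then φ g else 0 := by
    have h2 : ∀ x : G, ∑ g : G, (if x⁻¹ * g * x ∈ supp T m then φ g else 0) = ∑ s ∈ supp T m, φ s := by
      intro x
      rw [← Finset.sum_filter]
      refine Finset.sum_bij' (fun g _ => x⁻¹ * g * x) (fun s _ => x * s * x⁻¹) ?_ ?_ ?_ ?_ ?_
      · intro g hg; exact (Finset.mem_filter.1 hg).2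
      · intro s hs
        refine Finset.mem_filter.2 ⟨Finset.mem_univ _, ?_⟩
        have : x⁻¹ * (x * s * x⁻¹) * x = s := by group
        rwa [this]
      · intro g _; group
      · intro s _; group
      · intro g _; exact (hφ x g).symm
    rw [Finset.sum_congr rfl fun x _ => h2 x, Finset.sum_const, Finset.card_univ, ← Nat.card_eq_fintype_card,
      nsmul_eq_mul]
  rw [h1, Finset.sum_comm, Finset.mul_sum]
  have h3 : ∀ g : G, ∑ x : G, (if x⁻¹ * g * x ∈ supp T m then φ g else 0) =
      ((Finset.univ.filter fun x => x⁻¹ * g * x ∈ supp T m).card : ℝ) * φ g := by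
    intro g
    rw [← Finset.sum_filter, Finset.sum_const, nsmul_eq_mul]
  rw [Finset.sum_congr rfl fun g _ => h3 g]
  have h4 : ∑ g ∈ csupp T m, ((Finset.univ.filter fun x => x⁻¹ * g * x ∈ supp T m).card : ℝ) * φ g =
      ∑ g : G, ((Finset.univ.filter fun x => x⁻¹ * g * x ∈ supp T m).card : ℝ) * φ g := by
    refine Finset.sum_subset (Finset.subset_univ _) fun g _ hg => ?_
    have h5 : (Finset.univ.filter fun x => x⁻¹ * g * x ∈ supp T m) = ∅ := by
      rw [Finset.filter_eq_empty_iff]
      intro x _ hx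
      exact hg (mem_csupp.2 ⟨x, hx⟩)
    rw [h5]; simp
  rw [← h4]
  refine Finset.sum_le_sum fun g hg => mul_le_mul_of_nonneg_right ?_ (h0 g)
  obtain ⟨x₀, hx₀⟩ := mem_csupp.1 hg
  obtain ⟨h6, h7⟩ := mem_supp.1 hx₀
  -- the map `x ↦ x₀⁻¹ x` into the normalizer
  have h8 : (Finset.univ.filter fun x => x⁻¹ * g * x ∈ supp T m).card ≤ Nat.card (normalizer (T : Set G)) := by
    have h9 : (Finset.univ.filter fun x : G => x ∈ normalizer (T : Set G)).card = Nat.card (normalizer (T : Set G)) := by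
      rw [Nat.card_eq_fintype_card, Fintype.card_subtype]
    rw [← h9]
    refine Finset.card_le_card_of_injOn (fun x => x₀⁻¹ * x) ?_ ?_
    · intro x hx
      have hx' := (mem_supp.1 (Finset.mem_filter.1 (Finset.mem_coe.1 hx)).2).1
      refine Finset.mem_coe.2 (Finset.mem_filter.2 ⟨Finset.mem_univ _, ?_⟩)
      refine h.ti h6 h7 ?_
      have : (x₀⁻¹ * x)⁻¹ * (x₀⁻¹ * g * x₀) * (x₀⁻¹ * x) = x⁻¹ * g * x := by group
      rwa [this]
    · intro x _ y _ hxy
      exact mul_left_cancel hxy
  exact_mod_cast h8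

/-- the centralizer of an element of the support -/
theorem cent_supp [Fintype G] (h : Tor A T m) {s : G} (hs : s ∈ supp T m) : centralizer ({s} : Set G) = T := by
  obtain ⟨h1, h2⟩ := mem_supp.1 hs
  apply le_antisymm
  · intro x hx
    rw [mem_centralizer_singleton_iff] at hx
    exact h.cent' h1 h2 hx
  · intro x hx
    rw [mem_centralizer_singleton_iff]
    exact h.comm x hx s h1

/-- the supports of tori of different orders do not meet -/
theorem disjoint_csupp [Fintype G] (h : Tor A T m) (h' : Tor A' T' m') (hne : Nat.card T ≠ Nat.card T') :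
    Disjoint (csupp T m) (csupp T' m') := by
  rw [Finset.disjoint_left]
  intro g hg hg'
  obtain ⟨x, hx⟩ := mem_csupp.1 hg
  obtain ⟨y, hy⟩ := mem_csupp.1 hg'
  apply hne
  have key : ∀ {B U : Subgroup G} {k : ℕ} (_ : Tor B U k) {z : G}, z⁻¹ * g * z ∈ supp U k →
      Nat.card U = Nat.card (centralizer ({g} : Set G)) := by
    intro B U k hU z hz
    rw [← cent_supp hU hz]
    refine Nat.card_congr ⟨fun w => ⟨z * w * z⁻¹, ?_⟩, fun w => ⟨z⁻¹ * w * z, ?_⟩, ?_, ?_⟩
    · have hw := w.2
      rw [mem_centralizer_singleton_iff] at hw ⊢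
      calc z * w * z⁻¹ * g = z * (w * (z⁻¹ * g * z)) * z⁻¹ := by group
        _ = z * ((z⁻¹ * g * z) * w) * z⁻¹ := by rw [hw]
        _ = _ := by group
    · have hw := w.2
      rw [mem_centralizer_singleton_iff] at hw ⊢
      calc z⁻¹ * w * z * (z⁻¹ * g * z) = z⁻¹ * (w * g) * z := by group
        _ = z⁻¹ * (g * w) * z := by rw [hw]
        _ = _ := by group
    · intro w; ext; simp [mul_assoc]
    · intro w; ext; simp [mul_assoc]
  rw [key h hx, key h' hy]

theorem one_notMem_csupp [Fintype G] : (1 : G) ∉ csupp T m := by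
  intro h
  obtain ⟨x, hx⟩ := mem_csupp.1 h
  have := (mem_supp.1 hx).2
  simp at this

/-- the norm of an irreducible character -/
theorem sum_norm [Fintype G] {χ : G → ℂ} (hχ : IsIrrCharacter G χ) : ∑ g : G, ‖χ g‖ ^ 2 = (Nat.card G : ℝ) := by
  have h1 := classInner_irr_self hχ
  rw [classInner_def] at h1
  have h2 : (Nat.card G : ℂ) ≠ 0 := card_ne_zero_complex
  have h3 : ∑ g : G, χ g * conj (χ g) = (Nat.card G : ℂ) := by
    have := congrArg ((Nat.card G : ℂ) * ·) h1
    simpa [← mul_assoc, mul_inv_cancel₀ h2] using this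
  have h4 : (((∑ g : G, ‖χ g‖ ^ 2 : ℝ)) : ℂ) = (Nat.card G : ℂ) := by
    rw [← h3]
    push_cast
    refine Finset.sum_congr rfl fun g _ => ?_
    rw [Complex.mul_conj, Complex.normSq_eq_norm_sq]
    push_cast; rfl
  exact_mod_cast h4

/-- **The joint inequality.** -/
theorem joint [Fintype G] (h : Tor A T m) (h' : Tor A' T' m') (hne : Nat.card T ≠ Nat.card T')
    {χ : G → ℂ} (hχ : IsIrrCharacter G χ) :
    (∑ s ∈ supp T m, ‖χ s‖ ^ 2) / Nat.card (normalizer (T : Set G)) +
      (∑ s ∈ supp T' m', ‖χ s‖ ^ 2) / Nat.card (normalizer (T' : Set G)) < 1 := by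
  classical
  have hcf := isIrr_isClassFunction hχ
  rw [isClassFunction_def] at hcf
  have hφ : ∀ x g : G, ‖χ (x⁻¹ * g * x)‖ ^ 2 = ‖χ g‖ ^ 2 := by
    intro x g
    have := hcf g x⁻¹
    rw [inv_inv] at this
    rw [this]
  have h1 := ti_sum h (φ := fun g => ‖χ g‖ ^ 2) (fun g => sq_nonneg _) hφ
  have h2 := ti_sum h' (φ := fun g => ‖χ g‖ ^ 2) (fun g => sq_nonneg _) hφ
  have hG : (0 : ℝ) < Nat.card G := by exact_mod_cast Nat.card_pos
  have hN : (0 : ℝ) < Nat.card (normalizer (T : Set G)) := by exact_mod_cast Nat.card_pos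
  have hN' : (0 : ℝ) < Nat.card (normalizer (T' : Set G)) := by exact_mod_cast Nat.card_pos
  have h3 : ∑ g ∈ csupp T m, ‖χ g‖ ^ 2 + ∑ g ∈ csupp T' m', ‖χ g‖ ^ 2 < Nat.card G := by
    rw [← Finset.sum_union (disjoint_csupp h h' hne), ← sum_norm hχ]
    have h4 : csupp T m ∪ csupp T' m' ⊆ Finset.univ.erase (1 : G) := by
      intro g hg
      refine Finset.mem_erase.2 ⟨?_, Finset.mem_univ _⟩
      rintro rfl
      rcases Finset.mem_union.1 hg with h5 | h5
      · exact one_notMem_csupp h5
      · exact one_notMem_csupp h5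
    have h5 := Finset.sum_le_sum_of_subset_of_nonneg (f := fun g => ‖χ g‖ ^ 2) h4 fun g _ _ => sq_nonneg _
    have h6 := Finset.add_sum_erase Finset.univ (fun g => ‖χ g‖ ^ 2) (Finset.mem_univ (1 : G))
    have h7 : 0 < ‖χ 1‖ ^ 2 := by
      have := isIrr_apply_one_ne_zero hχ
      positivity
    linarith
  have e1 : (∑ s ∈ supp T m, ‖χ s‖ ^ 2) / Nat.card (normalizer (T : Set G)) ≤
      (∑ g ∈ csupp T m, ‖χ g‖ ^ 2) / Nat.card G := by
    rw [div_le_div_iff₀ hN hG]
    linarith
  have e2 : (∑ s ∈ supp T' m', ‖χ s‖ ^ 2) / Nat.card (normalizer (T' : Set G)) ≤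
      (∑ g ∈ csupp T' m', ‖χ g‖ ^ 2) / Nat.card G := by
    rw [div_le_div_iff₀ hN' hG]
    linarith
  refine lt_of_le_of_lt (add_le_add e1 e2) ?_
  rw [← add_div, div_lt_one hG]
  exact h3

end Cfsg.Agent.H4.TCG
end

-- part: H4/TCG/Four
section
/-!
# The norm of a character on the support of a torus as a variance (helper4; S2464, row G2(q))
-/

set_option autoImplicit false
set_option linter.unusedSectionVars false

open Cfsg Subgroup
open scoped ComplexConjugate

namespace Cfsg.Agent.H4.TCG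

open Cfsg.Agent.Characters.Core Cfsg.Agent.H221.TC

universe u

variable {G : Type u} [Group G] {A T : Subgroup G} {m : ℕ}

theorem comm_T (h : Tor A T m) (a b : T) : a * b = b * a := Subtype.ext (h.comm _ a.2 _ b.2)

theorem sameE_iff {l l' : T →* ℂˣ} : SameE m l l' ↔ ∀ t : T, t ^ m = 1 → l t = l' t := Iff.rfl

theorem same_symm {l l' : T →* ℂˣ} (h : SameE m l l') : SameE m l' l := fun t ht => (h t ht).symm

theorem same_trans {l l' l'' : T →* ℂˣ} (h : SameE m l l') (h' : SameE m l' l'') : SameE m l l'' :=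
  fun t ht => (h t ht).trans (h' t ht)

section

variable [Fintype G] [Fintype T] [Fintype (T →* ℂˣ)]

open Classical in
/-- sums over the elements of order dividing `m` -/
theorem sum_E (h : Tor A T m) (l l' : T →* ℂˣ) :
    ∑ s ∈ Finset.univ.filter (fun s : T => s ^ m = 1), lf l s * conj (lf l' s) =
      if SameE m l l' then ((Finset.univ.filter (fun s : T => s ^ m = 1)).card : ℂ) else 0 := by
  have hcj : ∀ s : T, conj (lf l' s) = ((l' s⁻¹ : ℂˣ) : ℂ) := by
    intro s
    have := isCharacter_apply_inv (isIrr_isCharacter (isIrr_lf l')) s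
    rw [← this]; rfl
  by_cases hs : SameE m l l'
  · rw [if_pos hs]
    have h1 : ∀ s ∈ Finset.univ.filter (fun s : T => s ^ m = 1), lf l s * conj (lf l' s) = 1 := by
      intro s hsm
      rw [hcj s, lf_apply, hs s (Finset.mem_filter.1 hsm).2, ← Units.val_mul, ← map_mul, mul_inv_cancel, map_one,
        Units.val_one]
    rw [Finset.sum_congr rfl h1]
    simp only [_root_.Finset.sum_const, _root_.nsmul_eq_mul, _root_.mul_one]
  · rw [if_neg hs]
    rw [sameE_iff] at hs
    push Not at hs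
    obtain ⟨s₀, hs₀, hne⟩ := hs
    set β : ℂ := ((l s₀ : ℂˣ) : ℂ) * ((l' s₀⁻¹ : ℂˣ) : ℂ) with hβ
    have h2 : ∑ s ∈ Finset.univ.filter (fun s : T => s ^ m = 1), lf l s * conj (lf l' s) =
        ∑ s ∈ Finset.univ.filter (fun s : T => s ^ m = 1), lf l (s₀ * s) * conj (lf l' (s₀ * s)) := by
      symm
      refine Finset.sum_bij' (fun s _ => s₀ * s) (fun s _ => s₀⁻¹ * s) ?_ ?_ ?_ ?_ ?_
      · intro s hsm
        refine Finset.mem_filter.2 ⟨Finset.mem_univ _, ?_⟩
        have : Commute s₀ s := comm_T h _ _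
        rw [this.mul_pow, hs₀, (Finset.mem_filter.1 hsm).2, one_mul]
      · intro s hsm
        refine Finset.mem_filter.2 ⟨Finset.mem_univ _, ?_⟩
        have : Commute s₀⁻¹ s := comm_T h _ _
        rw [this.mul_pow, inv_pow, hs₀, (Finset.mem_filter.1 hsm).2, inv_one, one_mul]
      · intro s _; group
      · intro s _; group
      · intro s _; rfl
    have h3 : ∑ s ∈ Finset.univ.filter (fun s : T => s ^ m = 1), lf l (s₀ * s) * conj (lf l' (s₀ * s)) =
        β * ∑ s ∈ Finset.univ.filter (fun s : T => s ^ m = 1), lf l s * conj (lf l' s) := by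
      rw [Finset.mul_sum]
      refine Finset.sum_congr rfl fun s _ => ?_
      rw [hcj, hcj, lf_apply, lf_apply, mul_inv_rev, map_mul, map_mul, Units.val_mul, Units.val_mul, hβ]
      ring
    rw [h3] at h2
    have h4 : β ≠ 1 := by
      intro h5
      apply hne
      have h6 : l s₀ * l' s₀⁻¹ = 1 := Units.ext (by rw [Units.val_mul, Units.val_one]; exact h5)
      rw [map_inv] at h6
      exact mul_inv_eq_one.1 h6
    have h5 : (β - 1) * ∑ s ∈ Finset.univ.filter (fun s : T => s ^ m = 1), lf l s * conj (lf l' s) = 0 := by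
      linear_combination -h2
    exact (mul_eq_zero.1 h5).resolve_left (sub_ne_zero.2 h4)

theorem sum_T (h : Tor A T m) (l l' : T →* ℂˣ) [DecidableEq (T →* ℂˣ)] :
    ∑ s : T, lf l s * conj (lf l' s) = if l = l' then (Nat.card T : ℂ) else 0 := by
  have h1 := inner_lf l l'
  rw [classInner_def] at h1
  have hT0 : (Nat.card T : ℂ) ≠ 0 := by exact_mod_cast Nat.card_pos.ne'
  have h2 : ∑ s : T, lf l s * conj (lf l' s) =
      (Nat.card T : ℂ) * ((Nat.card T : ℂ)⁻¹ * ∑ s : T, lf l s * conj (lf l' s)) := by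
    rw [← mul_assoc, mul_inv_cancel₀ hT0, one_mul]
  rw [h2, h1]
  by_cases hl : l = l'
  · rw [if_pos hl, if_pos hl, mul_one]
  · rw [if_neg hl, if_neg hl, mul_zero]

open Classical in
/-- the number of elements of a class times the number of elements of order dividing `m` -/
theorem card_class (h : Tor A T m) (l : T →* ℂˣ) :
    (Finset.univ.filter fun l' : T →* ℂˣ => SameE m l l').card * (Finset.univ.filter (fun s : T => s ^ m = 1)).card =
      Nat.card T := by
  have h1 : ∑ l' : T →* ℂˣ, ∑ s ∈ Finset.univ.filter (fun s : T => s ^ m = 1), lf l s * conj (lf l' s) =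
      (((Finset.univ.filter fun l' : T →* ℂˣ => SameE m l l').card *
        (Finset.univ.filter (fun s : T => s ^ m = 1)).card : ℕ) : ℂ) := by
    rw [Finset.sum_congr rfl fun l' _ => sum_E h l l', ← Finset.sum_filter, Finset.sum_const, nsmul_eq_mul]
    push_cast; rfl
  have h2 : ∑ l' : T →* ℂˣ, ∑ s ∈ Finset.univ.filter (fun s : T => s ^ m = 1), lf l s * conj (lf l' s) =
      (Nat.card T : ℂ) := by
    rw [Finset.sum_comm]
    have hcj : ∀ (l' : T →* ℂˣ) (s : T), conj (lf l' s) = ((l' s⁻¹ : ℂˣ) : ℂ) := by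
      intro l' s
      have := isCharacter_apply_inv (isIrr_isCharacter (isIrr_lf l')) s
      rw [← this]; rfl
    rw [Finset.sum_eq_single (1 : T)]
    · have h3 : ∀ l' : T →* ℂˣ, lf l 1 * conj (lf l' 1) = 1 := by
        intro l'
        rw [lf_one, lf_one]; simp
      rw [Finset.sum_congr rfl fun l' _ => h3 l', Finset.sum_const, Finset.card_univ, ← Nat.card_eq_fintype_card,
        card_hom h]
      simp only [_root_.Nat.card_eq_fintype_card, _root_.nsmul_eq_mul, _root_.mul_one]
    · intro s _ hs1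
      rw [← Finset.mul_sum]
      have h4 : ∑ l' : T →* ℂˣ, conj (lf l' s) = 0 := by
        rw [Finset.sum_congr rfl fun l' _ => hcj l' s]
        have h5 : s⁻¹ ≠ 1 := fun h6 => hs1 (inv_eq_one.1 h6)
        obtain ⟨β, hβ⟩ := exists_sep h h5
        exact sum_zero (S := Finset.univ) (exists_mul h β) (fun _ _ _ => by simp) hβ
      rw [h4, mul_zero]
    · intro h3
      exact absurd (by simp only [_root_.Finset.mem_filter, _root_.Finset.mem_univ, _root_.one_pow, _root_.and_self]) h3
  have h3 := h1.symm.trans h2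
  exact_mod_cast h3

/-- multiplicities -/
theorem exists_mult (T : Subgroup G) [Fintype T] {χ : G → ℂ} (hχ : IsCharacter G χ) :
    ∃ n : (T →* ℂˣ) → ℤ, ∀ l, classInner (fun s : T => χ s) (lf l) = (n l : ℂ) := by
  have h1 : ∀ l : T →* ℂˣ, ∃ n : ℤ, classInner (fun s : T => χ s) (lf l) = (n : ℂ) := by
    intro l
    obtain ⟨a, ha⟩ := classInner_isNat (isCharacter_comp T.subtype hχ) (isIrr_isCharacter (isIrr_lf l))
    refine ⟨a, ?_⟩
    rw [Int.cast_natCast, ← ha]
    rfl
  choose n hn using h1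
  exact ⟨n, hn⟩

open Classical in
/-- **The variance formula.** -/
theorem variance (h : Tor A T m) {χ : G → ℂ} {n : (T →* ℂˣ) → ℤ}
    (hn : ∀ l, classInner (fun s : T => χ s) (lf l) = (n l : ℂ)) {k e : ℕ}
    (he : (Finset.univ.filter (fun s : T => s ^ m = 1)).card = e) (hk : k * e = Nat.card T) :
    2 * ∑ s ∈ supp T m, ‖χ s‖ ^ 2 = (e : ℝ) * (QQ (SameE (T := T) m) n : ℤ) := by
  have he0 : e ≠ 0 := by
    rintro rfl
    rw [mul_zero] at hk
    exact Nat.card_pos.ne hk
  have hkl : ∀ l : T →* ℂˣ, (Finset.univ.filter fun l' : T →* ℂˣ => SameE m l l').card = k := by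
    intro l
    have := card_class h l
    rw [he, ← hk] at this
    exact Nat.eq_of_mul_eq_mul_right (Nat.pos_of_ne_zero he0) this
  have hF : ∀ s : T, χ s = ∑ l : T →* ℂˣ, (n l : ℂ) * lf l s := by
    intro s
    have := _root_.Cfsg.Agent.H221.TC.fourier h (fun s : T => χ s) s
    rw [this]
    exact Finset.sum_congr rfl fun l _ => by rw [hn l, lf_apply]
  have hab : ∀ s : T, (((‖χ s‖ ^ 2 : ℝ)) : ℂ) = ∑ l : T →* ℂˣ, ∑ l' : T →* ℂˣ, (n l : ℂ) * n l' * (lf l s * conj (lf l' s)) := by
    intro s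
    have h1 : (((‖χ s‖ ^ 2 : ℝ)) : ℂ) = χ s * conj (χ s) := by
      rw [Complex.mul_conj, Complex.normSq_eq_norm_sq]
    rw [h1, hF s, map_sum, Finset.sum_mul_sum]
    refine Finset.sum_congr rfl fun l _ => Finset.sum_congr rfl fun l' _ => ?_
    rw [map_mul, map_intCast]
    ring
  -- the sum over `T`
  have hT : ((∑ s : T, ‖χ s‖ ^ 2 : ℝ) : ℂ) = (Nat.card T : ℂ) * ∑ l : T →* ℂˣ, (n l : ℂ) ^ 2 := by
    push_cast
    have h1 : ∀ s : T, ((‖χ s‖ : ℂ)) ^ 2 = ∑ l : T →* ℂˣ, ∑ l' : T →* ℂˣ, (n l : ℂ) * n l' * (lf l s * conj (lf l' s)) := by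
      intro s
      rw [← hab s]; push_cast; rfl
    rw [Finset.sum_congr rfl fun s _ => h1 s, Finset.sum_comm, Finset.mul_sum]
    refine Finset.sum_congr rfl fun l _ => ?_
    rw [Finset.sum_comm]
    have h2 : ∀ l' : T →* ℂˣ, ∑ s : T, (n l : ℂ) * n l' * (lf l s * conj (lf l' s)) =
        if l = l' then (n l : ℂ) * n l' * (Nat.card T : ℂ) else 0 := by
      intro l'
      rw [← Finset.mul_sum, sum_T h]
      split_ifs <;> simp only [_root_.Nat.card_eq_fintype_card, _root_.MulZeroClass.mul_zero]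
    rw [Finset.sum_congr rfl fun l' _ => h2 l', Finset.sum_ite_eq, if_pos (Finset.mem_univ _)]
    ring
  -- the sum over the elements of order dividing `m`
  have hE : ((∑ s ∈ Finset.univ.filter (fun s : T => s ^ m = 1), ‖χ s‖ ^ 2 : ℝ) : ℂ) =
      (e : ℂ) * ∑ l : T →* ℂˣ, ∑ l' : T →* ℂˣ, if SameE m l l' then (n l : ℂ) * n l' else 0 := by
    push_cast
    have h1 : ∀ s : T, ((‖χ s‖ : ℂ)) ^ 2 = ∑ l : T →* ℂˣ, ∑ l' : T →* ℂˣ, (n l : ℂ) * n l' * (lf l s * conj (lf l' s)) := by
      intro s
      rw [← hab s]; push_cast; rfl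
    rw [Finset.sum_congr rfl fun s _ => h1 s, Finset.sum_comm, Finset.mul_sum]
    refine Finset.sum_congr rfl fun l _ => ?_
    rw [Finset.sum_comm, Finset.mul_sum]
    refine Finset.sum_congr rfl fun l' _ => ?_
    rw [← Finset.mul_sum, sum_E h, he]
    split_ifs <;> ring
  -- the quadratic form
  have hQ : ((QQ (SameE (T := T) m) n : ℤ) : ℂ) = 2 * k * ∑ l : T →* ℂˣ, (n l : ℂ) ^ 2 -
      2 * ∑ l : T →* ℂˣ, ∑ l' : T →* ℂˣ, if SameE m l l' then (n l : ℂ) * n l' else 0 := by
    unfold QQ
    push_cast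
    have h1 : ∀ l l' : T →* ℂˣ, (if SameE m l l' then ((n l : ℂ) - n l') ^ 2 else 0) =
        (if SameE m l l' then (n l : ℂ) ^ 2 else 0) + (if SameE m l l' then (n l' : ℂ) ^ 2 else 0) -
        2 * (if SameE m l l' then (n l : ℂ) * n l' else 0) := by
      intro l l'
      split_ifs <;> ring
    have h2 : ∑ l : T →* ℂˣ, ∑ l' : T →* ℂˣ, (if SameE m l l' then (n l : ℂ) ^ 2 else 0) =
        k * ∑ l : T →* ℂˣ, (n l : ℂ) ^ 2 := by
      rw [Finset.mul_sum]
      refine Finset.sum_congr rfl fun l _ => ?_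
      rw [← Finset.sum_filter, Finset.sum_const, hkl l, nsmul_eq_mul]
    have h3 : ∑ l : T →* ℂˣ, ∑ l' : T →* ℂˣ, (if SameE m l l' then (n l' : ℂ) ^ 2 else 0) =
        k * ∑ l : T →* ℂˣ, (n l : ℂ) ^ 2 := by
      rw [Finset.sum_comm, ← h2]
      refine Finset.sum_congr rfl fun l _ => Finset.sum_congr rfl fun l' _ => ?_
      by_cases hs : SameE m l l'
      · rw [if_pos hs, if_pos (same_symm hs)]
      · rw [if_neg hs, if_neg fun h4 => hs (same_symm h4)]
    have h4 : ∀ l : T →* ℂˣ, ∑ l' : T →* ℂˣ, (if SameE m l l' then ((n l : ℂ) - n l') ^ 2 else 0) =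
        ∑ l' : T →* ℂˣ, (if SameE m l l' then (n l : ℂ) ^ 2 else 0) +
        ∑ l' : T →* ℂˣ, (if SameE m l l' then (n l' : ℂ) ^ 2 else 0) -
        2 * ∑ l' : T →* ℂˣ, (if SameE m l l' then (n l : ℂ) * n l' else 0) := by
      intro l
      rw [Finset.sum_congr rfl fun l' _ => h1 l l', Finset.sum_sub_distrib, Finset.sum_add_distrib, ← Finset.mul_sum]
    rw [Finset.sum_congr rfl fun l _ => h4 l, Finset.sum_sub_distrib, Finset.sum_add_distrib, h2, h3, ← Finset.mul_sum]
    ring
  have hs : ∑ s ∈ supp T m, ‖χ s‖ ^ 2 = ∑ s : T, ‖χ s‖ ^ 2 -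
      ∑ s ∈ Finset.univ.filter (fun s : T => s ^ m = 1), ‖χ s‖ ^ 2 := by
    have h1 : ∑ s ∈ supp T m, ‖χ s‖ ^ 2 = ∑ s ∈ Finset.univ.filter (fun s : T => ¬ s ^ m = 1), ‖χ s‖ ^ 2 := by
      symm
      refine Finset.sum_bij (fun s _ => (s : G)) ?_ ?_ ?_ ?_
      · intro s hs
        rw [mem_supp]
        refine ⟨s.2, fun h2 => (Finset.mem_filter.1 hs).2 (Subtype.ext (by simpa only [_root_.SubmonoidClass.coe_pow, _root_.OneMemClass.coe_one] using h2))⟩
      · intro s _ s' _ h2; exact Subtype.ext h2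
      · intro g hg
        obtain ⟨h2, h3⟩ := mem_supp.1 hg
        refine ⟨⟨g, h2⟩, Finset.mem_filter.2 ⟨Finset.mem_univ _, fun h4 => h3 ?_⟩, rfl⟩
        have := congrArg (Subtype.val : T → G) h4
        simpa only [_root_.SubmonoidClass.mk_pow, _root_.OneMemClass.coe_one] using this
      · intro s _; rfl
    rw [h1, ← Finset.sum_filter_add_sum_filter_not Finset.univ (fun s : T => s ^ m = 1)]
    ring
  have hfin : ((2 * ∑ s ∈ supp T m, ‖χ s‖ ^ 2 : ℝ) : ℂ) = (((e : ℝ) * (QQ (SameE (T := T) m) n : ℤ) : ℝ) : ℂ) := by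
    rw [hs]
    rw [Complex.ofReal_mul, Complex.ofReal_sub, hT, hE]
    have h5 : (((e : ℝ) * (QQ (SameE (T := T) m) n : ℤ) : ℝ) : ℂ) = (e : ℂ) * ((QQ (SameE (T := T) m) n : ℤ) : ℂ) := by
      push_cast; rfl
    rw [h5, hQ, ← hk]
    push_cast
    ring
  exact_mod_cast hfin

end

end Cfsg.Agent.H4.TCG
end

-- part: H4/TCG/Orb
section
/-!
# Orbits of the normalizer and the constant characters (helper4; S2464, row G2(q))
-/

set_option autoImplicit false
set_option linter.unusedSectionVars false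

open Cfsg Subgroup
open scoped ComplexConjugate

namespace Cfsg.Agent.H4.TCG

open Cfsg.Agent.Characters.Core Cfsg.Agent.H221.TC

universe u

variable {G : Type u} [Group G] {A T : Subgroup G} {m : ℕ}

theorem cj_bij [Finite G] (x : normalizer (T : Set G)) : Function.Bijective (cj x : T →* T) := by
  rw [← Finite.injective_iff_bijective]
  intro a b hab
  have h1 := congrArg (Subtype.val : T → G) hab
  rw [cj_apply, cj_apply] at h1
  exact Subtype.ext (mul_left_cancel (mul_right_cancel h1))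

section

variable [Fintype G] [Fintype T]

/-- the multiplicities are invariant under the normalizer -/
theorem mult_inv {χ : G → ℂ} (hχ : IsClassFunction G χ) {n : (T →* ℂˣ) → ℤ}
    (hn : ∀ l, classInner (fun s : T => χ s) (lf l) = (n l : ℂ)) (x : normalizer (T : Set G)) (l : T →* ℂˣ) :
    n (l.comp (cj x)) = n l := by
  have h1 : (n (l.comp (cj x)) : ℂ) = n l := by
    rw [← hn, ← hn, classInner_def, classInner_def]
    congr 1
    rw [isClassFunction_def] at hχ
    have h2 : ∀ s : T, χ s * conj (lf (l.comp (cj x)) s) = χ (cj x s : T) * conj (lf l (cj x s)) := by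
      intro s
      rw [cj_apply]
      have := hχ (s : G) (x : G)⁻¹
      rw [inv_inv] at this
      rw [this]
      rfl
    rw [Finset.sum_congr rfl fun s _ => h2 s]
    exact (Equiv.ofBijective _ (cj_bij x)).sum_comp (fun s : T => χ s * conj (lf l s))
  exact_mod_cast h1

theorem comp_inj {x : normalizer (T : Set G)} {l l' : T →* ℂˣ} (h : l.comp (cj x) = l'.comp (cj x)) : l = l' := by
  ext t
  obtain ⟨s, rfl⟩ := (cj_bij x).2 t
  exact congrArg Units.val (DFunLike.congr_fun h s)

theorem same_comp {x : normalizer (T : Set G)} {l l' : T →* ℂˣ} (h : SameE m l l') :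
    SameE m (l.comp (cj x)) (l'.comp (cj x)) := by
  intro t ht
  rw [MonoidHom.comp_apply, MonoidHom.comp_apply]
  refine h _ ?_
  rw [← map_pow, ht, map_one]

variable [Fintype (T →* ℂˣ)]

open Classical in
theorem dd_inv {χ : G → ℂ} (hχ : IsClassFunction G χ) {n : (T →* ℂˣ) → ℤ}
    (hn : ∀ l, classInner (fun s : T => χ s) (lf l) = (n l : ℂ)) (x : normalizer (T : Set G)) (l : T →* ℂˣ) :
    dd (SameE (T := T) m) n l ≤ dd (SameE (T := T) m) n (l.comp (cj x)) := by
  unfold dd
  refine Finset.card_le_card_of_injOn (fun b => b.comp (cj x)) ?_ ?_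
  · intro b hb
    obtain ⟨h1, h2⟩ := (Finset.mem_filter.1 (Finset.mem_coe.1 hb)).2
    refine Finset.mem_coe.2 (Finset.mem_filter.2 ⟨Finset.mem_univ _, same_comp h1, ?_⟩)
    rw [mult_inv hχ hn, mult_inv hχ hn]
    exact h2
  · intro b _ b' _ h
    exact comp_inj h

open Classical in
theorem exists_orbit (h : Tor A T m) {l : T →* ℂˣ} (hl : Nt A l) {w : ℕ}
    (hN : Nat.card (normalizer (T : Set G)) = w * Nat.card T) :
    ∃ S : Finset (T →* ℂˣ), S.card = w ∧ ∀ a ∈ S, ∃ x : normalizer (T : Set G), a = l.comp (cj x) := by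
  have := Fintype.ofFinite (normalizer (T : Set G))
  let f : normalizer (T : Set G) → (T →* ℂˣ) := fun x => l.comp (cj x)
  have h1 : (Finset.univ : Finset (normalizer (T : Set G))).card ≤ Nat.card T * (Finset.univ.image f).card := by
    refine Finset.card_le_mul_card_image _ _ ?_
    intro a ha
    obtain ⟨x₀, -, hx₀⟩ := Finset.mem_image.1 ha
    have h2 : (Finset.univ.filter fun x => f x = a).card ≤ (Finset.univ.filter fun g : G => g ∈ T).card := by
      refine Finset.card_le_card_of_injOn (fun x => (x₀⁻¹ * x : G)) ?_ ?_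
      · intro x hx
        have hx' := (Finset.mem_filter.1 (Finset.mem_coe.1 hx)).2
        refine Finset.mem_coe.2 (Finset.mem_filter.2 ⟨Finset.mem_univ _, ?_⟩)
        have h3 : l.comp (cj (x₀⁻¹ * x)) = l := by
          rw [cj_mul, ← MonoidHom.comp_assoc]
          have h4 : l.comp (cj x) = l.comp (cj x₀) := hx'.trans hx₀.symm
          rw [h4, MonoidHom.comp_assoc, ← cj_mul, inv_mul_cancel, cj_one, MonoidHom.comp_id]
        have h5 := mem_of_fix h hl h3
        rw [Subgroup.coe_mul, Subgroup.coe_inv] at h5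
        exact h5
      · intro x _ y _ hxy
        exact Subtype.ext (mul_left_cancel hxy)
    refine h2.trans ?_
    rw [Nat.card_eq_fintype_card, Fintype.card_subtype]
  rw [Finset.card_univ, ← Nat.card_eq_fintype_card, hN, mul_comm] at h1
  have h2 : w ≤ (Finset.univ.image f).card := Nat.le_of_mul_le_mul_left h1 Nat.card_pos
  obtain ⟨S, hS1, hS2⟩ := Finset.exists_subset_card_eq h2
  refine ⟨S, hS2, fun a ha => ?_⟩
  obtain ⟨x, -, hx⟩ := Finset.mem_image.1 (hS1 ha)
  exact ⟨x, hx.symm⟩

open Classical in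
/-- a nonconstant family -/
theorem QQ_ge_orbit (h : Tor A T m) {χ : G → ℂ} (hχ : IsClassFunction G χ) {n : (T →* ℂˣ) → ℤ}
    (hn : ∀ l, classInner (fun s : T => χ s) (lf l) = (n l : ℂ)) {w k : ℕ}
    (hN : Nat.card (normalizer (T : Set G)) = w * Nat.card T)
    (hk : ∀ l : T →* ℂˣ, k ≤ (Finset.univ.filter fun l' : T →* ℂˣ => SameE m l l').card)
    {l l' : T →* ℂˣ} (hl : Nt A l) (hl' : Nt A l') (hs : SameE m l l') (hne : n l ≠ n l') :
    (2 * w * k : ℤ) - 2 * w ^ 2 ≤ QQ (SameE (T := T) m) n := by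
  obtain ⟨S₁, h1, h2⟩ := exists_orbit h hl hN
  obtain ⟨S₂, h3, h4⟩ := exists_orbit h hl' hN
  have h5 : k ≤ dd (SameE (T := T) m) n l + dd (SameE (T := T) m) n l' :=
    dd_add (r := SameE (T := T) m) (fun _ _ => same_symm) (fun _ _ _ => same_trans) n (hk l) hs hne
  refine QQ_ge (r := SameE (T := T) m) (fun _ _ => same_symm) n h1 h3 (u := n l) (v := n l') ?_ ?_ hne
    (d₁ := dd (SameE (T := T) m) n l) (d₂ := dd (SameE (T := T) m) n l') ?_ ?_ h5
  · intro a ha
    obtain ⟨x, rfl⟩ := h2 a ha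
    exact mult_inv hχ hn x l
  · intro a ha
    obtain ⟨x, rfl⟩ := h4 a ha
    exact mult_inv hχ hn x l'
  · intro a ha
    obtain ⟨x, rfl⟩ := h2 a ha
    exact dd_inv hχ hn x l
  · intro a ha
    obtain ⟨x, rfl⟩ := h4 a ha
    exact dd_inv hχ hn x l'

end

end Cfsg.Agent.H4.TCG
end

-- part: H4/TCG/Two
section
/-!
# Two tori of `G₂(q)`: the characters nonzero on both (helper4; S2464, row G2(q))
-/

set_option autoImplicit false
set_option linter.unusedSectionVars false

open Cfsg Subgroup
open scoped ComplexConjugate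

namespace Cfsg.Agent.H4.TCG

open Cfsg.Agent.Characters.Core Cfsg.Agent.H221.TC Cfsg.Agent.H641.TC6

universe u

variable {G : Type u} [Group G] {A T A' T' : Subgroup G} {m n m' n' : ℕ}

section Data

variable [Finite G]

theorem tor_of (D : TorD G m n 6 A T) (h3 : m ∣ 3 * n) (hn : n.Coprime 3) : Tor A T 3 where
  comm a ha b hb := comm_of_cyc D.cycT ha hb
  le := D.le
  cent a ha h1 := (D.cent a ha h1).le
  pow t ht := by
    refine D.mem (pow_mem ht 3) ?_
    apply orderOf_dvd_of_pow_eq_one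
    rw [← pow_mul]
    have h2 : orderOf t ∣ m := by rw [← D.cardT]; exact Subgroup.orderOf_dvd_natCard T ht
    exact orderOf_dvd_iff_pow_eq_one.1 (h2.trans h3)
  cop := by rw [D.cardA]; exact hn.symm

theorem dvd_of (D : TorD G m n 6 A T) : n ∣ m := by
  rw [← D.cardA, ← D.cardT]
  exact Subgroup.card_dvd_of_le D.le

theorem m_cases (D : TorD G m n 6 A T) (h3 : m ∣ 3 * n) (hn : n.Coprime 3) : (m = n ∧ ¬ 3 ∣ m) ∨ (m = n * 3 ∧ 3 ∣ m) := by
  obtain ⟨c, hc⟩ := dvd_of D
  have hn0 : 0 < n := by rw [← D.cardA]; exact Nat.card_pos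
  have h1 : c ∣ 3 := by
    rw [hc, mul_comm 3 n] at h3
    exact Nat.dvd_of_mul_dvd_mul_left hn0 h3
  rcases (Nat.dvd_prime Nat.prime_three).1 h1 with rfl | rfl
  · left
    rw [mul_one] at hc
    refine ⟨hc, ?_⟩
    rw [hc]
    intro h
    have := Nat.dvd_gcd h (dvd_refl 3)
    rw [hn] at this
    omega
  · right
    exact ⟨hc, by rw [hc]; exact dvd_mul_left 3 n⟩

open Classical in
/-- the number of elements of order dividing `3` -/
theorem card_E [Fintype T] (D : TorD G m n 6 A T) (h3 : m ∣ 3 * n) (hn : n.Coprime 3) :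
    n * (Finset.univ.filter fun s : T => s ^ 3 = 1).card = Nat.card T := by
  rw [D.cardT]
  rcases m_cases D h3 hn with ⟨h1, h2⟩ | ⟨h1, h2⟩
  · have h4 : (Finset.univ.filter fun s : T => s ^ 3 = 1) = {1} := by
      ext s
      rw [Finset.mem_filter, Finset.mem_singleton]
      constructor
      · rintro ⟨-, h5⟩
        have h6 : s ^ m = 1 := by rw [← D.cardT]; exact pow_card_eq_one'
        have h7 : Nat.Coprime 3 m := (Nat.Prime.coprime_iff_not_dvd Nat.prime_three).2 h2
        have h8 : orderOf s ∣ Nat.gcd 3 m := Nat.dvd_gcd (orderOf_dvd_of_pow_eq_one h5) (orderOf_dvd_of_pow_eq_one h6)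
        rw [h7] at h8
        exact orderOf_eq_one_iff.1 (Nat.dvd_one.1 h8)
      · rintro rfl
        exact ⟨Finset.mem_univ _, one_pow _⟩
    rw [h4, Finset.card_singleton, mul_one, h1]
  · have h5 : (Finset.univ.filter fun s : T => s ^ 3 = 1).card = 3 := by
      apply le_antisymm
      · have := D.cycT
        exact IsCyclic.card_pow_eq_one_le (by norm_num)
      · have : Fact (Nat.Prime 3) := ⟨Nat.prime_three⟩
        obtain ⟨e, he⟩ := exists_prime_orderOf_dvd_card' (G := T) 3 (by rw [D.cardT]; exact h2)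
        have h6 : ({1, e, e ^ 2} : Finset T) ⊆ Finset.univ.filter fun s : T => s ^ 3 = 1 := by
          have h7 : e ^ 3 = 1 := by rw [← he]; exact pow_orderOf_eq_one e
          intro s hs
          rw [Finset.mem_filter]
          refine ⟨Finset.mem_univ _, ?_⟩
          rw [Finset.mem_insert, Finset.mem_insert, Finset.mem_singleton] at hs
          rcases hs with rfl | rfl | rfl
          · exact one_pow _
          · exact h7
          · rw [← pow_mul, mul_comm, pow_mul, h7, one_pow]
        have h8 : ({1, e, e ^ 2} : Finset T).card = 3 := by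
          rw [Finset.card_insert_of_notMem, Finset.card_insert_of_notMem, Finset.card_singleton]
          · rw [Finset.mem_singleton]
            intro h9
            have : e ^ 1 = 1 := by
              have h10 : e * 1 = e * e := by rw [mul_one, ← pow_two]; exact h9
              rw [pow_one]; exact (mul_left_cancel h10).symm
            have := orderOf_dvd_of_pow_eq_one this
            rw [he] at this
            omega
          · rw [Finset.mem_insert, Finset.mem_singleton]
            rintro (h9 | h9)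
            · rw [← h9, orderOf_one] at he
              omega
            · have := orderOf_dvd_of_pow_eq_one h9.symm
              rw [he] at this
              omega
        calc 3 = ({1, e, e ^ 2} : Finset T).card := h8.symm
          _ ≤ _ := Finset.card_le_card h6
    rw [h5, h1]

end Data

section Main

variable [Fintype G]

open Classical in
/-- the form of a character on a torus -/
theorem exists_form [Fintype T] [Fintype (T →* ℂˣ)] (D : TorD G m n 6 A T) (h3 : m ∣ 3 * n) (hn : n.Coprime 3)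
    {χ : G → ℂ} (hχ : IsIrrCharacter G χ) :
    ∃ f : (T →* ℂˣ) → ℤ, (∀ l, classInner (fun s : T => χ s) (lf l) = (f l : ℂ)) ∧
      (∑ s ∈ supp T 3, ‖χ s‖ ^ 2) / Nat.card (normalizer (T : Set G)) =
        ((QQ (SameE (T := T) 3) f : ℤ) : ℝ) / (12 * n) ∧
      (∀ l : T →* ℂˣ, (Finset.univ.filter fun l' : T →* ℂˣ => SameE 3 l l').card = n) := by
  have h := tor_of D h3 hn
  obtain ⟨f, hf⟩ := exists_mult T (isIrr_isCharacter hχ)
  refine ⟨f, hf, ?_, ?_⟩
  · have h1 := variance h hf (k := n) rfl (card_E D h3 hn)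
    set e := (Finset.univ.filter fun s : T => s ^ 3 = 1).card with he
    have h2 : n * e = m := by rw [← D.cardT]; exact card_E D h3 hn
    have hN : Nat.card (normalizer (T : Set G)) = 6 * m := by rw [← D.normA, D.cardN]
    have hm0 : 0 < m := by rw [← D.cardT]; exact Nat.card_pos
    have hn0 : n ≠ 0 := by rintro rfl; omega
    have he0 : e ≠ 0 := by intro h4; rw [h4] at h2; omega
    have hn' : (n : ℝ) ≠ 0 := by exact_mod_cast hn0
    have he' : (e : ℝ) ≠ 0 := by exact_mod_cast he0
    rw [hN, ← h2]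
    push_cast
    have h5 : ∑ s ∈ supp T 3, ‖χ s‖ ^ 2 = (e : ℝ) * (QQ (SameE (T := T) 3) f : ℤ) / 2 := by linarith only [h1]
    rw [h5]
    field_simp
    ring
  · intro l
    have h1 := card_class h l
    rw [← card_E D h3 hn] at h1
    have h2 : 0 < (Finset.univ.filter fun s : T => s ^ 3 = 1).card :=
      Finset.card_pos.2 ⟨1, Finset.mem_filter.2 ⟨Finset.mem_univ _, one_pow _⟩⟩
    exact Nat.eq_of_mul_eq_mul_right h2 h1

/-- the share of a torus on which the character is not zero -/
theorem share_ge (D : TorD G m n 6 A T) (h3 : m ∣ 3 * n) (hn : n.Coprime 3)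
    {χ : G → ℂ} (hχ : IsIrrCharacter G χ) {y : G} (hy : y ∈ supp T 3) (hy0 : χ y ≠ 0) :
    ((n : ℝ) - 1) / (6 * n) ≤ (∑ s ∈ supp T 3, ‖χ s‖ ^ 2) / Nat.card (normalizer (T : Set G)) := by
  classical
  have := Fintype.ofFinite T
  have : Finite (T →* ℂˣ) := finite_hom
  have := Fintype.ofFinite (T →* ℂˣ)
  obtain ⟨f, -, h1, h2⟩ := exists_form D h3 hn hχ
  have hn0 : (0 : ℝ) < n := by
    have : 0 < n := by rw [← D.cardA]; exact Nat.card_pos
    exact_mod_cast this
  rw [h1]
  have h4 : QQ (SameE (T := T) 3) f ≠ 0 := by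
    intro h5
    rw [h5] at h1
    have h6 : 0 < ∑ s ∈ supp T 3, ‖χ s‖ ^ 2 :=
      Finset.sum_pos' (fun s _ => sq_nonneg _) ⟨y, hy, by positivity⟩
    have h7 : (0 : ℝ) < Nat.card (normalizer (T : Set G)) := by exact_mod_cast Nat.card_pos
    have h8 : 0 < (∑ s ∈ supp T 3, ‖χ s‖ ^ 2) / Nat.card (normalizer (T : Set G)) := div_pos h6 h7
    rw [h1] at h8
    simp at h8
  obtain ⟨a, b, hab, hne⟩ := exists_pair f h4
  have h5 := QQ_ge_two (r := SameE (T := T) 3) (fun _ _ => same_symm) (fun _ _ _ => same_trans) f (h2 a).ge hab hne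
  have h6 : (2 * (n : ℝ) - 2) ≤ ((QQ (SameE (T := T) 3) f : ℤ) : ℝ) := by exact_mod_cast h5
  rw [div_le_div_iff₀ (by positivity) (by positivity)]
  nlinarith only [h6]

open Classical in
/-- **constant multiplicities** -/
theorem const_mult [Fintype T] [Fintype (T →* ℂˣ)] (D : TorD G m n 6 A T) (h3 : m ∣ 3 * n) (hn : n.Coprime 3)
    (D' : TorD G m' n' 6 A' T') (h3' : m' ∣ 3 * n') (hn' : n'.Coprime 3) (hne : m ≠ m')
    (hk : 36 * n' + n ≤ n * n')
    {χ : G → ℂ} (hχ : IsIrrCharacter G χ) {y : G} (hy : y ∈ supp T' 3) (hy0 : χ y ≠ 0)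
    (l l' : T →* ℂˣ) (hl : Nt A l) (hl' : Nt A l') (hs : SameE 3 l l') :
    classInner (fun s : T => χ s) (lf l) = classInner (fun s : T => χ s) (lf l') := by
  have h := tor_of D h3 hn
  have h' := tor_of D' h3' hn'
  obtain ⟨f, hf, h1, h2⟩ := exists_form D h3 hn hχ
  rw [hf, hf]
  by_contra hc
  have hc' : f l ≠ f l' := fun h4 => hc (by rw [h4])
  have hN : Nat.card (normalizer (T : Set G)) = 6 * Nat.card T := by rw [← D.normA, D.cardN, D.cardT]
  have h4 := QQ_ge_orbit h (isIrr_isClassFunction hχ) hf hN (fun l => (h2 l).ge) hl hl' hs hc'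
  have h5 := joint h h' (by rw [D.cardT, D'.cardT]; exact hne) hχ
  have h6 := share_ge D' h3' hn' hχ hy hy0
  rw [h1] at h5
  have hn0 : (0 : ℝ) < n := by
    have : 0 < n := by rw [← D.cardA]; exact Nat.card_pos
    exact_mod_cast this
  have hn0' : (0 : ℝ) < n' := by
    have : 0 < n' := by rw [← D'.cardA]; exact Nat.card_pos
    exact_mod_cast this
  have h7 : (12 * (n : ℝ) - 72) ≤ ((QQ (SameE (T := T) 3) f : ℤ) : ℝ) := by
    have : (2 * (6 : ℕ) * n : ℤ) - 2 * (6 : ℕ) ^ 2 = 12 * n - 72 := by push_cast; ring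
    rw [this] at h4
    exact_mod_cast h4
  have h8 : (12 * (n : ℝ) - 72) / (12 * n) + ((n' : ℝ) - 1) / (6 * n') < 1 := by
    have e1 : (12 * (n : ℝ) - 72) / (12 * n) ≤ ((QQ (SameE (T := T) 3) f : ℤ) : ℝ) / (12 * n) :=
      div_le_div_of_nonneg_right h7 (by (clear * - hn0; positivity))
    linarith only [h5, h6, e1]
  have h9 : (36 * (n' : ℝ) + n) ≤ n * n' := by exact_mod_cast hk
  have h10 : (12 * (n : ℝ) - 72) / (12 * n) + ((n' : ℝ) - 1) / (6 * n') =
      ((12 * (n : ℝ) - 72) * (6 * n') + ((n' : ℝ) - 1) * (12 * n)) / (12 * n * (6 * n')) := by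
    field_simp
  rw [h10, div_lt_one (by (clear * - hn0 hn0'; positivity))] at h8
  linarith only [h8, h9]

end Main

end Cfsg.Agent.H4.TCG
end

-- part: H4/TCG/Val
section
/-!
# Values on the tori of `G₂(q)` (helper4; S2464, row G2(q))
-/

set_option autoImplicit false
set_option linter.unusedSectionVars false

open Cfsg Subgroup
open scoped ComplexConjugate

namespace Cfsg.Agent.H4.TCG

open Cfsg.Agent.Characters.Core Cfsg.Agent.H221.TC Cfsg.Agent.H641.TC6

universe u

variable {G : Type u} [Group G] {A T A' T' : Subgroup G} {m n m' n' : ℕ}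

/-- a cube root of unity -/
theorem cube_root {u : ℂˣ} (hu : u ^ 3 = 1) (h1u : u ≠ 1) : (u : ℂ) + ((u⁻¹ : ℂˣ) : ℂ) = -1 := by
  have h1 : (u : ℂ) ^ 3 = 1 := by
    rw [← Units.val_pow_eq_pow_val, hu, Units.val_one]
  have h2 : (u : ℂ) * ((u⁻¹ : ℂˣ) : ℂ) = 1 := Units.mul_inv u
  have h3 : ((u : ℂ) - 1) * ((u : ℂ) ^ 2 + u + 1) = 0 := by linear_combination h1
  rcases mul_eq_zero.1 h3 with h4 | h4
  · exact absurd (Units.ext (by rw [Units.val_one]; exact sub_eq_zero.1 h4)) h1u
  · linear_combination ((u⁻¹ : ℂˣ) : ℂ) * h4 - ((u : ℂ) + 1) * h2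

section Main

variable [Fintype G]

open Classical in
/-- **the values of a character with constant multiplicities** -/
theorem exists_val [Fintype T] (D : TorD G m n 6 A T) (h3 : m ∣ 3 * n) (hn : n.Coprime 3) (h2n : 2 ≤ n)
    {χ : G → ℂ} (hχ : IsIrrCharacter G χ)
    (hconst : ∀ l l' : T →* ℂˣ, Nt A l → Nt A l' → SameE 3 l l' →
      classInner (fun s : T => χ s) (lf l) = classInner (fun s : T => χ s) (lf l')) :
    ∃ b : ℤ, (∀ a ∈ A, a ≠ 1 → χ a = b) ∧ ∀ e ∈ T, e ^ 3 = 1 → ∃ N : ℤ, ∀ a ∈ A, a ≠ 1 → ∀ a' ∈ A, a' ≠ 1 →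
      χ (a * e) + χ (a' * e⁻¹) = 2 * b - 3 * N ∧ χ (a * e) = χ (a' * e) := by
  have h := tor_of D h3 hn
  have : Finite (T →* ℂˣ) := finite_hom
  have := Fintype.ofFinite (T →* ℂˣ)
  obtain ⟨f, hf⟩ := exists_mult T (isIrr_isCharacter hχ)
  have hsel : ∀ g : T →* ℂˣ, ∃ l, InFam A 3 g l := by
    intro g
    have h1 := card_fam_ge h g
    rw [D.cardA] at h1
    have h2 : 0 < Nat.card {l : T →* ℂˣ // InFam A 3 g l} := by omega
    have := (Nat.card_pos_iff.1 h2).1
    exact ⟨this.some.1, this.some.2⟩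
  choose sel hsel using hsel
  set c : (T →* ℂˣ) → ℤ := fun g => if Nt A g then 0 else f g - f (sel g) with hc
  have hval : ∀ a : T, (a : G) ∈ A → a ≠ 1 → ∀ e : T, e ^ 3 = 1 →
      χ ((a * e : T) : G) = ∑ g : T →* ℂˣ, (c g : ℂ) * ((g e : ℂˣ) : ℂ) := by
    intro a ha ha1 e he
    have h4 : (a * e) ^ 3 ≠ 1 := by
      have h5 : Commute a e := comm_T h a e
      rw [h5.mul_pow, he, mul_one]
      intro h6
      have h7 : orderOf a ∣ 3 := orderOf_dvd_of_pow_eq_one h6
      have h8 : orderOf a ∣ n := by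
        rw [← Subgroup.orderOf_coe, ← D.cardA]
        exact Subgroup.orderOf_dvd_natCard A ha
      have h9 : orderOf a ∣ Nat.gcd n 3 := Nat.dvd_gcd h8 h7
      rw [hn] at h9
      exact ha1 (orderOf_eq_one_iff.1 (Nat.dvd_one.1 h9))
    have h5 := value h (F := fun s : T => χ s) hconst (sel := sel) (fun g _ => hsel g) h4
    refine Eq.trans h5 (Finset.sum_congr rfl fun g _ => ?_)
    by_cases hg : Nt A g
    · rw [if_pos hg, hc]
      simp [hg]
    · rw [if_neg hg, hf, hf, hc]
      have h6 : g a = 1 := by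
        by_contra h7
        exact hg ⟨a, ha, h7⟩
      rw [map_mul, h6, one_mul]
      simp [hg]
  have hvalG : ∀ a ∈ A, a ≠ 1 → ∀ e : T, e ^ 3 = 1 →
      χ (a * e) = ∑ g : T →* ℂˣ, (c g : ℂ) * ((g e : ℂˣ) : ℂ) := by
    intro a ha ha1 e he
    have := hval ⟨a, D.le ha⟩ ha (fun h4 => ha1 (congrArg Subtype.val h4)) e he
    rwa [Subgroup.coe_mul] at this
  refine ⟨∑ g, c g, ?_, ?_⟩
  · intro a ha ha1
    have := hvalG a ha ha1 1 (one_pow _)
    simp only [map_one, Units.val_one, mul_one, Subgroup.coe_one] at this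
    rw [this]; push_cast; rfl
  · intro e he he3
    have he3' : (⟨e, he⟩ : T) ^ 3 = 1 := Subtype.ext (by simpa only [_root_.SubmonoidClass.mk_pow, _root_.OneMemClass.coe_one] using he3)
    have he3i : (⟨e, he⟩⁻¹ : T) ^ 3 = 1 := by rw [inv_pow, he3', inv_one]
    refine ⟨∑ g : T →* ℂˣ, if g ⟨e, he⟩ = 1 then 0 else c g, ?_⟩
    intro a ha ha1 a' ha' ha1'
    have e1 := hvalG a ha ha1 ⟨e, he⟩ he3'
    have e2 := hvalG a' ha' ha1' ⟨e, he⟩⁻¹ he3i
    have e3 := hvalG a' ha' ha1' ⟨e, he⟩ he3'
    have e4 : (((⟨e, he⟩⁻¹ : T)) : G) = e⁻¹ := rfl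
    rw [e4] at e2
    refine ⟨?_, by rw [show χ (a * e) = _ from e1, show χ (a' * e) = _ from e3]⟩
    rw [show χ (a * e) = _ from e1, e2, ← Finset.sum_add_distrib, Int.cast_sum, Int.cast_sum, Finset.mul_sum,
      Finset.mul_sum, ← Finset.sum_sub_distrib]
    refine Finset.sum_congr rfl fun g _ => ?_
    rw [map_inv]
    have hu : (g ⟨e, he⟩) ^ 3 = 1 := by rw [← map_pow, he3', map_one]
    by_cases hg1 : g ⟨e, he⟩ = 1
    · rw [if_pos hg1, hg1]
      simp only [inv_one, Units.val_one, Int.cast_zero]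
      ring
    · rw [if_neg hg1]
      linear_combination (c g : ℂ) * cube_root hu hg1

/-- elements of `A - 1` -/
noncomputable def As (A : Subgroup G) : Finset G := by
  classical exact Finset.univ.filter fun a => a ∈ A ∧ a ≠ 1

theorem mem_As {a : G} : a ∈ As A ↔ a ∈ A ∧ a ≠ 1 := by
  classical
  unfold As
  rw [Finset.mem_filter]
  exact ⟨fun h => h.2, fun h => ⟨Finset.mem_univ _, h⟩⟩

theorem card_As (D : TorD G m n 6 A T) : ((As A).card : ℝ) = n - 1 := by
  classical
  have h1 : insert (1 : G) (As A) = Finset.univ.filter fun a => a ∈ A := by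
    ext a
    rw [Finset.mem_insert, mem_As, Finset.mem_filter]
    constructor
    · rintro (rfl | h)
      · exact ⟨Finset.mem_univ _, A.one_mem⟩
      · exact ⟨Finset.mem_univ _, h.1⟩
    · rintro ⟨-, h⟩
      by_cases ha : a = 1
      · exact Or.inl ha
      · exact Or.inr ⟨h, ha⟩
  have h2 : (insert (1 : G) (As A)).card = n := by
    rw [h1, ← D.cardA, Nat.card_eq_fintype_card, Fintype.card_subtype]
  rw [Finset.card_insert_of_notMem (fun h => (mem_As.1 h).2 rfl)] at h2
  rw [← h2]; push_cast; ring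

theorem pow3_ne (D : TorD G m n 6 A T) (hn : n.Coprime 3) {a : G} (ha : a ∈ A) (ha1 : a ≠ 1) : a ^ 3 ≠ 1 := by
  intro h6
  have h7 : orderOf a ∣ 3 := orderOf_dvd_of_pow_eq_one h6
  have h8 : orderOf a ∣ n := by
    rw [← D.cardA]
    exact Subgroup.orderOf_dvd_natCard A ha
  have h9 : orderOf a ∣ Nat.gcd n 3 := Nat.dvd_gcd h8 h7
  rw [hn] at h9
  exact ha1 (orderOf_eq_one_iff.1 (Nat.dvd_one.1 h9))

/-- the share of the torus, without elements of order `3` -/
theorem share_one (D : TorD G m n 6 A T) (hn : n.Coprime 3) {χ : G → ℂ} {b : ℤ}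
    (hb : ∀ a ∈ A, a ≠ 1 → χ a = b) : ((n : ℝ) - 1) * b ^ 2 ≤ ∑ s ∈ supp T 3, ‖χ s‖ ^ 2 := by
  classical
  have h1 : As A ⊆ supp T 3 := by
    intro a ha
    obtain ⟨h2, h3⟩ := mem_As.1 ha
    exact mem_supp.2 ⟨D.le h2, pow3_ne D hn h2 h3⟩
  refine le_trans ?_ (Finset.sum_le_sum_of_subset_of_nonneg h1 fun _ _ _ => sq_nonneg _)
  have h2 : ∀ a ∈ As A, ‖χ a‖ ^ 2 = (b : ℝ) ^ 2 := by
    intro a ha
    obtain ⟨h2, h3⟩ := mem_As.1 ha
    rw [hb a h2 h3, Complex.norm_intCast, sq_abs]
  rw [Finset.sum_congr rfl h2, Finset.sum_const, nsmul_eq_mul, card_As D]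

/-- the share of the torus, with elements of order `3` -/
theorem share_three (D : TorD G m n 6 A T) (hn : n.Coprime 3) {χ : G → ℂ} {b v : ℤ}
    (hb : ∀ a ∈ A, a ≠ 1 → χ a = b) {e : G} (he : e ∈ T) (heo : orderOf e = 3)
    (hv : ∀ a ∈ A, a ≠ 1 → χ (a * e) = v) (hv' : ∀ a ∈ A, a ≠ 1 → χ (a * e⁻¹) = v) :
    ((n : ℝ) - 1) * (b ^ 2 + 2 * v ^ 2) ≤ ∑ s ∈ supp T 3, ‖χ s‖ ^ 2 := by
  classical
  have he3 : e ^ 3 = 1 := by rw [← heo]; exact pow_orderOf_eq_one e
  have hcomm : ∀ a ∈ T, Commute a e := fun a ha => comm_of_cyc D.cycT ha he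
  have hpow : ∀ i : G, (i = 1 ∨ i = e ∨ i = e⁻¹) → i ∈ T ∧ i ^ 3 = 1 := by
    rintro i (rfl | rfl | rfl)
    · exact ⟨T.one_mem, one_pow _⟩
    · exact ⟨he, he3⟩
    · exact ⟨T.inv_mem he, by rw [inv_pow, he3, inv_one]⟩
  have hmem : ∀ i : G, i ∈ ({1, e, e⁻¹} : Finset G) ↔ (i = 1 ∨ i = e ∨ i = e⁻¹) := by
    intro i; simp
  have hinj : Set.InjOn (fun p : G × G => p.1 * p.2) ↑((As A) ×ˢ ({1, e, e⁻¹} : Finset G)) := by
    rintro ⟨a, i⟩ hp ⟨a', i'⟩ hp' heq
    rw [Finset.mem_coe, Finset.mem_product] at hp hp'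
    obtain ⟨h1, h2⟩ := hp
    obtain ⟨h1', h2'⟩ := hp'
    simp only at h1 h2 h1' h2' heq
    obtain ⟨h3, h4⟩ := hpow i ((hmem i).1 h2)
    obtain ⟨h3', h4'⟩ := hpow i' ((hmem i').1 h2')
    have hA := (mem_As.1 h1).1
    have hA' := (mem_As.1 h1').1
    have hc : ∀ s ∈ T, ∀ t ∈ T, s * t = t * s := fun s hs t ht => comm_of_cyc D.cycT hs ht
    have h5 : a'⁻¹ * a = i' * i⁻¹ := by
      rw [inv_mul_eq_iff_eq_mul, ← mul_assoc, eq_mul_inv_iff_mul_eq]
      exact heq
    have h6 : a'⁻¹ * a = 1 := by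
      by_contra h7
      have h8 := pow3_ne D hn (A.mul_mem (A.inv_mem hA') hA) h7
      apply h8
      rw [h5]
      have h9 : Commute i' i⁻¹ := hc i' h3' i⁻¹ (T.inv_mem h3)
      rw [h9.mul_pow, h4', inv_pow, h4, inv_one, one_mul]
    have h7 : a = a' := by rw [← mul_one a', ← h6]; group
    have h8 : i = i' := by rw [h7] at heq; exact mul_left_cancel heq
    rw [h7, h8]
  have h1 : ((As A) ×ˢ ({1, e, e⁻¹} : Finset G)).image (fun p => p.1 * p.2) ⊆ supp T 3 := by
    intro g hg
    obtain ⟨⟨a, i⟩, hp, rfl⟩ := Finset.mem_image.1 hg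
    rw [Finset.mem_product] at hp
    obtain ⟨h2, h3⟩ := mem_As.1 hp.1
    obtain ⟨h4, h5⟩ := hpow i ((hmem i).1 hp.2)
    refine mem_supp.2 ⟨T.mul_mem (D.le h2) h4, ?_⟩
    have h6 : Commute a i := comm_of_cyc D.cycT (D.le h2) h4
    show (a * i) ^ 3 ≠ 1
    rw [h6.mul_pow, h5, mul_one]
    exact pow3_ne D hn h2 h3
  refine le_trans ?_ (Finset.sum_le_sum_of_subset_of_nonneg h1 fun _ _ _ => sq_nonneg _)
  rw [Finset.sum_image hinj, Finset.sum_product]
  have hne1 : (1 : G) ∉ ({e, e⁻¹} : Finset G) := by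
    rw [Finset.mem_insert, Finset.mem_singleton]
    rintro (h2 | h2)
    · rw [← h2, orderOf_one] at heo; omega
    · have : e = 1 := inv_eq_one.1 h2.symm
      rw [this, orderOf_one] at heo; omega
  have hne2 : e ∉ ({e⁻¹} : Finset G) := by
    rw [Finset.mem_singleton]
    intro h2
    have h4 : e ^ 2 = 1 := by rw [pow_two]; nth_rewrite 2 [h2]; rw [mul_inv_cancel]
    have h5 := orderOf_dvd_of_pow_eq_one h4
    rw [heo] at h5
    omega
  have h2 : ∀ a ∈ As A, ∑ i ∈ ({1, e, e⁻¹} : Finset G), ‖χ (a * i)‖ ^ 2 = (b : ℝ) ^ 2 + 2 * v ^ 2 := by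
    intro a ha
    obtain ⟨h3, h4⟩ := mem_As.1 ha
    rw [Finset.sum_insert hne1, Finset.sum_insert hne2, Finset.sum_singleton, mul_one, hb a h3 h4, hv a h3 h4,
      hv' a h3 h4, Complex.norm_intCast, Complex.norm_intCast, sq_abs, sq_abs]
    ring
  rw [Finset.sum_congr rfl h2, Finset.sum_const, nsmul_eq_mul, card_As D]

/-- **The values on one torus of a character nonzero on the other.** -/
theorem value_two (D : TorD G m n 6 A T) (h3 : m ∣ 3 * n) (hn : n.Coprime 3) (h37 : 37 ≤ n)
    (D' : TorD G m' n' 6 A' T') (h3' : m' ∣ 3 * n') (hn' : n'.Coprime 3) (h37' : 37 ≤ n') (hne : m ≠ m')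
    (hk : 36 * n' + n ≤ n * n') (hinv : 3 ∣ m → ∃ x ∈ normalizer (T : Set G), ∀ t ∈ T, x⁻¹ * t * x = t⁻¹)
    {χ : G → ℂ} (hχ : IsIrrCharacter G χ) {y : G} (hy : y ∈ supp T' 3) (hy0 : χ y ≠ 0) :
    ∃ b : ℤ, |b| ≤ 2 ∧ ∀ a ∈ A, a ≠ 1 → χ a = b := by
  classical
  have := Fintype.ofFinite T
  have : Finite (T →* ℂˣ) := finite_hom
  have := Fintype.ofFinite (T →* ℂˣ)
  have h := tor_of D h3 hn
  have h' := tor_of D' h3' hn'
  obtain ⟨b, hb, hE⟩ := exists_val D h3 hn (by omega) hχ
    (fun l l' hl hl' hs => const_mult D h3 hn D' h3' hn' hne hk hχ hy hy0 l l' hl hl' hs)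
  refine ⟨b, ?_, hb⟩
  have h5 := joint h h' (by rw [D.cardT, D'.cardT]; exact hne) hχ
  have h6 := share_ge D' h3' hn' hχ hy hy0
  have hN : Nat.card (normalizer (T : Set G)) = 6 * m := by rw [← D.normA, D.cardN]
  have hnR : (37 : ℝ) ≤ n := by exact_mod_cast h37
  have hnR' : (37 : ℝ) ≤ n' := by exact_mod_cast h37'
  have h7 : (1 : ℝ) / 6 - 1 / 222 ≤ ((n' : ℝ) - 1) / (6 * n') := by
    rw [le_div_iff₀ (by positivity)]
    linarith only [hnR']
  have h8 : (∑ s ∈ supp T 3, ‖χ s‖ ^ 2) / (Nat.card (normalizer (T : Set G)) : ℝ) < 5 / 6 + 1 / 222 := by linarith only [h5, h6, h7]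
  rw [hN] at h8
  rcases m_cases D h3 hn with ⟨h9, h10⟩ | ⟨h9, h10⟩
  · -- no elements of order `3`
    have h11 := share_one D hn hb
    rw [h9] at h8
    push_cast at h8
    rw [div_lt_iff₀ (by positivity)] at h8
    have h12 : ((n : ℝ) - 1) * b ^ 2 < (5 / 6 + 1 / 222) * (6 * n) := lt_of_le_of_lt h11 h8
    have h13 : (b : ℝ) ^ 2 < 9 := by
      by_contra hc
      push Not at hc
      nlinarith only [hnR, h11, h8, hc]
    have h14 : b ^ 2 < 9 := by exact_mod_cast h13
    rw [abs_le]
    constructor <;> nlinarith only [h14]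
  · -- elements of order `3`
    have : Fact (Nat.Prime 3) := ⟨Nat.prime_three⟩
    obtain ⟨⟨e, he⟩, heo'⟩ := exists_prime_orderOf_dvd_card' (G := T) 3 (by rw [D.cardT]; exact h10)
    have heo : orderOf e = 3 := by rw [← heo', ← Subgroup.orderOf_coe]
    have he3 : e ^ 3 = 1 := by rw [← heo]; exact pow_orderOf_eq_one e
    obtain ⟨N, hNN⟩ := hE e he he3
    obtain ⟨x, hx, hxT⟩ := hinv h10
    have hcf := isIrr_isClassFunction hχ
    rw [isClassFunction_def] at hcf
    obtain ⟨a₀, ha₀, ha₀1⟩ : ∃ a ∈ A, a ≠ 1 := by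
      have h11 : 1 < Nat.card A := by rw [D.cardA]; omega
      have h12 : Nontrivial A := Finite.one_lt_card_iff_nontrivial.1 h11
      obtain ⟨a, ha⟩ := exists_ne (1 : A)
      exact ⟨a, a.2, fun h => ha (Subtype.ext h)⟩
    have hrev : ∀ a ∈ A, a ≠ 1 → χ (a * e) = χ (a⁻¹ * e⁻¹) := by
      intro a ha ha1
      have h11 : x⁻¹ * (a * e) * x = a⁻¹ * e⁻¹ := by
        have h12 := hxT (a * e) (T.mul_mem (D.le ha) he)
        rw [h12, mul_inv_rev]
        exact comm_of_cyc D.cycT (T.inv_mem he) (T.inv_mem (D.le ha))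
      have h13 := hcf (a * e) x⁻¹
      rw [inv_inv, h11] at h13
      exact h13.symm
    set v₀ : ℂ := χ (a₀ * e) with hv₀
    have hv : ∀ a ∈ A, a ≠ 1 → χ (a * e) = v₀ := fun a ha ha1 => (hNN a ha ha1 a₀ ha₀ ha₀1).2
    have hv' : ∀ a ∈ A, a ≠ 1 → χ (a * e⁻¹) = v₀ := by
      intro a ha ha1
      have h11 := hrev a⁻¹ (A.inv_mem ha) (inv_ne_one.2 ha1)
      rw [inv_inv] at h11
      rw [← h11]
      exact hv a⁻¹ (A.inv_mem ha) (inv_ne_one.2 ha1)
    have h2v : 2 * v₀ = 2 * b - 3 * N := by
      have h11 := (hNN a₀ ha₀ ha₀1 a₀ ha₀ ha₀1).1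
      rw [hv a₀ ha₀ ha₀1, hv' a₀ ha₀ ha₀1] at h11
      linear_combination h11
    obtain ⟨v, hvZ⟩ : ∃ v : ℤ, v₀ = v := by
      refine Cfsg.Agent.Characters.GaloisBasic.exists_int_of_rat (isIrr_isCharacter hχ) (a₀ * e)
        ⟨((2 * b - 3 * N : ℤ) : ℚ) / 2, ?_⟩
      push_cast
      rw [← hv₀]
      linear_combination h2v / 2
    have h3v : 2 * v = 2 * b - 3 * N := by
      rw [hvZ] at h2v
      exact_mod_cast h2v
    have hvZ1 : ∀ a ∈ A, a ≠ 1 → χ (a * e) = v := fun a ha ha1 => by rw [hv a ha ha1, hvZ]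
    have hvZ2 : ∀ a ∈ A, a ≠ 1 → χ (a * e⁻¹) = v := fun a ha ha1 => by rw [hv' a ha ha1, hvZ]
    have h11 := share_three D hn hb he heo hvZ1 hvZ2
    rw [h9] at h8
    push_cast at h8
    rw [div_lt_iff₀ (by positivity)] at h8
    have h12 : ((n : ℝ) - 1) * (b ^ 2 + 2 * v ^ 2) < (5 / 6 + 1 / 222) * (6 * (n * 3)) := lt_of_le_of_lt h11 h8
    have h13 : (b : ℝ) ^ 2 + 2 * v ^ 2 < 16 := by
      by_contra hc
      push Not at hc
      nlinarith only [hnR, h11, h8, hc]
    have h14 : b ^ 2 + 2 * v ^ 2 < 16 := by exact_mod_cast h13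
    by_contra hcon
    push Not at hcon
    have h15 : b = 3 ∨ b = -3 := by
      have e1 : b ^ 2 < 16 := by linarith only [h14, sq_nonneg v]
      have e2 : |b| < 4 := by
        rw [abs_lt]; constructor <;> nlinarith only [h14]
      rcases abs_cases b with ⟨e3, -⟩ | ⟨e3, -⟩ <;> omega
    have h16 : v = 0 := by
      have e1 : b ^ 2 = 9 := by rcases h15 with h | h <;> rw [h] <;> norm_num
      have e2 : v ^ 2 < 4 := by linarith only [h14, e1]
      have e3 : |v| < 2 := by
        rw [abs_lt]; constructor <;> nlinarith only [h14, e1]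
      have e4 : (3 : ℤ) ∣ 2 * v := by
        rw [h3v]
        rcases h15 with h | h <;> rw [h]
        · exact ⟨2 - N, by ring⟩
        · exact ⟨-2 - N, by ring⟩
      rw [abs_lt] at e3
      (clear * - e3 e4; omega)
    -- helper221's exclusion
    obtain ⟨r, hr, hrn⟩ := Nat.exists_prime_and_dvd (n := n) (by omega)
    have hfr : Fact r.Prime := ⟨hr⟩
    obtain ⟨⟨s, hs⟩, hso'⟩ := exists_prime_orderOf_dvd_card' (G := A) r (by rw [D.cardA]; exact hrn)
    have hso : orderOf s = r := by rw [← hso', ← Subgroup.orderOf_coe]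
    have hs1 : s ≠ 1 := by
      rintro rfl
      rw [orderOf_one] at hso
      exact hr.one_lt.ne hso
    have hr3 : r ≠ 3 := by
      rintro rfl
      have := Nat.dvd_gcd hrn (dvd_refl 3)
      rw [hn] at this
      omega
    refine not_three hχ hr hr3 hso heo (comm_of_cyc D.cycT (D.le hs) he) ?_ ?_ h15 (hb s hs hs1)
      (by rw [hvZ1 s hs hs1, h16]; norm_num) (by rw [hvZ2 s hs hs1, h16]; norm_num)
    · intro k hk' hsk
      have hkT : k ∈ T := by
        rw [← D.cent s hs hs1, mem_centralizer_singleton_iff]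
        exact hsk.eq.symm
      have hko : orderOf k = 3 := by
        obtain ⟨c, hc⟩ := isConj_iff.1 hk'
        rw [← hc, orderOf_conj, heo]
      -- the elements of order `3` of a cyclic group
      have hcyc := D.cycT
      have h17 : k ∈ zpowers e := Cfsg.Agent.H56.Exc.mem_zpowers_of_cyclic hcyc he hkT (by rw [hko, heo])
      obtain ⟨j, hj⟩ := mem_zpowers_iff.1 h17
      have hj' : e ^ j = k := hj
      have h19 : j % 3 = 0 ∨ j % 3 = 1 ∨ j % 3 = 2 := by omega
      have h20 : e ^ j = e ^ (j % 3) := by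
        have : e ^ j = e ^ (3 * (j / 3) + j % 3) := by rw [Int.mul_ediv_add_emod]
        rw [this, zpow_add, zpow_mul]
        have e3 : e ^ (3 : ℤ) = 1 := by exact_mod_cast he3
        rw [e3, one_zpow, one_mul]
      rw [h20] at hj'
      rcases h19 with h21 | h21 | h21
      · rw [h21, zpow_zero] at hj'
        rw [← hj', orderOf_one] at hko
        omega
      · rw [h21, zpow_one] at hj'
        exact Or.inl hj'.symm
      · right
        rw [h21] at hj'
        rw [← hj']
        have e3 : e ^ (2 : ℤ) * e = 1 := by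
          have : e ^ (2 : ℤ) = e ^ 2 := by exact_mod_cast rfl
          rw [this, ← pow_succ]; exact he3
        exact eq_inv_of_mul_eq_one_left e3
    · rw [isConj_iff]
      exact ⟨x⁻¹, by rw [inv_inv]; exact hxT e he⟩

end Main

end Cfsg.Agent.H4.TCG
end

private theorem dce_03f72ae37072 : _root_.True := by
  try have : _root_.True := by simp only [_root_.Cfsg.Agent.H4.TCG.dd.congr_simp]
  try have : _root_.True := by simp only [_root_.Cfsg.Agent.H4.TCG.QQ.congr_simp]
  exact _root_.True.intro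
end

section
prune_inst 0xfcadf8eba82bfedfff7e37a6d8cdf811800fffa4dff943ffe861af0bdf030009c5638509e010fe0e42401410a87803fb7eeeffe86bdc7be3f9f5b01ffbee4fe5f735081190802006240ffe03f0570a6a000000000000000000000000000000000200000000

-- part: H980/RB/Cut
section
prune_inst 0x60404900120000008010302046404a0005220043000000a10b02078a34600082ae20b8a00d135a200c0520350000001000004000000000204c0001180180088004000180010882000e000080400000300880000000000000800000041000008000000
set_option linter.all false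
open scoped Cfsg.Agent.FastGrp

-- part: H980/RB/Weil
section
/-!
# A Weil-type bound for traces (S2464, `F₄(q)`; helper980)

* `exists_unitary` : a representation of a finite group is unitary in a suitable basis;
* `weil` : `Q` normalised by `g`, `Z ≤ Q` central in `⟨Q, g⟩` and acting by scalars, `tr q = 0` for `q ∈ Q ∖ Z`:
  `‖tr g‖² |Q| ≤ n² |{x ∈ Q : [x, g] ∈ Z}|`;
* `weil_zero` : `[x, g]` acts by a scalar `≠ 1`: `tr g = 0`.
-/

set_option autoImplicit false

namespace Cfsg.Agent.H980.RB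

open Matrix
open scoped ComplexConjugate ComplexOrder

variable {P : Type*} [Group P]

section

open scoped MatrixOrder Matrix.Norms.L2Operator

/-- a positive semidefinite matrix is `Cᴴ * C` -/
theorem exists_sq {n : ℕ} {B : Matrix (Fin n) (Fin n) ℂ} (h : B.PosSemidef) : ∃ C : Matrix (Fin n) (Fin n) ℂ, B = Cᴴ * C := by
  obtain ⟨C, hC⟩ := CStarAlgebra.nonneg_iff_eq_star_mul_self.mp (Matrix.nonneg_iff_posSemidef.2 h)
  exact ⟨C, hC⟩

end

/-- a representation of a finite group is unitary in a suitable basis -/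
theorem exists_unitary [Finite P] {V : Type*} [AddCommGroup V] [Module ℂ V] [FiniteDimensional ℂ V]
    (ρ : Representation ℂ P V) :
    ∃ U : P →* Matrix (Fin (Module.finrank ℂ V)) (Fin (Module.finrank ℂ V)) ℂ,
      (∀ g, (U g)ᴴ = U g⁻¹) ∧ (∀ g, (U g).trace = LinearMap.trace ℂ V (ρ g)) ∧
      ∀ (g : P) (c : ℂ), ρ g = c • 1 → U g = c • 1 := by
  classical
  have := Fintype.ofFinite P
  let b := Module.finBasis ℂ V
  set M : P → Matrix (Fin (Module.finrank ℂ V)) (Fin (Module.finrank ℂ V)) ℂ :=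
    fun g => LinearMap.toMatrix b b (ρ g) with hM
  have hM1 : M 1 = 1 := by
    simp only [hM, map_one]
    exact LinearMap.toMatrix_one b
  have hMm : ∀ g h, M (g * h) = M g * M h := by
    intro g h
    simp only [hM, map_mul]
    exact LinearMap.toMatrix_mul b (ρ g) (ρ h)
  set B : Matrix (Fin (Module.finrank ℂ V)) (Fin (Module.finrank ℂ V)) ℂ := ∑ g : P, (M g)ᴴ * M g with hB
  have hpd : B.PosDef := by
    rw [hB, ← Finset.add_sum_erase Finset.univ _ (Finset.mem_univ (1 : P))]
    refine Matrix.PosDef.add_posSemidef ?_ ?_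
    · rw [hM1]
      simpa using Matrix.PosDef.one
    · exact Matrix.posSemidef_sum _ (fun h _ => Matrix.posSemidef_conjTranspose_mul_self _)
  have hinv : ∀ g, (M g)ᴴ * B * M g = B := by
    intro g
    rw [hB, Finset.mul_sum, Finset.sum_mul]
    refine Fintype.sum_equiv (Equiv.mulRight g) _ _ (fun h => ?_)
    simp only [Equiv.coe_mulRight, hMm, Matrix.conjTranspose_mul, Matrix.mul_assoc]
  obtain ⟨C, hC⟩ := exists_sq hpd.posSemidef
  have hdet : IsUnit B.det := (Matrix.isUnit_iff_isUnit_det _).1 hpd.isUnit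
  have hCd : IsUnit C.det := by
    rw [hC, Matrix.det_mul] at hdet
    exact isUnit_of_mul_isUnit_right hdet
  have h1 : C * C⁻¹ = 1 := Matrix.mul_nonsing_inv _ hCd
  have h2 : C⁻¹ * C = 1 := Matrix.nonsing_inv_mul _ hCd
  let U : P →* Matrix (Fin (Module.finrank ℂ V)) (Fin (Module.finrank ℂ V)) ℂ :=
    { toFun := fun g => C * M g * C⁻¹
      map_one' := by rw [hM1, Matrix.mul_one, h1]
      map_mul' := fun g h => by
        rw [hMm]
        calc C * (M g * M h) * C⁻¹ = C * M g * (1 : Matrix _ _ ℂ) * M h * C⁻¹ := by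
              rw [Matrix.mul_one]; simp only [Matrix.mul_assoc]
          _ = C * M g * (C⁻¹ * C) * M h * C⁻¹ := by rw [h2]
          _ = C * M g * C⁻¹ * (C * M h * C⁻¹) := by simp only [Matrix.mul_assoc] }
  have hU : ∀ g, U g = C * M g * C⁻¹ := fun _ => rfl
  refine ⟨U, ?_, ?_, ?_⟩
  · intro g
    have h3 : (U g)ᴴ * U g = 1 := by
      rw [hU, Matrix.conjTranspose_mul, Matrix.conjTranspose_mul]
      calc (C⁻¹)ᴴ * ((M g)ᴴ * Cᴴ) * (C * M g * C⁻¹) = (C⁻¹)ᴴ * ((M g)ᴴ * (Cᴴ * C) * M g) * C⁻¹ := by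
            simp only [Matrix.mul_assoc]
        _ = (C⁻¹)ᴴ * B * C⁻¹ := by rw [← hC, hinv]
        _ = (C * C⁻¹)ᴴ * (C * C⁻¹) := by
          rw [hC, Matrix.conjTranspose_mul]
          simp only [Matrix.mul_assoc]
        _ = 1 := by rw [h1]; simp
    have h4 : U g * U g⁻¹ = 1 := by rw [← map_mul, mul_inv_cancel, map_one]
    calc (U g)ᴴ = (U g)ᴴ * (U g * U g⁻¹) := by rw [h4, Matrix.mul_one]
      _ = U g⁻¹ := by rw [← Matrix.mul_assoc, h3, Matrix.one_mul]
  · intro g
    rw [hU, Matrix.trace_mul_comm, ← Matrix.mul_assoc, h2, Matrix.one_mul, LinearMap.trace_eq_matrix_trace ℂ b]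
  · intro g c hc
    have h5 : M g = c • 1 := by
      simp only [hM, hc, map_smul]
      rw [LinearMap.toMatrix_one b]
    rw [hU, h5]
    simp [h1]

/-- the trace form is positive -/
theorem trace_nonneg {n : ℕ} (A : Matrix (Fin n) (Fin n) ℂ) : 0 ≤ ((A * Aᴴ).trace).re := by
  have h := (Matrix.posSemidef_self_mul_conjTranspose A).trace_nonneg
  exact (Complex.le_def.1 h).1

/-- traces of unitary matrices: the Bessel inequality for a subgroup `Q`, a subgroup `Z ≤ Q` acting by scalars, with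
trace `0` on `Q ∖ Z` -/
theorem bessel [Finite P] {n : ℕ} (U : P →* Matrix (Fin n) (Fin n) ℂ) (hU : ∀ g, (U g)ᴴ = U g⁻¹)
    (Q Z : Subgroup P) [Fintype ↥Q] (hsc : ∀ z ∈ Z, ∃ c : ℂ, U z = c • 1)
    (h0 : ∀ q ∈ Q, q ∉ Z → (U q).trace = 0) (hZQ : Z ≤ Q) (g : P) :
    ∑ y : ↥Q, ‖(U (y * g)).trace‖ ^ 2 ≤ (Nat.card Z : ℝ) * (n : ℝ) ^ 2 := by
  classical
  have := Fintype.ofFinite ↥Z
  rcases Nat.eq_zero_or_pos n with hn | hn
  · subst hn
    simp only [Matrix.trace, _root_.Finset.univ_eq_empty, _root_.map_mul, _root_.Matrix.mul_empty, _root_.Matrix.diag_apply, _root_.Matrix.of_apply, _root_.Finset.sum_empty, _root_.norm_zero, _root_.ne_eq, _root_.OfNat.ofNat_ne_zero, _root_.not_false_eq_true, _root_.zero_pow, _root_.Finset.sum_const_zero, _root_.Nat.card_eq_fintype_card, _root_.CharP.cast_eq_zero, _root_.MulZeroClass.mul_zero, _root_.Std.le_refl]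
  have hn0 : (0 : ℝ) < n := by exact_mod_cast hn
  set f : ↥Q → ℂ := fun y => (U (y * g)).trace with hf
  set S : ℝ := ∑ y : ↥Q, ‖f y‖ ^ 2 with hS
  set A : Matrix (Fin n) (Fin n) ℂ := ∑ y : ↥Q, conj (f y) • U (y : P) with hA
  have hAH : Aᴴ = ∑ y : ↥Q, f y • U ((y : P)⁻¹) := by
    rw [hA, Matrix.conjTranspose_sum]
    refine Finset.sum_congr rfl fun y _ => ?_
    rw [Matrix.conjTranspose_smul, hU]
    simp
  have hAU : (A * U g).trace = (S : ℂ) := by
    rw [hA, Finset.sum_mul, Matrix.trace_sum, hS, Complex.ofReal_sum]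
    refine Finset.sum_congr rfl fun y _ => ?_
    rw [Matrix.smul_mul, Matrix.trace_smul, ← map_mul, smul_eq_mul, Complex.ofReal_pow]
    exact (Complex.conj_mul' (f y))
  -- the norm of `A`
  have hcc : ∀ (w : P) (c : ℂ), U w = c • 1 → conj c * c = 1 := by
    intro w c hw
    have h1 : (U w)ᴴ * U w = 1 := by rw [hU, ← map_mul, inv_mul_cancel, map_one]
    rw [hw, Matrix.conjTranspose_smul, Matrix.conjTranspose_one, Matrix.smul_mul, Matrix.mul_smul, Matrix.one_mul,
      smul_smul] at h1
    have h2 := congrFun (congrFun h1 ⟨0, hn⟩) ⟨0, hn⟩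
    simpa only [_root_.RCLike.star_def, _root_.Matrix.smul_apply, _root_.Matrix.one_apply_eq, _root_.smul_eq_mul, _root_.mul_one] using h2
  have key : ∀ w y : ↥Q, conj (f (w * y)) * f y * (U (w : P)).trace =
      if (w : P) ∈ Z then (n : ℂ) * ((‖f y‖ ^ 2 : ℝ) : ℂ) else 0 := by
    intro w y
    split_ifs with hw
    · obtain ⟨c, hc⟩ := hsc _ hw
      have h1 : f (w * y) = c * f y := by
        simp only [hf, Subgroup.coe_mul, mul_assoc]
        rw [map_mul, hc, Matrix.smul_mul, Matrix.one_mul, Matrix.trace_smul, smul_eq_mul]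
      rw [h1, hc, Matrix.trace_smul, Matrix.trace_one, Fintype.card_fin, smul_eq_mul, map_mul, Complex.ofReal_pow,
        ← Complex.conj_mul' (f y)]
      calc conj c * conj (f y) * f y * (c * n) = (conj c * c) * (n * (conj (f y) * f y)) := by ring
        _ = _ := by rw [hcc _ _ hc, one_mul]
    · rw [h0 _ w.2 hw, mul_zero]
  have hAA : (A * Aᴴ).trace = ((Nat.card Z : ℝ) * n * S : ℝ) := by
    rw [hAH, hA, Finset.sum_mul, Matrix.trace_sum]
    have h1 : ∀ y : ↥Q, (conj (f y) • U (y : P) * ∑ y' : ↥Q, f y' • U ((y' : P)⁻¹)).trace =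
        ∑ y' : ↥Q, conj (f y) * f y' * (U ((y * y'⁻¹ : ↥Q) : P)).trace := by
      intro y
      rw [Finset.mul_sum, Matrix.trace_sum]
      refine Finset.sum_congr rfl fun y' _ => ?_
      rw [Matrix.smul_mul, Matrix.mul_smul, smul_smul, Matrix.trace_smul, smul_eq_mul, ← map_mul]
      rfl
    rw [Finset.sum_congr rfl fun y _ => h1 y, Finset.sum_comm]
    have h2 : ∀ y' : ↥Q, ∑ y : ↥Q, conj (f y) * f y' * (U ((y * y'⁻¹ : ↥Q) : P)).trace =
        (Nat.card Z : ℂ) * n * ((‖f y'‖ ^ 2 : ℝ) : ℂ) := by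
      intro y'
      rw [← Equiv.sum_comp (Equiv.mulRight y')]
      have h3 : ∀ w : ↥Q, conj (f (Equiv.mulRight y' w)) * f y' * (U ((Equiv.mulRight y' w * y'⁻¹ : ↥Q) : P)).trace =
          if (w : P) ∈ Z then (n : ℂ) * ((‖f y'‖ ^ 2 : ℝ) : ℂ) else 0 := by
        intro w
        rw [← key w y', Equiv.coe_mulRight, mul_inv_cancel_right]
      rw [Finset.sum_congr rfl fun w _ => h3 w, ← Finset.sum_filter, Finset.sum_const, nsmul_eq_mul]
      have h4 : (Finset.univ.filter fun w : ↥Q => (w : P) ∈ Z).card = Nat.card Z := by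
        rw [← Fintype.card_subtype, ← Nat.card_eq_fintype_card]
        exact Nat.card_congr ⟨fun w => ⟨w.1.1, w.2⟩, fun z => ⟨⟨z.1, hZQ z.2⟩, z.2⟩, fun _ => rfl, fun _ => rfl⟩
      rw [h4, mul_assoc]
    rw [Finset.sum_congr rfl fun y _ => h2 y, ← Finset.mul_sum, hS]
    push_cast
    rfl
  -- Bessel
  set t : ℝ := ((Nat.card Z : ℝ) * n)⁻¹ with ht
  have hc : (0 : ℝ) < (Nat.card Z : ℝ) * n := mul_pos (by exact_mod_cast Nat.card_pos) hn0
  have h1 := trace_nonneg ((U g)ᴴ - (t : ℂ) • A)
  have h2 : ((U g)ᴴ - (t : ℂ) • A) * ((U g)ᴴ - (t : ℂ) • A)ᴴ =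
      (U g)ᴴ * U g - (t : ℂ) • ((U g)ᴴ * Aᴴ) - (t : ℂ) • (A * U g) + ((t : ℂ) * t) • (A * Aᴴ) := by
    rw [Matrix.conjTranspose_sub, Matrix.conjTranspose_smul, Matrix.conjTranspose_conjTranspose]
    simp only [Complex.star_def, Complex.conj_ofReal, Matrix.sub_mul, Matrix.mul_sub, Matrix.smul_mul, Matrix.mul_smul,
      smul_smul, smul_sub]
    abel
  have h3 : ((U g)ᴴ * U g).trace = (n : ℂ) := by
    rw [hU, ← map_mul, inv_mul_cancel, map_one, Matrix.trace_one, Fintype.card_fin]
  have h4 : ((U g)ᴴ * Aᴴ).trace = (S : ℂ) := by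
    rw [← Matrix.conjTranspose_mul, Matrix.trace_conjTranspose, hAU]
    exact Complex.conj_ofReal S
  rw [h2, Matrix.trace_add, Matrix.trace_sub, Matrix.trace_sub, Matrix.trace_smul, Matrix.trace_smul, Matrix.trace_smul,
    h3, h4, hAU, hAA] at h1
  have h5 : ((n : ℂ) - (t : ℂ) • (S : ℂ) - (t : ℂ) • (S : ℂ) + ((t : ℂ) * t) • (((Nat.card Z : ℝ) * n * S : ℝ) : ℂ)) =
      ((n - t * S - t * S + t * t * ((Nat.card Z : ℝ) * n * S) : ℝ) : ℂ) := by
    push_cast
    simp only [smul_eq_mul]
  rw [h5, Complex.ofReal_re] at h1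
  have h6 : t * ((Nat.card Z : ℝ) * n) = 1 := by rw [ht]; exact inv_mul_cancel₀ hc.ne'
  have h7 : n - t * S - t * S + t * t * ((Nat.card Z : ℝ) * n * S) = n - t * S := by
    have : t * t * ((Nat.card Z : ℝ) * n * S) = t * S * (t * ((Nat.card Z : ℝ) * n)) := by ring
    rw [this, h6]
    ring
  rw [h7] at h1
  have h8 : S = t * S * ((Nat.card Z : ℝ) * n) := by
    calc S = S * (t * ((Nat.card Z : ℝ) * n)) := by rw [h6, mul_one]
      _ = _ := by ring
  rw [h8]
  calc t * S * ((Nat.card Z : ℝ) * n) ≤ n * ((Nat.card Z : ℝ) * n) := by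
        apply mul_le_mul_of_nonneg_right _ hc.le
        linarith only [h1]
    _ = (Nat.card Z : ℝ) * (n : ℝ) ^ 2 := by ring

/-- **Weil-type bound.** `Q` a subgroup normalised by `g`, `Z ≤ Q` acting by scalars and central in `⟨Q, g⟩`, trace `0`
on `Q ∖ Z`. -/
theorem weil_mat [Finite P] {n : ℕ} (U : P →* Matrix (Fin n) (Fin n) ℂ) (hU : ∀ g, (U g)ᴴ = U g⁻¹)
    (Q Z : Subgroup P) (hsc : ∀ z ∈ Z, ∃ c : ℂ, U z = c • 1)
    (h0 : ∀ q ∈ Q, q ∉ Z → (U q).trace = 0) (hZQ : Z ≤ Q) (g : P) (hg : ∀ q ∈ Q, g * q * g⁻¹ ∈ Q)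
    (hZq : ∀ z ∈ Z, ∀ q ∈ Q, z * q = q * z) :
    ‖(U g).trace‖ ^ 2 * Nat.card Q ≤ (n : ℝ) ^ 2 * Nat.card {x : ↥Q // (x : P) * g * (x : P)⁻¹ * g⁻¹ ∈ Z} := by
  classical
  have := Fintype.ofFinite ↥Q
  have := Fintype.ofFinite ↥Z
  set K : ℕ := Nat.card {x : ↥Q // (x : P) * g * (x : P)⁻¹ * g⁻¹ ∈ Z} with hK
  have hB := bessel U hU Q Z hsc h0 hZQ g
  set f : ↥Q → ℂ := fun y => (U (y * g)).trace with hf
  -- the commutator
  let cm : ↥Q → ↥Q := fun x => ⟨(x : P) * g * (x : P)⁻¹ * g⁻¹, by
    have h1 := hg _ (Q.inv_mem x.2)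
    have h2 : (x : P) * g * (x : P)⁻¹ * g⁻¹ = (x : P) * (g * (x : P)⁻¹ * g⁻¹) := by group
    rw [h2]
    exact Q.mul_mem x.2 h1⟩
  have hcm : ∀ x, (cm x : P) = (x : P) * g * (x : P)⁻¹ * g⁻¹ := fun _ => rfl
  have hnc : ∀ (z : ↥Z) (c : ℂ), U (z : P) = c • 1 → 0 < n → ‖c‖ = 1 := by
    intro z c hc hn
    have h1 : (U (z : P))ᴴ * U z = 1 := by rw [hU, ← map_mul, inv_mul_cancel, map_one]
    rw [hc, Matrix.conjTranspose_smul, Matrix.conjTranspose_one, Matrix.smul_mul, Matrix.mul_smul, Matrix.one_mul,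
      smul_smul] at h1
    have h2 := congrFun (congrFun h1 ⟨0, hn⟩) ⟨0, hn⟩
    have h3 : conj c * c = 1 := by simpa only [_root_.RCLike.star_def, _root_.Matrix.smul_apply, _root_.Matrix.one_apply_eq, _root_.smul_eq_mul, _root_.mul_one] using h2
    have h4 := congrArg norm h3
    rw [norm_mul, RCLike.norm_conj, norm_one] at h4
    nlinarith only [h4, norm_nonneg c]
  have hval : ∀ (x : ↥Q) (z : ↥Z), ‖f (⟨z.1, hZQ z.2⟩ * cm x)‖ ^ 2 = ‖(U g).trace‖ ^ 2 := by
    intro x z
    rcases Nat.eq_zero_or_pos n with hn | hn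
    · subst hn
      simp [hf, Matrix.trace]
    obtain ⟨c, hc⟩ := hsc _ z.2
    have h1 : f (⟨z.1, hZQ z.2⟩ * cm x) = c * (U g).trace := by
      have h2 : ((⟨z.1, hZQ z.2⟩ * cm x : ↥Q) : P) * g = (z : P) * ((x : P) * g * (x : P)⁻¹) := by
        rw [Subgroup.coe_mul, hcm]
        group
      simp only [hf]
      rw [h2, map_mul, hc, Matrix.smul_mul, Matrix.one_mul, Matrix.trace_smul, smul_eq_mul, map_mul, map_mul,
        Matrix.trace_mul_comm, ← Matrix.mul_assoc, ← map_mul, inv_mul_cancel, map_one, Matrix.one_mul]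
    rw [h1, norm_mul, hnc z c hc hn, one_mul]
  -- double counting
  have hfib : ∀ d : ↥Q, (Finset.univ.filter fun p : ↥Q × ↥Z => (⟨p.2.1, hZQ p.2.2⟩ * cm p.1 : ↥Q) = d).card ≤ K := by
    intro d
    by_cases hne : ∃ p₀ : ↥Q × ↥Z, (⟨p₀.2.1, hZQ p₀.2.2⟩ * cm p₀.1 : ↥Q) = d
    · obtain ⟨p₀, hp₀⟩ := hne
      rw [hK, Nat.card_eq_fintype_card, Fintype.card_subtype]
      refine Finset.card_le_card_of_injOn (fun p => p₀.1⁻¹ * p.1) ?_ ?_
      · intro p hp
        simp only [Finset.coe_filter, Finset.mem_univ, true_and, Set.mem_ofPred_eq] at hp ⊢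
        have h1 : (p.2 : P) * ((p.1 : P) * g * (p.1 : P)⁻¹ * g⁻¹) = (p₀.2 : P) * ((p₀.1 : P) * g * (p₀.1 : P)⁻¹ * g⁻¹) := by
          have := congrArg Subtype.val (hp.trans hp₀.symm)
          simpa only [hcm, _root_.Subgroup.coe_mul] using this
        have hz0 : ((p.2 : P)⁻¹ * p₀.2) ∈ Z := Z.mul_mem (Z.inv_mem p.2.2) p₀.2.2
        have h2 : (p.1 : P) * g * (p.1 : P)⁻¹ = ((p.2 : P)⁻¹ * p₀.2) * ((p₀.1 : P) * g * (p₀.1 : P)⁻¹) := by
          have h3 : (p.1 : P) * g * (p.1 : P)⁻¹ * g⁻¹ = (p.2 : P)⁻¹ * ((p₀.2 : P) * ((p₀.1 : P) * g * (p₀.1 : P)⁻¹ * g⁻¹)) := by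
            rw [← h1]; group
          calc (p.1 : P) * g * (p.1 : P)⁻¹ = (p.1 : P) * g * (p.1 : P)⁻¹ * g⁻¹ * g := by group
            _ = _ := by rw [h3]; group
        have h4 : ((p₀.1⁻¹ * p.1 : ↥Q) : P) * g * ((p₀.1⁻¹ * p.1 : ↥Q) : P)⁻¹ * g⁻¹ = (p.2 : P)⁻¹ * p₀.2 := by
          set w : P := (p.2 : P)⁻¹ * p₀.2 with hw
          have h5 : (p₀.1 : P)⁻¹ * w = w * (p₀.1 : P)⁻¹ := (hZq w hz0 _ (Q.inv_mem p₀.1.2)).symm
          calc ((p₀.1⁻¹ * p.1 : ↥Q) : P) * g * ((p₀.1⁻¹ * p.1 : ↥Q) : P)⁻¹ * g⁻¹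
              = (p₀.1 : P)⁻¹ * ((p.1 : P) * g * (p.1 : P)⁻¹) * p₀.1 * g⁻¹ := by
                rw [Subgroup.coe_mul, Subgroup.coe_inv]; group
            _ = (p₀.1 : P)⁻¹ * w * (p₀.1 : P) := by rw [h2]; group
            _ = w * (p₀.1 : P)⁻¹ * (p₀.1 : P) := by rw [h5]
            _ = w := by group
        rw [h4]
        exact hz0
      · intro p hp p' hp' hpp
        simp only [Finset.coe_filter, Finset.mem_univ, true_and, Set.mem_ofPred_eq] at hp hp'
        have h1 : p.1 = p'.1 := mul_left_cancel hpp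
        have h2 : (⟨p.2.1, hZQ p.2.2⟩ : ↥Q) = ⟨p'.2.1, hZQ p'.2.2⟩ := by
          have h3 := hp.trans hp'.symm
          rw [h1] at h3
          exact mul_right_cancel h3
        exact Prod.ext h1 (Subtype.ext (congrArg (fun q : ↥Q => (q : P)) h2))
    · have : (Finset.univ.filter fun p : ↥Q × ↥Z => (⟨p.2.1, hZQ p.2.2⟩ * cm p.1 : ↥Q) = d) = ∅ := by
        rw [Finset.filter_eq_empty_iff]
        intro p _ hp
        exact hne ⟨p, hp⟩
      rw [this, Finset.card_empty]
      exact Nat.zero_le _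
  have h1 : ∑ p : ↥Q × ↥Z, ‖f (⟨p.2.1, hZQ p.2.2⟩ * cm p.1)‖ ^ 2 ≤ (K : ℝ) * ∑ y : ↥Q, ‖f y‖ ^ 2 := by
    rw [← Finset.sum_fiberwise (s := Finset.univ) (g := fun p : ↥Q × ↥Z => (⟨p.2.1, hZQ p.2.2⟩ * cm p.1 : ↥Q)),
      Finset.mul_sum]
    refine Finset.sum_le_sum fun d _ => ?_
    rw [Finset.sum_congr rfl (g := fun _ => ‖f d‖ ^ 2) (fun p hp => by
      rw [Finset.mem_filter] at hp
      rw [hp.2]), Finset.sum_const, nsmul_eq_mul]
    exact mul_le_mul_of_nonneg_right (by exact_mod_cast hfib d) (sq_nonneg _)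
  have h2 : ∑ p : ↥Q × ↥Z, ‖f (⟨p.2.1, hZQ p.2.2⟩ * cm p.1)‖ ^ 2 = (Nat.card Q : ℝ) * Nat.card Z * ‖(U g).trace‖ ^ 2 := by
    rw [Finset.sum_congr rfl fun p _ => hval p.1 p.2, Finset.sum_const, nsmul_eq_mul, Finset.card_univ, Fintype.card_prod,
      Nat.card_eq_fintype_card, Nat.card_eq_fintype_card]
    push_cast
    rfl
  have h3 : (Nat.card Q : ℝ) * Nat.card Z * ‖(U g).trace‖ ^ 2 ≤ (K : ℝ) * ((Nat.card Z : ℝ) * (n : ℝ) ^ 2) := by
    rw [← h2]
    exact h1.trans (mul_le_mul_of_nonneg_left hB (Nat.cast_nonneg _))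
  have hz : (0 : ℝ) < Nat.card Z := by exact_mod_cast Nat.card_pos
  refine le_of_mul_le_mul_left (?_ : (Nat.card Z : ℝ) * _ ≤ (Nat.card Z : ℝ) * _) hz
  calc (Nat.card Z : ℝ) * (‖(U g).trace‖ ^ 2 * Nat.card Q) = (Nat.card Q : ℝ) * Nat.card Z * ‖(U g).trace‖ ^ 2 := by ring
    _ ≤ _ := h3
    _ = _ := by ring

/-- **Weil-type bound** for a representation. -/
theorem weil [Finite P] {V : Type*} [AddCommGroup V] [Module ℂ V] [FiniteDimensional ℂ V] (ρ : Representation ℂ P V)
    (Q Z : Subgroup P) (hsc : ∀ z ∈ Z, ∃ c : ℂ, ρ z = c • 1)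
    (h0 : ∀ q ∈ Q, q ∉ Z → ∃ q' : P, ∃ c : ℂ, c ≠ 1 ∧ ρ (q' * q * q'⁻¹ * q⁻¹) = c • 1) (hZQ : Z ≤ Q) (g : P)
    (hg : ∀ q ∈ Q, g * q * g⁻¹ ∈ Q) (hZq : ∀ z ∈ Z, ∀ q ∈ Q, z * q = q * z) :
    ‖LinearMap.trace ℂ V (ρ g)‖ ^ 2 * Nat.card Q ≤
      (Module.finrank ℂ V : ℝ) ^ 2 * Nat.card {x : ↥Q // (x : P) * g * (x : P)⁻¹ * g⁻¹ ∈ Z} := by
  obtain ⟨U, hU, hUt, hUs⟩ := exists_unitary ρ
  rw [← hUt]
  refine weil_mat U hU Q Z (fun z hz => ?_) (fun q hq hqz => ?_) hZQ g hg hZq
  · obtain ⟨c, hc⟩ := hsc z hz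
    exact ⟨c, hUs z c hc⟩
  · obtain ⟨q', c, hc1, hc⟩ := h0 q hq hqz
    have h1 := hUs _ c hc
    have h2 : (U q).trace = c * (U q).trace := by
      calc (U q).trace = (U (q' * q * q'⁻¹)).trace := by
            rw [map_mul, map_mul, Matrix.trace_mul_comm, ← Matrix.mul_assoc, ← map_mul, inv_mul_cancel, map_one,
              Matrix.one_mul]
        _ = (U (q' * q * q'⁻¹ * q⁻¹) * U q).trace := by rw [← map_mul, inv_mul_cancel_right]
        _ = c * (U q).trace := by rw [h1, Matrix.smul_mul, Matrix.one_mul, Matrix.trace_smul, smul_eq_mul]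
    have h3 : (1 - c) * (U q).trace = 0 := by rw [sub_mul, one_mul, ← h2, sub_self]
    rcases mul_eq_zero.1 h3 with h4 | h4
    · exact absurd (sub_eq_zero.1 h4).symm hc1
    · exact h4

/-- the trace vanishes if a commutator `[x, g]` acts by a scalar `≠ 1` -/
theorem weil_zero {V : Type*} [AddCommGroup V] [Module ℂ V] [FiniteDimensional ℂ V] (ρ : Representation ℂ P V)
    {g x : P} {c : ℂ} (hc1 : c ≠ 1) (hc : ρ (x * g * x⁻¹ * g⁻¹) = c • 1) : LinearMap.trace ℂ V (ρ g) = 0 := by
  have h2 : LinearMap.trace ℂ V (ρ g) = c * LinearMap.trace ℂ V (ρ g) := by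
    calc LinearMap.trace ℂ V (ρ g) = LinearMap.trace ℂ V (ρ (x * g * x⁻¹)) := by
          rw [map_mul ρ, map_mul ρ, LinearMap.trace_mul_comm, ← mul_assoc, ← map_mul, inv_mul_cancel, map_one, one_mul]
      _ = LinearMap.trace ℂ V (ρ (x * g * x⁻¹ * g⁻¹) * ρ g) := by rw [← map_mul, inv_mul_cancel_right]
      _ = c * LinearMap.trace ℂ V (ρ g) := by rw [hc, smul_mul_assoc, one_mul, map_smul, smul_eq_mul]
  have h3 : (1 - c) * LinearMap.trace ℂ V (ρ g) = 0 := by rw [sub_mul, one_mul, ← h2, sub_self]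
  rcases mul_eq_zero.1 h3 with h4 | h4
  · exact absurd (sub_eq_zero.1 h4).symm hc1
  · exact h4

end Cfsg.Agent.H980.RB
end

-- part: H980/RB/Cut
section
/-!
# Cutting a character along a subgroup of order three (S2464, `F₄(3)`; helper980)

* `fixM ρ S` : the vectors fixed by a set `S`;
* `norm_trace_le_fix` : `Q` acts abelian, `g` normalises `Q`: `‖tr g‖ ≤ dim` of the fixed space of `[Q, g]`;
* `ratio` : `z` of order `3`, `Q` with `Q/⟨z⟩` abelian and nondegenerate commutator form, `g` normalises `Q` and commutes with `z`: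
  `‖tr g‖ ≤ dim V^(z, [Q, g]) + (dim V - dim V^z) * √(|{x ∈ Q : [x, g] ∈ ⟨z⟩}| / |Q|)`;
* `ratio_zero` : if `[x, g] = z` for some `x ∈ Q`: `‖tr g‖ ≤ dim V^(z, [Q, g])`.
-/

set_option autoImplicit false

namespace Cfsg.Agent.H980.RB

open Module

variable {G : Type*} [Group G] {V : Type*} [AddCommGroup V] [Module ℂ V]

/-- the vectors fixed by the set `S` -/
def fixM (ρ : Representation ℂ G V) (S : Set G) : Submodule ℂ V where
  carrier := {v | ∀ s ∈ S, ρ s v = v}
  add_mem' := fun {v w} hv hw s hs => by rw [map_add, hv s hs, hw s hs]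
  zero_mem' := fun s _ => map_zero _
  smul_mem' := fun c v hv s hs => by rw [map_smul, hv s hs]

theorem mem_fixM {ρ : Representation ℂ G V} {S : Set G} {v : V} : v ∈ fixM ρ S ↔ ∀ s ∈ S, ρ s v = v := Iff.rfl

/-- the restriction of `ρ` to a subgroup and an invariant subspace -/
def subRep (ρ : Representation ℂ G V) (P : Subgroup G) (W : Submodule ℂ V) (hW : ∀ p ∈ P, ∀ w ∈ W, ρ p w ∈ W) :
    Representation ℂ ↥P ↥W where
  toFun := fun p => (ρ p).restrict (hW p p.2)
  map_one' := by
    ext w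
    simp only [_root_.OneMemClass.coe_one, _root_.map_one, _root_.LinearMap.coe_restrict_apply, _root_.Module.End.one_apply]
  map_mul' := fun p p' => by
    ext w
    simp only [_root_.Subgroup.coe_mul, _root_.map_mul, _root_.LinearMap.coe_restrict_apply, _root_.Module.End.mul_apply]

theorem subRep_apply (ρ : Representation ℂ G V) (P : Subgroup G) (W : Submodule ℂ V) (hW : ∀ p ∈ P, ∀ w ∈ W, ρ p w ∈ W)
    (p : ↥P) (w : ↥W) : ((subRep ρ P W hW p w : ↥W) : V) = ρ p w := rfl

/-- trace of `e ∘ ρ g` for a projection `e` onto an invariant subspace -/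
theorem trace_proj [FiniteDimensional ℂ V] (ρ : Representation ℂ G V) (P : Subgroup G) (W : Submodule ℂ V)
    (hW : ∀ p ∈ P, ∀ w ∈ W, ρ p w ∈ W) (e : V →ₗ[ℂ] V) (he : ∀ v, e v ∈ W) (he' : ∀ w ∈ W, e w = w) (g : ↥P) :
    LinearMap.trace ℂ V (e * ρ g) = LinearMap.trace ℂ W (subRep ρ P W hW g) := by
  rw [← LinearMap.trace_restrict_eq_of_forall_mem W (e * ρ g) (fun x => he _)]
  congr 1
  ext w
  simp only [LinearMap.coe_restrict_apply, Module.End.mul_apply]
  rw [he' _ (hW g g.2 w w.2), subRep_apply]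

/-- the trivial bound -/
theorem norm_trace_le [Finite G] [FiniteDimensional ℂ V] (ρ : Representation ℂ G V) (g : G) :
    ‖LinearMap.trace ℂ V (ρ g)‖ ≤ finrank ℂ V := by
  have h := weil ρ (⊥ : Subgroup G) ⊥ (fun z hz => ⟨1, by rw [Subgroup.mem_bot.1 hz, map_one, one_smul]⟩)
    (fun q hq hq' => absurd hq hq') le_rfl g (fun q hq => by
      rw [Subgroup.mem_bot.1 hq]; simp only [_root_.mul_one, _root_.mul_inv_cancel, _root_.OneMemClass.one_mem]) (fun z hz q hq => by
      rw [Subgroup.mem_bot.1 hz, Subgroup.mem_bot.1 hq])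
  have h1 : Nat.card {x : ↥(⊥ : Subgroup G) // (x : G) * g * (x : G)⁻¹ * g⁻¹ ∈ (⊥ : Subgroup G)} ≤ 1 := by
    have h2 := Finite.card_subtype_le (fun x : ↥(⊥ : Subgroup G) => (x : G) * g * (x : G)⁻¹ * g⁻¹ ∈ (⊥ : Subgroup G))
    rwa [Subgroup.card_bot] at h2
  rw [Subgroup.card_bot, Nat.cast_one, mul_one] at h
  have h3 : ‖LinearMap.trace ℂ V (ρ g)‖ ^ 2 ≤ (finrank ℂ V : ℝ) ^ 2 := by
    refine h.trans ?_
    have h4 : ((Nat.card {x : ↥(⊥ : Subgroup G) // (x : G) * g * (x : G)⁻¹ * g⁻¹ ∈ (⊥ : Subgroup G)} : ℕ) : ℝ) ≤ 1 := by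
      exact_mod_cast h1
    nlinarith only [h4, sq_nonneg (finrank ℂ V : ℝ)]
  exact le_of_sq_le_sq h3 (Nat.cast_nonneg _)

/-- the commutators `[q, g]`, `q ∈ Q` -/
def comSet (Q : Subgroup G) (g : G) : Set G := {r | ∃ q ∈ Q, r = q * g * q⁻¹ * g⁻¹}

/-- **The fixed part.** `Q` acts as an abelian group and is normalised by `g`: `‖tr g‖` is at most the dimension of the
space of the vectors fixed by `[Q, g]`. -/
theorem norm_trace_le_fix [Finite G] [FiniteDimensional ℂ V] (ρ : Representation ℂ G V) (Q : Subgroup G)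
    (hQ : ∀ q ∈ Q, ∀ q' ∈ Q, ρ q * ρ q' = ρ q' * ρ q) (g : G) (hg : ∀ q, q ∈ Q ↔ g * q * g⁻¹ ∈ Q) :
    ‖LinearMap.trace ℂ V (ρ g)‖ ≤ finrank ℂ ↥(fixM ρ (comSet Q g)) := by
  classical
  have := Fintype.ofFinite ↥Q
  set W := fixM ρ (comSet Q g) with hW
  have hN : (Fintype.card ↥Q : ℂ) ≠ 0 := by
    exact_mod_cast Fintype.card_ne_zero
  have hcm : ∀ q ∈ Q, q * g * q⁻¹ * g⁻¹ ∈ Q := by
    intro q hq
    have h1 := (hg _).1 (Q.inv_mem hq)
    have h2 : q * g * q⁻¹ * g⁻¹ = q * (g * q⁻¹ * g⁻¹) := by group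
    rw [h2]
    exact Q.mul_mem hq h1
  set e : V →ₗ[ℂ] V := (Fintype.card ↥Q : ℂ)⁻¹ • ∑ q : ↥Q, ρ ((q : G) * g * (q : G)⁻¹ * g⁻¹) with he
  have hmul : ∀ q q' : ↥Q, ρ (((q * q' : ↥Q) : G) * g * ((q * q' : ↥Q) : G)⁻¹ * g⁻¹) =
      ρ ((q' : G) * g * (q' : G)⁻¹ * g⁻¹) * ρ ((q : G) * g * (q : G)⁻¹ * g⁻¹) := by
    intro q q'
    have h1 : ((q * q' : ↥Q) : G) * g * ((q * q' : ↥Q) : G)⁻¹ * g⁻¹ =
        (q : G) * ((q' : G) * g * (q' : G)⁻¹ * g⁻¹) * (q : G)⁻¹ * ((q : G) * g * (q : G)⁻¹ * g⁻¹) := by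
      rw [Subgroup.coe_mul]; group
    have h2 : ρ (q : G) * ρ (q : G)⁻¹ = 1 := by rw [← map_mul, mul_inv_cancel, map_one]
    rw [h1, map_mul, map_mul, map_mul, hQ _ q.2 _ (hcm _ q'.2), mul_assoc (ρ ((q' : G) * g * (q' : G)⁻¹ * g⁻¹)), h2, mul_one]
  have heW : ∀ v, e v ∈ W := by
    rintro v r ⟨q, hq, rfl⟩
    rw [he, LinearMap.smul_apply, map_smul, LinearMap.sum_apply, map_sum]
    congr 1
    rw [← Equiv.sum_comp (Equiv.mulRight (⟨q, hq⟩ : ↥Q)) (fun q' : ↥Q => ρ ((q' : G) * g * (q' : G)⁻¹ * g⁻¹) v)]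
    refine Finset.sum_congr rfl fun q' _ => ?_
    rw [Equiv.coe_mulRight, hmul q' ⟨q, hq⟩]
    rfl
  have heW' : ∀ w ∈ W, e w = w := by
    intro w hw
    rw [he, LinearMap.smul_apply, LinearMap.sum_apply]
    have h1 : ∀ q : ↥Q, ρ ((q : G) * g * (q : G)⁻¹ * g⁻¹) w = w := fun q => hw _ ⟨q, q.2, rfl⟩
    rw [Finset.sum_congr rfl fun q _ => h1 q, Finset.sum_const, Finset.card_univ, ← Nat.cast_smul_eq_nsmul ℂ, smul_smul,
      inv_mul_cancel₀ hN, one_smul]
  have hgW : ∀ w ∈ W, ρ g w ∈ W := by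
    rintro w hw r ⟨q, hq, rfl⟩
    have h1 : g⁻¹ * q * g ∈ Q := by
      rw [hg]
      have : g * (g⁻¹ * q * g) * g⁻¹ = q := by group
      rwa [this]
    have h2 := hw _ ⟨g⁻¹ * q * g, h1, rfl⟩
    rw [← Module.End.mul_apply, ← map_mul]
    have h3 : q * g * q⁻¹ * g⁻¹ * g = g * (g⁻¹ * q * g * g * (g⁻¹ * q * g)⁻¹ * g⁻¹) := by group
    rw [h3, map_mul, Module.End.mul_apply, h2]
  have hgi : ∀ w ∈ W, ρ g⁻¹ w ∈ W := by
    have hfin := isOfFinOrder_of_finite g
    obtain ⟨n, hn⟩ : ∃ n : ℕ, g⁻¹ = g ^ n := by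
      obtain ⟨n, hn⟩ := hfin.mem_powers_iff_mem_zpowers.2 (Subgroup.inv_mem _ (Subgroup.mem_zpowers g))
      exact ⟨n, hn.symm⟩
    rw [hn]
    clear hn
    induction n with
    | zero => intro w hw; simpa using hw
    | succ k ih =>
      intro w hw
      rw [pow_succ, map_mul, Module.End.mul_apply]
      exact ih _ (hgW w hw)
  have hPW : ∀ p ∈ Subgroup.zpowers g, ∀ w ∈ W, ρ p w ∈ W := by
    rintro p ⟨k, rfl⟩
    induction k using Int.induction_on with
    | zero => intro w hw; simpa using hw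
    | succ k ih =>
      intro w hw
      show ρ (g ^ ((k : ℤ) + 1)) w ∈ W
      rw [zpow_add_one, map_mul, Module.End.mul_apply]
      exact ih _ (hgW w hw)
    | pred k ih =>
      intro w hw
      show ρ (g ^ (-(k : ℤ) - 1)) w ∈ W
      rw [zpow_sub_one, map_mul, Module.End.mul_apply]
      exact ih _ (hgi w hw)
  have htr : LinearMap.trace ℂ V (ρ g) = LinearMap.trace ℂ V (e * ρ g) := by
    rw [he, smul_mul_assoc, Finset.sum_mul, map_smul, map_sum]
    have h1 : ∀ q : ↥Q, LinearMap.trace ℂ V (ρ ((q : G) * g * (q : G)⁻¹ * g⁻¹) * ρ g) = LinearMap.trace ℂ V (ρ g) := by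
      intro q
      rw [← map_mul, inv_mul_cancel_right, map_mul ρ, map_mul ρ, LinearMap.trace_mul_comm, ← mul_assoc, ← map_mul,
        inv_mul_cancel, map_one, one_mul]
    rw [Finset.sum_congr rfl fun q _ => h1 q, Finset.sum_const, Finset.card_univ, nsmul_eq_mul, smul_eq_mul, ← mul_assoc,
      inv_mul_cancel₀ hN, one_mul]
  rw [htr, trace_proj ρ (Subgroup.zpowers g) W hPW e heW heW' ⟨g, Subgroup.mem_zpowers g⟩]
  exact norm_trace_le _ _

/-! ### the cut along an element of order three -/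

/-- the restriction of `ρ` to an invariant subspace -/
def resRep (ρ : Representation ℂ G V) (W : Submodule ℂ V) (hW : ∀ p : G, ∀ w ∈ W, ρ p w ∈ W) : Representation ℂ G ↥W where
  toFun := fun p => (ρ p).restrict (hW p)
  map_one' := by
    ext w
    simp only [_root_.map_one, _root_.LinearMap.coe_restrict_apply, _root_.Module.End.one_apply]
  map_mul' := fun p p' => by
    ext w
    simp only [_root_.map_mul, _root_.LinearMap.coe_restrict_apply, _root_.Module.End.mul_apply]

theorem resRep_apply (ρ : Representation ℂ G V) (W : Submodule ℂ V) (hW : ∀ p : G, ∀ w ∈ W, ρ p w ∈ W)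
    (p : G) (w : ↥W) : ((resRep ρ W hW p w : ↥W) : V) = ρ p w := rfl

/-- trace of `e ∘ ρ g` for a projection `e` onto an invariant subspace -/
theorem trace_proj' [FiniteDimensional ℂ V] (ρ : Representation ℂ G V) (W : Submodule ℂ V)
    (hW : ∀ p : G, ∀ w ∈ W, ρ p w ∈ W) (e : V →ₗ[ℂ] V) (he : ∀ v, e v ∈ W) (he' : ∀ w ∈ W, e w = w) (g : G) :
    LinearMap.trace ℂ V (e * ρ g) = LinearMap.trace ℂ W (resRep ρ W hW g) := by
  rw [← LinearMap.trace_restrict_eq_of_forall_mem W (e * ρ g) (fun x => he _)]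
  congr 1
  ext w
  simp only [LinearMap.coe_restrict_apply, Module.End.mul_apply]
  rw [he' _ (hW g w w.2), resRep_apply]

/-- the eigenspace of `z` -/
def eigM (ρ : Representation ℂ G V) (z : G) (ζ : ℂ) : Submodule ℂ V where
  carrier := {v | ρ z v = ζ • v}
  add_mem' := fun {v w} hv hw => by
    show ρ z (v + w) = ζ • (v + w)
    rw [map_add, smul_add]
    exact congrArg₂ _ hv hw
  zero_mem' := by
    show ρ z 0 = ζ • (0 : V)
    rw [map_zero, smul_zero]
  smul_mem' := fun c v hv => by
    show ρ z (c • v) = ζ • (c • v)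
    rw [map_smul, smul_comm ζ c v]
    exact congrArg _ hv

theorem mem_eigM {ρ : Representation ℂ G V} {z : G} {ζ : ℂ} {v : V} : v ∈ eigM ρ z ζ ↔ ρ z v = ζ • v := Iff.rfl

/-- the projection onto the eigenspace -/
noncomputable def prj (ρ : Representation ℂ G V) (z : G) (ζ : ℂ) : V →ₗ[ℂ] V :=
  (3 : ℂ)⁻¹ • (1 + ζ ^ 2 • ρ z + ζ • ρ (z ^ 2))

theorem prj_mem {ρ : Representation ℂ G V} {z : G} (hz : z ^ 3 = 1) {ζ : ℂ} (hζ : ζ ^ 3 = 1) (v : V) :
    prj ρ z ζ v ∈ eigM ρ z ζ := by
  have h3 : ρ z (ρ (z ^ 2) v) = v := by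
    rw [← Module.End.mul_apply, ← map_mul, ← pow_succ', hz, map_one, Module.End.one_apply]
  have h2 : ρ z (ρ z v) = ρ (z ^ 2) v := by rw [← Module.End.mul_apply, ← map_mul, ← pow_two]
  rw [mem_eigM, prj]
  simp only [LinearMap.smul_apply, LinearMap.add_apply, Module.End.one_apply, map_smul, map_add, h3, h2]
  rw [smul_comm ζ ((3 : ℂ)⁻¹)]
  congr 1
  rw [smul_add, smul_add, smul_smul, smul_smul]
  have h4 : ζ * ζ ^ 2 = 1 := by rw [← pow_succ', hζ]
  rw [h4, one_smul, ← pow_two]
  abel

theorem prj_eq {ρ : Representation ℂ G V} {z : G} {ζ : ℂ} (hζ : ζ ^ 3 = 1) {v : V} (hv : v ∈ eigM ρ z ζ) :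
    prj ρ z ζ v = v := by
  rw [mem_eigM] at hv
  have h2 : ρ (z ^ 2) v = ζ ^ 2 • v := by
    rw [pow_two, map_mul, Module.End.mul_apply, hv, map_smul, hv, smul_smul, pow_two]
  rw [prj]
  simp only [LinearMap.smul_apply, LinearMap.add_apply, Module.End.one_apply, hv, h2, smul_smul]
  have h4 : ζ ^ 2 * ζ = 1 := by rw [← pow_succ, hζ]
  have h5 : ζ * ζ ^ 2 = 1 := by rw [← pow_succ', hζ]
  rw [h4, h5, one_smul]
  have h6 : v + v + v = (3 : ℂ) • v := by
    rw [show (3 : ℂ) = 1 + 1 + 1 by norm_num, add_smul, add_smul, one_smul]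
  rw [h6, smul_smul, inv_mul_cancel₀ (by norm_num), one_smul]

/-- the three projections add up to `1` -/
theorem prj_sum (ρ : Representation ℂ G V) (z : G) {ω : ℂ} (hω : IsPrimitiveRoot ω 3) :
    prj ρ z 1 + prj ρ z ω + prj ρ z (ω ^ 2) = 1 := by
  have h1 : 1 + ω + ω ^ 2 = 0 := by
    have := hω.geom_sum_eq_zero (by norm_num)
    simpa only [Finset.sum_range_succ, _root_.Finset.range_one, _root_.Finset.sum_singleton, _root_.pow_zero, _root_.pow_one] using this
  have h3 : ω ^ 3 = 1 := hω.pow_eq_one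
  have h4 : (ω ^ 2) ^ 2 = ω := by
    calc (ω ^ 2) ^ 2 = ω ^ 3 * ω := by ring
      _ = ω := by rw [h3, one_mul]
  simp only [prj, one_pow, one_smul]
  rw [h4, ← smul_add, ← smul_add]
  have h5 : (1 + ρ z + ρ (z ^ 2) + (1 + ω ^ 2 • ρ z + ω • ρ (z ^ 2)) + (1 + ω • ρ z + ω ^ 2 • ρ (z ^ 2)) : V →ₗ[ℂ] V) =
      (3 : ℂ) • 1 + ((1 + ω + ω ^ 2) • ρ z + (1 + ω + ω ^ 2) • ρ (z ^ 2)) := by
    rw [show (3 : ℂ) = 1 + 1 + 1 by norm_num]
    simp only [add_smul, one_smul]
    abel
  rw [h5, h1, zero_smul, zero_smul, add_zero, add_zero, smul_smul, inv_mul_cancel₀ (by norm_num), one_smul]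

/-- invariance of the eigenspaces of a central element -/
theorem eigM_inv {ρ : Representation ℂ G V} {z : G} (hzc : ∀ p : G, p * z = z * p) (ζ : ℂ) :
    ∀ p : G, ∀ w ∈ eigM ρ z ζ, ρ p w ∈ eigM ρ z ζ := by
  intro p w hw
  rw [mem_eigM] at hw ⊢
  rw [← Module.End.mul_apply, ← map_mul, ← hzc, map_mul, Module.End.mul_apply, hw, map_smul]

theorem exists_pow_of_mem {z r : G} (hz : z ^ 3 = 1) (h : r ∈ Subgroup.zpowers z) : ∃ k : ℕ, r = z ^ k := by
  have h1 : IsOfFinOrder z := isOfFinOrder_iff_pow_eq_one.2 ⟨3, by norm_num, hz⟩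
  obtain ⟨k, hk⟩ := h1.mem_powers_iff_mem_zpowers.2 h
  exact ⟨k, hk.symm⟩

theorem res_pow {ρ : Representation ℂ G V} {z : G} (hzc : ∀ p : G, p * z = z * p) (ζ : ℂ) (k : ℕ) :
    resRep ρ (eigM ρ z ζ) (eigM_inv hzc ζ) (z ^ k) = ζ ^ k • 1 := by
  rw [map_pow]
  have h1 : resRep ρ (eigM ρ z ζ) (eigM_inv hzc ζ) z = ζ • 1 := by
    ext w
    rw [resRep_apply]
    exact w.2
  rw [h1, smul_pow, one_pow]

section cut

variable [Finite G] [FiniteDimensional ℂ V] {ρ : Representation ℂ G V} {z : G} {Q : Subgroup G} {g : G}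

/-- the faithful part -/
theorem faithful_le (hz3 : z ^ 3 = 1) (hzc : ∀ p : G, p * z = z * p) (hzQ : z ∈ Q)
    (hnd : ∀ q ∈ Q, q ∉ Subgroup.zpowers z → ∃ q' ∈ Q, q' * q * q'⁻¹ * q⁻¹ ∈ Subgroup.zpowers z ∧ q' * q * q'⁻¹ * q⁻¹ ≠ 1)
    (hg : ∀ q, q ∈ Q ↔ g * q * g⁻¹ ∈ Q) {ζ : ℂ} (hζ : IsPrimitiveRoot ζ 3) :
    ‖LinearMap.trace ℂ V (prj ρ z ζ * ρ g)‖ ^ 2 * Nat.card Q ≤ (finrank ℂ ↥(eigM ρ z ζ) : ℝ) ^ 2 *
      Nat.card {x : ↥Q // (x : G) * g * (x : G)⁻¹ * g⁻¹ ∈ Subgroup.zpowers z} := by
  rw [trace_proj' ρ (eigM ρ z ζ) (eigM_inv hzc ζ) (prj ρ z ζ) (prj_mem hz3 hζ.pow_eq_one)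
    (fun w hw => prj_eq hζ.pow_eq_one hw)]
  refine weil (resRep ρ (eigM ρ z ζ) (eigM_inv hzc ζ)) Q (Subgroup.zpowers z) ?_ ?_ ?_ g (fun q hq => (hg q).1 hq) ?_
  · intro r hr
    obtain ⟨k, rfl⟩ := exists_pow_of_mem hz3 hr
    exact ⟨_, res_pow hzc ζ k⟩
  · intro q hq hqz
    obtain ⟨q', -, h1, h2⟩ := hnd q hq hqz
    obtain ⟨k, hk⟩ := exists_pow_of_mem hz3 h1
    refine ⟨q', ζ ^ k, ?_, ?_⟩
    · intro h3
      obtain ⟨m, hm⟩ := hζ.dvd_of_pow_eq_one k h3
      apply h2
      rw [hk, hm, pow_mul, hz3, one_pow]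
    · rw [hk]
      exact res_pow hzc ζ k
  · rw [Subgroup.zpowers_le]
    exact hzQ
  · intro r hr q _
    obtain ⟨k, rfl⟩ := exists_pow_of_mem hz3 hr
    have h1 : Commute q z := hzc q
    exact (h1.pow_right k).eq.symm

omit [Finite G] in
/-- the faithful part vanishes -/
theorem faithful_zero (hz3 : z ^ 3 = 1) (hzc : ∀ p : G, p * z = z * p) {x : G}
    (hx : x * g * x⁻¹ * g⁻¹ ∈ Subgroup.zpowers z) (hx1 : x * g * x⁻¹ * g⁻¹ ≠ 1) {ζ : ℂ} (hζ : IsPrimitiveRoot ζ 3) :
    LinearMap.trace ℂ V (prj ρ z ζ * ρ g) = 0 := by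
  rw [trace_proj' ρ (eigM ρ z ζ) (eigM_inv hzc ζ) (prj ρ z ζ) (prj_mem hz3 hζ.pow_eq_one)
    (fun w hw => prj_eq hζ.pow_eq_one hw)]
  obtain ⟨k, hk⟩ := exists_pow_of_mem hz3 hx
  refine weil_zero (resRep ρ (eigM ρ z ζ) (eigM_inv hzc ζ)) (g := g) (x := x) (c := ζ ^ k) ?_ ?_
  · intro h3
    obtain ⟨m, hm⟩ := hζ.dvd_of_pow_eq_one k h3
    apply hx1
    rw [hk, hm, pow_mul, hz3, one_pow]
  · rw [hk]
    exact res_pow hzc ζ k

/-- the part with trivial `z` -/
theorem fixed_le (hz3 : z ^ 3 = 1) (hzc : ∀ p : G, p * z = z * p)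
    (hQZ : ∀ q ∈ Q, ∀ q' ∈ Q, q * q' * q⁻¹ * q'⁻¹ ∈ Subgroup.zpowers z) (hg : ∀ q, q ∈ Q ↔ g * q * g⁻¹ ∈ Q) :
    ‖LinearMap.trace ℂ V (prj ρ z 1 * ρ g)‖ ≤ finrank ℂ ↥(fixM ρ (insert z (comSet Q g))) := by
  rw [trace_proj' ρ (eigM ρ z 1) (eigM_inv hzc 1) (prj ρ z 1) (prj_mem hz3 (one_pow 3))
    (fun w hw => prj_eq (one_pow 3) hw)]
  refine (norm_trace_le_fix (resRep ρ (eigM ρ z 1) (eigM_inv hzc 1)) Q ?_ g hg).trans ?_
  · intro q hq q' hq'
    obtain ⟨k, hk⟩ := exists_pow_of_mem hz3 (hQZ q hq q' hq')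
    have h1 : q * q' = (q * q' * q⁻¹ * q'⁻¹) * (q' * q) := by group
    rw [← map_mul, h1, hk, map_mul, res_pow hzc, one_pow, one_smul, one_mul, map_mul]
  · have h1 : (fixM (resRep ρ (eigM ρ z 1) (eigM_inv hzc 1)) (comSet Q g)).map (eigM ρ z 1).subtype ≤
        fixM ρ (insert z (comSet Q g)) := by
      rintro v ⟨w, hw, rfl⟩ s hs
      rcases hs with rfl | hs
      · have h2 := w.2
        rw [mem_eigM, one_smul] at h2
        exact h2
      · have h2 := hw s hs
        exact congrArg (fun u : ↥(eigM ρ z 1) => (u : V)) h2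
    have h2 := Submodule.finrank_mono h1
    rw [← (Submodule.equivMapOfInjective (eigM ρ z 1).subtype Subtype.val_injective _).finrank_eq] at h2
    exact_mod_cast h2

omit [Finite G] in
/-- the dimension of the eigenspaces -/
theorem finrank_eig (ρ : Representation ℂ G V) (hz3 : z ^ 3 = 1) (hzc : ∀ p : G, p * z = z * p) {ω : ℂ}
    (hω : IsPrimitiveRoot ω 3) :
    (finrank ℂ ↥(eigM ρ z ω) : ℝ) + finrank ℂ ↥(eigM ρ z (ω ^ 2)) = finrank ℂ V - finrank ℂ ↥(eigM ρ z 1) := by
  have h1 : ∀ ζ : ℂ, ζ ^ 3 = 1 → LinearMap.trace ℂ V (prj ρ z ζ) = finrank ℂ ↥(eigM ρ z ζ) := by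
    intro ζ hζ
    have h2 := trace_proj' ρ (eigM ρ z ζ) (eigM_inv hzc ζ) (prj ρ z ζ) (prj_mem hz3 hζ) (fun w hw => prj_eq hζ hw) 1
    rwa [map_one, map_one, mul_one, LinearMap.trace_one] at h2
  have h3 : ω ^ 3 = 1 := hω.pow_eq_one
  have h4 : (ω ^ 2) ^ 3 = 1 := by rw [← pow_mul, mul_comm, pow_mul, h3, one_pow]
  have h5 := congrArg (LinearMap.trace ℂ V) (prj_sum ρ z hω)
  rw [map_add, map_add, h1 1 (one_pow 3), h1 ω h3, h1 _ h4, LinearMap.trace_one] at h5
  have h6 : (finrank ℂ ↥(eigM ρ z 1) : ℝ) + finrank ℂ ↥(eigM ρ z ω) + finrank ℂ ↥(eigM ρ z (ω ^ 2)) = finrank ℂ V := by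
    exact_mod_cast h5
  linarith

/-- **The ratio bound.** -/
theorem ratio (ρ : Representation ℂ G V) (hz3 : z ^ 3 = 1) (hzc : ∀ p : G, p * z = z * p) (hzQ : z ∈ Q)
    (hQZ : ∀ q ∈ Q, ∀ q' ∈ Q, q * q' * q⁻¹ * q'⁻¹ ∈ Subgroup.zpowers z)
    (hnd : ∀ q ∈ Q, q ∉ Subgroup.zpowers z → ∃ q' ∈ Q, q' * q * q'⁻¹ * q⁻¹ ∈ Subgroup.zpowers z ∧ q' * q * q'⁻¹ * q⁻¹ ≠ 1)
    (hg : ∀ q, q ∈ Q ↔ g * q * g⁻¹ ∈ Q) {s : ℝ} (hs : 0 ≤ s)
    (hK : (Nat.card {x : ↥Q // (x : G) * g * (x : G)⁻¹ * g⁻¹ ∈ Subgroup.zpowers z} : ℝ) ≤ s ^ 2 * Nat.card Q) :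
    ‖LinearMap.trace ℂ V (ρ g)‖ ≤ finrank ℂ ↥(fixM ρ (insert z (comSet Q g))) +
      (finrank ℂ V - finrank ℂ ↥(eigM ρ z 1)) * s := by
  obtain ⟨ω, hω⟩ : ∃ ω : ℂ, IsPrimitiveRoot ω 3 := ⟨_, Complex.isPrimitiveRoot_exp 3 (by norm_num)⟩
  have hω2 : IsPrimitiveRoot (ω ^ 2) 3 := hω.pow_of_coprime 2 (by norm_num)
  have hQ0 : (0 : ℝ) < Nat.card Q := by exact_mod_cast Nat.card_pos
  have h1 : ∀ ζ : ℂ, IsPrimitiveRoot ζ 3 → ‖LinearMap.trace ℂ V (prj ρ z ζ * ρ g)‖ ≤ finrank ℂ ↥(eigM ρ z ζ) * s := by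
    intro ζ hζ
    have h2 := faithful_le (ρ := ρ) hz3 hzc hzQ hnd hg hζ
    have h3 : ‖LinearMap.trace ℂ V (prj ρ z ζ * ρ g)‖ ^ 2 * Nat.card Q ≤
        ((finrank ℂ ↥(eigM ρ z ζ) : ℝ) * s) ^ 2 * Nat.card Q := by
      refine h2.trans ?_
      calc (finrank ℂ ↥(eigM ρ z ζ) : ℝ) ^ 2 *
            Nat.card {x : ↥Q // (x : G) * g * (x : G)⁻¹ * g⁻¹ ∈ Subgroup.zpowers z}
          ≤ (finrank ℂ ↥(eigM ρ z ζ) : ℝ) ^ 2 * (s ^ 2 * Nat.card Q) := mul_le_mul_of_nonneg_left hK (sq_nonneg _)
        _ = _ := by ring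
    exact le_of_sq_le_sq (le_of_mul_le_mul_right h3 hQ0) (mul_nonneg (Nat.cast_nonneg _) hs)
  have h4 := fixed_le (ρ := ρ) hz3 hzc hQZ hg
  have h5 : ρ g = prj ρ z 1 * ρ g + prj ρ z ω * ρ g + prj ρ z (ω ^ 2) * ρ g := by
    rw [← add_mul, ← add_mul, prj_sum ρ z hω, one_mul]
  have h6 := finrank_eig ρ hz3 hzc hω
  calc ‖LinearMap.trace ℂ V (ρ g)‖ = ‖LinearMap.trace ℂ V (prj ρ z 1 * ρ g) + LinearMap.trace ℂ V (prj ρ z ω * ρ g) +
        LinearMap.trace ℂ V (prj ρ z (ω ^ 2) * ρ g)‖ := by rw [← map_add, ← map_add, ← h5]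
    _ ≤ ‖LinearMap.trace ℂ V (prj ρ z 1 * ρ g)‖ + ‖LinearMap.trace ℂ V (prj ρ z ω * ρ g)‖ +
        ‖LinearMap.trace ℂ V (prj ρ z (ω ^ 2) * ρ g)‖ := norm_add₃_le
    _ ≤ finrank ℂ ↥(fixM ρ (insert z (comSet Q g))) + finrank ℂ ↥(eigM ρ z ω) * s +
        finrank ℂ ↥(eigM ρ z (ω ^ 2)) * s := add_le_add (add_le_add h4 (h1 _ hω)) (h1 _ hω2)
    _ = _ := by rw [← h6]; ring

/-- **The ratio bound**, trace zero on the faithful part. -/
theorem ratio_zero (ρ : Representation ℂ G V) (hz3 : z ^ 3 = 1) (hzc : ∀ p : G, p * z = z * p)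
    (hQZ : ∀ q ∈ Q, ∀ q' ∈ Q, q * q' * q⁻¹ * q'⁻¹ ∈ Subgroup.zpowers z) (hg : ∀ q, q ∈ Q ↔ g * q * g⁻¹ ∈ Q) {x : G}
    (hx : x * g * x⁻¹ * g⁻¹ ∈ Subgroup.zpowers z) (hx1 : x * g * x⁻¹ * g⁻¹ ≠ 1) :
    ‖LinearMap.trace ℂ V (ρ g)‖ ≤ finrank ℂ ↥(fixM ρ (insert z (comSet Q g))) := by
  obtain ⟨ω, hω⟩ : ∃ ω : ℂ, IsPrimitiveRoot ω 3 := ⟨_, Complex.isPrimitiveRoot_exp 3 (by norm_num)⟩
  have hω2 : IsPrimitiveRoot (ω ^ 2) 3 := hω.pow_of_coprime 2 (by norm_num)
  have h5 : ρ g = prj ρ z 1 * ρ g + prj ρ z ω * ρ g + prj ρ z (ω ^ 2) * ρ g := by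
    rw [← add_mul, ← add_mul, prj_sum ρ z hω, one_mul]
  have h6 : LinearMap.trace ℂ V (ρ g) = LinearMap.trace ℂ V (prj ρ z 1 * ρ g) + LinearMap.trace ℂ V (prj ρ z ω * ρ g) +
        LinearMap.trace ℂ V (prj ρ z (ω ^ 2) * ρ g) := by rw [← map_add, ← map_add, ← h5]
  rw [h6, faithful_zero hz3 hzc hx hx1 hω, faithful_zero hz3 hzc hx hx1 hω2, add_zero, add_zero]
  exact fixed_le hz3 hzc hQZ hg

end cut

end Cfsg.Agent.H980.RB
end

private theorem dce_4f6d7259ed57 : _root_.True := by
  try have : _root_.True := by simp only [_root_.Cfsg.Agent.H980.RB.subRep.congr_simp]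
  try have : _root_.True := by simp only [_root_.Cfsg.Agent.H980.RB.resRep.congr_simp]
  try have : _root_.True := by simp only [_root_.Cfsg.Agent.H980.RB.prj.eq_1]
  exact _root_.True.intro
end

-- part: H3/TC/Tab
section
prune_inst 0x310011016c0010000004809071005ee3a300000000088000008403020789844000028820ba10001a10a000044030004811000020020041c040844400011800800880040060c1409980001000020841500038998000000000000080000000000001c018000
set_option linter.all false
open scoped Cfsg.Agent.FastGrp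

-- part: H3/TC/Star
section
/-!
# Conjugacy in `SU_3(q)` (helper3): cyclic isometries with the same characteristic polynomial are conjugate

`st σ A` : the adjoint of a `3 × 3` matrix with respect to the Hermitian form with Gram matrix the antidiagonal one.
-/

set_option autoImplicit false

namespace Cfsg.Agent.H3.TC

open Matrix Polynomial

/-! ### the counting lemma -/

/-- if every `u` with `u * τ u = 1` is `y / τ y`, then every fixed point of `τ` is `z * τ z` -/
theorem norm_of_h90 {Γ : Type*} [CommGroup Γ] [Finite Γ] (τ : Γ →* Γ) (hτ : ∀ x, τ (τ x) = x)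
    (h90 : ∀ u, u * τ u = 1 → ∃ y, u = y / τ y) (c : Γ) (hc : τ c = c) : ∃ z, z * τ z = c := by
  let D : Γ →* Γ := MonoidHom.id Γ / τ
  let N : Γ →* Γ := MonoidHom.id Γ * τ
  have hD : ∀ y, D y = y / τ y := fun y => rfl
  have hN : ∀ y, N y = y * τ y := fun y => rfl
  have hND : N.ker = D.range := by
    ext u
    rw [MonoidHom.mem_ker, MonoidHom.mem_range]
    constructor
    · intro hu
      obtain ⟨y, hy⟩ := h90 u (by rw [← hN, hu])
      exact ⟨y, by rw [hD, ← hy]⟩
    · rintro ⟨y, rfl⟩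
      rw [hD, hN, _root_.map_div, hτ, div_mul_div_comm, mul_comm, div_self']
  have h3 : N.range ≤ D.ker := by
    rintro _ ⟨y, rfl⟩
    rw [MonoidHom.mem_ker, hN, hD, map_mul, hτ, mul_comm (τ y), div_self']
  have h1 : Nat.card N.range * Nat.card N.ker = Nat.card Γ := by
    rw [← Subgroup.index_ker, mul_comm, Subgroup.card_mul_index]
  have h2 : Nat.card D.range * Nat.card D.ker = Nat.card Γ := by
    rw [← Subgroup.index_ker, mul_comm, Subgroup.card_mul_index]
  have h4 : N.range = D.ker := by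
    apply Subgroup.eq_of_le_of_card_ge h3
    rw [hND] at h1
    have h5 : 0 < Nat.card D.range := Nat.card_pos
    apply le_of_eq
    apply Nat.eq_of_mul_eq_mul_left h5
    rw [h2, mul_comm, h1]
  have h6 : c ∈ N.range := by
    rw [h4, MonoidHom.mem_ker, hD, hc, div_self']
  obtain ⟨z, hz⟩ := h6
  exact ⟨z, hz⟩

section

variable {F : Type*} [Field F]

/-- the adjoint -/
def st (σ : F →+* F) (A : Matrix (Fin 3) (Fin 3) F) : Matrix (Fin 3) (Fin 3) F :=
  Matrix.of fun i j => σ (A (Fin.rev j) (Fin.rev i))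

variable {σ : F →+* F}

theorem st_apply (A : Matrix (Fin 3) (Fin 3) F) (i j : Fin 3) : st σ A i j = σ (A (Fin.rev j) (Fin.rev i)) := rfl

theorem st_mul (A B : Matrix (Fin 3) (Fin 3) F) : st σ (A * B) = st σ B * st σ A := by
  ext i j
  rw [st_apply, Matrix.mul_apply, Matrix.mul_apply, map_sum, ← Equiv.sum_comp Fin.revPerm]
  refine Finset.sum_congr rfl fun k _ => ?_
  rw [st_apply, st_apply, map_mul, mul_comm, Fin.revPerm_apply]

theorem st_add (A B : Matrix (Fin 3) (Fin 3) F) : st σ (A + B) = st σ A + st σ B := by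
  ext i j
  rw [st_apply, Matrix.add_apply, Matrix.add_apply, map_add, st_apply, st_apply]

theorem st_smul (c : F) (A : Matrix (Fin 3) (Fin 3) F) : st σ (c • A) = σ c • st σ A := by
  ext i j
  rw [st_apply, Matrix.smul_apply, Matrix.smul_apply, smul_eq_mul, smul_eq_mul, map_mul, st_apply]

theorem st_one : st σ (1 : Matrix (Fin 3) (Fin 3) F) = 1 := by
  ext i j
  rw [st_apply, Matrix.one_apply, Matrix.one_apply]
  by_cases h : i = j
  · rw [if_pos (by rw [h]), if_pos h, map_one]
  · rw [if_neg (fun h2 => h (Fin.rev_injective h2).symm), if_neg h, map_zero]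

theorem st_st (hσ : ∀ x, σ (σ x) = x) (A : Matrix (Fin 3) (Fin 3) F) : st σ (st σ A) = A := by
  ext i j
  rw [st_apply, st_apply, hσ, Fin.rev_rev, Fin.rev_rev]

theorem det_st (A : Matrix (Fin 3) (Fin 3) F) : (st σ A).det = σ A.det := by
  have h : st σ A = ((σ.mapMatrix A).submatrix Fin.revPerm Fin.revPerm)ᵀ := by
    ext i j
    rfl
  rw [h, Matrix.det_transpose, Matrix.det_submatrix_equiv_self, RingHom.map_det]

theorem trace_st (A : Matrix (Fin 3) (Fin 3) F) : (st σ A).trace = σ A.trace := by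
  rw [Matrix.trace, Matrix.trace, map_sum, ← Equiv.sum_comp Fin.revPerm]
  rfl

/-! ### the parameter `θ` -/

/-- some `θ` is not a zero of `θ³ + a θ² θ^q + b θ θ^(2q) + c θ^(3q)` -/
theorem exists_theta [Fintype F] {q : ℕ} (hF : Fintype.card F = q ^ 2) (hσ : ∀ x, σ x = x ^ q) (hq : 3 ≤ q)
    (a b c : F) : ∃ θ : F, θ ≠ 0 ∧ θ ^ 3 + a * θ ^ 2 * σ θ + b * θ * σ θ ^ 2 + c * σ θ ^ 3 ≠ 0 := by
  by_contra hcon
  push Not at hcon
  obtain ⟨r, rfl⟩ : ∃ r, q = r + 1 := ⟨q - 1, by omega⟩
  let P : F[X] := 1 + C a * X ^ r + C b * X ^ (2 * r) + C c * X ^ (3 * r)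
  have hP : P = 0 := by
    classical
    apply Polynomial.eq_zero_of_natDegree_lt_card_of_eval_eq_zero' P (Finset.univ.filter fun x : F => x ≠ 0)
    · intro θ hθ
      have hθ0 : θ ≠ 0 := (Finset.mem_filter.1 hθ).2
      have h1 := hcon θ hθ0
      rw [hσ] at h1
      have h2 : θ ^ 3 * P.eval θ = 0 := by
        rw [← h1]
        simp only [P, eval_add, eval_mul, eval_pow, eval_X, eval_C, eval_one]
        ring
      exact (mul_eq_zero.1 h2).resolve_left (pow_ne_zero 3 hθ0)
    · have h1 : P.natDegree ≤ 3 * r := by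
        have e1 : (1 : F[X]).natDegree ≤ 3 * r := by rw [natDegree_one]; omega
        have e2 : (C a * X ^ r : F[X]).natDegree ≤ 3 * r := (natDegree_C_mul_X_pow_le _ _).trans (by omega)
        have e3 : (C b * X ^ (2 * r) : F[X]).natDegree ≤ 3 * r := (natDegree_C_mul_X_pow_le _ _).trans (by omega)
        have e4 : (C c * X ^ (3 * r) : F[X]).natDegree ≤ 3 * r := natDegree_C_mul_X_pow_le _ _
        exact (natDegree_add_le_of_degree_le (natDegree_add_le_of_degree_le (natDegree_add_le_of_degree_le e1 e2) e3) e4)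
      have h2 : (Finset.univ.filter fun x : F => x ≠ 0).card = (r + 1) ^ 2 - 1 := by
        rw [Finset.filter_ne', Finset.card_erase_of_mem (Finset.mem_univ _), Finset.card_univ, hF]
      rw [h2]
      have h3 : (r + 1) ^ 2 - 1 = r * r + 2 * r := by
        have : (r + 1) ^ 2 = r * r + 2 * r + 1 := by ring
        omega
      have h4 : 2 * r ≤ r * r := Nat.mul_le_mul_right r (by omega)
      have h5 : 0 < r := by omega
      omega
  have h1 : P.coeff 0 = 1 := by
    have hr : r ≠ 0 := by omega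
    simp [P, coeff_X_pow, hr, hr.symm]
  rw [hP, coeff_zero] at h1
  exact zero_ne_one h1

theorem det_one_smul_add (u : Matrix (Fin 3) (Fin 3) F) : ∃ a b c : F, ∀ s t : F,
    (s • (1 : Matrix (Fin 3) (Fin 3) F) + t • u).det = s ^ 3 + a * s ^ 2 * t + b * s * t ^ 2 + c * t ^ 3 := by
  refine ⟨u.trace, u 0 0 * u 1 1 - u 0 1 * u 1 0 + (u 0 0 * u 2 2 - u 0 2 * u 2 0) + (u 1 1 * u 2 2 - u 1 2 * u 2 1),
    u.det, fun s t => ?_⟩
  rw [Matrix.det_fin_three, Matrix.det_fin_three, Matrix.trace_fin_three]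
  simp only [Matrix.add_apply, Matrix.smul_apply, smul_eq_mul, Matrix.one_apply_eq, ne_eq, Fin.reduceEq,
    not_false_eq_true, Matrix.one_apply_ne, mul_zero, zero_add]
  ring

/-! ### conjugacy under the unitary group -/

variable [Fintype F] {q : ℕ}

/-- the commutant of `G` is commutative -/
def CC (G : Matrix (Fin 3) (Fin 3) F) : Prop :=
  ∀ X Y : Matrix (Fin 3) (Fin 3) F, X * G = G * X → Y * G = G * Y → X * Y = Y * X

theorem st_comm {G X : Matrix (Fin 3) (Fin 3) F} (h1 : st σ G * G = 1) (hX : X * G = G * X) :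
    st σ X * G = G * st σ X := by
  have h2 : G * st σ G = 1 := mul_eq_one_comm.1 h1
  have h3 := congrArg (st σ) hX
  rw [st_mul, st_mul] at h3
  -- `st G * st X = st X * st G`
  calc st σ X * G = (G * st σ G) * st σ X * G := by rw [h2, one_mul]
    _ = G * (st σ G * st σ X) * G := by simp only [Matrix.mul_assoc]
    _ = G * (st σ X * st σ G) * G := by rw [h3]
    _ = G * st σ X * (st σ G * G) := by simp only [Matrix.mul_assoc]
    _ = G * st σ X := by rw [h1, Matrix.mul_one]

/-- the group of units commuting with `G` -/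
def Cg (G : Matrix (Fin 3) (Fin 3) F) : Subgroup (Matrix (Fin 3) (Fin 3) F)ˣ where
  carrier := {X | (X : Matrix (Fin 3) (Fin 3) F) * G = G * (X : Matrix (Fin 3) (Fin 3) F)}
  one_mem' := by show (1 : Matrix (Fin 3) (Fin 3) F) * G = G * 1; rw [Matrix.one_mul, Matrix.mul_one]
  mul_mem' := by
    intro X Y hX hY
    show ((X : Matrix (Fin 3) (Fin 3) F) * Y) * G = G * (X * Y)
    have hX' : (X : Matrix (Fin 3) (Fin 3) F) * G = G * X := hX
    have hY' : (Y : Matrix (Fin 3) (Fin 3) F) * G = G * Y := hY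
    rw [Matrix.mul_assoc, hY', ← Matrix.mul_assoc, hX', Matrix.mul_assoc]
  inv_mem' := by
    intro X hX
    show ((X⁻¹ : (Matrix (Fin 3) (Fin 3) F)ˣ) : Matrix (Fin 3) (Fin 3) F) * G = G * (X⁻¹ : (Matrix (Fin 3) (Fin 3) F)ˣ)
    have hX' : (X : Matrix (Fin 3) (Fin 3) F) * G = G * X := hX
    calc ((X⁻¹ : (Matrix (Fin 3) (Fin 3) F)ˣ) : Matrix (Fin 3) (Fin 3) F) * G
        = (X⁻¹ : (Matrix (Fin 3) (Fin 3) F)ˣ) * (G * (X * (X⁻¹ : (Matrix (Fin 3) (Fin 3) F)ˣ))) := by
          rw [Units.mul_inv, mul_one]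
      _ = (X⁻¹ : (Matrix (Fin 3) (Fin 3) F)ˣ) * (G * X) * (X⁻¹ : (Matrix (Fin 3) (Fin 3) F)ˣ) := by
          simp only [mul_assoc]
      _ = (X⁻¹ : (Matrix (Fin 3) (Fin 3) F)ˣ) * (X * G) * (X⁻¹ : (Matrix (Fin 3) (Fin 3) F)ˣ) := by rw [hX']
      _ = G * (X⁻¹ : (Matrix (Fin 3) (Fin 3) F)ˣ) := by
          rw [← mul_assoc, Units.inv_mul, one_mul]

/-- **norms in the commutant**: a self-adjoint unit `c` commuting with `G` is `z * st z` -/
theorem exists_norm (hF : Fintype.card F = q ^ 2) (hσ : ∀ x, σ x = x ^ q) (hσ2 : ∀ x, σ (σ x) = x) (hq : 3 ≤ q)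
    {G : Matrix (Fin 3) (Fin 3) F} (h1 : st σ G * G = 1) (hc : CC G) {c : Matrix (Fin 3) (Fin 3) F}
    (hcu : IsUnit c) (hcG : c * G = G * c) (hcs : st σ c = c) :
    ∃ z : Matrix (Fin 3) (Fin 3) F, IsUnit z ∧ z * G = G * z ∧ z * st σ z = c := by
  let _ : CommGroup (Cg G) := { (inferInstance : Group (Cg G)) with
    mul_comm := fun a b => Subtype.ext (Units.ext (hc _ _ a.2 b.2)) }
  let τ : Cg G →* Cg G :=
    { toFun := fun X => ⟨⟨st σ (X : (Matrix (Fin 3) (Fin 3) F)ˣ).val, st σ (X : (Matrix (Fin 3) (Fin 3) F)ˣ).inv,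
        by rw [← st_mul, Units.inv_val, st_one], by rw [← st_mul, Units.val_inv, st_one]⟩, st_comm h1 X.2⟩
      map_one' := Subtype.ext (Units.ext st_one)
      map_mul' := fun X Y => by
        apply Subtype.ext
        apply Units.ext
        show st σ ((X : (Matrix (Fin 3) (Fin 3) F)ˣ).val * (Y : (Matrix (Fin 3) (Fin 3) F)ˣ).val) = _
        rw [st_mul]
        exact hc _ _ (st_comm h1 Y.2) (st_comm h1 X.2) }
  have hτv : ∀ X : Cg G, ((τ X : (Matrix (Fin 3) (Fin 3) F)ˣ) : Matrix (Fin 3) (Fin 3) F) = st σ (X : (Matrix (Fin 3) (Fin 3) F)ˣ) :=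
    fun X => rfl
  have hττ : ∀ X, τ (τ X) = X := fun X => Subtype.ext (Units.ext (by rw [hτv, hτv, st_st hσ2]))
  have h90 : ∀ u, u * τ u = 1 → ∃ y, u = y / τ y := by
    intro u hu
    obtain ⟨a, b, c, habc⟩ := det_one_smul_add ((u : (Matrix (Fin 3) (Fin 3) F)ˣ) : Matrix (Fin 3) (Fin 3) F)
    obtain ⟨θ, hθ0, hθ⟩ := exists_theta (σ := σ) hF hσ hq a b c
    rw [← habc] at hθ
    have hyu : IsUnit (θ • (1 : Matrix (Fin 3) (Fin 3) F) + σ θ • ((u : (Matrix (Fin 3) (Fin 3) F)ˣ) : Matrix (Fin 3) (Fin 3) F)) := by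
      rw [Matrix.isUnit_iff_isUnit_det]
      exact isUnit_iff_ne_zero.2 hθ
    obtain ⟨y, hy⟩ := hyu
    have hu2 : ((u : (Matrix (Fin 3) (Fin 3) F)ˣ) : Matrix (Fin 3) (Fin 3) F) * st σ (u : (Matrix (Fin 3) (Fin 3) F)ˣ) = 1 := by
      have := congrArg (fun X : Cg G => ((X : (Matrix (Fin 3) (Fin 3) F)ˣ) : Matrix (Fin 3) (Fin 3) F)) hu
      exact this
    have hyG : (y : Matrix (Fin 3) (Fin 3) F) * G = G * y := by
      rw [hy, Matrix.add_mul, Matrix.mul_add, Matrix.smul_mul, Matrix.smul_mul, Matrix.mul_smul, Matrix.mul_smul,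
        Matrix.one_mul, Matrix.mul_one, u.2]
    refine ⟨⟨y, hyG⟩, ?_⟩
    rw [eq_div_iff_mul_eq']
    apply Subtype.ext
    apply Units.ext
    show ((u : (Matrix (Fin 3) (Fin 3) F)ˣ) : Matrix (Fin 3) (Fin 3) F) * st σ (y : Matrix (Fin 3) (Fin 3) F) = y
    rw [hy, st_add, st_smul, st_smul, st_one, hσ2, Matrix.mul_add, Matrix.mul_smul,
      Matrix.mul_smul, Matrix.mul_one, hu2, add_comm]
  have : Finite (Cg G) := inferInstance
  obtain ⟨c', rfl⟩ := hcu
  obtain ⟨z, hz⟩ := norm_of_h90 τ hττ h90 ⟨c', hcG⟩ (Subtype.ext (Units.ext hcs))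
  refine ⟨(z : (Matrix (Fin 3) (Fin 3) F)ˣ), (z : (Matrix (Fin 3) (Fin 3) F)ˣ).isUnit, z.2, ?_⟩
  exact congrArg (fun X : Cg G => ((X : (Matrix (Fin 3) (Fin 3) F)ˣ) : Matrix (Fin 3) (Fin 3) F)) hz

/-- **conjugacy under the unitary group** -/
theorem conj_unitary (hF : Fintype.card F = q ^ 2) (hσ : ∀ x, σ x = x ^ q) (hσ2 : ∀ x, σ (σ x) = x) (hq : 3 ≤ q)
    {G₁ G₂ T : Matrix (Fin 3) (Fin 3) F} (h1 : st σ G₁ * G₁ = 1) (h2 : st σ G₂ * G₂ = 1) (hc : CC G₁)
    (hT : T * G₁ = G₂ * T) (hTu : IsUnit T) :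
    ∃ T' : Matrix (Fin 3) (Fin 3) F, st σ T' * T' = 1 ∧ T' * G₁ = G₂ * T' := by
  have h3 := congrArg (st σ) hT
  rw [st_mul, st_mul] at h3
  -- `st T * G₂ = G₁ * st T`
  have h4 : st σ T * G₂ = G₁ * st σ T := by
    have e1 : G₁ * st σ G₁ = 1 := mul_eq_one_comm.1 h1
    calc st σ T * G₂ = (G₁ * st σ G₁) * st σ T * G₂ := by rw [e1, one_mul]
      _ = G₁ * (st σ G₁ * st σ T) * G₂ := by simp only [Matrix.mul_assoc]
      _ = G₁ * (st σ T * st σ G₂) * G₂ := by rw [h3]
      _ = G₁ * st σ T * (st σ G₂ * G₂) := by simp only [Matrix.mul_assoc]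
      _ = G₁ * st σ T := by rw [h2, Matrix.mul_one]
  have hstT : IsUnit (st σ T) := by
    rw [Matrix.isUnit_iff_isUnit_det, det_st]
    rw [Matrix.isUnit_iff_isUnit_det] at hTu
    exact hTu.map σ
  obtain ⟨z, hzu, hzG, hz⟩ := exists_norm hF hσ hσ2 hq h1 hc (c := st σ T * T) (hstT.mul hTu)
    (by rw [Matrix.mul_assoc, hT, ← Matrix.mul_assoc, h4, Matrix.mul_assoc])
    (by rw [st_mul, st_st hσ2])
  obtain ⟨z, rfl⟩ := hzu
  have hzc : (z : Matrix (Fin 3) (Fin 3) F) * st σ z = st σ z * z := hc _ _ hzG (st_comm h1 hzG)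
  have hsz : st σ (z⁻¹ : (Matrix (Fin 3) (Fin 3) F)ˣ).val * st σ (z : Matrix (Fin 3) (Fin 3) F) = 1 := by
    rw [← st_mul, Units.mul_inv, st_one]
  have hzi : ((z⁻¹ : (Matrix (Fin 3) (Fin 3) F)ˣ) : Matrix (Fin 3) (Fin 3) F) * G₁ = G₁ * (z⁻¹ : (Matrix (Fin 3) (Fin 3) F)ˣ) :=
    (Cg G₁).inv_mem (x := z) hzG
  refine ⟨T * (z⁻¹ : (Matrix (Fin 3) (Fin 3) F)ˣ), ?_, ?_⟩
  · rw [st_mul]
    calc st σ (z⁻¹ : (Matrix (Fin 3) (Fin 3) F)ˣ).val * st σ T * (T * (z⁻¹ : (Matrix (Fin 3) (Fin 3) F)ˣ))
        = st σ (z⁻¹ : (Matrix (Fin 3) (Fin 3) F)ˣ).val * (st σ T * T) * (z⁻¹ : (Matrix (Fin 3) (Fin 3) F)ˣ) := by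
          simp only [Matrix.mul_assoc]
      _ = st σ (z⁻¹ : (Matrix (Fin 3) (Fin 3) F)ˣ).val * (st σ z * z) * (z⁻¹ : (Matrix (Fin 3) (Fin 3) F)ˣ) := by
          rw [← hz, hzc]
      _ = (st σ (z⁻¹ : (Matrix (Fin 3) (Fin 3) F)ˣ).val * st σ (z : Matrix (Fin 3) (Fin 3) F)) *
            ((z : Matrix (Fin 3) (Fin 3) F) * (z⁻¹ : (Matrix (Fin 3) (Fin 3) F)ˣ)) := by
          simp only [Matrix.mul_assoc]
      _ = 1 := by rw [hsz, Units.mul_inv, one_mul]
  · rw [Matrix.mul_assoc, hzi, ← Matrix.mul_assoc, hT, Matrix.mul_assoc]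

end

end Cfsg.Agent.H3.TC
end

-- part: H3/TC/Cyc
section
/-!
# Cyclic elements of `SU_3(q)` (helper3)

`conj_su` : isometries of determinant one with cyclic vectors and the same trace `t`, `t ≠ 3 c` with `c ^ 3 = 1`,
are conjugate in `SU_3(q)`.  `conj_su_cop` : the same without the restriction on `t`, if `3` and `q + 1` are coprime.
-/

set_option autoImplicit false

namespace Cfsg.Agent.H3.TC

open Matrix Polynomial

variable {F : Type*} [Field F] {σ : F →+* F}

/-- the matrix with columns `v`, `G v`, `G² v` -/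
def Kr (G : Matrix (Fin 3) (Fin 3) F) (v : Fin 3 → F) : Matrix (Fin 3) (Fin 3) F :=
  Matrix.of fun i j => ![v, G *ᵥ v, G *ᵥ (G *ᵥ v)] j i

/-- the companion matrix of `X³ - t X² + s X - 1` -/
def Co (t s : F) : Matrix (Fin 3) (Fin 3) F := !![0, 0, 1; 1, 0, -s; 0, 1, t]

/-- the second coefficient of the characteristic polynomial -/
def e2 (G : Matrix (Fin 3) (Fin 3) F) : F := (adjugate G).trace

theorem ch3 (G : Matrix (Fin 3) (Fin 3) F) :
    G * (G * G) = G.trace • (G * G) - e2 G • G + G.det • (1 : Matrix (Fin 3) (Fin 3) F) := by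
  rw [e2, Matrix.det_fin_three, Matrix.trace_fin_three, Matrix.trace_fin_three, Matrix.adjugate_fin_three]
  ext i j
  (revert i j; simp only [Matrix.mul_apply, Fin.sum_univ_three, _root_.Fin.forall_fin_succ, Fin.isValue, _root_.Matrix.of_apply, _root_.Matrix.cons_val', _root_.Matrix.cons_val_zero, _root_.Matrix.cons_val_fin_one, _root_.Matrix.cons_val_one, _root_.Matrix.cons_val, _root_.Matrix.add_apply, _root_.Matrix.sub_apply, _root_.Matrix.smul_apply, _root_.smul_eq_mul, _root_.Fin.succ_zero_eq_one, _root_.Fin.succ_one_eq_two, _root_.IsEmpty.forall_iff, _root_.and_true, _root_.Matrix.one_apply_eq, _root_.mul_one, Nat.reduceAdd, _root_.ne_eq, _root_.zero_ne_one, _root_.not_false_eq_true, _root_.Matrix.one_apply_ne, _root_.MulZeroClass.mul_zero, _root_.add_zero, Fin.reduceEq, _root_.Fin.succ_ne_zero]) <;> (repeat' with_reducible apply And.intro) <;> ring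

theorem e2_eq {G : Matrix (Fin 3) (Fin 3) F} (h1 : st σ G * G = 1) (hd : G.det = 1) : e2 G = σ G.trace := by
  have h2 : adjugate G = st σ G := by
    have h3 : adjugate G * G = 1 := by rw [Matrix.adjugate_mul, hd, one_smul]
    have h4 : G * st σ G = 1 := mul_eq_one_comm.1 h1
    calc adjugate G = adjugate G * (G * st σ G) := by rw [h4, Matrix.mul_one]
      _ = st σ G := by rw [← Matrix.mul_assoc, h3, Matrix.one_mul]
  rw [e2, h2, trace_st]

theorem ch3u {G : Matrix (Fin 3) (Fin 3) F} (h1 : st σ G * G = 1) (hd : G.det = 1) :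
    G * (G * G) = G.trace • (G * G) - σ G.trace • G + 1 := by
  rw [ch3, e2_eq h1 hd, hd, one_smul]

theorem mul_Kr {G : Matrix (Fin 3) (Fin 3) F} (h1 : st σ G * G = 1) (hd : G.det = 1) (v : Fin 3 → F) :
    G * Kr G v = Kr G v * Co G.trace (σ G.trace) := by
  have h3 : G *ᵥ (G *ᵥ (G *ᵥ v)) = G.trace • (G *ᵥ (G *ᵥ v)) - σ G.trace • (G *ᵥ v) + v := by
    have := congrArg (fun M : Matrix (Fin 3) (Fin 3) F => M *ᵥ v) (ch3u h1 hd)
    simpa only [Matrix.add_mulVec, Matrix.sub_mulVec, Matrix.smul_mulVec, Matrix.one_mulVec,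
      ← Matrix.mulVec_mulVec] using this
  have h4 : ∀ i, (G *ᵥ (G *ᵥ (G *ᵥ v))) i = G.trace * (G *ᵥ (G *ᵥ v)) i - σ G.trace * (G *ᵥ v) i + v i := fun i => by
    rw [h3]; rfl
  ext i j
  have h5 : (G * Kr G v) i j = (G *ᵥ (![v, G *ᵥ v, G *ᵥ (G *ᵥ v)] j)) i := rfl
  rw [h5, Matrix.mul_apply, Fin.sum_univ_three]
  fin_cases j
  · simp [Kr, Co]
  · simp [Kr, Co]
  · simp only [Kr, Co, Matrix.of_apply]
    simp only [Fin.reduceFinMk, Matrix.cons_val]
    rw [h4]
    ring

/-- a cyclic vector makes the commutant commutative -/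
theorem cc_of_Kr {G : Matrix (Fin 3) (Fin 3) F} {v : Fin 3 → F} (hv : (Kr G v).det ≠ 0) : CC G := by
  have key : ∀ Z : Matrix (Fin 3) (Fin 3) F, Z * G = G * Z → Z *ᵥ v = 0 → Z = 0 := by
    intro Z hZ h0
    have h1 : Z *ᵥ (G *ᵥ v) = 0 := by rw [Matrix.mulVec_mulVec, hZ, ← Matrix.mulVec_mulVec, h0, Matrix.mulVec_zero]
    have h2 : Z *ᵥ (G *ᵥ (G *ᵥ v)) = 0 := by
      rw [Matrix.mulVec_mulVec, hZ, ← Matrix.mulVec_mulVec, h1, Matrix.mulVec_zero]
    have h3 : Z * Kr G v = 0 := by
      ext i j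
      have h5 : (Z * Kr G v) i j = (Z *ᵥ (![v, G *ᵥ v, G *ᵥ (G *ᵥ v)] j)) i := rfl
      rw [h5]
      fin_cases j
      · exact congrFun h0 i
      · exact congrFun h1 i
      · exact congrFun h2 i
    have h4 : IsUnit (Kr G v).det := isUnit_iff_ne_zero.2 hv
    calc Z = Z * Kr G v * (Kr G v)⁻¹ := by rw [Matrix.mul_nonsing_inv_cancel_right _ _ h4]
      _ = 0 := by rw [h3, Matrix.zero_mul]
  intro X Y hX hY
  obtain ⟨c, hc⟩ : ∃ c : Fin 3 → F, c = (Kr G v)⁻¹ *ᵥ (X *ᵥ v) := ⟨_, rfl⟩
  have hXc : X *ᵥ v = Kr G v *ᵥ c := by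
    rw [hc, Matrix.mulVec_mulVec, Matrix.mul_nonsing_inv _ (isUnit_iff_ne_zero.2 hv), Matrix.one_mulVec]
  obtain ⟨P, hP⟩ : ∃ P : Matrix (Fin 3) (Fin 3) F, P = c 0 • 1 + c 1 • G + c 2 • (G * G) := ⟨_, rfl⟩
  have hPv : P *ᵥ v = X *ᵥ v := by
    rw [hXc, hP, Matrix.add_mulVec, Matrix.add_mulVec, Matrix.smul_mulVec, Matrix.smul_mulVec, Matrix.smul_mulVec,
      Matrix.one_mulVec, ← Matrix.mulVec_mulVec]
    ext i
    simp only [Kr, Matrix.mulVec, dotProduct, Fin.sum_univ_three, Matrix.of_apply, Pi.add_apply, Pi.smul_apply,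
      smul_eq_mul, Matrix.cons_val]
    ring
  have hPY : ∀ Y : Matrix (Fin 3) (Fin 3) F, Y * G = G * Y → P * Y = Y * P := by
    intro Y hY
    have h1 : G * G * Y = Y * (G * G) := by
      rw [Matrix.mul_assoc, ← hY, ← Matrix.mul_assoc, ← hY, Matrix.mul_assoc]
    rw [hP, Matrix.add_mul, Matrix.add_mul, Matrix.mul_add, Matrix.mul_add, Matrix.smul_mul, Matrix.smul_mul,
      Matrix.smul_mul, Matrix.mul_smul, Matrix.mul_smul, Matrix.mul_smul, h1, hY, Matrix.one_mul, Matrix.mul_one]
  have hXP : X = P := by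
    have h1 : X - P = 0 := by
      apply key
      · rw [Matrix.sub_mul, Matrix.mul_sub, hX, hPY G rfl]
      · rw [Matrix.sub_mulVec, hPv, sub_self]
    exact sub_eq_zero.1 h1
  rw [hXP, hPY Y hY]

/-- conjugacy under `GL_3` -/
theorem exists_T {G₁ G₂ : Matrix (Fin 3) (Fin 3) F} (h1 : st σ G₁ * G₁ = 1) (hd1 : G₁.det = 1)
    (h2 : st σ G₂ * G₂ = 1) (hd2 : G₂.det = 1) (ht : G₁.trace = G₂.trace) {v₁ v₂ : Fin 3 → F}
    (hv1 : (Kr G₁ v₁).det ≠ 0) (hv2 : (Kr G₂ v₂).det ≠ 0) :
    ∃ T : Matrix (Fin 3) (Fin 3) F, IsUnit T ∧ T * G₁ = G₂ * T := by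
  have hu1 := isUnit_iff_ne_zero.2 hv1
  have e1 := mul_Kr h1 hd1 v₁
  have e2 := mul_Kr h2 hd2 v₂
  rw [← ht] at e2
  refine ⟨Kr G₂ v₂ * (Kr G₁ v₁)⁻¹, ?_, ?_⟩
  · apply IsUnit.mul
    · rw [Matrix.isUnit_iff_isUnit_det]; exact isUnit_iff_ne_zero.2 hv2
    · rw [Matrix.isUnit_nonsing_inv_iff, Matrix.isUnit_iff_isUnit_det]; exact hu1
  · have e3 : (Kr G₁ v₁)⁻¹ * G₁ = Co G₁.trace (σ G₁.trace) * (Kr G₁ v₁)⁻¹ := by
      calc (Kr G₁ v₁)⁻¹ * G₁ = (Kr G₁ v₁)⁻¹ * (G₁ * Kr G₁ v₁) * (Kr G₁ v₁)⁻¹ := by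
            rw [Matrix.mul_assoc, Matrix.mul_assoc, Matrix.mul_nonsing_inv _ hu1, Matrix.mul_one]
        _ = Co G₁.trace (σ G₁.trace) * (Kr G₁ v₁)⁻¹ := by
            rw [e1, ← Matrix.mul_assoc, Matrix.nonsing_inv_mul _ hu1, Matrix.one_mul]
    rw [Matrix.mul_assoc, e3, ← Matrix.mul_assoc, ← e2, Matrix.mul_assoc]

/-! ### determinants of elements of the commutant -/

theorem det_one_add (u : Matrix (Fin 3) (Fin 3) F) (t : F) :
    ((1 : Matrix (Fin 3) (Fin 3) F) + t • u).det = 1 + u.trace * t + (adjugate u).trace * t ^ 2 + u.det * t ^ 3 := by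
  rw [Matrix.det_fin_three, Matrix.det_fin_three, Matrix.trace_fin_three, Matrix.trace_fin_three,
    Matrix.adjugate_fin_three]
  simp only [_root_.Fin.isValue, _root_.Matrix.add_apply, _root_.Matrix.one_apply_eq, _root_.Matrix.smul_apply, _root_.smul_eq_mul, _root_.ne_eq, _root_.Fin.reduceEq, _root_.not_false_eq_true, _root_.Matrix.one_apply_ne, _root_.zero_add, _root_.zero_ne_one, _root_.one_ne_zero, _root_.Matrix.of_apply, _root_.Matrix.cons_val', _root_.Matrix.cons_val_zero, _root_.Matrix.cons_val_fin_one, _root_.Matrix.cons_val_one, _root_.Matrix.cons_val]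
  ring

theorem det_sub_smul (G : Matrix (Fin 3) (Fin 3) F) (b : F) :
    (G - b • (1 : Matrix (Fin 3) (Fin 3) F)).det = -(b ^ 3 - G.trace * b ^ 2 + e2 G * b - G.det) := by
  rw [e2, Matrix.det_fin_three, Matrix.det_fin_three, Matrix.trace_fin_three, Matrix.trace_fin_three,
    Matrix.adjugate_fin_three]
  simp only [_root_.Fin.isValue, _root_.Matrix.sub_apply, _root_.Matrix.smul_apply, _root_.Matrix.one_apply_eq, _root_.smul_eq_mul, _root_.mul_one, _root_.ne_eq, _root_.Fin.reduceEq, _root_.not_false_eq_true, _root_.Matrix.one_apply_ne, _root_.MulZeroClass.mul_zero, _root_.sub_zero, _root_.zero_ne_one, _root_.one_ne_zero, _root_.Matrix.of_apply, _root_.Matrix.cons_val', _root_.Matrix.cons_val_zero, _root_.Matrix.cons_val_fin_one, _root_.Matrix.cons_val_one, _root_.Matrix.cons_val, _root_.neg_sub]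
  ring

theorem trace_adj_sub (G : Matrix (Fin 3) (Fin 3) F) (b : F) :
    (adjugate (G - b • (1 : Matrix (Fin 3) (Fin 3) F))).trace = 3 * b ^ 2 - 2 * G.trace * b + e2 G := by
  rw [e2, Matrix.trace_fin_three, Matrix.trace_fin_three, Matrix.adjugate_fin_three, Matrix.trace_fin_three,
    Matrix.adjugate_fin_three]
  simp only [_root_.Fin.isValue, _root_.Matrix.sub_apply, _root_.Matrix.smul_apply, _root_.Matrix.one_apply_eq, _root_.smul_eq_mul, _root_.mul_one, _root_.ne_eq, _root_.Fin.reduceEq, _root_.not_false_eq_true, _root_.Matrix.one_apply_ne, _root_.MulZeroClass.mul_zero, _root_.sub_zero, _root_.zero_ne_one, _root_.one_ne_zero, _root_.Matrix.of_apply, _root_.Matrix.cons_val', _root_.Matrix.cons_val_zero, _root_.Matrix.cons_val_fin_one, _root_.Matrix.cons_val_one, _root_.Matrix.cons_val]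
  ring

/-- a simple root gives all determinants -/
theorem exists_det_root {G : Matrix (Fin 3) (Fin 3) F} {b : F}
    (h0 : b ^ 3 - G.trace * b ^ 2 + e2 G * b - G.det = 0) (h1 : 3 * b ^ 2 - 2 * G.trace * b + e2 G ≠ 0) (θ : F) :
    ∃ y : Matrix (Fin 3) (Fin 3) F, y * G = G * y ∧ y.det = θ := by
  obtain ⟨A, hA⟩ : ∃ A : Matrix (Fin 3) (Fin 3) F, A = G - b • 1 := ⟨_, rfl⟩
  have hdA : A.det = 0 := by rw [hA, det_sub_smul, h0, neg_zero]
  have htA : (adjugate A).trace = 3 * b ^ 2 - 2 * G.trace * b + e2 G := by rw [hA, trace_adj_sub]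
  have hcomm : adjugate A * G = G * adjugate A := by
    have h2 : G = A + b • 1 := by rw [hA, sub_add_cancel]
    rw [h2, Matrix.mul_add, Matrix.add_mul, Matrix.adjugate_mul, Matrix.mul_adjugate, Matrix.smul_mul, Matrix.mul_smul,
      Matrix.one_mul, Matrix.mul_one]
  refine ⟨1 + ((θ - 1) / (adjugate A).trace) • adjugate A, ?_, ?_⟩
  · rw [Matrix.add_mul, Matrix.mul_add, Matrix.smul_mul, Matrix.mul_smul, hcomm, Matrix.one_mul, Matrix.mul_one]
  · rw [det_one_add, Matrix.adjugate_adjugate _ (by simp), Matrix.det_adjugate, hdA]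
    simp only [Fintype.card_fin, Nat.add_one_sub_one, Nat.reduceSub, pow_one, zero_smul, Matrix.trace_zero, zero_mul,
      add_zero, ne_eq, OfNat.ofNat_ne_zero, not_false_eq_true, zero_pow]
    rw [htA, mul_div_cancel₀ _ h1]
    ring

/-- an irreducible characteristic polynomial gives all determinants -/
theorem exists_det_irr [Finite F] {G : Matrix (Fin 3) (Fin 3) F} {f : F[X]} (hf : Irreducible f) (hf3 : f.natDegree = 3)
    (hfm : f.Monic) (hfG : aeval G f = 0) (θ : F) :
    ∃ y : Matrix (Fin 3) (Fin 3) F, y * G = G * y ∧ y.det = θ := by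
  have : Fact (Irreducible f) := ⟨hf⟩
  let L := AdjoinRoot f
  have hfin : Module.Finite F L := hfm.finite_adjoinRoot
  have hLf : Finite L := Module.finite_of_finite F
  have hrank : Module.finrank F L = 3 := by
    rw [(AdjoinRoot.powerBasis hf.ne_zero).finrank, AdjoinRoot.powerBasis_dim, hf3]
  let φ : L →ₐ[F] Matrix (Fin 3) (Fin 3) F := Ideal.Quotient.liftₐ (Ideal.span {f}) (aeval G) (by
    intro a ha
    obtain ⟨c, rfl⟩ := Ideal.mem_span_singleton.1 ha
    rw [map_mul, hfG, zero_mul])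
  have hφG : ∀ α : L, φ α * G = G * φ α := by
    intro α
    obtain ⟨p, rfl⟩ := Ideal.Quotient.mk_surjective α
    show aeval G p * G = G * aeval G p
    have h1 : aeval G (p * X) = aeval G (X * p) := by rw [mul_comm]
    rwa [map_mul, map_mul, aeval_X] at h1
  let v : Fin 3 → F := fun _ => 1
  have hv : v ≠ 0 := fun h => one_ne_zero (congrFun h 0)
  let ℓ : L →ₗ[F] (Fin 3 → F) :=
    { toFun := fun α => φ α *ᵥ v
      map_add' := fun a b => by rw [map_add, Matrix.add_mulVec]
      map_smul' := fun c a => by rw [map_smul, Matrix.smul_mulVec]; rfl }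
  have hinj : Function.Injective ℓ := by
    rw [injective_iff_map_eq_zero]
    intro α hα
    by_contra h0
    have h1 : φ α⁻¹ *ᵥ (φ α *ᵥ v) = v := by
      rw [Matrix.mulVec_mulVec, ← map_mul, inv_mul_cancel₀ h0, map_one, Matrix.one_mulVec]
    have h2 : φ α *ᵥ v = 0 := hα
    rw [h2, Matrix.mulVec_zero] at h1
    exact hv h1.symm
  let e : L ≃ₗ[F] (Fin 3 → F) := LinearEquiv.ofInjectiveOfFinrankEq ℓ hinj (by rw [hrank, Module.finrank_fin_fun])
  obtain ⟨α, hα⟩ := FiniteField.norm_surjective F L θ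
  refine ⟨φ α, hφG α, ?_⟩
  have h1 : Matrix.toLin' (φ α) = (e : L →ₗ[F] (Fin 3 → F)) ∘ₗ Algebra.lmul F L α ∘ₗ (e.symm : (Fin 3 → F) →ₗ[F] L) := by
    apply LinearMap.ext
    intro w
    obtain ⟨β, rfl⟩ := e.surjective w
    rw [LinearMap.comp_apply, LinearMap.comp_apply, LinearEquiv.coe_coe, LinearEquiv.coe_coe, LinearEquiv.symm_apply_apply,
      Matrix.toLin'_apply]
    show φ α *ᵥ (φ β *ᵥ v) = φ (α * β) *ᵥ v
    rw [Matrix.mulVec_mulVec, map_mul]
  rw [← LinearMap.det_toLin', h1, LinearMap.det_conj, ← hα, Algebra.norm_apply]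

/-- all determinants in the commutant, unless the characteristic polynomial is a cube -/
theorem exists_det [Finite F] (h3 : (3 : F) ≠ 0) {G : Matrix (Fin 3) (Fin 3) F} (h1 : st σ G * G = 1) (hd : G.det = 1)
    (ht : ∀ c : F, c ^ 3 = 1 → c * σ c = 1 → G.trace ≠ 3 * c) (θ : F) :
    ∃ y : Matrix (Fin 3) (Fin 3) F, y * G = G * y ∧ y.det = θ := by
  by_cases hr : ∃ b : F, b ^ 3 - G.trace * b ^ 2 + e2 G * b - G.det = 0
  · obtain ⟨b, hb⟩ := hr
    by_cases hb' : 3 * b ^ 2 - 2 * G.trace * b + e2 G = 0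
    · -- a double root
      obtain ⟨b₁, hb₁⟩ : ∃ b₁, b₁ = G.trace - 2 * b := ⟨_, rfl⟩
      by_cases hbb : b₁ = b
      · exfalso
        have h4 : G.trace = 3 * b := by rw [hbb] at hb₁; linear_combination -hb₁
        have h5 : b ^ 3 = 1 := by
          rw [h4] at hb hb'
          rw [hd] at hb
          linear_combination (norm := ring_nf) hb - b * hb'
        refine ht b h5 ?_ h4
        have h6 := e2_eq h1 hd
        rw [h4, map_mul, map_ofNat] at h6
        rw [h6, h4] at hb'
        have h7 : (3 : F) * (σ b - b ^ 2) = 0 := by linear_combination hb'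
        have h8 : σ b = b ^ 2 := sub_eq_zero.1 ((mul_eq_zero.1 h7).resolve_left h3)
        rw [h8]
        linear_combination h5
      · refine exists_det_root (b := b₁) ?_ ?_ θ
        · -- `f b₁ = 0`
          subst hb₁
          linear_combination (norm := ring_nf) hb + (G.trace - 3 * b) * hb'
        · intro h4
          apply hbb
          have h5 : (b₁ - b) ^ 2 = 0 := by
            subst hb₁
            linear_combination (norm := ring_nf) h4 - hb'
          exact sub_eq_zero.1 (pow_eq_zero_iff (by norm_num) |>.1 h5)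
    · exact exists_det_root hb hb' θ
  · push Not at hr
    obtain ⟨f, hf⟩ : ∃ f : F[X], f = X ^ 3 - C G.trace * X ^ 2 + C (e2 G) * X - C G.det := ⟨_, rfl⟩
    have hdeg : f.natDegree = 3 := by rw [hf]; compute_degree!
    have hm : f.Monic := by
      rw [hf]
      monicity!
    refine exists_det_irr (f := f) ?_ hdeg hm ?_ θ
    · apply irreducible_of_degree_le_three_of_not_isRoot
      · rw [hdeg]; simp
      · intro x hx
        apply hr x
        have := hx.eq_zero
        rw [hf] at this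
        simpa only [_root_.Polynomial.eval_sub, _root_.Polynomial.eval_add, _root_.Polynomial.eval_pow, _root_.Polynomial.eval_X, _root_.Polynomial.eval_mul, _root_.Polynomial.eval_C] using this
    · rw [hf]
      simp only [map_add, map_sub, map_mul, map_pow, aeval_X, aeval_C]
      rw [pow_succ', pow_two, ch3]
      simp only [Algebra.algebraMap_eq_smul_one, Matrix.smul_mul, Matrix.one_mul]
      abel

/-! ### conjugacy in the special unitary group -/

theorem exists_h90 [Fintype F] {q : ℕ} (hF : Fintype.card F = q ^ 2) (hσ : ∀ x, σ x = x ^ q) (hσ2 : ∀ x, σ (σ x) = x)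
    (hq : 3 ≤ q) {d : F} (hd : σ d * d = 1) : ∃ θ : F, θ ≠ 0 ∧ d * σ θ = θ := by
  have hd0 : d ≠ 0 := right_ne_zero_of_mul_eq_one hd
  obtain ⟨γ, hγ, h⟩ := exists_theta (σ := σ) hF hσ hq (3 * d) (3 * d ^ 2) (d ^ 3)
  have h2 : γ + d * σ γ ≠ 0 := by
    intro h3
    apply h
    have : γ ^ 3 + 3 * d * γ ^ 2 * σ γ + 3 * d ^ 2 * γ * σ γ ^ 2 + d ^ 3 * σ γ ^ 3 = (γ + d * σ γ) ^ 3 := by ring
    rw [this, h3, zero_pow (by norm_num)]
  refine ⟨γ + d * σ γ, h2, ?_⟩
  rw [map_add, map_mul, hσ2]
  linear_combination γ * hd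

variable [Fintype F] {q : ℕ}

/-- `G₁` and `G₂` are conjugate in the special unitary group -/
def Cj (σ : F →+* F) (G₁ G₂ : Matrix (Fin 3) (Fin 3) F) : Prop :=
  ∃ T : Matrix (Fin 3) (Fin 3) F, st σ T * T = 1 ∧ T.det = 1 ∧ T * G₁ = G₂ * T

theorem conj_su (hF : Fintype.card F = q ^ 2) (hσ : ∀ x, σ x = x ^ q) (hσ2 : ∀ x, σ (σ x) = x) (hq : 3 ≤ q)
    (h3 : (3 : F) ≠ 0) {G₁ G₂ : Matrix (Fin 3) (Fin 3) F} (h1 : st σ G₁ * G₁ = 1) (hd1 : G₁.det = 1)
    (h2 : st σ G₂ * G₂ = 1) (hd2 : G₂.det = 1) (htr : G₁.trace = G₂.trace) {v₁ v₂ : Fin 3 → F}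
    (hv1 : (Kr G₁ v₁).det ≠ 0) (hv2 : (Kr G₂ v₂).det ≠ 0)
    (ht : ∀ c : F, c ^ 3 = 1 → c * σ c = 1 → G₁.trace ≠ 3 * c) : Cj σ G₁ G₂ := by
  have hcc := cc_of_Kr hv1
  obtain ⟨T₀, hT₀u, hT₀⟩ := exists_T h1 hd1 h2 hd2 htr hv1 hv2
  obtain ⟨T, hT, hTG⟩ := conj_unitary hF hσ hσ2 hq h1 h2 hcc hT₀ hT₀u
  have hdT : σ T.det * T.det = 1 := by
    have := congrArg Matrix.det hT
    rwa [Matrix.det_mul, det_st, Matrix.det_one] at this
  have hdT0 : T.det ≠ 0 := right_ne_zero_of_mul_eq_one hdT
  obtain ⟨θ, hθ0, hθ⟩ := exists_h90 hF hσ hσ2 hq (d := (T.det)⁻¹) (by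
    rw [map_inv₀, ← mul_inv, hdT, inv_one])
  obtain ⟨y, hyG, hy⟩ := exists_det h3 h1 hd1 ht θ
  have hyu : IsUnit y := by
    rw [Matrix.isUnit_iff_isUnit_det, hy]; exact isUnit_iff_ne_zero.2 hθ0
  have hsyG := st_comm h1 hyG
  have hsyd : (st σ y).det = σ θ := by rw [det_st, hy]
  have hσθ0 : σ θ ≠ 0 := (_root_.map_ne_zero σ).2 hθ0
  have hsyu : IsUnit (st σ y) := by
    rw [Matrix.isUnit_iff_isUnit_det, hsyd]; exact isUnit_iff_ne_zero.2 hσθ0
  obtain ⟨y, rfl⟩ := hyu
  obtain ⟨z, hz⟩ := hsyu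
  have hyz : (y : Matrix (Fin 3) (Fin 3) F) * z = z * y := by rw [hz]; exact hcc _ _ hyG hsyG
  have hzG : (z : Matrix (Fin 3) (Fin 3) F) * G₁ = G₁ * z := by rw [hz]; exact hsyG
  have hziG : ((z⁻¹ : (Matrix (Fin 3) (Fin 3) F)ˣ) : Matrix (Fin 3) (Fin 3) F) * G₁ = G₁ * (z⁻¹ : (Matrix (Fin 3) (Fin 3) F)ˣ) :=
    (Cg G₁).inv_mem (x := z) hzG
  have hsz : st σ (z : Matrix (Fin 3) (Fin 3) F) = y := by rw [hz, st_st hσ2]
  have hszi : st σ ((z⁻¹ : (Matrix (Fin 3) (Fin 3) F)ˣ) : Matrix (Fin 3) (Fin 3) F) = (y⁻¹ : (Matrix (Fin 3) (Fin 3) F)ˣ) := by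
    apply Units.eq_inv_of_mul_eq_one_left
    rw [← hsz, ← st_mul, Units.inv_mul, st_one]
  -- the correction
  refine ⟨T * ((y : Matrix (Fin 3) (Fin 3) F) * (z⁻¹ : (Matrix (Fin 3) (Fin 3) F)ˣ)), ?_, ?_, ?_⟩
  · rw [st_mul, st_mul, hszi, ← hz]
    calc ((y⁻¹ : (Matrix (Fin 3) (Fin 3) F)ˣ) : Matrix (Fin 3) (Fin 3) F) * z * st σ T * (T * (y * (z⁻¹ : (Matrix (Fin 3) (Fin 3) F)ˣ)))
        = (y⁻¹ : (Matrix (Fin 3) (Fin 3) F)ˣ) * z * (st σ T * T) * (y * (z⁻¹ : (Matrix (Fin 3) (Fin 3) F)ˣ)) := by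
          simp only [Matrix.mul_assoc]
      _ = (y⁻¹ : (Matrix (Fin 3) (Fin 3) F)ˣ) * (z * y) * (z⁻¹ : (Matrix (Fin 3) (Fin 3) F)ˣ) := by
          rw [hT, Matrix.mul_one]
          simp only [Matrix.mul_assoc]
      _ = 1 := by
          rw [← hyz, ← Matrix.mul_assoc, Units.inv_mul, Matrix.one_mul, Units.mul_inv]
  · have hzd : ((z⁻¹ : (Matrix (Fin 3) (Fin 3) F)ˣ) : Matrix (Fin 3) (Fin 3) F).det * σ θ = 1 := by
      rw [← hsyd, ← hz, ← Matrix.det_mul, Units.inv_mul, Matrix.det_one]
    have h5 : θ * T.det = σ θ := by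
      calc θ * T.det = ((T.det)⁻¹ * σ θ) * T.det := by rw [hθ]
        _ = σ θ := by rw [mul_comm, ← mul_assoc, mul_inv_cancel₀ hdT0, one_mul]
    rw [Matrix.det_mul, Matrix.det_mul, hy]
    calc T.det * (θ * ((z⁻¹ : (Matrix (Fin 3) (Fin 3) F)ˣ) : Matrix (Fin 3) (Fin 3) F).det)
        = ((z⁻¹ : (Matrix (Fin 3) (Fin 3) F)ˣ) : Matrix (Fin 3) (Fin 3) F).det * (θ * T.det) := by ring
      _ = 1 := by rw [h5, hzd]
  · rw [Matrix.mul_assoc, Matrix.mul_assoc, hziG, ← Matrix.mul_assoc (y : Matrix (Fin 3) (Fin 3) F), hyG, ← Matrix.mul_assoc,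
      ← Matrix.mul_assoc, hTG]
    simp only [Matrix.mul_assoc]

/-- conjugacy when `3` and `q + 1` are coprime -/
theorem conj_su_cop (hF : Fintype.card F = q ^ 2) (hσ : ∀ x, σ x = x ^ q) (hσ2 : ∀ x, σ (σ x) = x) (hq : 3 ≤ q)
    {k : ℕ} (hk : q + 1 ∣ 3 * k + 1)
    {G₁ G₂ : Matrix (Fin 3) (Fin 3) F} (h1 : st σ G₁ * G₁ = 1) (hd1 : G₁.det = 1)
    (h2 : st σ G₂ * G₂ = 1) (hd2 : G₂.det = 1) (htr : G₁.trace = G₂.trace) {v₁ v₂ : Fin 3 → F}
    (hv1 : (Kr G₁ v₁).det ≠ 0) (hv2 : (Kr G₂ v₂).det ≠ 0) : Cj σ G₁ G₂ := by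
  have hcc := cc_of_Kr hv1
  obtain ⟨T₀, hT₀u, hT₀⟩ := exists_T h1 hd1 h2 hd2 htr hv1 hv2
  obtain ⟨T, hT, hTG⟩ := conj_unitary hF hσ hσ2 hq h1 h2 hcc hT₀ hT₀u
  have hdT : σ T.det * T.det = 1 := by
    have := congrArg Matrix.det hT
    rwa [Matrix.det_mul, det_st, Matrix.det_one] at this
  obtain ⟨c, hc⟩ : ∃ c, c = T.det ^ k := ⟨_, rfl⟩
  have hdq : T.det ^ (q + 1) = 1 := by rw [pow_succ, ← hσ, hdT]
  refine ⟨c • T, ?_, ?_, ?_⟩
  · rw [st_smul, Matrix.smul_mul, Matrix.mul_smul, hT, smul_smul, hc, map_pow, ← mul_pow, hdT, one_pow, one_smul]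
  · rw [Matrix.det_smul, Fintype.card_fin, hc, ← pow_mul, mul_comm k 3, ← pow_succ]
    obtain ⟨m, hm⟩ := hk
    rw [hm, pow_mul, hdq, one_pow]
  · rw [Matrix.smul_mul, Matrix.mul_smul, hTG]

end Cfsg.Agent.H3.TC
end

-- part: H3/TC/Elt
section
/-!
# Products of two conjugates of a regular unipotent element of `SU_3(q)` (helper3)

`q` prime to 6.  `x₀ = uU 1 (-1/2)`; `Cv σ x₀ g` : `g` is a product of two conjugates of `x₀`.
-/

set_option autoImplicit false

namespace Cfsg.Agent.H3.TC

open Matrix Polynomial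

variable {F : Type*} [Field F] {σ : F →+* F}

/-- the special unitary matrices -/
def US (σ : F →+* F) (A : Matrix (Fin 3) (Fin 3) F) : Prop := st σ A * A = 1 ∧ A.det = 1

theorem US.one : US σ 1 := ⟨by rw [st_one, Matrix.one_mul], Matrix.det_one⟩

theorem US.mul {A B : Matrix (Fin 3) (Fin 3) F} (hA : US σ A) (hB : US σ B) : US σ (A * B) := by
  refine ⟨?_, by rw [Matrix.det_mul, hA.2, hB.2, one_mul]⟩
  rw [st_mul]
  calc st σ B * st σ A * (A * B) = st σ B * (st σ A * A) * B := by simp only [Matrix.mul_assoc]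
    _ = 1 := by rw [hA.1, Matrix.mul_one, hB.1]

theorem US.mul_st {A : Matrix (Fin 3) (Fin 3) F} (hA : US σ A) : A * st σ A = 1 := mul_eq_one_comm.1 hA.1

theorem US.st (hσ2 : ∀ x, σ (σ x) = x) {A : Matrix (Fin 3) (Fin 3) F} (hA : US σ A) : US σ (st σ A) := by
  refine ⟨by rw [st_st hσ2, hA.mul_st], by rw [det_st, hA.2, map_one]⟩

theorem Cj.refl (A : Matrix (Fin 3) (Fin 3) F) : Cj σ A A :=
  ⟨1, US.one.1, (US.one (σ := σ)).2, by rw [Matrix.one_mul, Matrix.mul_one]⟩

theorem Cj.trans {A B C : Matrix (Fin 3) (Fin 3) F} (h1 : Cj σ A B) (h2 : Cj σ B C) : Cj σ A C := by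
  obtain ⟨T, hT, hTd, hTA⟩ := h1
  obtain ⟨S, hS, hSd, hSB⟩ := h2
  have h3 := US.mul (σ := σ) ⟨hS, hSd⟩ ⟨hT, hTd⟩
  exact ⟨S * T, h3.1, h3.2, by rw [Matrix.mul_assoc, hTA, ← Matrix.mul_assoc, hSB, Matrix.mul_assoc]⟩

theorem Cj.symm (hσ2 : ∀ x, σ (σ x) = x) {A B : Matrix (Fin 3) (Fin 3) F} (h1 : Cj σ A B) : Cj σ B A := by
  obtain ⟨T, hT, hTd, hTA⟩ := h1
  have hU : US σ T := ⟨hT, hTd⟩
  refine ⟨st σ T, (hU.st hσ2).1, (hU.st hσ2).2, ?_⟩
  calc st σ T * B = st σ T * B * (T * st σ T) := by rw [hU.mul_st, Matrix.mul_one]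
    _ = st σ T * (B * T) * st σ T := by simp only [Matrix.mul_assoc]
    _ = st σ T * T * A * st σ T := by rw [← hTA]; simp only [Matrix.mul_assoc]
    _ = A * st σ T := by rw [hT, Matrix.one_mul]

theorem Cj.us {A B : Matrix (Fin 3) (Fin 3) F} (h : Cj σ A B) (hA : US σ A) : US σ B := by
  obtain ⟨T, hT, hTd, hTA⟩ := h
  have hU : US σ T := ⟨hT, hTd⟩
  have h1 : B = T * A * st σ T := by rw [hTA, Matrix.mul_assoc, hU.mul_st, Matrix.mul_one]
  have h2 : T * (A * st σ A) * st σ T = 1 := by rw [hA.mul_st, Matrix.mul_one, hU.mul_st]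
  refine ⟨?_, ?_⟩
  · have h3 : st σ B = T * st σ A * st σ T := by
      -- the inverse of `B`
      have h4 : B * (T * st σ A * st σ T) = 1 := by
        rw [h1]
        calc T * A * st σ T * (T * st σ A * st σ T) = T * A * (st σ T * T) * st σ A * st σ T := by
              simp only [Matrix.mul_assoc]
          _ = T * (A * st σ A) * st σ T := by rw [hT, Matrix.mul_one]; simp only [Matrix.mul_assoc]
          _ = 1 := h2
      have h5 : st σ B * B = 1 := by
        have e1 := congrArg (st σ) hTA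
        rw [st_mul, st_mul] at e1
        have e2 : A = st σ T * B * T := by
          rw [Matrix.mul_assoc, ← hTA, ← Matrix.mul_assoc, hT, Matrix.one_mul]
        -- `st T * st B = st A * st T`
        have e3 : st σ T * (st σ B * B) * T = 1 := by
          calc st σ T * (st σ B * B) * T = (st σ T * st σ B) * (B * T) := by simp only [Matrix.mul_assoc]
            _ = st σ A * st σ T * (T * A) := by rw [← e1, hTA]
            _ = st σ A * (st σ T * T) * A := by simp only [Matrix.mul_assoc]
            _ = 1 := by rw [hT, Matrix.mul_one, hA.1]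
        calc st σ B * B = (T * st σ T) * (st σ B * B) * (T * st σ T) := by rw [hU.mul_st, Matrix.one_mul, Matrix.mul_one]
          _ = T * (st σ T * (st σ B * B) * T) * st σ T := by simp only [Matrix.mul_assoc]
          _ = 1 := by rw [e3, Matrix.mul_one, hU.mul_st]
      calc st σ B = st σ B * (B * (T * st σ A * st σ T)) := by rw [h4, Matrix.mul_one]
        _ = T * st σ A * st σ T := by rw [← Matrix.mul_assoc, h5, Matrix.one_mul]
    rw [h3, h1]
    calc T * st σ A * st σ T * (T * A * st σ T) = T * st σ A * (st σ T * T) * A * st σ T := by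
          simp only [Matrix.mul_assoc]
      _ = T * (st σ A * A) * st σ T := by rw [hT, Matrix.mul_one]; simp only [Matrix.mul_assoc]
      _ = 1 := by rw [hA.1, Matrix.mul_one, hU.mul_st]
  · have h3 := congrArg Matrix.det hTA
    rw [Matrix.det_mul, Matrix.det_mul, hTd, hA.2, one_mul, mul_one] at h3
    exact h3.symm

/-- `g` is a product of two conjugates of `x` -/
def Cv (σ : F →+* F) (x g : Matrix (Fin 3) (Fin 3) F) : Prop :=
  ∃ A B : Matrix (Fin 3) (Fin 3) F, Cj σ x A ∧ Cj σ x B ∧ g = A * B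

theorem Cv.cj {x g g' : Matrix (Fin 3) (Fin 3) F} (h : Cv σ x g) (hg : Cj σ g g') : Cv σ x g' := by
  obtain ⟨A, B, hA, hB, rfl⟩ := h
  obtain ⟨T, hT, hTd, hTA⟩ := hg
  have hU : US σ T := ⟨hT, hTd⟩
  refine ⟨T * A * st σ T, T * B * st σ T, hA.trans ⟨T, hT, hTd, ?_⟩, hB.trans ⟨T, hT, hTd, ?_⟩, ?_⟩
  · rw [Matrix.mul_assoc _ (st σ T), hT, Matrix.mul_one]
  · rw [Matrix.mul_assoc _ (st σ T), hT, Matrix.mul_one]
  · calc g' = g' * (T * st σ T) := by rw [hU.mul_st, Matrix.mul_one]
      _ = (T * (A * B)) * st σ T := by rw [hTA, Matrix.mul_assoc]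
      _ = T * A * (st σ T * T) * B * st σ T := by rw [hT, Matrix.mul_one]; simp only [Matrix.mul_assoc]
      _ = T * A * st σ T * (T * B * st σ T) := by simp only [Matrix.mul_assoc]

/-! ### the elements -/

/-- upper unipotent elements -/
def uU (σ : F →+* F) (a b : F) : Matrix (Fin 3) (Fin 3) F := !![1, -σ a, b; 0, 1, a; 0, 0, 1]

/-- lower unipotent elements -/
def vL (σ : F →+* F) (a b : F) : Matrix (Fin 3) (Fin 3) F := !![1, 0, 0; a, 1, 0; b, -σ a, 1]

/-- the torus -/
def dT (σ : F →+* F) (x : F) : Matrix (Fin 3) (Fin 3) F := !![x, 0, 0; 0, σ x * x⁻¹, 0; 0, 0, (σ x)⁻¹]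

/-- the Weyl element -/
def wW : Matrix (Fin 3) (Fin 3) F := !![0, 0, 1; 0, -1, 0; 1, 0, 0]

theorem st_of (a b c d e f g h i : F) : st σ !![a, b, c; d, e, f; g, h, i] =
    !![σ i, σ f, σ c; σ h, σ e, σ b; σ g, σ d, σ a] := by
  ext i j
  fin_cases i <;> fin_cases j <;> rfl

theorem us_uU (hσ2 : ∀ x, σ (σ x) = x) {a b : F} (h : b + σ b + a * σ a = 0) : US σ (uU σ a b) := by
  constructor
  · rw [uU, st_of]
    ext i j
    (revert i j; simp only [Matrix.mul_apply, Fin.sum_univ_three, hσ2, _root_.Fin.forall_fin_succ, _root_.map_one, _root_.map_zero, _root_.map_neg, _root_.Matrix.of_apply, _root_.Matrix.cons_val', _root_.Matrix.cons_val_fin_one, Fin.isValue, _root_.Matrix.cons_val_zero, _root_.Matrix.cons_val_one, _root_.Matrix.cons_val, _root_.mul_one, _root_.MulZeroClass.mul_zero, _root_.add_zero, _root_.Matrix.cons_val_succ, _root_.mul_neg, _root_.IsEmpty.forall_iff, _root_.Matrix.one_apply_eq, _root_.one_mul, _root_.neg_add_cancel, Nat.reduceAdd, _root_.Fin.succ_zero_eq_one,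 _root_.ne_eq, _root_.zero_ne_one, _root_.not_false_eq_true, _root_.Matrix.one_apply_ne, _root_.Fin.succ_one_eq_two, Fin.reduceEq, _root_.Fin.succ_ne_zero, _root_.MulZeroClass.zero_mul, _root_.neg_zero, _root_.zero_add, _root_.add_neg_cancel, _root_.and_true, _root_.true_and]) <;> (repeat' with_reducible apply And.intro)
    linear_combination h
  · rw [uU, Matrix.det_fin_three]
    simp

theorem us_vL (hσ2 : ∀ x, σ (σ x) = x) {a b : F} (h : b + σ b + a * σ a = 0) : US σ (vL σ a b) := by
  constructor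
  · rw [vL, st_of]
    ext i j
    (revert i j; simp only [Matrix.mul_apply, Fin.sum_univ_three, hσ2, _root_.Fin.forall_fin_succ, _root_.map_one, _root_.map_zero, _root_.map_neg, _root_.Matrix.of_apply, _root_.Matrix.cons_val', _root_.Matrix.cons_val_fin_one, Fin.isValue, _root_.Matrix.cons_val_zero, _root_.Matrix.cons_val_one, _root_.Matrix.cons_val, _root_.mul_one, _root_.Matrix.cons_val_succ, _root_.MulZeroClass.mul_zero, _root_.zero_add, _root_.mul_neg, _root_.add_zero, _root_.IsEmpty.forall_iff, _root_.MulZeroClass.zero_mul, _root_.Matrix.one_apply_eq, _root_.neg_zero, Nat.reduceAdd, _root_.Fin.succ_zero_eq_one, _root_.ne_eq, _root_.zero_ne_one, _root_.not_false_eq_true, _root_.Matrix.one_apply_ne, _root_.Fin.succ_one_eq_two, Fin.reduceEq, _root_.Fin.succ_ne_zero, _root_.one_mul, _root_.neg_add_cancel, _root_.add_neg_cancel, _root_.and_true, _root_.true_and]) <;> (repeat' with_reducible apply And.intro)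
    linear_combination h
  · rw [vL, Matrix.det_fin_three]
    simp

theorem us_dT (hσ2 : ∀ x, σ (σ x) = x) {x : F} (hx : x ≠ 0) : US σ (dT σ x) := by
  have hσx : σ x ≠ 0 := (_root_.map_ne_zero σ).2 hx
  constructor
  · rw [dT, st_of]
    ext i j
    (revert i j; simp only [Matrix.mul_apply, Fin.sum_univ_three, hσ2, hx, hσx, _root_.Fin.forall_fin_succ, _root_.map_inv₀, _root_.map_zero, _root_.map_mul, _root_.Matrix.of_apply, _root_.Matrix.cons_val', _root_.Matrix.cons_val_fin_one, Fin.isValue, _root_.Matrix.cons_val_zero, _root_.Matrix.cons_val_one, _root_.Matrix.cons_val, _root_.MulZeroClass.mul_zero, _root_.add_zero, _root_.Matrix.cons_val_succ, _root_.zero_add, _root_.IsEmpty.forall_iff, _root_.ne_eq, _root_.not_false_eq_true, _root_.inv_mul_cancel₀, _root_.Matrix.one_apply_eq, _root_.MulZeroClass.zero_mul, Nat.reduceAdd, _root_.Fin.succ_zero_eq_one, _root_.zero_ne_one, _root_.Matrix.one_apply_ne, _root_.Fin.succ_one_eq_two, Fin.reduceEq, _root_.Fin.succ_ne_zero, _root_.mul_eq_zero,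 _root_.or_false, _root_.mul_inv_cancel₀, _root_.and_true, _root_.true_and]) <;> (repeat' with_reducible apply And.intro)
    field_simp
  · rw [dT, Matrix.det_fin_three]
    simp only [_root_.Fin.isValue, _root_.Matrix.of_apply, _root_.Matrix.cons_val', _root_.Matrix.cons_val_zero, _root_.Matrix.cons_val_fin_one, _root_.Matrix.cons_val_one, _root_.Matrix.cons_val, _root_.MulZeroClass.mul_zero, _root_.sub_zero, _root_.MulZeroClass.zero_mul, _root_.add_zero]
    field_simp

theorem us_wW : US σ (wW : Matrix (Fin 3) (Fin 3) F) := by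
  constructor
  · rw [wW, st_of]
    ext i j
    (revert i j; simp only [Matrix.mul_apply, Fin.sum_univ_three, _root_.Fin.forall_fin_succ, _root_.map_zero, _root_.map_one, _root_.map_neg, _root_.Matrix.of_apply, _root_.Matrix.cons_val', _root_.Matrix.cons_val_fin_one, Fin.isValue, _root_.Matrix.cons_val_zero, _root_.Matrix.cons_val_one, _root_.Matrix.cons_val, _root_.MulZeroClass.mul_zero, _root_.add_zero, _root_.mul_one, _root_.zero_add, _root_.Matrix.cons_val_succ, _root_.mul_neg, _root_.IsEmpty.forall_iff, _root_.and_true, _root_.Matrix.one_apply_eq, _root_.neg_zero, Nat.reduceAdd, _root_.Fin.succ_zero_eq_one, _root_.ne_eq, _root_.zero_ne_one, _root_.not_false_eq_true, _root_.Matrix.one_apply_ne, _root_.Fin.succ_one_eq_two, Fin.reduceEq, _root_.and_self, _root_.Fin.succ_ne_zero, _root_.neg_neg, _root_.true_and])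
  · rw [wW, Matrix.det_fin_three]
    simp

theorem uU_mul (a b c d : F) : uU σ a b * uU σ c d = uU σ (a + c) (b + d - σ a * c) := by
  rw [uU, uU, uU]
  ext i j
  (revert i j; simp only [Matrix.mul_apply, Fin.sum_univ_three, _root_.Fin.forall_fin_succ, _root_.Matrix.of_apply, _root_.Matrix.cons_val', _root_.Matrix.cons_val_fin_one, Fin.isValue, _root_.Matrix.cons_val_zero, _root_.Matrix.cons_val_one, _root_.Matrix.cons_val, _root_.map_add, _root_.neg_add_rev, _root_.mul_one, _root_.MulZeroClass.mul_zero, _root_.add_zero, _root_.Matrix.cons_val_succ, _root_.mul_neg, _root_.forall_const, _root_.true_and, _root_.one_mul, _root_.neg_mul, _root_.add_eq_right, _root_.neg_eq_zero, _root_.mul_eq_zero, _root_.map_eq_zero, _root_.true_or, _root_.MulZeroClass.zero_mul, _root_.zero_add, _root_.and_self, _root_.implies_true, _root_.and_true]) <;> (repeat' with_reducible apply And.intro) <;> ring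

theorem cj_dT (hσ2 : ∀ x, σ (σ x) = x) {x : F} (hx : x ≠ 0) (a b : F) :
    Cj σ (uU σ a b) (uU σ (a * σ x ^ 2 / x) (b * x * σ x)) := by
  have hσx : σ x ≠ 0 := (_root_.map_ne_zero σ).2 hx
  refine ⟨dT σ x, (us_dT hσ2 hx).1, (us_dT hσ2 hx).2, ?_⟩
  rw [uU, uU, dT]
  ext i j
  (revert i j; simp only [Matrix.mul_apply, Fin.sum_univ_three, hσ2, _root_.Fin.forall_fin_succ, _root_.Matrix.of_apply, _root_.Matrix.cons_val', _root_.Matrix.cons_val_fin_one, Fin.isValue, _root_.Matrix.cons_val_zero, _root_.Matrix.cons_val_one, _root_.Matrix.cons_val, _root_.map_div₀, _root_.map_mul, _root_.map_pow, _root_.mul_one, _root_.MulZeroClass.mul_zero, _root_.add_zero, _root_.Matrix.cons_val_succ, _root_.mul_neg, _root_.zero_add, _root_.forall_const, _root_.one_mul, _root_.neg_mul, _root_.neg_inj, _root_.MulZeroClass.zero_mul, _root_.true_and, _root_.neg_zero, _root_.and_self, _root_.implies_true, _root_.and_true]) <;> (repeat' with_reducible apply And.intro) <;> field_simp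

theorem cj_w (a b : F) : Cj σ (uU σ a b) (vL σ (-a) b) := by
  refine ⟨wW, us_wW.1, (us_wW (σ := σ)).2, ?_⟩
  rw [uU, vL, wW]
  ext i j
  (revert i j; simp only [Matrix.mul_apply, Fin.sum_univ_three, _root_.Fin.forall_fin_succ, _root_.Matrix.of_apply, _root_.Matrix.cons_val', _root_.Matrix.cons_val_fin_one, Fin.isValue, _root_.Matrix.cons_val_zero, _root_.Matrix.cons_val_one, _root_.Matrix.cons_val, _root_.map_neg, _root_.neg_neg, _root_.mul_one, _root_.MulZeroClass.mul_zero, _root_.add_zero, _root_.zero_add, _root_.Matrix.cons_val_succ, _root_.mul_neg, _root_.forall_const, _root_.true_and, _root_.MulZeroClass.zero_mul, _root_.neg_zero, _root_.and_self, _root_.neg_mul, _root_.one_mul, _root_.implies_true])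

theorem cj_b (h2 : (2 : F) ≠ 0) (hσ2 : ∀ x, σ (σ x) = x) {a b b' : F} (ha : a ≠ 0) (h : b + σ b + a * σ a = 0)
    (h' : b' + σ b' + a * σ a = 0) : Cj σ (uU σ a b) (uU σ a b') := by
  have hσa : σ a ≠ 0 := (_root_.map_ne_zero σ).2 ha
  have hσ2' : σ 2 = 2 := map_ofNat σ 2
  obtain ⟨c, hc⟩ : ∃ c, c = (b' - b) / (2 * σ a) := ⟨_, rfl⟩
  obtain ⟨d, hd⟩ : ∃ d, d = -(c * σ c) / 2 := ⟨_, rfl⟩
  have hσc : σ c = -(b' - b) / (2 * a) := by
    rw [hc, map_div₀, map_mul, hσ2, hσ2', map_sub]
    congr 1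
    linear_combination h' - h
  have hd' : d + σ d + c * σ c = 0 := by
    rw [hd, map_div₀, map_neg, map_mul, hσ2, hσ2']
    field_simp
    ring
  refine ⟨uU σ c d, (us_uU hσ2 hd').1, (us_uU hσ2 hd').2, ?_⟩
  rw [uU_mul, uU_mul]
  congr 1
  · rw [add_comm]
  · rw [hσc, hc]
    field_simp
    ring

/-- the element `x₀` -/
def x₀ (σ : F →+* F) : Matrix (Fin 3) (Fin 3) F := uU σ 1 (-2⁻¹)

theorem us_x₀ (h2 : (2 : F) ≠ 0) (hσ2 : ∀ x, σ (σ x) = x) : US σ (x₀ σ) := by
  apply us_uU hσ2
  rw [map_neg, map_inv₀, map_ofNat, map_one]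
  field_simp
  norm_num

theorem cj_x₀ (h2 : (2 : F) ≠ 0) (hσ2 : ∀ x, σ (σ x) = x) {a b : F} (ha : a ≠ 0) (hσa : σ a = a ∨ σ a = -a)
    (h : b + σ b + a * σ a = 0) : Cj σ (x₀ σ) (uU σ a b) := by
  have h1 := cj_dT hσ2 ha (1 : F) (-2⁻¹)
  have h3 : (1 : F) * σ a ^ 2 / a = a := by
    have h4 : σ a ^ 2 = a ^ 2 := by
      rcases hσa with h4 | h4
      · rw [h4]
      · rw [h4]; ring
    rw [h4]
    field_simp
  rw [h3] at h1
  refine h1.trans (cj_b h2 hσ2 ha ?_ h)
  rw [map_mul, map_mul, hσ2, map_neg, map_inv₀, map_ofNat]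
  field_simp
  ring

theorem cj_x₀' (h2 : (2 : F) ≠ 0) (hσ2 : ∀ x, σ (σ x) = x) {a b : F} (ha : a ≠ 0) (hσa : σ a = a ∨ σ a = -a)
    (h : b + σ b + a * σ a = 0) : Cj σ (x₀ σ) (vL σ a b) := by
  have h1 := cj_x₀ h2 hσ2 (a := -a) (b := b) (neg_ne_zero.2 ha) (by
    rw [map_neg]
    rcases hσa with h4 | h4
    · left; rw [h4]
    · right; rw [h4]) (by rw [map_neg]; linear_combination h)
  have h3 := cj_w (σ := σ) (-a) b
  rw [neg_neg] at h3
  exact h1.trans h3

/-- all upper unipotent elements are products of two conjugates of `x₀` -/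
theorem cv_uU (h2 : (2 : F) ≠ 0) (hσ2 : ∀ x, σ (σ x) = x) {a b : F} (h : b + σ b + a * σ a = 0) :
    Cv σ (x₀ σ) (uU σ a b) := by
  have hσ2' : σ 2 = 2 := map_ofNat σ 2
  -- `a = c + d` with `σ c = ± c`, `σ d = ± d`, `c, d ≠ 0`
  obtain ⟨c, d, hc, hd, hσc, hσd, hcd⟩ : ∃ c d : F, c ≠ 0 ∧ d ≠ 0 ∧ (σ c = c ∨ σ c = -c) ∧ (σ d = d ∨ σ d = -d) ∧
      c + d = a := by
    by_cases h1 : a + σ a = 0
    · by_cases h0 : a = 0
      · exact ⟨1, -1, one_ne_zero, neg_ne_zero.2 one_ne_zero, Or.inl (map_one σ), Or.inl (by rw [map_neg, map_one]),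
          by rw [h0]; ring⟩
      · have h3 : σ (a / 2) = -(a / 2) := by
          rw [map_div₀, hσ2']
          field_simp
          linear_combination h1
        exact ⟨a / 2, a / 2, div_ne_zero h0 h2, div_ne_zero h0 h2, Or.inr h3, Or.inr h3, by field_simp; norm_num⟩
    · by_cases h3 : a - σ a = 0
      · have h0 : a ≠ 0 := by
          rintro rfl
          apply h1
          rw [map_zero, add_zero]
        have h4 : σ (a / 2) = a / 2 := by
          rw [map_div₀, hσ2']
          field_simp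
          linear_combination -h3
        exact ⟨a / 2, a / 2, div_ne_zero h0 h2, div_ne_zero h0 h2, Or.inl h4, Or.inl h4, by field_simp; norm_num⟩
      · refine ⟨(a + σ a) / 2, (a - σ a) / 2, div_ne_zero h1 h2, div_ne_zero h3 h2, Or.inl ?_, Or.inr ?_, ?_⟩
        · rw [map_div₀, hσ2', map_add, hσ2, add_comm]
        · rw [map_div₀, hσ2', map_sub, hσ2]; ring
        · field_simp; ring
  obtain ⟨e, he⟩ : ∃ e, e = -(d * σ d) / 2 := ⟨_, rfl⟩
  have he' : e + σ e + d * σ d = 0 := by
    rw [he, map_div₀, map_neg, map_mul, hσ2, hσ2']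
    field_simp
    ring
  obtain ⟨f, hf⟩ : ∃ f, f = b - e + σ c * d := ⟨_, rfl⟩
  have hf' : f + σ f + c * σ c = 0 := by
    rw [hf, map_add, map_sub, map_mul, hσ2]
    rw [← hcd, map_add] at h
    linear_combination h - he'
  refine ⟨uU σ c f, uU σ d e, cj_x₀ h2 hσ2 hc hσc hf', cj_x₀ h2 hσ2 hd hσd he', ?_⟩
  rw [uU_mul, hcd]
  congr 1
  rw [hf]
  ring

/-- products of a lower and an upper element -/
theorem cv_vu (h2 : (2 : F) ≠ 0) (hσ2 : ∀ x, σ (σ x) = x) {a b b' : F} (ha : a ≠ 0) (hσa : σ a = a ∨ σ a = -a)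
    (hb : b + σ b + 1 = 0) (h : b' + σ b' + a * σ a = 0) :
    Cv σ (x₀ σ) (vL σ 1 b * uU σ a b') :=
  ⟨_, _, cj_x₀' h2 hσ2 one_ne_zero (Or.inl (map_one σ)) (by rw [map_one]; linear_combination hb),
    cj_x₀ h2 hσ2 ha hσa h, rfl⟩

theorem trace_vu (a b b' : F) : (vL σ 1 b * uU σ a b').trace = 3 - a - σ a + b * b' := by
  rw [Matrix.trace_fin_three, vL, uU]
  simp only [Matrix.mul_apply, Fin.sum_univ_three, _root_.map_one, _root_.Fin.isValue, _root_.Matrix.of_apply, _root_.Matrix.cons_val', _root_.Matrix.cons_val_fin_one, _root_.Matrix.cons_val_zero, _root_.mul_one, _root_.Matrix.cons_val_one, _root_.MulZeroClass.mul_zero, _root_.add_zero, _root_.Matrix.cons_val, _root_.mul_neg, _root_.one_mul, _root_.neg_mul]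
  ring

theorem det_Kr_vu (a b b' : F) : (Kr (vL σ 1 b * uU σ a b') ![1, 0, 0]).det = -1 - a * b * (1 + b) := by
  have h1 : vL σ 1 b * uU σ a b' = !![1, -σ a, b'; 1, 1 - σ a, a + b'; b, -1 - σ a * b, 1 - a + b * b'] := by
    rw [vL, uU]
    ext i j
    (revert i j; simp only [Matrix.mul_apply, Fin.sum_univ_three, _root_.Fin.forall_fin_succ, _root_.map_one, _root_.Matrix.of_apply, _root_.Matrix.cons_val', _root_.Matrix.cons_val_fin_one, Fin.isValue, _root_.Matrix.cons_val_zero, _root_.Matrix.cons_val_one, _root_.Matrix.cons_val, _root_.mul_one, _root_.MulZeroClass.mul_zero, _root_.add_zero, _root_.Matrix.cons_val_succ, _root_.mul_neg, _root_.forall_const, _root_.true_and, _root_.one_mul, _root_.MulZeroClass.zero_mul, _root_.and_self, _root_.neg_mul]) <;> (repeat' with_reducible apply And.intro) <;> ring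
  rw [h1, Matrix.det_fin_three]
  simp only [Kr, Matrix.of_apply, Matrix.mulVec, dotProduct, Fin.sum_univ_three, Matrix.cons_val]
  simp only [_root_.mul_one, _root_.MulZeroClass.mul_zero, _root_.add_zero, _root_.one_mul, _root_.MulZeroClass.zero_mul, _root_.sub_zero]
  ring

end Cfsg.Agent.H3.TC
end

-- part: H3/TC/Solve
section
/-!
# Every trace is the trace of a product of two conjugates of `x₀` with a cyclic vector (helper3)
-/

set_option autoImplicit false

namespace Cfsg.Agent.H3.TC

open Matrix Polynomial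

variable {F : Type*} [Field F] {σ : F →+* F}

/-- binary quadratic equations over the fixed field -/
theorem exists_quad [Finite F] (h2 : (2 : F) ≠ 0) {α β γ : F} (hα : σ α = α) (hβ : σ β = β) (hγ : σ γ = γ)
    (hα0 : α ≠ 0) (hβ0 : β ≠ 0) : ∃ x y : F, σ x = x ∧ σ y = y ∧ α * x ^ 2 + β * y ^ 2 = γ := by
  let K : Subfield F := RingHom.eqLocusField σ (RingHom.id F)
  let _ : Fintype K := Fintype.ofFinite K
  let a : K := ⟨α, hα⟩
  let b : K := ⟨β, hβ⟩
  let c : K := ⟨γ, hγ⟩
  have ha : a ≠ 0 := fun h => hα0 (congrArg Subtype.val h)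
  have hb : b ≠ 0 := fun h => hβ0 (congrArg Subtype.val h)
  have hcard : Fintype.card K % 2 = 1 := by
    apply FiniteField.odd_card_of_char_ne_two
    intro h
    apply h2
    have h3 : ((ringChar K : ℕ) : K) = 0 := ringChar.Nat.cast_ringChar
    rw [h] at h3
    have h4 := congrArg K.subtype h3
    rw [map_natCast, map_zero] at h4
    exact_mod_cast h4
  obtain ⟨x, y, hxy⟩ := FiniteField.exists_root_sum_quadratic (R := K) (f := C a * X ^ 2) (g := C b * X ^ 2 - C c)
    (by rw [degree_C_mul_X_pow _ ha]; rfl)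
    (by
      rw [degree_sub_eq_left_of_degree_lt]
      · rw [degree_C_mul_X_pow _ hb]; rfl
      · rw [degree_C_mul_X_pow _ hb]
        exact lt_of_le_of_lt degree_C_le (by norm_num)) hcard
  refine ⟨x, y, x.2, y.2, ?_⟩
  have h5 := congrArg Subtype.val hxy
  simp only [eval_mul, eval_C, eval_pow, eval_X, eval_sub] at h5
  have h6 : α * (x : F) ^ 2 + (β * (y : F) ^ 2 - γ) = 0 := h5
  linear_combination h6

/-- a point with `y ≠ 0` -/
theorem exists_quad_ne [Finite F] (h2 : (2 : F) ≠ 0) (h3 : (3 : F) ≠ 0) {A c : F} (hA : σ A = A) (hc : σ c = c)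
    (hA0 : A ≠ 0) (hc0 : c ≠ 0) : ∃ s y : F, σ s = s ∧ σ y = y ∧ A + c * s ^ 2 = y ^ 2 ∧ y ≠ 0 := by
  obtain ⟨y, s, hy, hs, h⟩ := exists_quad (σ := σ) (α := 1) (β := -c) (γ := A) h2 (map_one σ) (by rw [map_neg, hc]) hA
    one_ne_zero (neg_ne_zero.2 hc0)
  by_cases hy0 : y = 0
  · subst hy0
    have hs0 : s ≠ 0 := by
      rintro rfl
      apply hA0
      linear_combination -h
    obtain ⟨m, hm, hm0, hcm⟩ : ∃ m : F, σ m = m ∧ m ≠ 0 ∧ 1 - c * m ^ 2 ≠ 0 := by
      by_cases h1 : c = 1
      · refine ⟨2, map_ofNat σ 2, h2, ?_⟩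
        rw [h1]
        have : (1 : F) - 1 * 2 ^ 2 = -3 := by norm_num
        rw [this]
        exact neg_ne_zero.2 h3
      · refine ⟨1, map_one σ, one_ne_zero, ?_⟩
        intro h4
        apply h1
        linear_combination -h4
    refine ⟨-s * (1 + c * m ^ 2) / (1 - c * m ^ 2), -2 * c * m * s / (1 - c * m ^ 2), ?_, ?_, ?_, ?_⟩
    · simp only [map_div₀, map_mul, map_neg, map_add, map_sub, map_one, map_pow, hc, hm, hs]
    · simp only [map_div₀, map_mul, map_neg, map_sub, map_one, map_pow, hc, hm, hs, map_ofNat]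
    · have hA' : A = -c * s ^ 2 := by linear_combination -h
      rw [hA']
      field_simp
      ring
    · apply div_ne_zero _ hcm
      exact mul_ne_zero (mul_ne_zero (mul_ne_zero (neg_ne_zero.2 h2) hc0) hm0) hs0
  · exact ⟨s, y, hs, hy, by linear_combination -h, hy0⟩

/-- **every trace `t ≠ 3`** -/
theorem exists_tr [Finite F] (h2 : (2 : F) ≠ 0) (h3 : (3 : F) ≠ 0) (hσ2 : ∀ x, σ (σ x) = x) {δ : F} (hδ0 : δ ≠ 0)
    (hδ : σ δ = -δ) {t : F} (ht : t ≠ 3) : ∃ a b b' : F, a ≠ 0 ∧ (σ a = a ∨ σ a = -a) ∧ b + σ b + 1 = 0 ∧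
      b' + σ b' + a * σ a = 0 ∧ 3 - a - σ a + b * b' = t ∧ -1 - a * b * (1 + b) ≠ 0 := by
  obtain ⟨h, hh⟩ : ∃ h : F, h = 2⁻¹ := ⟨_, rfl⟩
  have hh2 : 2 * h = 1 := by rw [hh, mul_inv_cancel₀ h2]
  have hσh : σ h = h := by rw [hh, map_inv₀, map_ofNat]
  obtain ⟨t0, ht0⟩ : ∃ t0, t0 = h * (t + σ t) := ⟨_, rfl⟩
  obtain ⟨t1, ht1⟩ : ∃ t1, t1 = h * (t - σ t) * δ⁻¹ := ⟨_, rfl⟩
  have hσt0 : σ t0 = t0 := by rw [ht0, map_mul, hσh, map_add, hσ2, add_comm]
  have hσt1 : σ t1 = t1 := by
    rw [ht1, map_mul, map_mul, hσh, map_sub, hσ2, map_inv₀, hδ, inv_neg]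
    ring
  have htt : t = t0 + t1 * δ := by
    rw [ht0, ht1]
    field_simp
    linear_combination -t * hh2
  -- `N(b) ≠ 0`
  have hN : ∀ s : F, σ s = s → h ^ 2 - s ^ 2 * δ ^ 2 ≠ 0 := by
    intro s hs h0
    have h4 : (h - s * δ) * (h + s * δ) = 0 := by linear_combination h0
    have h5 : h = 0 := by
      rcases mul_eq_zero.1 h4 with h6 | h6
      · have h7 := congrArg σ h6
        rw [map_sub, map_mul, hσh, hs, hδ, map_zero] at h7
        have h8 : (2 : F) * h = 0 := by linear_combination h6 + h7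
        exact (mul_eq_zero.1 h8).resolve_left h2
      · have h7 := congrArg σ h6
        rw [map_add, map_mul, hσh, hs, hδ, map_zero] at h7
        have h8 : (2 : F) * h = 0 := by linear_combination h6 + h7
        exact (mul_eq_zero.1 h8).resolve_left h2
    rw [h5, mul_zero] at hh2
    exact zero_ne_one hh2
  by_cases h1 : t1 = 0
  · by_cases hm1 : t0 = -1
    · -- `t = -1`
      obtain ⟨S, k, hS, hk, hSk⟩ := exists_quad (σ := σ) (α := 1) (β := 1) (γ := (δ ^ 2)⁻¹) h2 (map_one σ) (map_one σ)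
        (by rw [map_inv₀, map_pow, hδ, neg_sq]) one_ne_zero one_ne_zero
      have hSk' : (S ^ 2 + k ^ 2) * δ ^ 2 = 1 := by
        have : S ^ 2 + k ^ 2 = (δ ^ 2)⁻¹ := by linear_combination hSk
        rw [this, inv_mul_cancel₀ (pow_ne_zero 2 hδ0)]
      have hk0 : k ≠ 0 := by
        rintro rfl
        have h4 : (S * δ - 1) * (S * δ + 1) = 0 := by linear_combination hSk'
        rcases mul_eq_zero.1 h4 with h6 | h6
        · have h7 := congrArg σ h6
          rw [map_sub, map_mul, hS, hδ, map_zero, map_one] at h7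
          apply h2
          linear_combination -h6 - h7
        · have h7 := congrArg σ h6
          rw [map_add, map_mul, hS, hδ, map_zero, map_one] at h7
          apply h2
          linear_combination h6 + h7
      -- `s = h S`, `a = 4 / (k δ)`
      obtain ⟨s, hs⟩ : ∃ s, s = h * S := ⟨_, rfl⟩
      obtain ⟨a, ha⟩ : ∃ a, a = 4 / (k * δ) := ⟨_, rfl⟩
      have h4 : (4 : F) ≠ 0 := by
        have : (4 : F) = 2 * 2 := by norm_num
        rw [this]
        exact mul_ne_zero h2 h2
      have ha0 : a ≠ 0 := by rw [ha]; exact div_ne_zero h4 (mul_ne_zero hk0 hδ0)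
      have hσs : σ s = s := by rw [hs, map_mul, hσh, hS]
      have hσa : σ a = -a := by
        rw [ha, map_div₀, map_mul, hk, hδ, map_ofNat]
        field_simp
      have hak : a * (k * δ) = 4 := by rw [ha, div_mul_cancel₀ _ (mul_ne_zero hk0 hδ0)]
      have hM : a ^ 2 * (h ^ 2 - s ^ 2 * δ ^ 2) = 4 := by
        have e1 : h ^ 2 - s ^ 2 * δ ^ 2 = h ^ 2 * (k * δ) ^ 2 := by
          rw [hs]
          linear_combination -h ^ 2 * hSk'
        rw [e1]
        have e2 : a ^ 2 * (h ^ 2 * (k * δ) ^ 2) = h ^ 2 * (a * (k * δ)) ^ 2 := by ring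
        rw [e2, hak]
        linear_combination (4 * (2 * h) + 4) * hh2
      refine ⟨a, -h + s * δ, -h * (a * σ a) - s * (a * σ a) * δ, ha0, Or.inr hσa, ?_, ?_, ?_, ?_⟩
      · rw [map_add, map_neg, map_mul, hσh, hσs, hδ]
        linear_combination -hh2
      · simp only [map_sub, map_neg, map_mul, hσh, hσs, hδ, hσ2]
        rw [hσa]
        linear_combination a ^ 2 * hh2
      · rw [hσa, htt, h1, hm1]
        linear_combination -hM
      · have e1 : -1 - a * (-h + s * δ) * (1 + (-h + s * δ)) = -1 + a * (h ^ 2 - s ^ 2 * δ ^ 2) := by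
          linear_combination a * (-h + s * δ) * hh2
        rw [e1]
        intro h0
        -- `a N(b) = 1` is impossible: it is antisymmetric
        have h5 := congrArg σ h0
        simp only [map_add, map_neg, map_one, map_mul, map_sub, map_pow, hσh, hσs, hδ, hσa, map_zero] at h5
        apply h2
        linear_combination -h0 - h5
    · -- `t = t0 ≠ 3, -1`
      have h30 : t0 ≠ 3 := by
        intro h4
        apply ht
        rw [htt, h1, h4, zero_mul, add_zero]
      obtain ⟨s, y, hs, hy, hsy, hy0⟩ := exists_quad_ne (σ := σ) h2 h3 (A := h ^ 2 * (t0 + 1)) (c := -(δ ^ 2 * (t0 - 3)))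
        (by rw [map_mul, map_pow, hσh, map_add, hσt0, map_one])
        (by rw [map_neg, map_mul, map_pow, hδ, map_sub, hσt0, map_ofNat]; ring)
        (mul_ne_zero (pow_ne_zero 2 (by rw [hh]; exact inv_ne_zero h2)) (fun h4 => hm1 (by linear_combination h4)))
        (neg_ne_zero.2 (mul_ne_zero (pow_ne_zero 2 hδ0) (sub_ne_zero.2 h30)))
      -- the sign of `y`
      obtain ⟨y, hy, hsy, hy0, hy1⟩ : ∃ y : F, σ y = y ∧ h ^ 2 * (t0 + 1) + -(δ ^ 2 * (t0 - 3)) * s ^ 2 = y ^ 2 ∧ y ≠ 0 ∧
          1 + y ≠ 0 := by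
        by_cases h4 : 1 + y = 0
        · refine ⟨-y, by rw [map_neg, hy], by rw [hsy]; ring, neg_ne_zero.2 hy0, fun h5 => h2 ?_⟩
          linear_combination h4 + h5
        · exact ⟨y, hy, hsy, hy0, h4⟩
      have hM0 := hN s hs
      obtain ⟨M, hM⟩ : ∃ M, M = h ^ 2 - s ^ 2 * δ ^ 2 := ⟨_, rfl⟩
      rw [← hM] at hM0
      have hyM : y ^ 2 = 1 + M * (t0 - 3) := by
        rw [← hsy, hM]
        linear_combination (2 * h + 1) * hh2
      obtain ⟨r, hr⟩ : ∃ r, r = (1 + y) / M := ⟨_, rfl⟩
      have hr0 : r ≠ 0 := by rw [hr]; exact div_ne_zero hy1 hM0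
      have hrM : r * M = 1 + y := by rw [hr, div_mul_cancel₀ _ hM0]
      have hσM : σ M = M := by
        rw [hM, map_sub, map_mul, map_pow, map_pow, map_pow, hσh, hs, hδ]; ring
      have hσr : σ r = r := by rw [hr, map_div₀, map_add, map_one, hy, hσM]
      refine ⟨r, -h + s * δ, -h * r ^ 2 - s * r ^ 2 * δ, hr0, Or.inl hσr, ?_, ?_, ?_, ?_⟩
      · rw [map_add, map_neg, map_mul, hσh, hs, hδ]
        linear_combination -hh2
      · simp only [map_sub, map_neg, map_mul, map_pow, hσh, hs, hδ, hσr]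
        linear_combination -r ^ 2 * hh2
      · rw [hσr, htt, h1]
        -- `3 - 2 r + r² M = t0`
        have e1 : 3 - r - r + (-h + s * δ) * (-h * r ^ 2 - s * r ^ 2 * δ) = 3 - 2 * r + r * (r * M) := by
          rw [hM]; ring
        rw [e1, zero_mul, add_zero]
        apply mul_right_cancel₀ hM0
        have e2 : (3 - 2 * r + r * (r * M)) * M = 3 * M - 2 * (r * M) + (r * M) ^ 2 := by ring
        rw [e2, hrM]
        linear_combination hyM
      · have e1 : -1 - r * (-h + s * δ) * (1 + (-h + s * δ)) = -1 + r * M := by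
          rw [hM]
          linear_combination r * (-h + s * δ) * hh2
        rw [e1, hrM]
        have : -1 + (1 + y) = y := by ring
        rw [this]
        exact hy0
  · -- `t1 ≠ 0`
    obtain ⟨s, hs⟩ : ∃ s, s = (3 - t0) / (2 * δ ^ 2 * t1) := ⟨_, rfl⟩
    have hσs : σ s = s := by
      rw [hs, map_div₀, map_sub, map_mul, map_mul, map_pow, hδ, hσt0, hσt1, map_ofNat, map_ofNat, neg_sq]
    have hs' : 2 * s * t1 * δ ^ 2 = 3 - t0 := by
      rw [hs]
      field_simp
    have hM0 := hN s hσs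
    obtain ⟨M, hM⟩ : ∃ M, M = h ^ 2 - s ^ 2 * δ ^ 2 := ⟨_, rfl⟩
    rw [← hM] at hM0
    obtain ⟨r, hr⟩ : ∃ r, r = 2 / M := ⟨_, rfl⟩
    have hr0 : r ≠ 0 := by rw [hr]; exact div_ne_zero h2 hM0
    have hrM : r * M = 2 := by rw [hr, div_mul_cancel₀ _ hM0]
    have hσM : σ M = M := by
      rw [hM, map_sub, map_mul, map_pow, map_pow, map_pow, hσh, hσs, hδ]; ring
    have hσr : σ r = r := by rw [hr, map_div₀, map_ofNat, hσM]
    refine ⟨r, -h + s * δ, -h * r ^ 2 + (-2 * t1 - s * r ^ 2) * δ, hr0, Or.inl hσr, ?_, ?_, ?_, ?_⟩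
    · rw [map_add, map_neg, map_mul, hσh, hσs, hδ]
      linear_combination -hh2
    · simp only [map_add, map_sub, map_neg, map_mul, map_pow, hσh, hσs, hδ, hσr, hσt1, map_ofNat]
      linear_combination -r ^ 2 * hh2
    · rw [hσr, htt]
      have e1 : 3 - r - r + (-h + s * δ) * (-h * r ^ 2 + (-2 * t1 - s * r ^ 2) * δ) =
          3 - 2 * r + r * (r * M) - 2 * s * t1 * δ ^ 2 + (2 * h) * t1 * δ := by
        rw [hM]; ring
      rw [e1, hs', hrM, hh2]
      ring
    · have e1 : -1 - r * (-h + s * δ) * (1 + (-h + s * δ)) = -1 + r * M := by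
        rw [hM]
        linear_combination r * (-h + s * δ) * hh2
      rw [e1, hrM]
      norm_num

end Cfsg.Agent.H3.TC
end

-- part: H3/TC/Nf
section
/-!
# Normal forms in `SU_3(q)` and the covering theorem for `q` prime to 6 (helper3)
-/

set_option autoImplicit false

namespace Cfsg.Agent.H3.TC

open Matrix Polynomial

variable {F : Type*} [Field F] {σ : F →+* F}

/-- the form -/
def Bf (σ : F →+* F) (x y : Fin 3 → F) : F := x 0 * σ (y 2) + x 1 * σ (y 1) + x 2 * σ (y 0)

theorem Bf_swap (hσ2 : ∀ x, σ (σ x) = x) (x y : Fin 3 → F) : Bf σ y x = σ (Bf σ x y) := by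
  simp only [Bf, map_add, map_mul, hσ2]
  ring

theorem Bf_mul (hσ2 : ∀ x, σ (σ x) = x) (A : Matrix (Fin 3) (Fin 3) F) (x y : Fin 3 → F) :
    Bf σ (A *ᵥ x) y = Bf σ x (st σ A *ᵥ y) := by
  simp only [Bf, Matrix.mulVec, dotProduct, Fin.sum_univ_three, st_apply, map_add, map_mul, hσ2]
  have e0 : Fin.rev (0 : Fin 3) = 2 := rfl
  have e1 : Fin.rev (1 : Fin 3) = 1 := rfl
  have e2 : Fin.rev (2 : Fin 3) = 0 := rfl
  rw [e0, e1, e2]
  ring

theorem Bf_us (hσ2 : ∀ x, σ (σ x) = x) {A : Matrix (Fin 3) (Fin 3) F} (hA : US σ A) (x y : Fin 3 → F) :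
    Bf σ (A *ᵥ x) (A *ᵥ y) = Bf σ x y := by
  rw [Bf_mul hσ2, Matrix.mulVec_mulVec, hA.1, Matrix.one_mulVec]

theorem Bf_smul_left (c : F) (x y : Fin 3 → F) : Bf σ (c • x) y = c * Bf σ x y := by
  simp only [Bf, Pi.smul_apply, smul_eq_mul]; ring

theorem Bf_smul_right (c : F) (x y : Fin 3 → F) : Bf σ x (c • y) = σ c * Bf σ x y := by
  simp only [Bf, Pi.smul_apply, smul_eq_mul, map_mul]; ring

/-- a hyperbolic pair is the image of the standard one -/
theorem exists_frame (hσ2 : ∀ x, σ (σ x) = x) {e e' : Fin 3 → F} (h1 : Bf σ e e = 0) (h2 : Bf σ e' e' = 0)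
    (h3 : Bf σ e e' = 1) : ∃ T : Matrix (Fin 3) (Fin 3) F, US σ T ∧ T *ᵥ ![1, 0, 0] = e ∧ T *ᵥ ![0, 0, 1] = e' := by
  have h4 : Bf σ e' e = 1 := by rw [Bf_swap hσ2, h3, map_one]
  simp only [Bf] at h1 h2 h3 h4
  obtain ⟨a, ha⟩ : ∃ a : Fin 3 → F, a = e := ⟨e, rfl⟩
  obtain ⟨b, hb⟩ : ∃ b : Fin 3 → F, b = e' := ⟨e', rfl⟩
  -- the third vector
  refine ⟨!![e 0, σ (-(e 0 * e' 1 - e 1 * e' 0)), e' 0; e 1, σ (e 0 * e' 2 - e 2 * e' 0), e' 1;
    e 2, σ (-(e 1 * e' 2 - e 2 * e' 1)), e' 2], ⟨?_, ?_⟩, ?_, ?_⟩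
  · rw [st_of]
    ext i j
    (revert i j; simp only [Matrix.mul_apply, Fin.sum_univ_three, hσ2, _root_.Fin.forall_fin_succ, Fin.isValue, _root_.neg_sub, _root_.map_sub, _root_.map_mul, _root_.Matrix.of_apply, _root_.Matrix.cons_val', _root_.Matrix.cons_val_fin_one, _root_.Matrix.cons_val_zero, _root_.Matrix.cons_val_one, _root_.Matrix.cons_val, _root_.Matrix.cons_val_succ, _root_.IsEmpty.forall_iff, _root_.Matrix.one_apply_eq, Nat.reduceAdd, _root_.Fin.succ_zero_eq_one, _root_.ne_eq, _root_.zero_ne_one, _root_.not_false_eq_true, _root_.Matrix.one_apply_ne, _root_.Fin.succ_one_eq_two, Fin.reduceEq, _root_.Fin.succ_ne_zero, _root_.and_true, _root_.true_and]) <;> (repeat' with_reducible apply And.intro)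
    · linear_combination h3
    · ring
    · linear_combination h2
    · ring
    · linear_combination h3 * (e' 0 * σ (e 2) + e' 1 * σ (e 1) + e' 2 * σ (e 0)) + h4 -
        h1 * (e' 0 * σ (e' 2) + e' 1 * σ (e' 1) + e' 2 * σ (e' 0))
    · ring
    · linear_combination h1
    · ring
    · linear_combination h4
  · rw [Matrix.det_fin_three]
    simp only [_root_.Fin.isValue, _root_.neg_sub, _root_.map_sub, _root_.map_mul, _root_.Matrix.of_apply, _root_.Matrix.cons_val', _root_.Matrix.cons_val_zero, _root_.Matrix.cons_val_fin_one, _root_.Matrix.cons_val_one, _root_.Matrix.cons_val]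
    linear_combination h3 * (e' 0 * σ (e 2) + e' 1 * σ (e 1) + e' 2 * σ (e 0)) + h4 -
        h1 * (e' 0 * σ (e' 2) + e' 1 * σ (e' 1) + e' 2 * σ (e' 0))
  · ext i
    (revert i; simp only [Matrix.mulVec, dotProduct, Fin.sum_univ_three, _root_.Fin.forall_fin_succ, Fin.isValue, _root_.neg_sub, _root_.map_sub, _root_.map_mul, _root_.Matrix.of_apply, _root_.Matrix.cons_val', _root_.Matrix.cons_val_fin_one, _root_.Matrix.cons_val_zero, _root_.mul_one, _root_.Matrix.cons_val_one, _root_.MulZeroClass.mul_zero, _root_.add_zero, _root_.Matrix.cons_val, _root_.Matrix.cons_val_succ, _root_.Fin.succ_zero_eq_one, _root_.Fin.succ_one_eq_two, _root_.IsEmpty.forall_iff, _root_.and_self])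
  · ext i
    (revert i; simp only [Matrix.mulVec, dotProduct, Fin.sum_univ_three, _root_.Fin.forall_fin_succ, Fin.isValue, _root_.neg_sub, _root_.map_sub, _root_.map_mul, _root_.Matrix.of_apply, _root_.Matrix.cons_val', _root_.Matrix.cons_val_fin_one, _root_.Matrix.cons_val_zero, _root_.MulZeroClass.mul_zero, _root_.Matrix.cons_val_one, _root_.add_zero, _root_.Matrix.cons_val, _root_.mul_one, _root_.zero_add, _root_.Matrix.cons_val_succ, _root_.Fin.succ_zero_eq_one, _root_.Fin.succ_one_eq_two, _root_.IsEmpty.forall_iff, _root_.and_self])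

/-- conjugation by `T` -/
theorem cj_st {T : Matrix (Fin 3) (Fin 3) F} (hT : US σ T) (g : Matrix (Fin 3) (Fin 3) F) :
    Cj σ (st σ T * g * T) g :=
  ⟨T, hT.1, hT.2, by rw [← Matrix.mul_assoc, ← Matrix.mul_assoc, hT.mul_st, Matrix.one_mul]⟩

/-- **the normal form** -/
theorem exists_nf (hσ2 : ∀ x, σ (σ x) = x) {g : Matrix (Fin 3) (Fin 3) F} (hg : US σ g) {e : Fin 3 → F}
    (he : Bf σ e e = 0) (hβ : Bf σ (g *ᵥ e) e ≠ 0) : ∃ c d x y : F,
      Cj σ !![0, 0, (σ (Bf σ (g *ᵥ e) e))⁻¹; 0, c, d; Bf σ (g *ᵥ e) e, x, y] g ∧ c * Bf σ (g *ᵥ e) e = -σ (Bf σ (g *ᵥ e) e) ∧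
      c * σ c = 1 ∧ (d = 0 → x = 0) := by
  obtain ⟨β, hβe⟩ : ∃ β, β = Bf σ (g *ᵥ e) e := ⟨_, rfl⟩
  rw [← hβe] at hβ
  have hσβ : σ β ≠ 0 := (_root_.map_ne_zero σ).2 hβ
  have h5 : Bf σ e (g *ᵥ e) = σ β := by rw [Bf_swap hσ2, ← hβe]
  obtain ⟨T, hT, hTe, hTe'⟩ := exists_frame hσ2 (e := e) (e' := β⁻¹ • (g *ᵥ e)) he
    (by rw [Bf_smul_left, Bf_smul_right, Bf_us hσ2 hg, he, mul_zero, mul_zero])
    (by rw [Bf_smul_right, h5, map_inv₀, inv_mul_cancel₀ hσβ])
  obtain ⟨G, hG⟩ : ∃ G, G = st σ T * g * T := ⟨_, rfl⟩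
  have hGU : US σ G := by rw [hG]; exact ((hT.st hσ2).mul hg).mul hT
  have hcol : G *ᵥ ![1, 0, 0] = β • ![0, 0, 1] := by
    have h6 : g *ᵥ e = β • (T *ᵥ ![0, 0, 1]) := by
      rw [hTe', smul_smul, mul_inv_cancel₀ hβ, one_smul]
    rw [hG, ← Matrix.mulVec_mulVec, ← Matrix.mulVec_mulVec, hTe, h6, Matrix.mulVec_smul, Matrix.mulVec_mulVec, hT.1,
      Matrix.one_mulVec]
  have g0 : G 0 0 = 0 := by
    have := congrFun hcol 0
    simpa [Matrix.mulVec, dotProduct, Fin.sum_univ_three] using this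
  have g1 : G 1 0 = 0 := by
    have := congrFun hcol 1
    simpa [Matrix.mulVec, dotProduct, Fin.sum_univ_three] using this
  have g2 : G 2 0 = β := by
    have := congrFun hcol 2
    simpa [Matrix.mulVec, dotProduct, Fin.sum_univ_three] using this
  have hU := hGU.1
  have ee : ∀ i j, (st σ G * G) i j = (1 : Matrix (Fin 3) (Fin 3) F) i j := fun i j => by rw [hU]
  have e0 : Fin.rev (0 : Fin 3) = 2 := rfl
  have e1 : Fin.rev (1 : Fin 3) = 1 := rfl
  have e2 : Fin.rev (2 : Fin 3) = 0 := rfl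
  have a1 := ee 2 1
  have a2 := ee 2 2
  have a3 := ee 1 1
  have a4 := ee 1 2
  have a5 := ee 0 1
  simp only [Matrix.mul_apply, Fin.sum_univ_three, st_apply, e0, e1, e2, g0, g1, g2, map_zero, zero_mul,
    add_zero] at a1 a2 a3 a4 a5
  have o1 : (1 : Matrix (Fin 3) (Fin 3) F) 2 1 = 0 := rfl
  have o2 : (1 : Matrix (Fin 3) (Fin 3) F) 2 2 = 1 := rfl
  have o3 : (1 : Matrix (Fin 3) (Fin 3) F) 1 1 = 1 := rfl
  have o4 : (1 : Matrix (Fin 3) (Fin 3) F) 1 2 = 0 := rfl
  have o5 : (1 : Matrix (Fin 3) (Fin 3) F) 0 1 = 0 := rfl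
  rw [o1] at a1
  rw [o2] at a2
  rw [o3] at a3
  rw [o4] at a4
  rw [o5] at a5
  have g01 : G 0 1 = 0 := (mul_eq_zero.1 a1).resolve_left hσβ
  have g02 : G 0 2 = (σ β)⁻¹ := eq_inv_of_mul_eq_one_right a2
  simp only [g01, map_zero, mul_zero, zero_mul, add_zero, zero_add] at a3 a4 a5
  have hdet := hGU.2
  rw [Matrix.det_fin_three, g0, g1, g2, g01, g02] at hdet
  simp only [zero_mul, mul_zero, sub_zero, zero_sub, add_zero] at hdet
  refine ⟨G 1 1, G 1 2, G 2 1, G 2 2, ?_, ?_, by rw [mul_comm]; exact a3, ?_⟩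
  · rw [← hβe]
    have h7 : !![0, 0, (σ β)⁻¹; 0, G 1 1, G 1 2; β, G 2 1, G 2 2] = G := by
      ext i j
      (revert i j; simp only [g0, g1, g2, g01, g02, _root_.Fin.forall_fin_succ, Fin.isValue, _root_.Matrix.of_apply, _root_.Matrix.cons_val', _root_.Matrix.cons_val_fin_one, _root_.Matrix.cons_val_zero, _root_.Matrix.cons_val_succ, _root_.Fin.succ_zero_eq_one, _root_.Fin.succ_one_eq_two, _root_.IsEmpty.forall_iff, _root_.and_true, _root_.and_self])
    rw [h7, hG]
    exact cj_st hT g
  · rw [← hβe]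
    field_simp at hdet
    linear_combination -hdet
  · intro hd
    rw [hd, map_zero, zero_mul, zero_add, g02] at a5
    rw [map_inv₀, hσ2] at a5
    exact (mul_eq_zero.1 a5).resolve_left (inv_ne_zero hβ)

/-- nonscalar elements move an isotropic vector off its orthogonal space -/
theorem exists_iso (h2 : (2 : F) ≠ 0) {δ : F} (hδ0 : δ ≠ 0)
    (hδ : σ δ = -δ) {g : Matrix (Fin 3) (Fin 3) F} (hs : ∀ c : F, g ≠ c • (1 : Matrix (Fin 3) (Fin 3) F)) :
    ∃ e : Fin 3 → F, Bf σ e e = 0 ∧ Bf σ (g *ᵥ e) e ≠ 0 := by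
  by_contra hcon
  push Not at hcon
  have key : ∀ x y : F, y + σ y + x * σ x = 0 →
      (g 0 0 + g 0 1 * x + g 0 2 * y) * σ y + (g 1 0 + g 1 1 * x + g 1 2 * y) * σ x +
        (g 2 0 + g 2 1 * x + g 2 2 * y) = 0 := by
    intro x y hxy
    have := hcon ![1, x, y] (by simp only [Bf, _root_.Fin.isValue, _root_.Matrix.cons_val_zero, _root_.Matrix.cons_val, _root_.one_mul, _root_.Matrix.cons_val_one, _root_.map_one, _root_.mul_one]; linear_combination hxy)
    simpa only [Bf, Matrix.mulVec, dotProduct, Fin.sum_univ_three, _root_.Fin.isValue, _root_.Matrix.cons_val_zero, _root_.mul_one, _root_.Matrix.cons_val_one, _root_.Matrix.cons_val, _root_.map_one] using this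
  have h4 : (4 : F) ≠ 0 := by
    have : (4 : F) = 2 * 2 := by norm_num
    rw [this]
    exact mul_ne_zero h2 h2
  obtain ⟨h, hh⟩ : ∃ h : F, h = 2⁻¹ := ⟨_, rfl⟩
  have hh2 : 2 * h = 1 := by rw [hh, mul_inv_cancel₀ h2]
  have hσh : σ h = h := by rw [hh, map_inv₀, map_ofNat]
  have k0 : g 2 0 = 0 := by
    have := key 0 0 (by simp)
    simpa using this
  have k1 : g 0 2 = 0 := by
    have := hcon ![0, 0, 1] (by simp [Bf])
    simpa only [Bf, Matrix.mulVec, dotProduct, Fin.sum_univ_three, _root_.Fin.isValue, _root_.Matrix.cons_val_zero, _root_.MulZeroClass.mul_zero, _root_.Matrix.cons_val_one, _root_.add_zero, _root_.Matrix.cons_val, _root_.mul_one, _root_.zero_add, _root_.map_one, _root_.map_zero] using this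
  have k2 : g 2 2 = g 0 0 := by
    have h5 := key 0 δ (by rw [hδ, map_zero]; ring)
    rw [k0, k1, hδ, map_zero] at h5
    have h6 : δ * (g 2 2 - g 0 0) = 0 := by linear_combination h5
    exact sub_eq_zero.1 ((mul_eq_zero.1 h6).resolve_left hδ0)
  -- `x = 1`, `x = -1`
  have m1 := key 1 (-h) (by rw [map_neg, hσh, map_one]; linear_combination -hh2)
  have m2 := key 1 (-h + δ) (by rw [map_add, map_neg, hσh, hδ, map_one]; linear_combination -hh2)
  have m3 := key (-1) (-h) (by rw [map_neg, hσh, map_neg, map_one]; linear_combination -hh2)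
  have m4 := key δ (h * δ ^ 2) (by rw [map_mul, map_pow, hσh, hδ]; linear_combination δ ^ 2 * hh2)
  have m5 := key δ (h * δ ^ 2 + δ) (by
    rw [map_add, map_mul, map_pow, hσh, hδ]; linear_combination δ ^ 2 * hh2)
  simp only [map_add, map_neg, map_mul, map_pow, map_one, hσh, hδ, k0, k1, k2] at m1 m2 m3 m4 m5
  have n1 : g 1 2 = g 0 1 := by
    have : δ * (g 1 2 - g 0 1) = 0 := by linear_combination m2 - m1
    exact sub_eq_zero.1 ((mul_eq_zero.1 this).resolve_left hδ0)
  have n2 : g 0 1 = 0 := by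
    have h6 : (2 * δ * δ) * g 0 1 = 0 := by
      rw [n1] at m4 m5
      linear_combination m4 - m5
    exact (mul_eq_zero.1 h6).resolve_left (mul_ne_zero (mul_ne_zero h2 hδ0) hδ0)
  rw [n2] at n1
  rw [n1, n2] at m1 m3 m4
  have n3 : g 1 1 = g 0 0 := by
    have h6 : 2 * (g 1 1 - g 0 0) = 0 := by linear_combination m1 + m3 + 2 * g 0 0 * hh2
    exact sub_eq_zero.1 ((mul_eq_zero.1 h6).resolve_left h2)
  rw [n3] at m1 m4
  have n4 : g 2 1 = g 1 0 := by
    have h6 : δ * (g 2 1 - g 1 0) = 0 := by linear_combination m4 - δ ^ 2 * g 0 0 * hh2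
    exact sub_eq_zero.1 ((mul_eq_zero.1 h6).resolve_left hδ0)
  have n5 : g 1 0 = 0 := by
    rw [n4] at m1
    have h6 : 2 * g 1 0 = 0 := by linear_combination m1 + g 0 0 * hh2
    exact (mul_eq_zero.1 h6).resolve_left h2
  rw [n5] at n4
  apply hs (g 0 0)
  ext i j
  (revert i j; simp only [k0, k1, k2, n1, n2, n3, n4, n5, _root_.Fin.forall_fin_succ, Fin.isValue, _root_.Matrix.smul_apply, _root_.smul_eq_mul, _root_.Fin.succ_zero_eq_one, _root_.Fin.succ_one_eq_two, _root_.IsEmpty.forall_iff, _root_.and_true, _root_.Matrix.one_apply_eq, _root_.mul_one, Nat.reduceAdd, _root_.ne_eq, _root_.zero_ne_one, _root_.not_false_eq_true, _root_.Matrix.one_apply_ne, _root_.MulZeroClass.mul_zero, Fin.reduceEq, _root_.and_self, _root_.Fin.succ_ne_zero])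

end Cfsg.Agent.H3.TC
end

-- part: H3/TC/Cover
section
/-!
# The covering theorem for `SU_3(q)`, `q` prime to 6 (helper3)
-/

set_option autoImplicit false

namespace Cfsg.Agent.H3.TC

open Matrix Polynomial

variable {F : Type*} [Field F] {σ : F →+* F}

/-- the normal form of the elements without cyclic vector -/
def NF (σ : F →+* F) (β c : F) : Matrix (Fin 3) (Fin 3) F :=
  !![0, 0, (σ β)⁻¹; 0, c, 0; β, 0, c + c⁻¹ ^ 2]

theorem Kr_cj {G g T : Matrix (Fin 3) (Fin 3) F} (h : T * G = g * T) (v : Fin 3 → F) :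
    Kr g (T *ᵥ v) = T * Kr G v := by
  have h1 : g *ᵥ (T *ᵥ v) = T *ᵥ (G *ᵥ v) := by rw [Matrix.mulVec_mulVec, ← h, Matrix.mulVec_mulVec]
  have h2 : g *ᵥ (g *ᵥ (T *ᵥ v)) = T *ᵥ (G *ᵥ (G *ᵥ v)) := by
    rw [h1, Matrix.mulVec_mulVec, ← h, ← Matrix.mulVec_mulVec]
  ext i j
  have h3 : (T * Kr G v) i j = (T *ᵥ (![v, G *ᵥ v, G *ᵥ (G *ᵥ v)] j)) i := rfl
  rw [h3]
  fin_cases j
  · rfl
  · exact congrFun h1 i
  · exact congrFun h2 i

/-- a cyclic vector or the special normal form -/
theorem cyc_or_nf (hσ2 : ∀ x, σ (σ x) = x) {g : Matrix (Fin 3) (Fin 3) F} (hg : US σ g) {e : Fin 3 → F}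
    (he : Bf σ e e = 0) (hβ : Bf σ (g *ᵥ e) e ≠ 0) : (∃ v, (Kr g v).det ≠ 0) ∨
      ∃ β c : F, β ≠ 0 ∧ c * β = -σ β ∧ c * σ c = 1 ∧ Cj σ (NF σ β c) g := by
  obtain ⟨c, d, x, y, hG, hc, hcc, hdx⟩ := exists_nf hσ2 hg he hβ
  obtain ⟨β, hβe⟩ : ∃ β, β = Bf σ (g *ᵥ e) e := ⟨_, rfl⟩
  rw [← hβe] at hG hβ hc
  have hσβ : σ β ≠ 0 := (_root_.map_ne_zero σ).2 hβ
  have hc0 : c ≠ 0 := left_ne_zero_of_mul_eq_one hcc
  by_cases hd : d = 0
  · have hx := hdx hd
    subst hd hx
    by_cases hy : y = c + c⁻¹ ^ 2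
    · right
      subst hy
      exact ⟨β, c, hβ, hc, hcc, hG⟩
    · left
      obtain ⟨T, hT, hTd, hTG⟩ := hG
      refine ⟨T *ᵥ ![1, 1, 0], ?_⟩
      rw [Kr_cj hTG, Matrix.det_mul, hTd, one_mul, Matrix.det_fin_three]
      simp only [Kr, Matrix.of_apply, Matrix.mulVec, dotProduct, Fin.sum_univ_three, Matrix.cons_val]
      simp only [_root_.mul_one, _root_.zero_add, _root_.MulZeroClass.mul_zero, _root_.add_zero, _root_.one_mul, _root_.MulZeroClass.zero_mul, _root_.sub_zero, _root_.ne_eq]
      have h1 : σ β = -(c * β) := by rw [hc, neg_neg]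
      rw [h1]
      intro h2
      apply hy
      field_simp at h2 ⊢
      have h3 : β * (c ^ 2 * (y - c) - 1) = 0 := by linear_combination h2
      have h4 := (mul_eq_zero.1 h3).resolve_left hβ
      linear_combination h4
  · left
    obtain ⟨T, hT, hTd, hTG⟩ := hG
    refine ⟨T *ᵥ ![1, 0, 0], ?_⟩
    rw [Kr_cj hTG, Matrix.det_mul, hTd, one_mul, Matrix.det_fin_three]
    simp only [Kr, Matrix.of_apply, Matrix.mulVec, dotProduct, Fin.sum_univ_three, Matrix.cons_val]
    simp [hβ, hd]

/-- rescaling the normal form -/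
theorem cj_NF [Fintype F] {q : ℕ} (hF : Fintype.card F = q ^ 2) (hσ : ∀ x, σ x = x ^ q) (hσ2 : ∀ x, σ (σ x) = x)
    {β β' c : F} (h0 : β ≠ 0) (h0' : β' ≠ 0) (hc : c * β = -σ β) (hc' : c * β' = -σ β') :
    Cj σ (NF σ β c) (NF σ β' c) := by
  have hσβ : σ β ≠ 0 := (_root_.map_ne_zero σ).2 h0
  have hσβ' : σ β' ≠ 0 := (_root_.map_ne_zero σ).2 h0'
  obtain ⟨l, hl⟩ := LieClassical.HermBasic.exists_norm_eq hF (c := β / β') (by
    rw [← hσ, map_div₀]
    have h1 : σ β = -(c * β) := by rw [hc, neg_neg]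
    have h2 : σ β' = -(c * β') := by rw [hc', neg_neg]
    have hc0 : c ≠ 0 := by
      rintro rfl
      rw [zero_mul] at hc
      exact hσβ (neg_eq_zero.1 hc.symm)
    rw [h1, h2]
    field_simp)
  rw [← hσ] at hl
  have hl0 : l ≠ 0 := by
    rintro rfl
    rw [zero_mul] at hl
    exact div_ne_zero h0 h0' hl.symm
  have hσl : σ l ≠ 0 := (_root_.map_ne_zero σ).2 hl0
  have h3 : β = β' * (l * σ l) := by rw [hl]; field_simp
  have h4 : σ β = σ β' * (l * σ l) := by
    have := congrArg σ h3
    rw [map_mul, map_mul, hσ2] at this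
    linear_combination this
  refine ⟨dT σ l, (us_dT hσ2 hl0).1, (us_dT hσ2 hl0).2, ?_⟩
  rw [dT, NF, NF, h4, h3]
  ext i j
  (revert i j; simp only [Matrix.mul_apply, Fin.sum_univ_three, _root_.Fin.forall_fin_succ, _root_.mul_inv_rev, _root_.inv_pow, _root_.Matrix.of_apply, _root_.Matrix.cons_val', _root_.Matrix.cons_val_fin_one, Fin.isValue, _root_.Matrix.cons_val_zero, _root_.Matrix.cons_val_one, _root_.Matrix.cons_val, _root_.MulZeroClass.mul_zero, _root_.add_zero, _root_.zero_add, _root_.Matrix.cons_val_succ, _root_.forall_const, _root_.MulZeroClass.zero_mul, _root_.true_and, _root_.and_true]) <;> (repeat' with_reducible apply And.intro) <;> field_simp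

/-- the homologies -/
theorem cv_hom [Fintype F] {q : ℕ} (hF : Fintype.card F = q ^ 2) (hσ : ∀ x, σ x = x ^ q) (h2 : (2 : F) ≠ 0)
    (hσ2 : ∀ x, σ (σ x) = x) {β c : F} (h0 : β ≠ 0) (hc : c * β = -σ β) (hcc : c * σ c = 1) (h1 : c ≠ 1) :
    Cv σ (x₀ σ) (NF σ β c) := by
  have hc0 : c ≠ 0 := left_ne_zero_of_mul_eq_one hcc
  have hσc : σ c = c⁻¹ := eq_inv_of_mul_eq_one_right hcc
  have h1' : c - 1 ≠ 0 := sub_ne_zero.2 h1
  have h1'' : 1 - c ≠ 0 := sub_ne_zero.2 h1.symm
  have hr : 2 - c - c⁻¹ = -(1 - c) ^ 2 / c := by field_simp; ring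
  have hr0 : 2 - c - c⁻¹ ≠ 0 := by
    rw [hr]
    exact div_ne_zero (neg_ne_zero.2 (pow_ne_zero 2 h1'')) hc0
  have hσr : σ (2 - c - c⁻¹) = 2 - c - c⁻¹ := by
    rw [map_sub, map_sub, map_inv₀, hσc, inv_inv, map_ofNat]; ring
  have hcv := cv_vu h2 hσ2 (a := 2 - c - c⁻¹) (b := (c - 1)⁻¹) (b' := (2 - c - c⁻¹) * (1 - c) / c) hr0 (Or.inl hσr)
    (by
      rw [map_inv₀, map_sub, hσc, map_one]
      have : c⁻¹ - 1 = (1 - c) / c := by field_simp
      rw [this]
      field_simp
      ring)
    (by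
      rw [map_div₀, map_mul, hσr, map_sub, map_one, hσc, hr]
      field_simp
      ring)
  have hβ' : (c - 1)⁻¹ ≠ 0 := inv_ne_zero h1'
  have hc' : c * (c - 1)⁻¹ = -σ (c - 1)⁻¹ := by
    rw [map_inv₀, map_sub, hσc, map_one]
    have : c⁻¹ - 1 = (1 - c) / c := by field_simp
    rw [this]
    field_simp
    ring
  refine hcv.cj (Cj.symm hσ2 ((cj_NF hF hσ hσ2 h0 hβ' hc hc').trans ?_))
  have hT : US σ (uU σ (c - 1) (c - 1)) := by
    apply us_uU hσ2
    rw [map_sub, hσc, map_one]
    field_simp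
    ring
  refine ⟨uU σ (c - 1) (c - 1), hT.1, hT.2, ?_⟩
  have h3 : σ (c - 1)⁻¹ = -(c * (c - 1)⁻¹) := by rw [hc', neg_neg]
  rw [uU, NF, vL, uU, h3, hσr, hr, map_one, map_sub, hσc, map_one]
  ext i j
  (revert i j; simp only [Matrix.mul_apply, Fin.sum_univ_three, _root_.Fin.forall_fin_succ, _root_.neg_sub, _root_.inv_neg, _root_.mul_inv_rev, _root_.inv_inv, _root_.inv_pow, _root_.Matrix.of_apply, _root_.Matrix.cons_val', _root_.Matrix.cons_val_fin_one, Fin.isValue, _root_.Matrix.cons_val_zero, _root_.Matrix.cons_val_one, _root_.Matrix.cons_val, _root_.Matrix.cons_mul, _root_.Nat.succ_eq_add_one, Nat.reduceAdd, _root_.Matrix.vecMul_cons, _root_.Matrix.head_cons, _root_.one_smul, _root_.Matrix.tail_cons, _root_.zero_smul, _root_.Matrix.empty_vecMul, _root_.add_zero, _root_.Matrix.add_cons, _root_.Matrix.empty_add_empty, _root_.Matrix.smul_cons, _root_.smul_eq_mul, _root_.mul_one, _root_.mul_neg, _root_.Matrix.smul_empty, _root_.neg_smul, _root_.Matrix.neg_cons, _root_.neg_zero,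 _root_.Matrix.neg_empty, _root_.Matrix.empty_mul, _root_.Equiv.symm_apply_apply, _root_.MulZeroClass.mul_zero, _root_.zero_add, _root_.Matrix.cons_val_succ, _root_.forall_const, _root_.one_mul, _root_.neg_mul, _root_.MulZeroClass.zero_mul, _root_.true_and]) <;> (repeat' with_reducible apply And.intro) <;> field_simp <;> ring

/-- the transvections -/
theorem cv_transv (h2 : (2 : F) ≠ 0) (hσ2 : ∀ x, σ (σ x) = x) {β : F} (h0 : β ≠ 0) (hc : β = -σ β) :
    Cv σ (x₀ σ) (NF σ β 1) := by
  have h1 : σ β = -β := by linear_combination hc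
  have hcv := cv_uU h2 hσ2 (a := 0) (b := β) (by rw [h1, map_zero]; ring)
  refine hcv.cj (Cj.symm hσ2 ?_)
  refine ⟨!![0, 0, 1; 0, -1, 0; 1, 0, β⁻¹], ?_, ?_, ?_⟩
  · rw [st_of]
    ext i j
    (revert i j; simp only [Matrix.mul_apply, Fin.sum_univ_three, h1, _root_.Fin.forall_fin_succ, _root_.map_inv₀, _root_.inv_neg, _root_.map_zero, _root_.map_one, _root_.map_neg, _root_.Matrix.of_apply, _root_.Matrix.cons_val', _root_.Matrix.cons_val_fin_one, Fin.isValue, _root_.Matrix.cons_val_zero, _root_.Matrix.cons_val_one, _root_.Matrix.cons_val, _root_.MulZeroClass.mul_zero, _root_.add_zero, _root_.mul_one, _root_.zero_add, _root_.Matrix.cons_val_succ, _root_.mul_neg, _root_.IsEmpty.forall_iff, _root_.and_true, _root_.Matrix.one_apply_eq, _root_.neg_zero, Nat.reduceAdd, _root_.Fin.succ_zero_eq_one, _root_.ne_eq, _root_.zero_ne_one, _root_.not_false_eq_true, _root_.Matrix.one_apply_ne, _root_.one_mul, _root_.neg_add_cancel, _root_.Fin.succ_one_eq_two, Fin.reduceEq, _root_.and_self, _root_.Fin.succ_ne_zero,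 _root_.neg_neg, _root_.MulZeroClass.zero_mul, _root_.true_and])
  · rw [Matrix.det_fin_three]; simp
  · rw [uU, NF, h1]
    ext i j
    (revert i j; simp only [Matrix.mul_apply, Fin.sum_univ_three, h0, _root_.Fin.forall_fin_succ, _root_.inv_neg, _root_.inv_one, _root_.one_pow, _root_.Matrix.of_apply, _root_.Matrix.cons_val', _root_.Matrix.cons_val_fin_one, Fin.isValue, _root_.Matrix.cons_val_zero, _root_.Matrix.cons_val_one, _root_.Matrix.cons_val, _root_.map_zero, _root_.neg_zero, _root_.MulZeroClass.mul_zero, _root_.add_zero, _root_.zero_add, _root_.mul_one, _root_.Matrix.cons_val_succ, _root_.mul_neg, _root_.forall_const, _root_.one_mul, _root_.MulZeroClass.zero_mul, _root_.ne_eq, _root_.not_false_eq_true, _root_.mul_inv_cancel₀, _root_.and_self, _root_.inv_mul_cancel₀, _root_.true_and]) <;> (repeat' with_reducible apply And.intro) <;> field_simp <;> ring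

/-- unipotent elements with a cyclic vector -/
theorem exists_uU (h2 : (2 : F) ≠ 0) (hσ2 : ∀ x, σ (σ x) = x) {g : Matrix (Fin 3) (Fin 3) F} (hg : US σ g)
    (ht : g.trace = 3) {v : Fin 3 → F} (hv : (Kr g v).det ≠ 0) :
    ∃ a b : F, b + σ b + a * σ a = 0 ∧ Cj σ (uU σ a b) g := by
  have h3 := ch3u hg.1 hg.2
  rw [ht, map_ofNat] at h3
  obtain ⟨N, hN⟩ : ∃ N, N = g - 1 := ⟨_, rfl⟩
  have hN3 : N * (N * N) = 0 := by
    have e1 : N * (N * N) = g * (g * g) - (3 : F) • (g * g) + (3 : F) • g - 1 := by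
      rw [hN]
      simp only [Matrix.sub_mul, Matrix.mul_sub, Matrix.one_mul, Matrix.mul_one]
      have e3 : (3 : F) • (g * g) = g * g + g * g + g * g := by
        rw [show (3 : F) = 1 + 1 + 1 by norm_num, add_smul, add_smul, one_smul]
      have e4 : (3 : F) • g = g + g + g := by
        rw [show (3 : F) = 1 + 1 + 1 by norm_num, add_smul, add_smul, one_smul]
      rw [e3, e4]
      abel
    rw [e1, h3]
    abel
  obtain ⟨w, hw⟩ : ∃ w, w = (N * N) *ᵥ v := ⟨_, rfl⟩
  have hw0 : w ≠ 0 := by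
    intro h0
    apply hv
    have e1 : g *ᵥ (g *ᵥ v) = (2 : F) • (g *ᵥ v) - v := by
      have e2 : (N * N) *ᵥ v = g *ᵥ (g *ᵥ v) - (2 : F) • (g *ᵥ v) + v := by
        rw [hN, Matrix.sub_mul, Matrix.mul_sub, Matrix.one_mul, Matrix.mul_one, Matrix.sub_mulVec, Matrix.sub_mulVec,
          Matrix.sub_mulVec, Matrix.one_mulVec, ← Matrix.mulVec_mulVec, two_smul]
        abel
      rw [hw, e2] at h0
      have : g *ᵥ (g *ᵥ v) = (g *ᵥ (g *ᵥ v) - (2 : F) • (g *ᵥ v) + v) + ((2 : F) • (g *ᵥ v) - v) := by abel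
      rw [this, h0, zero_add]
    have e3 : ∀ i, (g *ᵥ (g *ᵥ v)) i = 2 * (g *ᵥ v) i - v i := fun i => by rw [e1]; rfl
    rw [Matrix.det_fin_three]
    simp only [Kr, Matrix.of_apply, Matrix.cons_val]
    rw [e3, e3, e3]
    ring
  have hgw : g *ᵥ w = w := by
    have e1 : N *ᵥ w = 0 := by rw [hw, Matrix.mulVec_mulVec, hN3, Matrix.zero_mulVec]
    have e2 : g = N + 1 := by rw [hN, sub_add_cancel]
    rw [e2, Matrix.add_mulVec, e1, Matrix.one_mulVec, zero_add]
  have hww : Bf σ w w = 0 := by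
    have e1 : st σ N * (N * N) = 0 := by
      have e2 : st σ N = -(st σ g * N) := by
        have e3 : g = N + 1 := by rw [hN, sub_add_cancel]
        have e4 : st σ g = st σ N + 1 := by rw [e3, st_add, st_one]
        have e5 : st σ g * N = 1 - st σ g := by rw [hN, Matrix.mul_sub, hg.1, Matrix.mul_one]
        rw [e5, e4]
        abel
      rw [e2, Matrix.neg_mul, Matrix.mul_assoc, hN3, Matrix.mul_zero, neg_zero]
    have e2 : w = N *ᵥ (N *ᵥ v) := by rw [hw, Matrix.mulVec_mulVec]
    have e3 : Bf σ (N *ᵥ (N *ᵥ v)) w = Bf σ (N *ᵥ v) (st σ N *ᵥ w) := Bf_mul hσ2 _ _ _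
    have e4 : st σ N *ᵥ w = 0 := by rw [hw, Matrix.mulVec_mulVec, e1, Matrix.zero_mulVec]
    have e5 : Bf σ w w = Bf σ (N *ᵥ (N *ᵥ v)) w := by rw [← e2]
    rw [e5, e3, e4]
    simp [Bf]
  -- a partner of `w`
  obtain ⟨y, hy⟩ : ∃ y : Fin 3 → F, Bf σ w y = 1 := by
    obtain ⟨i, hi⟩ : ∃ i, w i ≠ 0 := by
      by_contra hcon
      push Not at hcon
      exact hw0 (_root_.funext hcon)
    refine ⟨Pi.single (Fin.rev i) (σ (w i)⁻¹), ?_⟩
    have e0 : Fin.rev (0 : Fin 3) = 2 := rfl
    have e1 : Fin.rev (1 : Fin 3) = 1 := rfl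
    have e2 : Fin.rev (2 : Fin 3) = 0 := rfl
    fin_cases i
    · have hi' : w 0 ≠ 0 := hi
      simp [Bf, hσ2, hi']
    · have hi' : w 1 ≠ 0 := hi
      simp [Bf, hσ2, hi']
    · have hi' : w 2 ≠ 0 := hi
      simp [Bf, hσ2, hi']
  obtain ⟨z, hz⟩ : ∃ z : Fin 3 → F, z = y + (-(Bf σ y y) / 2) • w := ⟨_, rfl⟩
  have hyw : Bf σ y w = 1 := by rw [Bf_swap hσ2, hy, map_one]
  have hyy : σ (Bf σ y y) = Bf σ y y := (Bf_swap hσ2 y y).symm
  have hadd : ∀ (a b c : Fin 3 → F), Bf σ (a + b) c = Bf σ a c + Bf σ b c := fun a b c => by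
    simp only [Bf, Pi.add_apply]; ring
  have hadd' : ∀ (a b c : Fin 3 → F), Bf σ a (b + c) = Bf σ a b + Bf σ a c := fun a b c => by
    simp only [Bf, Pi.add_apply, map_add]; ring
  have hwz : Bf σ w z = 1 := by rw [hz, hadd', Bf_smul_right, hww, hy, mul_zero, add_zero]
  have hzz : Bf σ z z = 0 := by
    rw [hz, hadd, hadd', hadd', Bf_smul_left, Bf_smul_left, Bf_smul_right, Bf_smul_right, hww, hy, hyw, map_div₀,
      map_neg, hyy, map_ofNat]
    field_simp
    ring
  obtain ⟨T, hT, hTw, -⟩ := exists_frame hσ2 hww hzz hwz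
  obtain ⟨G, hG⟩ : ∃ G, G = st σ T * g * T := ⟨_, rfl⟩
  have hGU : US σ G := by rw [hG]; exact ((hT.st hσ2).mul hg).mul hT
  have hcol : G *ᵥ ![1, 0, 0] = ![1, 0, 0] := by
    rw [hG, ← Matrix.mulVec_mulVec, ← Matrix.mulVec_mulVec, hTw, hgw, ← hTw, Matrix.mulVec_mulVec, hT.1,
      Matrix.one_mulVec]
  have g0 : G 0 0 = 1 := by
    have := congrFun hcol 0
    simpa [Matrix.mulVec, dotProduct, Fin.sum_univ_three] using this
  have g1 : G 1 0 = 0 := by
    have := congrFun hcol 1
    simpa [Matrix.mulVec, dotProduct, Fin.sum_univ_three] using this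
  have g2 : G 2 0 = 0 := by
    have := congrFun hcol 2
    simpa [Matrix.mulVec, dotProduct, Fin.sum_univ_three] using this
  have hU := hGU.1
  have ee : ∀ i j, (st σ G * G) i j = (1 : Matrix (Fin 3) (Fin 3) F) i j := fun i j => by rw [hU]
  have e0 : Fin.rev (0 : Fin 3) = 2 := rfl
  have e1 : Fin.rev (1 : Fin 3) = 1 := rfl
  have e2 : Fin.rev (2 : Fin 3) = 0 := rfl
  have a1 := ee 2 1
  have a2 := ee 2 2
  have a4 := ee 0 2
  have a5 := ee 0 1
  simp only [Matrix.mul_apply, Fin.sum_univ_three, st_apply, e0, e1, e2, g0, g1, g2, map_zero, map_one, zero_mul,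
    zero_add, one_mul] at a1 a2 a4 a5
  have o1 : (1 : Matrix (Fin 3) (Fin 3) F) 2 1 = 0 := rfl
  have o2 : (1 : Matrix (Fin 3) (Fin 3) F) 2 2 = 1 := rfl
  have o4 : (1 : Matrix (Fin 3) (Fin 3) F) 0 2 = 0 := rfl
  have o5 : (1 : Matrix (Fin 3) (Fin 3) F) 0 1 = 0 := rfl
  rw [o1] at a1
  rw [o2] at a2
  rw [o4, a2, map_one] at a4
  rw [o5, a1, a2, map_one] at a5
  have hdet := hGU.2
  rw [Matrix.det_fin_three, g0, g1, g2, a1, a2] at hdet
  have g11 : G 1 1 = 1 := by linear_combination hdet
  refine ⟨G 1 2, G 0 2, by linear_combination a4, ?_⟩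
  have h7 : uU σ (G 1 2) (G 0 2) = G := by
    rw [uU]
    have h8 : -σ (G 1 2) = G 0 1 := by rw [g11] at a5; linear_combination -a5
    rw [h8]
    ext i j
    (revert i j; simp only [g0, g1, g2, g11, a1, a2, _root_.Fin.forall_fin_succ, Fin.isValue, _root_.Matrix.of_apply, _root_.Matrix.cons_val', _root_.Matrix.cons_val_fin_one, _root_.Matrix.cons_val_zero, _root_.Matrix.cons_val_succ, _root_.Fin.succ_zero_eq_one, _root_.Fin.succ_one_eq_two, _root_.IsEmpty.forall_iff, _root_.and_true, _root_.and_self])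
  rw [h7, hG]
  exact cj_st hT g

/-- a scalar of the special unitary group -/
theorem US.smul {g : Matrix (Fin 3) (Fin 3) F} (hg : US σ g) {z : F} (hz : z ^ 3 = 1) (hz' : z * σ z = 1) :
    US σ (z • g) := by
  refine ⟨?_, by rw [Matrix.det_smul, Fintype.card_fin, hz, hg.2, one_mul]⟩
  rw [st_smul, Matrix.smul_mul, Matrix.mul_smul, hg.1, smul_smul, mul_comm, hz', one_smul]

theorem Kr_smul (z : F) (g : Matrix (Fin 3) (Fin 3) F) (v : Fin 3 → F) :
    (Kr (z • g) v).det = z ^ 3 * (Kr g v).det := by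
  rw [Matrix.det_fin_three, Matrix.det_fin_three]
  simp only [Kr, Matrix.of_apply, Matrix.cons_val, Matrix.smul_mulVec, Matrix.mulVec_smul, Pi.smul_apply, smul_eq_mul]
  ring

/-- **the covering theorem** -/
theorem cover [Fintype F] {q : ℕ} (hF : Fintype.card F = q ^ 2) (hσ : ∀ x, σ x = x ^ q) (hσ2 : ∀ x, σ (σ x) = x)
    (hq : 3 ≤ q) (h2 : (2 : F) ≠ 0) (h3 : (3 : F) ≠ 0) {g : Matrix (Fin 3) (Fin 3) F} (hg : US σ g)
    (hs : ∀ c : F, g ≠ c • (1 : Matrix (Fin 3) (Fin 3) F)) :
    ∃ z : F, z ^ 3 = 1 ∧ z * σ z = 1 ∧ Cv σ (x₀ σ) (z • g) := by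
  obtain ⟨δ, hδ0, hδ⟩ := LieClassical.HermBasic.exists_trace_zero_ne hF
  rw [← hσ] at hδ
  have hδ' : σ δ = -δ := by linear_combination hδ
  obtain ⟨e, he, hβ⟩ := exists_iso h2 hδ0 hδ' hs
  rcases cyc_or_nf hσ2 hg he hβ with ⟨v, hv⟩ | ⟨β, c, hβ0, hcβ, hcc, hG⟩
  · by_cases ht : ∃ c : F, c ^ 3 = 1 ∧ c * σ c = 1 ∧ g.trace = 3 * c
    · -- unipotent up to a scalar
      obtain ⟨c, hc3, hcc, hct⟩ := ht
      have hc0 : c ≠ 0 := left_ne_zero_of_mul_eq_one hcc
      have hz3 : (c⁻¹) ^ 3 = 1 := by rw [inv_pow, hc3, inv_one]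
      have hzz : c⁻¹ * σ c⁻¹ = 1 := by rw [map_inv₀, ← mul_inv, hcc, inv_one]
      refine ⟨c⁻¹, hz3, hzz, ?_⟩
      obtain ⟨a, b, hab, hG⟩ := exists_uU h2 hσ2 (hg.smul hz3 hzz) (v := v) (by
        rw [Matrix.trace_smul, hct, smul_eq_mul]
        field_simp) (by rw [Kr_smul, hz3, one_mul]; exact hv)
      exact (cv_uU h2 hσ2 hab).cj hG
    · push Not at ht
      refine ⟨1, one_pow 3, by rw [map_one, one_mul], ?_⟩
      rw [one_smul]
      obtain ⟨a, b, b', ha, hσa, hb, hb', htr, hK⟩ := exists_tr h2 h3 hσ2 hδ0 hδ' (t := g.trace)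
        (by
          intro h4
          exact ht 1 (one_pow 3) (by rw [map_one, one_mul]) (by rw [h4, mul_one]))
      have hcv := cv_vu h2 hσ2 ha hσa hb hb'
      refine hcv.cj (conj_su hF hσ hσ2 hq h3 (v₁ := ![1, 0, 0]) (v₂ := v) ?_ ?_ hg.1 hg.2 ?_ ?_ hv ?_)
      · exact ((us_vL hσ2 (by rw [map_one]; linear_combination hb)).mul (us_uU hσ2 hb')).1
      · exact ((us_vL hσ2 (by rw [map_one]; linear_combination hb)).mul (us_uU hσ2 hb')).2
      · rw [trace_vu, htr]
      · rw [det_Kr_vu]; exact hK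
      · rw [trace_vu, htr]; exact ht
  · by_cases hc3 : c ^ 3 = 1
    · have hc0 : c ≠ 0 := left_ne_zero_of_mul_eq_one hcc
      have hz3 : (c⁻¹) ^ 3 = 1 := by rw [inv_pow, hc3, inv_one]
      have hzz : c⁻¹ * σ c⁻¹ = 1 := by rw [map_inv₀, ← mul_inv, hcc, inv_one]
      refine ⟨c⁻¹, hz3, hzz, ?_⟩
      have hσc : σ c = c⁻¹ := eq_inv_of_mul_eq_one_right hcc
      have hσβ : σ β = -(c * β) := by rw [hcβ, neg_neg]
      have h5 : Cv σ (x₀ σ) (NF σ (c⁻¹ * β) 1) := by
        apply cv_transv h2 hσ2 (mul_ne_zero (inv_ne_zero hc0) hβ0)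
        rw [map_mul, map_inv₀, hσc, inv_inv, hσβ]
        field_simp
        linear_combination (-1 : F) * hc3
      refine h5.cj ?_
      have h6 : NF σ (c⁻¹ * β) 1 = c⁻¹ • NF σ β c := by
        rw [NF, NF, map_mul, map_inv₀, hσc, inv_inv, hσβ]
        ext i j
        (revert i j; simp only [_root_.Fin.forall_fin_succ, _root_.mul_neg, _root_.inv_neg, _root_.mul_inv_rev, _root_.inv_one, _root_.one_pow, _root_.Matrix.of_apply, _root_.Matrix.cons_val', _root_.Matrix.cons_val_fin_one, _root_.inv_pow, _root_.Matrix.smul_apply, _root_.smul_eq_mul, Fin.isValue, _root_.Matrix.cons_val_zero, _root_.Matrix.cons_val_succ, _root_.forall_const, _root_.MulZeroClass.mul_zero, _root_.neg_inj, _root_.and_true, _root_.true_and]) <;> (repeat' with_reducible apply And.intro)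
        · field_simp
        · field_simp
        · field_simp
          linear_combination hc3
      rw [h6]
      obtain ⟨T, hT, hTd, hTG⟩ := hG
      exact ⟨T, hT, hTd, by rw [Matrix.mul_smul, Matrix.smul_mul, hTG]⟩
    · refine ⟨1, one_pow 3, by rw [map_one, one_mul], ?_⟩
      rw [one_smul]
      refine (cv_hom hF hσ h2 hσ2 hβ0 hcβ hcc ?_).cj hG
      rintro rfl
      exact hc3 (one_pow 3)

end Cfsg.Agent.H3.TC
end

-- part: H3/TC/Cop
section
/-!
# The covering of `SU_3(q)`, `gcd(3, q + 1) = 1`, from a table (helper3)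

`cover_tab` : if for every trace `t` there are conjugates `x`, `B` of `x` with `x B` cyclic of trace `t`, and the same for the
normal forms without cyclic vector, then every nonscalar element is a product of two conjugates of `x`.
-/

set_option autoImplicit false

namespace Cfsg.Agent.H3.TC

open Matrix

/-- `3 × 3` matrices as nine entries (for the kernel) -/
structure M3 (K : Type*) where
  a : K
  b : K
  c : K
  d : K
  e : K
  f : K
  g : K
  h : K
  i : K
deriving DecidableEq

namespace M3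

variable {K : Type*} [CommRing K]

def mul (A B : M3 K) : M3 K :=
  ⟨A.a * B.a + A.b * B.d + A.c * B.g, A.a * B.b + A.b * B.e + A.c * B.h, A.a * B.c + A.b * B.f + A.c * B.i,
   A.d * B.a + A.e * B.d + A.f * B.g, A.d * B.b + A.e * B.e + A.f * B.h, A.d * B.c + A.e * B.f + A.f * B.i,
   A.g * B.a + A.h * B.d + A.i * B.g, A.g * B.b + A.h * B.e + A.i * B.h, A.g * B.c + A.h * B.f + A.i * B.i⟩

def st (s : K → K) (A : M3 K) : M3 K := ⟨s A.i, s A.f, s A.c, s A.h, s A.e, s A.b, s A.g, s A.d, s A.a⟩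

def det (A : M3 K) : K := A.a * (A.e * A.i - A.f * A.h) - A.b * (A.d * A.i - A.f * A.g) + A.c * (A.d * A.h - A.e * A.g)

def tr (A : M3 K) : K := A.a + A.e + A.i

/-- the determinant of `(e₀, A e₀, A² e₀)` -/
def kr (A : M3 K) : K := A.d * (A.g * A.a + A.h * A.d + A.i * A.g) - A.g * (A.d * A.a + A.e * A.d + A.f * A.g)

def one : M3 K := ⟨1, 0, 0, 0, 1, 0, 0, 0, 1⟩

def toM (A : M3 K) : Matrix (Fin 3) (Fin 3) K := !![A.a, A.b, A.c; A.d, A.e, A.f; A.g, A.h, A.i]

theorem toM_mul (A B : M3 K) : (A.mul B).toM = A.toM * B.toM := by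
  ext i j
  (revert i j; simp only [toM, mul, Matrix.mul_apply, Fin.sum_univ_three, _root_.Fin.forall_fin_succ, _root_.Matrix.of_apply, _root_.Matrix.cons_val', _root_.Matrix.cons_val_fin_one, Fin.isValue, _root_.Matrix.cons_val_zero, _root_.Matrix.cons_val_one, _root_.Matrix.cons_val, _root_.Matrix.cons_val_succ, _root_.forall_const, _root_.and_self, _root_.implies_true])

theorem toM_one : (one : M3 K).toM = 1 := by
  ext i j
  (revert i j; simp only [toM, one, _root_.Fin.forall_fin_succ, _root_.Matrix.of_apply, _root_.Matrix.cons_val', _root_.Matrix.cons_val_fin_one, Fin.isValue, _root_.Matrix.cons_val_zero, _root_.Matrix.cons_val_succ, _root_.IsEmpty.forall_iff, _root_.and_true, _root_.Matrix.one_apply_eq, Nat.reduceAdd, _root_.Fin.succ_zero_eq_one, _root_.ne_eq, _root_.zero_ne_one, _root_.not_false_eq_true, _root_.Matrix.one_apply_ne, _root_.Fin.succ_one_eq_two, Fin.reduceEq, _root_.and_self, _root_.Fin.succ_ne_zero, _root_.true_and])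

theorem toM_tr (A : M3 K) : A.toM.trace = A.tr := by
  simp [toM, tr, Matrix.trace, Fin.sum_univ_three]

theorem toM_det (A : M3 K) : A.toM.det = A.det := by
  rw [Matrix.det_fin_three]
  simp only [toM, det, _root_.Fin.isValue, _root_.Matrix.of_apply, _root_.Matrix.cons_val', _root_.Matrix.cons_val_zero, _root_.Matrix.cons_val_fin_one, _root_.Matrix.cons_val_one, _root_.Matrix.cons_val]
  ring

/-- the conditions -/
def Ok (s : K → K) (t : K) (A : M3 K) : Prop := (A.st s).mul A = one ∧ A.det = 1 ∧ A.tr = t ∧ A.kr ≠ 0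

instance [DecidableEq K] (s : K → K) (t : K) (A : M3 K) : Decidable (Ok s t A) := by unfold Ok; infer_instance

end M3

open M3

variable {F : Type*} [Field F] {σ : F →+* F}

theorem toM_st (A : M3 F) : (A.st σ).toM = TC.st σ A.toM := by
  rw [M3.toM, M3.toM, st_of]
  rfl

theorem toM_kr (A : M3 F) : (Kr A.toM ![1, 0, 0]).det = A.kr := by
  rw [Matrix.det_fin_three]
  simp only [Kr, M3.toM, M3.kr, dotProduct, Fin.sum_univ_three, _root_.Nat.succ_eq_add_one, _root_.Nat.reduceAdd, _root_.Matrix.mulVec_cons, _root_.one_smul, _root_.zero_smul, _root_.Matrix.mulVec_empty, _root_.add_zero, _root_.Matrix.cons_mulVec, _root_.Function.comp_apply, _root_.Fin.isValue, _root_.Matrix.cons_val_zero, _root_.Matrix.head_cons, _root_.Matrix.cons_val_one, _root_.Matrix.cons_val, _root_.Matrix.empty_mulVec, _root_.Matrix.cons_val', _root_.Matrix.cons_val_fin_one, _root_.Matrix.of_apply, _root_.one_mul, _root_.MulZeroClass.mul_zero, _root_.MulZeroClass.zero_mul, _root_.sub_zero, _root_.sub_right_inj]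
  ring

theorem M3.Ok.us {t : F} {A : M3 F} (h : Ok σ t A) : US σ A.toM := by
  refine ⟨?_, by rw [toM_det, h.2.1]⟩
  rw [← toM_st, ← toM_mul, h.1, toM_one]

theorem M3.Ok.cj [Fintype F] {q : ℕ} (hF : Fintype.card F = q ^ 2) (hσ : ∀ x, σ x = x ^ q) (hσ2 : ∀ x, σ (σ x) = x)
    (hq : 3 ≤ q) {k : ℕ} (hk : q + 1 ∣ 3 * k + 1) {t : F} {X A : M3 F} (hX : Ok σ t X) (h : Ok σ t A) :
    Cj σ X.toM A.toM :=
  conj_su_cop hF hσ hσ2 hq hk hX.us.1 hX.us.2 h.us.1 h.us.2 (by rw [toM_tr, toM_tr, hX.2.2.1, h.2.2.1])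
    (v₁ := ![1, 0, 0]) (v₂ := ![1, 0, 0]) (by rw [toM_kr]; exact hX.2.2.2) (by rw [toM_kr]; exact h.2.2.2)

/-- **the covering theorem from a table** -/
theorem cover_tab [Fintype F] {q : ℕ} (hF : Fintype.card F = q ^ 2) (hσ : ∀ x, σ x = x ^ q) (hσ2 : ∀ x, σ (σ x) = x)
    (hq : 3 ≤ q) {k : ℕ} (hk : q + 1 ∣ 3 * k + 1)
    (hiso : ∀ g : Matrix (Fin 3) (Fin 3) F, (∀ c : F, g ≠ c • (1 : Matrix (Fin 3) (Fin 3) F)) →
      ∃ e : Fin 3 → F, Bf σ e e = 0 ∧ Bf σ (g *ᵥ e) e ≠ 0)
    {X : M3 F} {t₀ : F} (hX : Ok σ t₀ X)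
    (T1 : ∀ t : F, ∃ B : M3 F, Ok σ t₀ B ∧ (X.mul B).tr = t ∧ (X.mul B).kr ≠ 0)
    (T2 : ∀ c : F, c * σ c = 1 → ∃ β b' : F, ∃ A B : M3 F, c * β = -σ β ∧ σ β * b' = 1 ∧ Ok σ t₀ A ∧ Ok σ t₀ B ∧
      A.mul B = ⟨0, 0, b', 0, c, 0, β, 0, c + σ c * σ c⟩)
    {g : Matrix (Fin 3) (Fin 3) F} (hg : US σ g) (hs : ∀ c : F, g ≠ c • (1 : Matrix (Fin 3) (Fin 3) F)) :
    Cv σ X.toM g := by
  obtain ⟨e, he, hβ⟩ := hiso g hs
  rcases cyc_or_nf hσ2 hg he hβ with ⟨v, hv⟩ | ⟨β, c, hβ0, hcβ, hcc, hG⟩
  · obtain ⟨B, hB, htr, hkr⟩ := T1 g.trace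
    have h1 : Cv σ X.toM (X.mul B).toM := ⟨X.toM, B.toM, Cj.refl _, hX.cj hF hσ hσ2 hq hk hB, toM_mul X B⟩
    have hU : US σ (X.mul B).toM := by rw [toM_mul]; exact hX.us.mul hB.us
    refine h1.cj (conj_su_cop hF hσ hσ2 hq hk hU.1 hU.2 hg.1 hg.2 (by rw [toM_tr, htr]) (v₁ := ![1, 0, 0]) (v₂ := v)
      (by rw [toM_kr]; exact hkr) hv)
  · obtain ⟨β', b', A, B, h1, h2, hA, hB, hAB⟩ := T2 c hcc
    have hσβ' : σ β' ≠ 0 := left_ne_zero_of_mul_eq_one h2
    have hβ' : β' ≠ 0 := fun h => hσβ' (by rw [h, map_zero])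
    have hσc : σ c = c⁻¹ := eq_inv_of_mul_eq_one_right hcc
    have h3 : NF σ β' c = (A.mul B).toM := by
      rw [hAB, NF, M3.toM, ← eq_inv_of_mul_eq_one_right h2, hσc, sq]
    have h4 : Cv σ X.toM (NF σ β' c) := ⟨A.toM, B.toM, hX.cj hF hσ hσ2 hq hk hA, hX.cj hF hσ hσ2 hq hk hB, by
      rw [h3, toM_mul]⟩
    exact h4.cj ((cj_NF hF hσ hσ2 hβ' hβ0 h1 hcβ).trans hG)

/-! ### reading tables -/

section

variable {K : Type*} [CommRing K] [DecidableEq K]

def mk9 (of : ℕ → K) : List ℕ → M3 K
  | [a, b, c, d, e, f, g, h, i] => ⟨of a, of b, of c, of d, of e, of f, of g, of h, of i⟩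
  | _ => M3.one

/-- a line `[t, B]` of the first table -/
def chk1 (of : ℕ → K) (s : K → K) (t₀ : K) (X : M3 K) : List ℕ → Bool
  | t :: l => decide (Ok s t₀ (mk9 of l)) && (decide ((X.mul (mk9 of l)).tr = of t) && decide ((X.mul (mk9 of l)).kr ≠ 0))
  | _ => false

def nf9 (s : K → K) (c β b' : K) : M3 K := ⟨0, 0, b', 0, c, 0, β, 0, c + s c * s c⟩

/-- a line `[c, β, b', A]` of the second table -/
def chk2 (of : ℕ → K) (s : K → K) (t₀ : K) : List ℕ → Bool
  | c :: β :: b' :: l => decide (of c * of β = -s (of β)) && (decide (s (of β) * of b' = 1) &&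
      (decide (Ok s t₀ (mk9 of l)) && (decide (Ok s t₀ (((mk9 of l).st s).mul (nf9 s (of c) (of β) (of b'))))  &&
      decide ((mk9 of l).mul (((mk9 of l).st s).mul (nf9 s (of c) (of β) (of b'))) = nf9 s (of c) (of β) (of b')))))
  | _ => false

end

theorem t1_of [DecidableEq F] (of : ℕ → F) (s : F → F) (hs : ∀ x, σ x = s x) {t₀ : F} {X : M3 F} {L : List (List ℕ)}
    (hL : ∀ l ∈ L, chk1 of s t₀ X l = true) (hc : ∀ t : F, ∃ n l, (n :: l) ∈ L ∧ of n = t) :
    ∀ t : F, ∃ B : M3 F, Ok σ t₀ B ∧ (X.mul B).tr = t ∧ (X.mul B).kr ≠ 0 := by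
  have hs' : (σ : F → F) = s := funext hs
  intro t
  obtain ⟨n, l, hl, ht⟩ := hc t
  have h := hL _ hl
  simp only [chk1, Bool.and_eq_true, decide_eq_true_eq] at h
  exact ⟨mk9 of l, by rw [hs']; exact h.1, by rw [h.2.1, ht], h.2.2⟩

theorem t2_of [DecidableEq F] (of : ℕ → F) (s : F → F) (hs : ∀ x, σ x = s x) {t₀ : F} {L : List (List ℕ)}
    (hL : ∀ l ∈ L, chk2 of s t₀ l = true)
    (hc : ∀ c : F, c * s c = 1 → ∃ n β b' l, (n :: β :: b' :: l) ∈ L ∧ of n = c) :
    ∀ c : F, c * σ c = 1 → ∃ β b' : F, ∃ A B : M3 F, c * β = -σ β ∧ σ β * b' = 1 ∧ Ok σ t₀ A ∧ Ok σ t₀ B ∧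
      A.mul B = ⟨0, 0, b', 0, c, 0, β, 0, c + σ c * σ c⟩ := by
  have hs' : (σ : F → F) = s := funext hs
  intro c hcc
  rw [hs'] at hcc ⊢
  obtain ⟨n, β, b', l, hl, hn⟩ := hc c hcc
  have h := hL _ hl
  simp only [chk2, Bool.and_eq_true, decide_eq_true_eq] at h
  rw [hn] at h
  exact ⟨of β, of b', mk9 of l, _, h.1, h.2.1, h.2.2.1, h.2.2.2.1, h.2.2.2.2⟩

end Cfsg.Agent.H3.TC
end

-- part: H3/TC/Up
section
/-!
# From `3 × 3` matrices to `PSU_3(q)` (helper3)

`pp_of_cover` : if every nonscalar special unitary matrix (antidiagonal form) is, up to a scalar, a product of two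
conjugates of `x`, `x ^ r = 1`, `r ≥ 5` prime, then `PP (PSU 3 F q)`.
-/

set_option autoImplicit false

namespace Cfsg.Agent.H3.TC

open Matrix Cfsg

universe u

variable {F : Type u} [Field F] [Fintype F] {q : ℕ} {σ : F →+* F}

/-- membership in `SU_3(q)` through the matrix -/
theorem mem_SU_of (hσ : ∀ x, σ x = x ^ q) (g : Matrix.SpecialLinearGroup (Fin 3) F)
    (h : ((g : Matrix (Fin 3) (Fin 3) F).map σ)ᵀ * (g : Matrix (Fin 3) (Fin 3) F) = 1) : g ∈ SU 3 F q := by
  rw [LieClassical.HermBasic.mem_SU_iff]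
  intro u v
  have h1 : (g : Matrix (Fin 3) (Fin 3) F) * ((g : Matrix (Fin 3) (Fin 3) F).map σ)ᵀ = 1 := mul_eq_one_comm.1 h
  have ee : ∀ i j, (((g : Matrix (Fin 3) (Fin 3) F).map σ)ᵀ * (g : Matrix (Fin 3) (Fin 3) F)) i j =
      (1 : Matrix (Fin 3) (Fin 3) F) i j := fun i j => by rw [h]
  simp only [hermForm, ← hσ, Matrix.mulVec, dotProduct, Fin.sum_univ_three, map_add, map_mul]
  have a00 := ee 0 0
  have a01 := ee 0 1
  have a02 := ee 0 2
  have a10 := ee 1 0
  have a11 := ee 1 1
  have a12 := ee 1 2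
  have a20 := ee 2 0
  have a21 := ee 2 1
  have a22 := ee 2 2
  simp only [Matrix.mul_apply, Fin.sum_univ_three, Matrix.transpose_apply, Matrix.map_apply, Matrix.one_apply_eq,
    ne_eq, Fin.reduceEq, not_false_eq_true, Matrix.one_apply_ne] at a00 a01 a02 a10 a11 a12 a20 a21 a22
  linear_combination u 0 * σ (v 0) * a00 + u 1 * σ (v 0) * a01 + u 2 * σ (v 0) * a02 + u 0 * σ (v 1) * a10 +
    u 1 * σ (v 1) * a11 + u 2 * σ (v 1) * a12 + u 0 * σ (v 2) * a20 + u 1 * σ (v 2) * a21 + u 2 * σ (v 2) * a22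

omit [Fintype F] in
theorem of_mem_SU (hσ : ∀ x, σ x = x ^ q) {g : Matrix.SpecialLinearGroup (Fin 3) F} (hg : g ∈ SU 3 F q) :
    ((g : Matrix (Fin 3) (Fin 3) F).map σ)ᵀ * (g : Matrix (Fin 3) (Fin 3) F) = 1 := by
  rw [LieClassical.HermBasic.mem_SU_iff] at hg
  ext i j
  have h1 := hg (Pi.single j 1) (Pi.single i 1)
  rw [Matrix.mulVec_single_one, Matrix.mulVec_single_one] at h1
  simp only [hermForm, ← hσ] at h1
  rw [Matrix.mul_apply]
  simp only [Matrix.transpose_apply, Matrix.map_apply]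
  have h2 : ∑ k, σ ((g : Matrix (Fin 3) (Fin 3) F) k i) * (g : Matrix (Fin 3) (Fin 3) F) k j =
      ∑ k, (g : Matrix (Fin 3) (Fin 3) F) k j * σ ((g : Matrix (Fin 3) (Fin 3) F) k i) :=
    Finset.sum_congr rfl fun k _ => mul_comm _ _
  rw [h2]
  refine (show _ = _ from h1).trans ?_
  rw [Matrix.one_apply, Fin.sum_univ_three]
  fin_cases i <;> fin_cases j <;> simp

/-- a basis change between the two forms -/
structure Bc (σ : F →+* F) (S P : Matrix (Fin 3) (Fin 3) F) : Prop where
  sp : S * P = 1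
  st : ∀ A : Matrix (Fin 3) (Fin 3) F, st σ (P * A * S) = P * (A.map σ)ᵀ * S

theorem Bc.ps {S P : Matrix (Fin 3) (Fin 3) F} (h : Bc σ S P) : P * S = 1 := mul_eq_one_comm.1 h.sp

/-- **the passage to `PSU_3(q)`** -/
theorem pp_of_cover (hσ : ∀ x, σ x = x ^ q) {S P x : Matrix (Fin 3) (Fin 3) F} (hS : Bc σ S P) (hx : US σ x)
    {r : ℕ} (hr : r.Prime) (hr5 : 5 ≤ r) (hxr : x ^ r = 1) (hxs : ∃ y, US σ y ∧ y * x ≠ x * y)
    (hcov : ∀ g, US σ g → (∀ c : F, g ≠ c • (1 : Matrix (Fin 3) (Fin 3) F)) →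
      ∃ z : F, z ^ 3 = 1 ∧ z * σ z = 1 ∧ Cv σ x (z • g)) : H494.TC.PP (PSU 3 F q) := by
  -- lifting
  have hup : ∀ A, US σ A → ∃ g : SU 3 F q, ((g : Matrix.SpecialLinearGroup (Fin 3) F) : Matrix (Fin 3) (Fin 3) F) = S * A * P := by
    intro A hA
    have hdet : (S * A * P).det = 1 := by
      rw [Matrix.det_mul, Matrix.det_mul, mul_right_comm, ← Matrix.det_mul, hS.sp, Matrix.det_one, hA.2, one_mul]
    refine ⟨⟨⟨S * A * P, hdet⟩, mem_SU_of hσ _ ?_⟩, rfl⟩
    have h1 := hS.st (S * A * P)
    have h2 : P * (S * A * P) * S = A := by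
      calc P * (S * A * P) * S = (P * S) * A * (P * S) := by simp only [Matrix.mul_assoc]
        _ = A := by rw [hS.ps, Matrix.one_mul, Matrix.mul_one]
    rw [h2] at h1
    show ((S * A * P).map σ)ᵀ * (S * A * P) = 1
    calc ((S * A * P).map σ)ᵀ * (S * A * P) = (S * P) * ((S * A * P).map σ)ᵀ * (S * P) * (S * A * P) := by
          rw [hS.sp, Matrix.one_mul, Matrix.mul_one]
      _ = S * (P * ((S * A * P).map σ)ᵀ * S) * (P * S) * A * P := by simp only [Matrix.mul_assoc]
      _ = S * (st σ A * A) * P := by rw [← h1, hS.ps]; simp only [Matrix.mul_assoc, Matrix.one_mul]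
      _ = 1 := by rw [hA.1, Matrix.mul_one, hS.sp]
  have hdown : ∀ g : SU 3 F q, US σ (P * ((g : Matrix.SpecialLinearGroup (Fin 3) F) : Matrix (Fin 3) (Fin 3) F) * S) := by
    intro g
    have h1 := of_mem_SU hσ g.2
    constructor
    · rw [hS.st]
      obtain ⟨G, hG⟩ : ∃ G, G = ((g : Matrix.SpecialLinearGroup (Fin 3) F) : Matrix (Fin 3) (Fin 3) F) := ⟨_, rfl⟩
      rw [← hG] at h1 ⊢
      calc P * (G.map σ)ᵀ * S * (P * G * S) = P * (G.map σ)ᵀ * (S * P) * G * S := by simp only [Matrix.mul_assoc]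
        _ = P * ((G.map σ)ᵀ * G) * S := by rw [hS.sp, Matrix.mul_one]; simp only [Matrix.mul_assoc]
        _ = 1 := by rw [h1, Matrix.mul_one, hS.ps]
    · rw [Matrix.det_mul, Matrix.det_mul, mul_right_comm, ← Matrix.det_mul, hS.ps, Matrix.det_one, one_mul]
      exact g.1.2
  have hext : ∀ a b : SU 3 F q, ((a : Matrix.SpecialLinearGroup (Fin 3) F) : Matrix (Fin 3) (Fin 3) F) =
      ((b : Matrix.SpecialLinearGroup (Fin 3) F) : Matrix (Fin 3) (Fin 3) F) → a = b := fun a b h =>
    Subtype.ext (Subtype.ext h)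
  obtain ⟨X, hX⟩ := hup x hx
  have hXr : X ^ r = 1 := by
    apply hext
    have h1 : ∀ n : ℕ, (((X ^ n : SU 3 F q) : Matrix.SpecialLinearGroup (Fin 3) F) : Matrix (Fin 3) (Fin 3) F) = S * x ^ n * P := by
      intro n
      induction n with
      | zero => rw [pow_zero, pow_zero, Matrix.mul_one, hS.sp]; rfl
      | succ n ih =>
        rw [pow_succ, pow_succ]
        show (((X ^ n : SU 3 F q) : Matrix.SpecialLinearGroup (Fin 3) F) : Matrix (Fin 3) (Fin 3) F) *
          ((X : Matrix.SpecialLinearGroup (Fin 3) F) : Matrix (Fin 3) (Fin 3) F) = _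
        rw [ih, hX]
        calc S * x ^ n * P * (S * x * P) = S * x ^ n * (P * S) * x * P := by simp only [Matrix.mul_assoc]
          _ = S * (x ^ n * x) * P := by rw [hS.ps, Matrix.mul_one]; simp only [Matrix.mul_assoc]
    rw [h1, hxr, Matrix.mul_one, hS.sp]
    rfl
  have hXc : X ∉ Subgroup.center (SU 3 F q) := by
    intro hc
    obtain ⟨y, hy, hyx⟩ := hxs
    obtain ⟨Y, hY⟩ := hup y hy
    have h1 := Subgroup.mem_center_iff.1 hc Y
    have h2 := congrArg (fun a : SU 3 F q => ((a : Matrix.SpecialLinearGroup (Fin 3) F) : Matrix (Fin 3) (Fin 3) F)) h1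
    have h3 : S * y * P * (S * x * P) = S * x * P * (S * y * P) := by rw [← hX, ← hY]; exact h2
    apply hyx
    calc y * x = (P * S) * y * (P * S) * x * (P * S) := by
          rw [hS.ps, Matrix.one_mul, Matrix.mul_one, Matrix.mul_one]
      _ = P * (S * y * P * (S * x * P)) * S := by simp only [Matrix.mul_assoc]
      _ = P * (S * x * P * (S * y * P)) * S := by rw [h3]
      _ = (P * S) * x * (P * S) * y * (P * S) := by simp only [Matrix.mul_assoc]
      _ = x * y := by rw [hS.ps, Matrix.one_mul, Matrix.mul_one, Matrix.mul_one]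
  have hord : orderOf (QuotientGroup.mk X : PSU 3 F q) = r := by
    have : Fact r.Prime := ⟨hr⟩
    apply orderOf_eq_prime
    · rw [← QuotientGroup.mk_pow, hXr, QuotientGroup.mk_one]
    · rw [ne_eq, QuotientGroup.eq_one_iff]
      exact hXc
  refine ⟨QuotientGroup.mk X, by rw [hord]; exact hr, ?_, ?_⟩
  · rw [hord]
    have h1 : ¬ r ∣ 6 := by
      intro hd
      have h2 : r ∣ 2 * 3 := hd
      rcases (Nat.Prime.dvd_mul hr).1 h2 with h3 | h3
      · have := Nat.le_of_dvd (by norm_num) h3; omega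
      · have := Nat.le_of_dvd (by norm_num) h3; omega
    exact (Nat.Prime.coprime_iff_not_dvd hr).2 h1
  · intro t ht
    obtain ⟨g, rfl⟩ := QuotientGroup.mk_surjective t
    have hgc : g ∉ Subgroup.center (SU 3 F q) := fun h => ht ((QuotientGroup.eq_one_iff g).2 h)
    obtain ⟨G, hG⟩ : ∃ G, G = P * ((g : Matrix.SpecialLinearGroup (Fin 3) F) : Matrix (Fin 3) (Fin 3) F) * S := ⟨_, rfl⟩
    have hGU : US σ G := by rw [hG]; exact hdown g
    have hgG : ((g : Matrix.SpecialLinearGroup (Fin 3) F) : Matrix (Fin 3) (Fin 3) F) = S * G * P := by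
      rw [hG]
      calc ((g : Matrix.SpecialLinearGroup (Fin 3) F) : Matrix (Fin 3) (Fin 3) F)
          = (S * P) * ((g : Matrix.SpecialLinearGroup (Fin 3) F) : Matrix (Fin 3) (Fin 3) F) * (S * P) := by
            rw [hS.sp, Matrix.one_mul, Matrix.mul_one]
        _ = _ := by simp only [Matrix.mul_assoc]
    have hGs : ∀ c : F, G ≠ c • (1 : Matrix (Fin 3) (Fin 3) F) := by
      intro c hc
      apply hgc
      rw [Subgroup.mem_center_iff]
      intro k
      apply hext
      show ((k : Matrix.SpecialLinearGroup (Fin 3) F) : Matrix (Fin 3) (Fin 3) F) *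
          ((g : Matrix.SpecialLinearGroup (Fin 3) F) : Matrix (Fin 3) (Fin 3) F) =
        ((g : Matrix.SpecialLinearGroup (Fin 3) F) : Matrix (Fin 3) (Fin 3) F) *
          ((k : Matrix.SpecialLinearGroup (Fin 3) F) : Matrix (Fin 3) (Fin 3) F)
      rw [hgG, hc, Matrix.mul_smul, Matrix.smul_mul, Matrix.mul_one, hS.sp, Matrix.mul_smul, Matrix.smul_mul,
        Matrix.mul_one, Matrix.one_mul]
    obtain ⟨z, hz3, hzz, A, B, ⟨T, hT, hTd, hTA⟩, ⟨U, hU, hUd, hUB⟩, hAB⟩ := hcov G hGU hGs
    have hTU : US σ T := ⟨hT, hTd⟩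
    have hUU : US σ U := ⟨hU, hUd⟩
    obtain ⟨t', ht'⟩ := hup T hTU
    obtain ⟨u', hu'⟩ := hup U hUU
    obtain ⟨w, hw⟩ := hup (z • (1 : Matrix (Fin 3) (Fin 3) F)) ⟨by
      rw [st_smul, st_one, Matrix.smul_mul, Matrix.one_mul, smul_smul, mul_comm, hzz, one_smul], by
      rw [Matrix.det_smul, Fintype.card_fin, hz3, Matrix.det_one, one_mul]⟩
    have hw' : ((w : Matrix.SpecialLinearGroup (Fin 3) F) : Matrix (Fin 3) (Fin 3) F) = z • (1 : Matrix (Fin 3) (Fin 3) F) := by
      rw [hw, Matrix.mul_smul, Matrix.smul_mul, Matrix.mul_one, hS.sp]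
    have hwc : w ∈ Subgroup.center (SU 3 F q) := by
      rw [Subgroup.mem_center_iff]
      intro k
      apply hext
      show ((k : Matrix.SpecialLinearGroup (Fin 3) F) : Matrix (Fin 3) (Fin 3) F) *
          ((w : Matrix.SpecialLinearGroup (Fin 3) F) : Matrix (Fin 3) (Fin 3) F) =
        ((w : Matrix.SpecialLinearGroup (Fin 3) F) : Matrix (Fin 3) (Fin 3) F) *
          ((k : Matrix.SpecialLinearGroup (Fin 3) F) : Matrix (Fin 3) (Fin 3) F)
      rw [hw', Matrix.mul_smul, Matrix.smul_mul, Matrix.mul_one, Matrix.one_mul]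
    -- the equation in `SU_3(q)`
    have hA' : A = T * x * st σ T := by rw [hTA, Matrix.mul_assoc, hTU.mul_st, Matrix.mul_one]
    have hB' : B = U * x * st σ U := by rw [hUB, Matrix.mul_assoc, hUU.mul_st, Matrix.mul_one]
    have hcancel : ∀ M N : Matrix (Fin 3) (Fin 3) F, S * M * P * (S * N * P) = S * (M * N) * P := by
      intro M N
      calc S * M * P * (S * N * P) = S * M * (P * S) * N * P := by simp only [Matrix.mul_assoc]
        _ = S * (M * N) * P := by rw [hS.ps, Matrix.mul_one]; simp only [Matrix.mul_assoc]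
    have hinv : ∀ (k : SU 3 F q) (M : Matrix (Fin 3) (Fin 3) F), US σ M →
        ((k : Matrix.SpecialLinearGroup (Fin 3) F) : Matrix (Fin 3) (Fin 3) F) = S * M * P →
        (((k⁻¹ : SU 3 F q) : Matrix.SpecialLinearGroup (Fin 3) F) : Matrix (Fin 3) (Fin 3) F) = S * st σ M * P := by
      intro k M hM hk
      have h1 : ((k : Matrix.SpecialLinearGroup (Fin 3) F) : Matrix (Fin 3) (Fin 3) F) *
          (((k⁻¹ : SU 3 F q) : Matrix.SpecialLinearGroup (Fin 3) F) : Matrix (Fin 3) (Fin 3) F) = 1 := by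
        have := congrArg (fun a : SU 3 F q => ((a : Matrix.SpecialLinearGroup (Fin 3) F) : Matrix (Fin 3) (Fin 3) F))
          (mul_inv_cancel k)
        exact this
      have h2 : (S * st σ M * P) * ((k : Matrix.SpecialLinearGroup (Fin 3) F) : Matrix (Fin 3) (Fin 3) F) = 1 := by
        rw [hk, hcancel, hM.1, Matrix.mul_one, hS.sp]
      calc (((k⁻¹ : SU 3 F q) : Matrix.SpecialLinearGroup (Fin 3) F) : Matrix (Fin 3) (Fin 3) F)
          = (S * st σ M * P) * ((k : Matrix.SpecialLinearGroup (Fin 3) F) : Matrix (Fin 3) (Fin 3) F) *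
            (((k⁻¹ : SU 3 F q) : Matrix.SpecialLinearGroup (Fin 3) F) : Matrix (Fin 3) (Fin 3) F) := by
            rw [h2, Matrix.one_mul]
        _ = S * st σ M * P := by rw [Matrix.mul_assoc (S * st σ M * P), h1, Matrix.mul_one]
    have key : w * g = (t' * X * t'⁻¹) * (u' * X * u'⁻¹) := by
      apply hext
      show ((w : Matrix.SpecialLinearGroup (Fin 3) F) : Matrix (Fin 3) (Fin 3) F) *
          ((g : Matrix.SpecialLinearGroup (Fin 3) F) : Matrix (Fin 3) (Fin 3) F) =
        (((t' : Matrix.SpecialLinearGroup (Fin 3) F) : Matrix (Fin 3) (Fin 3) F) *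
          ((X : Matrix.SpecialLinearGroup (Fin 3) F) : Matrix (Fin 3) (Fin 3) F) *
          (((t'⁻¹ : SU 3 F q) : Matrix.SpecialLinearGroup (Fin 3) F) : Matrix (Fin 3) (Fin 3) F)) *
        (((u' : Matrix.SpecialLinearGroup (Fin 3) F) : Matrix (Fin 3) (Fin 3) F) *
          ((X : Matrix.SpecialLinearGroup (Fin 3) F) : Matrix (Fin 3) (Fin 3) F) *
          (((u'⁻¹ : SU 3 F q) : Matrix.SpecialLinearGroup (Fin 3) F) : Matrix (Fin 3) (Fin 3) F))
      rw [hinv t' T hTU ht', hinv u' U hUU hu', ht', hu', hX, hw', hgG, hcancel, hcancel, hcancel, hcancel, hcancel,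
        ← hA', ← hB', ← hAB, Matrix.smul_mul, Matrix.one_mul, Matrix.mul_smul, Matrix.smul_mul]
    refine ⟨QuotientGroup.mk t', QuotientGroup.mk u', ?_⟩
    have h1 : (QuotientGroup.mk g : PSU 3 F q) = QuotientGroup.mk (w * g) := by
      rw [QuotientGroup.mk_mul, (QuotientGroup.eq_one_iff w).2 hwc, one_mul]
    rw [h1, key]
    rfl

end Cfsg.Agent.H3.TC
end

-- part: H3/TC/Psu
section
/-!
# `PP (PSU 3 F q)` for `q` prime to 6 (helper3)
-/

set_option autoImplicit false

namespace Cfsg.Agent.H3.TC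

open Matrix Cfsg

universe u

variable {F : Type u} [Field F] [Fintype F] {q : ℕ} {σ : F →+* F}

/-- the basis change in odd characteristic -/
theorem bc_odd (hσ2 : ∀ x, σ (σ x) = x) {k h : F} (hk : k * σ k = -1) (hh : 2 * h = 1) (hσh : σ h = h) :
    Bc σ !![1, 0, h; k, 0, -(h * k); 0, 1, 0] !![h, -(h * σ k), 0; 0, 0, 1; 1, σ k, 0] := by
  have hS : (!![1, 0, h; k, 0, -(h * k); 0, 1, 0] : Matrix (Fin 3) (Fin 3) F) *
      !![h, -(h * σ k), 0; 0, 0, 1; 1, σ k, 0] = 1 := by
    ext i j
    (revert i j; simp only [Matrix.mul_apply, Fin.sum_univ_three, _root_.Fin.forall_fin_succ, _root_.Matrix.of_apply, _root_.Matrix.cons_val', _root_.Matrix.cons_val_fin_one, Fin.isValue, _root_.Matrix.cons_val_zero, _root_.Matrix.cons_val_one, _root_.Matrix.cons_val, _root_.MulZeroClass.mul_zero, _root_.add_zero, _root_.mul_one, _root_.Matrix.cons_val_succ, _root_.mul_neg, _root_.zero_add, _root_.IsEmpty.forall_iff, _root_.one_mul, _root_.Matrix.one_apply_eq, _root_.neg_add_cancel, Nat.reduceAdd,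 _root_.Fin.succ_zero_eq_one, _root_.ne_eq, _root_.zero_ne_one, _root_.not_false_eq_true, _root_.Matrix.one_apply_ne, _root_.Fin.succ_one_eq_two, Fin.reduceEq, _root_.Fin.succ_ne_zero, _root_.neg_mul, _root_.MulZeroClass.zero_mul, _root_.neg_zero, _root_.and_true, _root_.true_and]) <;> (repeat' with_reducible apply And.intro)
    · linear_combination hh
    · ring
    · linear_combination (-2 * h) * hk + hh
  refine ⟨hS, fun A => ?_⟩
  have e1 : st σ (!![1, 0, h; k, 0, -(h * k); 0, 1, 0] : Matrix (Fin 3) (Fin 3) F) =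
      !![0, -(h * σ k), h; 1, 0, 0; 0, σ k, 1] := by
    rw [st_of]
    ext i j
    (revert i j; simp only [hσh, _root_.Fin.forall_fin_succ, _root_.map_zero, _root_.map_neg, _root_.map_mul, _root_.map_one, _root_.Matrix.of_apply, _root_.Matrix.cons_val', _root_.Matrix.cons_val_fin_one, _root_.implies_true])
  have e2 : st σ (!![h, -(h * σ k), 0; 0, 0, 1; 1, σ k, 0] : Matrix (Fin 3) (Fin 3) F) =
      !![0, 1, 0; k, 0, -(h * k); 1, 0, h] := by
    rw [st_of]
    ext i j
    (revert i j; simp [hσh, hσ2, _root_.Fin.forall_fin_succ])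
  have e3 : st σ A = !![σ (A 2 2), σ (A 1 2), σ (A 0 2); σ (A 2 1), σ (A 1 1), σ (A 0 1);
      σ (A 2 0), σ (A 1 0), σ (A 0 0)] := by
    conv_lhs => rw [Matrix.eta_fin_three A]
    rw [st_of]
  have e4 : (A.map σ)ᵀ = !![σ (A 0 0), σ (A 1 0), σ (A 2 0); σ (A 0 1), σ (A 1 1), σ (A 2 1);
      σ (A 0 2), σ (A 1 2), σ (A 2 2)] := by
    ext i j
    fin_cases i <;> fin_cases j <;> rfl
  rw [st_mul, st_mul, e1, e2, e3, e4]
  ext i j
  (revert i j; simp only [Matrix.mul_apply, Fin.sum_univ_three, _root_.Fin.forall_fin_succ, Fin.isValue, _root_.Matrix.cons_mul, _root_.Nat.succ_eq_add_one, Nat.reduceAdd, _root_.Matrix.vecMul_cons, _root_.Matrix.head_cons, _root_.Matrix.smul_cons, _root_.smul_eq_mul, _root_.MulZeroClass.mul_zero, _root_.mul_one, _root_.Matrix.smul_empty, _root_.Matrix.tail_cons, _root_.mul_neg, _root_.Matrix.empty_vecMul, _root_.add_zero, _root_.Matrix.add_cons, _root_.Matrix.empty_add_empty, _root_.zero_add, _root_.Matrix.empty_mul, _root_.Equiv.symm_apply_apply, _root_.Matrix.of_apply,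 _root_.Matrix.cons_val', _root_.Matrix.cons_val_fin_one, _root_.Matrix.cons_val_zero, _root_.Matrix.cons_val_one, _root_.Matrix.cons_val, _root_.neg_smul, _root_.Matrix.neg_cons, _root_.Matrix.neg_empty, _root_.zero_smul, _root_.one_smul, _root_.Matrix.cons_val_succ, _root_.forall_const, _root_.MulZeroClass.zero_mul, _root_.neg_mul, _root_.one_mul, _root_.true_and]) <;> (repeat' with_reducible apply And.intro) <;> ring

omit [Fintype F] in
/-- powers of `x₀` -/
theorem x₀_pow (h2 : (2 : F) ≠ 0) (n : ℕ) : (x₀ σ) ^ n = uU σ (n : F) (-((n : F) ^ 2) / 2) := by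
  induction n with
  | zero =>
    rw [pow_zero, uU]
    ext i j
    (revert i j; simp only [_root_.Fin.forall_fin_succ, _root_.Nat.cast_zero, _root_.map_zero, _root_.neg_zero, _root_.ne_eq, _root_.OfNat.ofNat_ne_zero, _root_.not_false_eq_true, _root_.zero_pow, _root_.zero_div, _root_.Matrix.of_apply, _root_.Matrix.cons_val', _root_.Matrix.cons_val_fin_one, Fin.isValue, _root_.Matrix.cons_val_zero, _root_.Matrix.cons_val_succ, _root_.IsEmpty.forall_iff, _root_.and_true, _root_.Matrix.one_apply_eq, Nat.reduceAdd, _root_.Fin.succ_zero_eq_one, _root_.zero_ne_one, _root_.Matrix.one_apply_ne, _root_.Fin.succ_one_eq_two, Fin.reduceEq, _root_.and_self, _root_.Fin.succ_ne_zero, _root_.true_and])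
  | succ n ih =>
    rw [pow_succ, ih, x₀, uU_mul, Nat.cast_succ, map_natCast]
    congr 1
    field_simp
    ring

theorem pp_psu_three_six (hF : Fintype.card F = q ^ 2) {p : ℕ} (hp : p.Prime) [CharP F p] (h5 : 5 ≤ p) :
    H494.TC.PP (PSU 3 F q) := by
  have h2 : (2 : F) ≠ 0 := by
    intro h
    have h1 : ((2 : ℕ) : F) = 0 := by exact_mod_cast h
    rw [CharP.cast_eq_zero_iff F p] at h1
    have := Nat.le_of_dvd (by norm_num) h1
    omega
  have h3 : (3 : F) ≠ 0 := by
    intro h
    have h1 : ((3 : ℕ) : F) = 0 := by exact_mod_cast h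
    rw [CharP.cast_eq_zero_iff F p] at h1
    have := Nat.le_of_dvd (by norm_num) h1
    omega
  let σ : F →+* F := (LieClassical.HermBasic.conj hF : F →+* F)
  have hσ : ∀ x, σ x = x ^ q := fun x => LieClassical.HermBasic.conj_apply hF x
  have hσ2 : ∀ x, σ (σ x) = x := fun x => by
    rw [hσ, hσ]; exact LieClassical.HermBasic.pow_q_pow_q hF x
  have hq : 3 ≤ q := by
    have := LieClassical.HermBasic.two_le hF
    by_contra hcon
    have hq2 : q = 2 := by omega
    have : Fact p.Prime := ⟨hp⟩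
    obtain ⟨a, -, ha⟩ := FiniteField.card F p
    rw [hF, hq2] at ha
    have h1 : p ∣ 2 ^ 2 := by rw [ha]; exact dvd_pow_self p a.2.ne'
    have h4 := (Nat.prime_dvd_prime_iff_eq hp Nat.prime_two).1 (hp.dvd_of_dvd_pow h1)
    omega
  obtain ⟨k, hk⟩ := LieClassical.HermBasic.exists_norm_eq hF (c := (-1 : F)) (by
    rw [← hσ, map_neg, map_one])
  rw [← hσ] at hk
  have hσh : σ (2⁻¹ : F) = 2⁻¹ := by rw [map_inv₀, map_ofNat]
  refine pp_of_cover hσ (bc_odd hσ2 hk (mul_inv_cancel₀ h2) hσh) (us_x₀ h2 hσ2) hp h5 ?_ ?_ ?_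
  · rw [x₀_pow h2, CharP.cast_eq_zero, uU]
    ext i j
    (revert i j; simp only [_root_.Fin.forall_fin_succ, _root_.map_zero, _root_.neg_zero, _root_.ne_eq, _root_.OfNat.ofNat_ne_zero, _root_.not_false_eq_true, _root_.zero_pow, _root_.zero_div, _root_.Matrix.of_apply, _root_.Matrix.cons_val', _root_.Matrix.cons_val_fin_one, Fin.isValue, _root_.Matrix.cons_val_zero, _root_.Matrix.cons_val_succ, _root_.IsEmpty.forall_iff, _root_.and_true, _root_.Matrix.one_apply_eq, Nat.reduceAdd, _root_.Fin.succ_zero_eq_one, _root_.zero_ne_one, _root_.Matrix.one_apply_ne, _root_.Fin.succ_one_eq_two, Fin.reduceEq, _root_.and_self, _root_.Fin.succ_ne_zero, _root_.true_and])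
  · refine ⟨wW, us_wW, fun h => ?_⟩
    have h1 := congrFun (congrFun h 0) 0
    rw [x₀, uU, wW] at h1
    simp only [Matrix.mul_apply, Fin.sum_univ_three, _root_.map_one, _root_.Fin.isValue, _root_.Matrix.of_apply, _root_.Matrix.cons_val', _root_.Matrix.cons_val_fin_one, _root_.Matrix.cons_val_zero, _root_.mul_one, _root_.Matrix.cons_val_one, _root_.MulZeroClass.mul_zero, _root_.add_zero, _root_.Matrix.cons_val, _root_.zero_add, _root_.zero_eq_neg, _root_.inv_eq_zero] at h1
    exact h2 h1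
  · intro g hg hs
    exact cover hF hσ hσ2 hq h2 h3 hg hs

end Cfsg.Agent.H3.TC
end

-- part: H3/TC/Tab
section
/-!
# `PP (PSU 3 K q)` from a table (helper3)
-/

set_option autoImplicit false

namespace Cfsg.Agent.H3.TC

open Matrix Cfsg

universe u

/-- powers -/
def M3.npw {K : Type*} [CommRing K] (A : M3 K) (n : ℕ) : M3 K := Nat.rec M3.one (fun _ r => r.mul A) n

theorem M3.toM_npw {K : Type*} [CommRing K] (A : M3 K) (n : ℕ) : (A.npw n).toM = A.toM ^ n := by
  induction n with
  | zero => rw [pow_zero]; exact M3.toM_one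
  | succ n ih =>
    rw [pow_succ, ← ih]
    exact M3.toM_mul _ _

/-- the element `w` -/
def M3.w {K : Type*} [CommRing K] : M3 K := ⟨0, 0, 1, 0, -1, 0, 1, 0, 0⟩

variable {F : Type u} [Field F] [Fintype F] [DecidableEq F] {q : ℕ}

/-- the first entry of a line -/
def hd1 (of : ℕ → F) (t : F) : List ℕ → Bool
  | n :: _ => decide (of n = t)
  | _ => false

/-- the first entry of a line of the second table -/
def hd3 (of : ℕ → F) (t : F) : List ℕ → Bool
  | n :: _ :: _ :: _ => decide (of n = t)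
  | _ => false

/-- **the row from the tables** -/
theorem pp_of_tab (hF : Fintype.card F = q ^ 2) (hq : 3 ≤ q) {k : ℕ} (hk : q + 1 ∣ 3 * k + 1) (s : F → F)
    (hs : ∀ x, s x = x ^ q) (of : ℕ → F) {X : M3 F} {t₀ : F} {LA LB : List (List ℕ)}
    (hX : M3.Ok s t₀ X) (hA : ∀ l ∈ LA, chk1 of s t₀ X l = true) (hB : ∀ l ∈ LB, chk2 of s t₀ l = true)
    (cA : ∀ t : F, LA.any (hd1 of t) = true) (cB : ∀ c : F, c * s c = 1 → LB.any (hd3 of c) = true)
    (hbc : ∀ σ : F →+* F, (∀ x, σ x = x ^ q) → ∃ S P, Bc σ S P)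
    (hiso : ∀ σ : F →+* F, (∀ x, σ x = x ^ q) → ∀ g : Matrix (Fin 3) (Fin 3) F,
      (∀ c : F, g ≠ c • (1 : Matrix (Fin 3) (Fin 3) F)) → ∃ e : Fin 3 → F, Bf σ e e = 0 ∧ Bf σ (g *ᵥ e) e ≠ 0)
    {r : ℕ} (hr : r.Prime) (hr5 : 5 ≤ r) (hXr : X.npw r = M3.one) (hXw : M3.w.mul X ≠ X.mul M3.w) :
    H494.TC.PP (PSU 3 F q) := by
  let σ : F →+* F := (LieClassical.HermBasic.conj hF : F →+* F)
  have hσ : ∀ x, σ x = x ^ q := fun x => LieClassical.HermBasic.conj_apply hF x
  have hσ2 : ∀ x, σ (σ x) = x := fun x => by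
    rw [hσ, hσ]; exact LieClassical.HermBasic.pow_q_pow_q hF x
  have hss : ∀ x, σ x = s x := fun x => by rw [hσ, hs]
  have hs' : (σ : F → F) = s := funext hss
  have hX' : M3.Ok σ t₀ X := by rw [hs']; exact hX
  obtain ⟨S, P, hSP⟩ := hbc σ hσ
  refine pp_of_cover hσ hSP hX'.us hr hr5 ?_ ?_ ?_
  · rw [← M3.toM_npw, hXr, M3.toM_one]
  · refine ⟨wW, us_wW, fun h => hXw ?_⟩
    have h1 : wW = (M3.w : M3 F).toM := rfl
    rw [h1, ← M3.toM_mul, ← M3.toM_mul] at h
    have h2 : ∀ A B : M3 F, A.toM = B.toM → A = B := by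
      intro A B hAB
      have e := fun i j => congrFun (congrFun hAB i) j
      cases A
      cases B
      have e00 := e 0 0
      have e01 := e 0 1
      have e02 := e 0 2
      have e10 := e 1 0
      have e11 := e 1 1
      have e12 := e 1 2
      have e20 := e 2 0
      have e21 := e 2 1
      have e22 := e 2 2
      simp only [M3.toM] at e00 e01 e02 e10 e11 e12 e20 e21 e22
      simp at e00 e01 e02 e10 e11 e12 e20 e21 e22
      simp [e00, e01, e02, e10, e11, e12, e20, e21, e22]
    exact h2 _ _ h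
  · intro g hg hgs
    refine ⟨1, one_pow 3, by rw [map_one, one_mul], ?_⟩
    rw [one_smul]
    refine cover_tab hF hσ hσ2 hq hk (hiso σ hσ) hX' (t1_of of s hss hA ?_) (t2_of of s hss hB ?_) hg hgs
    · intro t
      obtain ⟨l, hl, hlt⟩ := List.any_eq_true.1 (cA t)
      rcases l with _ | ⟨n, l⟩
      · cases hlt
      · exact ⟨n, l, hl, of_decide_eq_true hlt⟩
    · intro c hc
      obtain ⟨l, hl, hlt⟩ := List.any_eq_true.1 (cB c hc)
      rcases l with _ | ⟨n, _ | ⟨β, _ | ⟨b', l⟩⟩⟩
      · cases hlt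
      · cases hlt
      · cases hlt
      · exact ⟨n, β, b', l, hl, of_decide_eq_true hlt⟩

omit [DecidableEq F] in
/-- the basis change in odd characteristic -/
theorem exists_bc (hF : Fintype.card F = q ^ 2) (h2 : (2 : F) ≠ 0) (σ : F →+* F) (hσ : ∀ x, σ x = x ^ q) :
    ∃ S P, Bc σ S P := by
  have hσ2 : ∀ x, σ (σ x) = x := fun x => by
    rw [hσ, hσ]; exact LieClassical.HermBasic.pow_q_pow_q hF x
  obtain ⟨k, hk⟩ := LieClassical.HermBasic.exists_norm_eq hF (c := (-1 : F)) (by
    rw [← hσ, map_neg, map_one])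
  rw [← hσ] at hk
  have hσh : σ (2⁻¹ : F) = 2⁻¹ := by rw [map_inv₀, map_ofNat]
  exact ⟨_, _, bc_odd hσ2 hk (mul_inv_cancel₀ h2) hσh⟩

omit [DecidableEq F] in
theorem iso_odd (hF : Fintype.card F = q ^ 2) (h2 : (2 : F) ≠ 0) (σ : F →+* F) (hσ : ∀ x, σ x = x ^ q)
    (g : Matrix (Fin 3) (Fin 3) F) (hs : ∀ c : F, g ≠ c • (1 : Matrix (Fin 3) (Fin 3) F)) :
    ∃ e : Fin 3 → F, Bf σ e e = 0 ∧ Bf σ (g *ᵥ e) e ≠ 0 := by
  obtain ⟨δ, hδ0, hδ⟩ := LieClassical.HermBasic.exists_trace_zero_ne hF
  rw [← hσ] at hδ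
  exact exists_iso h2 hδ0 (by linear_combination hδ) hs

end Cfsg.Agent.H3.TC
end

private theorem dce_51f3bec052aa : _root_.True := by
  try have : _root_.True := by simp only [_root_.Cfsg.Agent.H3.TC.Bf.eq_1]
  try have : _root_.True := by simp only [_root_.Cfsg.Agent.H3.TC.NF.eq_1]
  try have : _root_.True := by simp only [_root_.Cfsg.Agent.H3.TC.chk1.eq_2]
  try have : _root_.True := by simp only [_root_.Cfsg.Agent.H3.TC.M3.kr.eq_1]
  try have : _root_.True := by simp only [_root_.Cfsg.Agent.H3.TC.chk2.eq_1]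
  try have : _root_.True := by simp only [_root_.Cfsg.Agent.H3.TC.Kr.eq_1]
  try have : _root_.True := by simp only [_root_.Cfsg.Agent.H3.TC.M3.toM.eq_1]
  try have : _root_.True := by simp only [_root_.Cfsg.Agent.H3.TC.dT.eq_1]
  try have : _root_.True := by simp only [_root_.Cfsg.Agent.H3.TC.uU.eq_1]
  try have : _root_.True := by simp only [_root_.Cfsg.Agent.H3.TC.e2.eq_1]
  try have : _root_.True := by simp only [_root_.Cfsg.Agent.H3.TC.x₀.eq_1]
  try have : _root_.True := by simp only [_root_.Cfsg.Agent.H3.TC.vL.eq_1]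
  try have : _root_.True := by simp only [_root_.Cfsg.Agent.H3.TC.M3.one.eq_1]
  try have : _root_.True := by simp only [_root_.Cfsg.Agent.H3.TC.mk9._sparseCasesOn_1.else_eq]
  try have : _root_.True := by simp only [_root_.Cfsg.Agent.H3.TC.chk1.eq_1]
  try have : _root_.True := by simp only [_root_.Cfsg.Agent.H3.TC.wW.eq_1]
  try have : _root_.True := by simp only [_root_.Cfsg.Agent.H3.TC.chk1.congr_simp]
  try have : _root_.True := by simp only [_root_.Cfsg.Agent.H3.TC.chk2.eq_2]
  try have : _root_.True := by simp only [_root_.Cfsg.Agent.H3.TC.M3.det.eq_1]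
  try have : _root_.True := by simp only [_root_.Cfsg.Agent.H3.TC.M3.tr.eq_1]
  try have : _root_.True := by simp only [_root_.Cfsg.Agent.H3.TC.M3.mul.eq_1]
  try have : _root_.True := by simp only [_root_.Cfsg.Agent.H3.TC.chk2.congr_simp]
  try have : _root_.True := by simp only [_root_.Cfsg.Agent.H3.TC.Co.eq_1]
  exact _root_.True.intro
end

-- part: H885/FT/Eng
section
prune_inst 0x52060405940100000188580112006644e0005200000000058a10e40078f3602a9c00861fcb01d135a2a2045003c000000100020400041c0402000000118008008081404c0c94088a00010003200405000089100000000000000800000041004008008000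
set_option linter.all false
open scoped Cfsg.Agent.FastGrp

-- part: H885/FT/Avg
section
/-!
# The class product sum is constant along the powers (S2464, F4(3), helper885)

* `pw` : the Galois conjugate of an irreducible character;
* `SS x y g` : `∑ χ(x) χ(y) conj χ(g) / χ(1)`;
* `SS_avg` : for `x`, `y` of exact prime orders `p`, `r`, `g` of order prime to `p`, `r`: `SS x y g = ∑ A_χ B_χ conj χ(g) / χ(1)` where
  `A_χ`, `B_χ` are the means over the nontrivial powers of `x`, `y`;
* `sum_av_sq` : `∑ ‖A_χ‖² = e c / (p - 1)`.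
-/

set_option autoImplicit false

namespace Cfsg.Agent.H885.FT

open Cfsg Cfsg.Agent.Characters Subgroup Cfsg.Agent.H65.Ore
open scoped ComplexConjugate

universe u

variable {G : Type u} [Group G]

/-- the mean of `χ` over the nontrivial powers -/
noncomputable def av (p : ℕ) (x : G) (χ : IrrCharacter G) : ℂ :=
  (∑ i ∈ Finset.Ico 1 p, (χ : G → ℂ) (x ^ i)) / ((p : ℂ) - 1)

variable [Finite G]

/-- The Galois conjugate. -/
def pw {m : ℕ} (hm : m.Coprime (Nat.card G)) (χ : IrrCharacter G) : IrrCharacter G :=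
  ⟨fun g => (χ : G → ℂ) (g ^ m), Cfsg.Agent.Characters.GaloisIrr.isIrr_pow hm χ.2⟩

theorem pw_apply {m : ℕ} (hm : m.Coprime (Nat.card G)) (χ : IrrCharacter G) (g : G) :
    (pw hm χ : G → ℂ) g = (χ : G → ℂ) (g ^ m) := rfl

theorem pw_bij {m : ℕ} (hm : m.Coprime (Nat.card G)) :
    Function.Bijective (pw hm : IrrCharacter G → IrrCharacter G) := by
  have := Core.finite_irr (G := G)
  refine Finite.injective_iff_bijective.1 ?_
  intro χ ψ h
  refine Subtype.ext (funext fun g => ?_)
  obtain ⟨x, rfl⟩ := (powCoprime hm.symm).surjective g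
  exact congrFun (congrArg Subtype.val h) x

/-- the structure sum -/
noncomputable def SS [Fintype (IrrCharacter G)] (x y g : G) : ℂ :=
  ∑ χ : IrrCharacter G, (χ : G → ℂ) x * (χ : G → ℂ) y * conj ((χ : G → ℂ) g) / (χ : G → ℂ) 1

theorem SS_pow [Fintype (IrrCharacter G)] {m : ℕ} (hm : m.Coprime (Nat.card G)) (x y g : G) :
    SS (x ^ m) (y ^ m) (g ^ m) = SS x y g := by
  unfold SS
  rw [← Function.Bijective.sum_comp (pw_bij hm)
    (fun χ : IrrCharacter G => (χ : G → ℂ) x * (χ : G → ℂ) y * conj ((χ : G → ℂ) g) / (χ : G → ℂ) 1)]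
  refine Finset.sum_congr rfl fun χ _ => ?_
  rw [pw_apply, pw_apply, pw_apply, pw_apply, one_pow]

theorem exists_exp {p n i : ℕ} (hp : p.Prime) (hn : ¬ p ∣ n) (hi : i ∈ Finset.Ico 1 p) :
    ∃ m : ℕ, m.Coprime (p * n) ∧ m ≡ i [MOD p] ∧ m ≡ 1 [MOD n] := by
  rw [Finset.mem_Ico] at hi
  obtain ⟨m, h1, h2⟩ := Nat.chineseRemainder ((hp.coprime_iff_not_dvd).2 hn) i 1
  refine ⟨m, Nat.Coprime.mul_right ?_ ?_, h1, h2⟩
  · have h3 : Nat.gcd m p = Nat.gcd i p := h1.gcd_eq
    have h4 : Nat.gcd i p = 1 := Nat.Coprime.symm (Nat.coprime_of_lt_prime (by omega) hi.2 hp)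
    rw [Nat.Coprime, h3, h4]
  · have h3 : Nat.gcd m n = Nat.gcd 1 n := h2.gcd_eq
    rw [Nat.Coprime, h3, Nat.gcd_one_left]

theorem SS_left [Fintype (IrrCharacter G)] {p n i : ℕ} (hp : p.Prime) (hn : ¬ p ∣ n) (hG : Nat.card G = p * n)
    (hi : i ∈ Finset.Ico 1 p) {x y g : G} (hx : orderOf x = p) (hy : orderOf y ∣ n) (hg : orderOf g ∣ n) :
    SS (x ^ i) y g = SS x y g := by
  obtain ⟨m, hm, h1, h2⟩ := exists_exp hp hn hi
  rw [← hG] at hm
  have h3 : x ^ m = x ^ i := pow_eq_pow_iff_modEq.2 (by rw [hx]; exact h1)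
  have h4 : ∀ z : G, orderOf z ∣ n → z ^ m = z := by
    intro z hz
    conv_rhs => rw [← pow_one z]
    exact pow_eq_pow_iff_modEq.2 (h2.of_dvd hz)
  have h5 := SS_pow hm x y g
  rwa [h3, h4 y hy, h4 g hg] at h5

theorem SS_comm [Fintype (IrrCharacter G)] (x y g : G) : SS x y g = SS y x g := by
  unfold SS
  exact Finset.sum_congr rfl fun χ _ => by rw [mul_comm ((χ : G → ℂ) x)]

theorem SS_avg [Fintype (IrrCharacter G)] {p n r n' : ℕ} (hp : p.Prime) (hn : ¬ p ∣ n) (hG : Nat.card G = p * n)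
    (hr : r.Prime) (hn' : ¬ r ∣ n') (hG' : Nat.card G = r * n')
    {x y g : G} (hx : orderOf x = p) (hy : orderOf y = r) (hpr : p ≠ r) (hg : ¬ p ∣ orderOf g)
    (hg' : ¬ r ∣ orderOf g) :
    SS x y g = ∑ χ : IrrCharacter G, av p x χ * av r y χ * (conj ((χ : G → ℂ) g) / (χ : G → ℂ) 1) := by
  have hdvd : ∀ {s k : ℕ}, s.Prime → Nat.card G = s * k → ∀ z : G, ¬ s ∣ orderOf z → orderOf z ∣ k := by
    intro s k hs hk z hz
    have h1 : orderOf z ∣ s * k := by rw [← hk]; exact _root_.orderOf_dvd_natCard z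
    exact (Nat.Coprime.symm ((hs.coprime_iff_not_dvd).2 hz)).dvd_of_dvd_mul_left h1
  have hyn : orderOf y ∣ n := hdvd hp hG y (by
    rw [hy]; exact fun h => hpr ((Nat.prime_dvd_prime_iff_eq hp hr).1 h))
  have hxn : orderOf x ∣ n' := hdvd hr hG' x (by
    rw [hx]; exact fun h => hpr ((Nat.prime_dvd_prime_iff_eq hr hp).1 h).symm)
  have hgn := hdvd hp hG g hg
  have hgn' := hdvd hr hG' g hg'
  have h1 : ∀ i ∈ Finset.Ico 1 p, ∀ j ∈ Finset.Ico 1 r, SS (x ^ i) (y ^ j) g = SS x y g := by
    intro i hi j hj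
    rw [SS_comm, SS_left hr hn' hG' hj hy ((orderOf_pow_dvd i).trans hxn) hgn', SS_comm,
      SS_left hp hn hG hi hx hyn hgn]
  have hp1 : ((p : ℂ) - 1) ≠ 0 := by
    rw [sub_ne_zero]; exact_mod_cast hp.one_lt.ne'
  have hr1 : ((r : ℂ) - 1) ≠ 0 := by
    rw [sub_ne_zero]; exact_mod_cast hr.one_lt.ne'
  have h2 : ∑ i ∈ Finset.Ico 1 p, ∑ j ∈ Finset.Ico 1 r, SS (x ^ i) (y ^ j) g = ((p : ℂ) - 1) * ((r : ℂ) - 1) * SS x y g := by
    rw [Finset.sum_congr rfl fun i hi => Finset.sum_congr rfl fun j hj => h1 i hi j hj]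
    simp only [Finset.sum_const, Nat.card_Ico, nsmul_eq_mul]
    rw [Nat.cast_sub hp.one_le, Nat.cast_sub hr.one_le]
    push_cast
    ring
  have h3 : ∑ i ∈ Finset.Ico 1 p, ∑ j ∈ Finset.Ico 1 r, SS (x ^ i) (y ^ j) g =
      ∑ χ : IrrCharacter G, (∑ i ∈ Finset.Ico 1 p, (χ : G → ℂ) (x ^ i)) * (∑ j ∈ Finset.Ico 1 r, (χ : G → ℂ) (y ^ j)) *
        (conj ((χ : G → ℂ) g) / (χ : G → ℂ) 1) := by
    unfold SS
    rw [Finset.sum_congr rfl fun i _ => Finset.sum_comm, Finset.sum_comm]
    refine Finset.sum_congr rfl fun χ _ => ?_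
    rw [Finset.sum_mul_sum, Finset.sum_mul]
    refine Finset.sum_congr rfl fun i _ => ?_
    rw [Finset.sum_mul]
    refine Finset.sum_congr rfl fun j _ => ?_
    ring
  rw [h3] at h2
  have h4 : SS x y g = (((p : ℂ) - 1) * ((r : ℂ) - 1))⁻¹ * (((p : ℂ) - 1) * ((r : ℂ) - 1) * SS x y g) := by
    rw [← mul_assoc, inv_mul_cancel₀ (mul_ne_zero hp1 hr1), one_mul]
  rw [h4, ← h2, Finset.mul_sum]
  refine Finset.sum_congr rfl fun χ _ => ?_
  unfold av
  field_simp

open Classical in
/-- **The energy of the means.** -/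
theorem sum_av_sq [Fintype (IrrCharacter G)] {p : ℕ} (hp : p.Prime) {x : G} {e c : ℕ}
    (he : ∀ j ∈ Finset.Ico 1 p, ((Finset.Ico 1 p).filter fun i => IsConj (x ^ i) (x ^ j)).card = e)
    (hc : ∀ j ∈ Finset.Ico 1 p, Nat.card (centralizer ({x ^ j} : Set G)) = c) :
    ∑ χ : IrrCharacter G, ‖av p x χ‖ ^ 2 = e * c / ((p : ℝ) - 1) := by
  have hp1 : ((p : ℝ) - 1) ≠ 0 := by
    rw [sub_ne_zero]; exact_mod_cast hp.one_lt.ne'
  have h1 : ∑ χ : IrrCharacter G, (∑ i ∈ Finset.Ico 1 p, (χ : G → ℂ) (x ^ i)) *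
      conj (∑ j ∈ Finset.Ico 1 p, (χ : G → ℂ) (x ^ j)) = ((p : ℂ) - 1) * (e * c) := by
    have h2 : ∀ χ : IrrCharacter G, (∑ i ∈ Finset.Ico 1 p, (χ : G → ℂ) (x ^ i)) *
        conj (∑ j ∈ Finset.Ico 1 p, (χ : G → ℂ) (x ^ j)) =
        ∑ j ∈ Finset.Ico 1 p, ∑ i ∈ Finset.Ico 1 p, (χ : G → ℂ) (x ^ i) * conj ((χ : G → ℂ) (x ^ j)) := by
      intro χ
      rw [map_sum, Finset.sum_mul_sum, Finset.sum_comm]
    rw [Finset.sum_congr rfl fun χ _ => h2 χ, Finset.sum_comm]
    have h3 : ∀ j ∈ Finset.Ico 1 p, ∑ χ : IrrCharacter G, ∑ i ∈ Finset.Ico 1 p,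
        (χ : G → ℂ) (x ^ i) * conj ((χ : G → ℂ) (x ^ j)) = e * c := by
      intro j hj
      rw [Finset.sum_comm]
      rw [Finset.sum_congr rfl fun i _ => H686.CharKit.col_orth (x ^ i) (x ^ j), hc j hj, ← Finset.sum_filter,
        Finset.sum_const, he j hj, nsmul_eq_mul]
    rw [Finset.sum_congr rfl h3, Finset.sum_const, Nat.card_Ico, nsmul_eq_mul, Nat.cast_sub hp.one_le]
    push_cast
    ring
  have h4 : ∀ χ : IrrCharacter G, ((‖av p x χ‖ ^ 2 : ℝ) : ℂ) = (((p : ℂ) - 1) ^ 2)⁻¹ *
      ((∑ i ∈ Finset.Ico 1 p, (χ : G → ℂ) (x ^ i)) * conj (∑ j ∈ Finset.Ico 1 p, (χ : G → ℂ) (x ^ j))) := by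
    intro χ
    rw [Complex.mul_conj, ← Complex.normSq_eq_norm_sq, av, Complex.normSq_div]
    have h5 : Complex.normSq ((p : ℂ) - 1) = ((p : ℝ) - 1) ^ 2 := by
      rw [show ((p : ℂ) - 1) = (((p : ℝ) - 1 : ℝ) : ℂ) by push_cast; ring, Complex.normSq_ofReal, sq]
    rw [h5]
    push_cast
    rw [div_eq_inv_mul]
  have h6 : ((∑ χ : IrrCharacter G, ‖av p x χ‖ ^ 2 : ℝ) : ℂ) = ((e * c / ((p : ℝ) - 1) : ℝ) : ℂ) := by
    rw [Complex.ofReal_sum, Finset.sum_congr rfl fun χ _ => h4 χ, ← Finset.mul_sum, h1]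
    have hp2 : ((p : ℂ) - 1) ≠ 0 := by
      rw [sub_ne_zero]; exact_mod_cast hp.one_lt.ne'
    push_cast
    field_simp
  exact_mod_cast h6

end Cfsg.Agent.H885.FT
end

-- part: H885/FT/Cnt
section
/-!
# Conjugate powers of an element of exact prime order (S2464, F4(3), helper885)

* `card_conj_pow` : `#{i : x^i ~ x^j} = e`, `e = (|G| / |C(x)|) mod p`;
* `card_cent_pow` : the powers have the same centralizer;
* `norm_av_le` : `‖A_χ‖ ≤ 1` for a self-centralizing exact prime.
-/

set_option autoImplicit false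

namespace Cfsg.Agent.H885.FT

open Cfsg Cfsg.Agent.Characters Subgroup Cfsg.Agent.H65.Ore
open Cfsg.Agent.SmallSimple.PrimeLocal
open scoped ComplexConjugate

universe u

variable {G : Type u} [Group G]

/-- the fibre of the conjugation map -/
def fibEquiv (g0 z : G) : {g : G // g * z * g⁻¹ = g0 * z * g0⁻¹} ≃ centralizer ({z} : Set G) where
  toFun g := ⟨g0⁻¹ * g, by
    rw [mem_centralizer_singleton_iff]
    have h := g.2
    calc g0⁻¹ * g * z = g0⁻¹ * (g * z * (g : G)⁻¹) * g := by group
      _ = g0⁻¹ * (g0 * z * g0⁻¹) * g := by rw [h]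
      _ = z * (g0⁻¹ * g) := by group⟩
  invFun c := ⟨g0 * c, by
    have h := mem_centralizer_singleton_iff.1 c.2
    calc g0 * c * z * (g0 * (c : G))⁻¹ = g0 * (c * z) * (c : G)⁻¹ * g0⁻¹ := by group
      _ = g0 * (z * c) * (c : G)⁻¹ * g0⁻¹ := by rw [h]
      _ = g0 * z * g0⁻¹ := by group⟩
  left_inv g := Subtype.ext (by simp)
  right_inv c := Subtype.ext (by simp)

theorem pow_ne_one_of_mem {p : ℕ} {x : G} (hx : orderOf x = p) {j : ℕ} (hj : j ∈ Finset.Ico 1 p) : x ^ j ≠ 1 := by
  rw [Finset.mem_Ico] at hj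
  intro h
  have := orderOf_le_of_pow_eq_one (by omega) h
  omega

theorem centralizer_pow_eq {p : ℕ} (hp : p.Prime) {x : G} (hx : orderOf x = p) {j : ℕ} (hj : j ∈ Finset.Ico 1 p) :
    centralizer ({x ^ j} : Set G) = centralizer ({x} : Set G) := by
  rw [Finset.mem_Ico] at hj
  apply le_antisymm
  · intro g hg
    rw [mem_centralizer_singleton_iff] at hg ⊢
    have h1 : Nat.Coprime j p := Nat.Coprime.symm (Nat.coprime_of_lt_prime (by omega) hj.2 hp)
    obtain ⟨m, hm⟩ := Nat.exists_mul_mod_eq_one_of_coprime h1 hp.one_lt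
    have h2 : (x ^ j) ^ m = x := by
      rw [← pow_mul]
      conv_rhs => rw [← pow_one x]
      exact pow_eq_pow_iff_modEq.2 (by rw [hx]; exact hm.2.trans (Nat.mod_eq_of_lt hp.one_lt).symm)
    have h3 : Commute g (x ^ j) := hg
    have h4 := h3.pow_right m
    rw [h2] at h4
    exact h4
  · intro g hg
    rw [mem_centralizer_singleton_iff] at hg ⊢
    have h3 : Commute g x := hg
    exact h3.pow_right j

variable [Finite G]

open Classical in
/-- **The number of conjugate powers.** -/
theorem card_conj_pow [IsSimpleGroup G] (hG : ¬ IsMulCommutative G) {p : ℕ} (hp : p.Prime) {N c e : ℕ}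
    (hN : Nat.card G = N) {x : G} (hx : orderOf x = p) (hc : Nat.card (centralizer ({x} : Set G)) = c)
    (hN0 : N % p = 0) (hN1 : N % p ^ 2 ≠ 0) (he : N / c % p = e) :
    ∀ j ∈ Finset.Ico 1 p, ((Finset.Ico 1 p).filter fun i => IsConj (x ^ i) (x ^ j)).card = e := by
  have : Fact p.Prime := ⟨hp⟩
  have := Fintype.ofFinite G
  have h1 : p ∣ Nat.card G := by rw [hN]; exact Nat.dvd_of_mod_eq_zero hN0
  have h2 : ¬ p ^ 2 ∣ Nat.card G := by
    rw [hN]; exact fun h => hN1 (Nat.mod_eq_zero_of_dvd h)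
  have hpg : IsPGroup p (zpowers x) := IsPGroup.of_card (n := 1) (by rw [Nat.card_zpowers, hx, pow_one])
  obtain ⟨P, hxP⟩ := hpg.exists_le_sylow
  have hP : Nat.card P = p := card_of_not_sq_dvd h1 h2 P
  have hPx : (P : Subgroup G) = zpowers x := by
    have h3 : Nat.card (zpowers x) = Nat.card (P : Subgroup G) := by rw [Nat.card_zpowers, hx]; exact hP.symm
    exact (Subgroup.eq_of_le_of_card_ge hxP h3.ge).symm
  obtain ⟨e', K, hL⟩ := exists_local hG h1 h2 P
  have hCx : centralizer ((P : Subgroup G) : Set G) = centralizer ({x} : Set G) := by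
    rw [hPx, SmallSimple.SelfCentPrime.centralizer_zpowers]
  have hcK : c = p * Nat.card K := by
    rw [← hc, ← hCx]; exact hL.card_centralizer
  have hc0 : 0 < c := by rw [← hc]; exact Nat.card_pos
  have hNc : Nat.card (normalizer ((P : Subgroup G) : Set G)) = e' * c := by
    rw [hcK]; have := hL.card_normalizer; rw [show (P : Set G) = ((P : Subgroup G) : Set G) from rfl] at this
    rw [this]; ring
  have hee : e' = e := by
    have hlt : e' < p := by
      have := Nat.le_of_dvd (by have := hp.two_le; omega) hL.dvd_pred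
      have := hp.two_le
      omega
    have hce := hL.card_eq
    rw [hN] at hce
    have h4 : N / c = Nat.card (Sylow p G) * e' := by
      rw [hce, hcK]
      rw [show Nat.card (Sylow p G) * (p * e' * Nat.card K) = Nat.card (Sylow p G) * e' * (p * Nat.card K) by ring]
      exact Nat.mul_div_cancel _ (by rw [← hcK]; exact hc0)
    have h6 : Nat.card (Sylow p G) ≡ 1 [MOD p] := card_sylow_modEq_one p G
    have h7 : N / c % p = e' := by
      rw [h4]
      have h8 := h6.mul_right e'
      rw [one_mul] at h8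
      rw [show Nat.card (Sylow p G) * e' % p = e' % p from h8, Nat.mod_eq_of_lt hlt]
    rw [← he, h7]
  subst hee
  intro j hj
  set z := x ^ j with hz
  have hz1 : z ≠ 1 := pow_ne_one_of_mem hx hj
  have hzP : z ∈ (P : Subgroup G) := by rw [hPx]; exact pow_mem (mem_zpowers x) j
  have hcz : Nat.card (centralizer ({z} : Set G)) = c := by rw [hz, centralizer_pow_eq hp hx hj, hc]
  -- elements of the normalizer
  have hnorm : ∀ g : G, g * z * g⁻¹ ∈ (P : Subgroup G) ↔ g ∈ normalizer ((P : Subgroup G) : Set G) := by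
    intro g
    constructor
    · intro h
      have h3 : (P : Subgroup G) = zpowers z := (zpowers_eq (P := (P : Subgroup G)) hP hzP hz1).symm
      have h5 : g * z * g⁻¹ ≠ 1 := by
        intro h6
        apply hz1
        have : z = g⁻¹ * (g * z * g⁻¹) * g := by group
        rw [this, h6]; group
      have h4 : (P : Subgroup G) = zpowers (g * z * g⁻¹) := (zpowers_eq (P := (P : Subgroup G)) hP h h5).symm
      rw [mem_normalizer_iff]
      intro w
      have hfwd : ∀ w ∈ (P : Subgroup G), g * w * g⁻¹ ∈ (P : Subgroup G) := by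
        intro w hw
        rw [h3] at hw
        obtain ⟨k, rfl⟩ := mem_zpowers_iff.1 hw
        have : g * z ^ k * g⁻¹ = (g * z * g⁻¹) ^ k := by rw [conj_zpow]
        rw [this]
        exact zpow_mem h k
      refine ⟨hfwd w, fun hw => ?_⟩
      rw [h4] at hw
      obtain ⟨k, hk⟩ := mem_zpowers_iff.1 hw
      have h6 : w = z ^ k := by
        have h7 : g * w * g⁻¹ = g * z ^ k * g⁻¹ := by rw [← hk, conj_zpow]
        exact mul_left_cancel (mul_right_cancel h7)
      rw [h6]
      exact zpow_mem hzP k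
    · intro h
      exact (mem_normalizer_iff.1 h z).1 hzP
  have hcount : (Finset.univ.filter fun g : G => g * z * g⁻¹ ∈ (P : Subgroup G)).card = e' * c := by
    rw [← hNc, Nat.card_eq_fintype_card, Fintype.card_subtype]
    congr 1
    ext g
    simp only [Finset.mem_filter, Finset.mem_univ, true_and]
    exact hnorm g
  have hmaps : ∀ g ∈ (Finset.univ.filter fun g : G => g * z * g⁻¹ ∈ (P : Subgroup G)),
      ∃ i ∈ (Finset.Ico 1 p).filter (fun i => IsConj (x ^ i) z), x ^ i = g * z * g⁻¹ := by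
    intro g hg
    rw [Finset.mem_filter] at hg
    have hg := hg.2
    rw [hPx] at hg
    have h3 := (mem_zpowers_iff_mem_range_orderOf (x := x) (y := g * z * g⁻¹)).1 hg
    rw [Finset.mem_image] at h3
    obtain ⟨i, hi, hi'⟩ := h3
    rw [Finset.mem_range, hx] at hi
    refine ⟨i, ?_, hi'⟩
    rw [Finset.mem_filter, Finset.mem_Ico]
    refine ⟨⟨?_, hi⟩, ?_⟩
    · by_contra h0
      have h4 : i = 0 := by omega
      rw [h4, pow_zero] at hi'
      apply hz1
      have : z = g⁻¹ * (g * z * g⁻¹) * g := by group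
      rw [this, ← hi']; group
    · exact (isConj_iff.2 ⟨g, hi'.symm⟩).symm
  have hfib : ∀ i ∈ (Finset.Ico 1 p).filter (fun i => IsConj (x ^ i) z),
      (Finset.univ.filter fun g : G => g * z * g⁻¹ = x ^ i).card = c := by
    intro i hi
    rw [Finset.mem_filter] at hi
    obtain ⟨g0, hg0⟩ := isConj_iff.1 hi.2.symm
    rw [← hg0, ← Fintype.card_subtype, ← Nat.card_eq_fintype_card, Nat.card_congr (fibEquiv g0 z), hcz]
  have hsum : (Finset.univ.filter fun g : G => g * z * g⁻¹ ∈ (P : Subgroup G)).card =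
      ∑ i ∈ (Finset.Ico 1 p).filter (fun i => IsConj (x ^ i) z),
        (Finset.univ.filter fun g : G => g * z * g⁻¹ = x ^ i).card := by
    rw [← Finset.card_biUnion]
    · congr 1
      ext g
      rw [Finset.mem_biUnion]
      constructor
      · intro hg
        obtain ⟨i, hi, hi'⟩ := hmaps g hg
        exact ⟨i, hi, by rw [Finset.mem_filter]; exact ⟨Finset.mem_univ _, hi'.symm⟩⟩
      · rintro ⟨i, -, hi'⟩
        rw [Finset.mem_filter] at hi' ⊢
        refine ⟨Finset.mem_univ _, ?_⟩
        rw [hi'.2, hPx]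
        exact pow_mem (mem_zpowers x) i
    · intro i hi k hk hik
      rw [Function.onFun, Finset.disjoint_left]
      intro g hg hg'
      rw [Finset.mem_filter] at hg hg'
      rw [Finset.mem_coe, Finset.mem_filter, Finset.mem_Ico] at hi hk
      apply hik
      have h3 : x ^ i = x ^ k := hg.2.symm.trans hg'.2
      have h4 := pow_eq_pow_iff_modEq.1 h3
      rw [hx] at h4
      have h5 : i % p = k % p := h4
      rwa [Nat.mod_eq_of_lt hi.1.2, Nat.mod_eq_of_lt hk.1.2] at h5
  rw [hcount, Finset.sum_congr rfl hfib, Finset.sum_const, smul_eq_mul] at hsum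
  convert (Nat.eq_of_mul_eq_mul_right hc0 hsum).symm

theorem card_cent_pow {p : ℕ} (hp : p.Prime) {c : ℕ} {x : G} (hx : orderOf x = p)
    (hc : Nat.card (centralizer ({x} : Set G)) = c) :
    ∀ j ∈ Finset.Ico 1 p, Nat.card (centralizer ({x ^ j} : Set G)) = c := by
  intro j hj
  rw [centralizer_pow_eq hp hx hj, hc]

theorem sum_root {p : ℕ} (hp : p.Prime) {a : ℂ} (ha : a ^ p = 1) (ha1 : a ≠ 1) :
    ∑ i ∈ Finset.Ico 1 p, a ^ i = -1 := by
  have h1 := geom_sum_eq ha1 p
  rw [ha, sub_self, zero_div, Finset.range_eq_Ico, Finset.sum_eq_sum_Ico_succ_bot hp.pos, pow_zero] at h1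
  linear_combination h1

/-- **The means of a self-centralizing exact prime are at most `1`.** -/
theorem norm_av_le [IsSimpleGroup G] (hG : ¬ IsMulCommutative G) {p : ℕ} (hp : p.Prime) {N : ℕ}
    (hN : Nat.card G = N) {x : G} (hx : orderOf x = p) (hc : Nat.card (centralizer ({x} : Set G)) = p)
    (e t S : ℕ) (hnum : chkSC N p e t S = true) (χ : IrrCharacter G) : ‖av p x χ‖ ≤ 1 := by
  classical
  have : Fact p.Prime := ⟨hp⟩
  obtain ⟨hp2, ht, -, he0, P, hP, hC, hrel, hconj⟩ := setup hG hp hN hx hc e t S hnum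
  obtain ⟨NE, X, ε, d, T, hdis, hNE, hX, hε, hd, hone, hv, hvX, hXd, hreg, hz⟩ :=
    SmallSimple.TheoremBCor.theoremB_selfCent p hp2 P hP hC e t hrel ht
  obtain ⟨z, hzP, hz1, hxz⟩ := hconj x hx
  have hzo : orderOf z = p := by
    have h3 := SmallSimple.SelfCentPrime.centralizer_zpowers z
    exact orderOf_eq_prime (by
      have h4 : z ^ Nat.card P = 1 := by
        have h5 : (⟨z, hzP⟩ : P) ^ Nat.card P = 1 := pow_card_eq_one'
        have h6 := congrArg (Subtype.val) h5
        simpa only [_root_.SubmonoidClass.mk_pow, _root_.OneMemClass.coe_one] using h6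
      rwa [hP] at h4) hz1
  have hpr : ((p : ℂ) - 1) ≠ 0 := by
    rw [sub_ne_zero]; exact_mod_cast hp.one_lt.ne'
  have hval : ∀ i, (χ : G → ℂ) (x ^ i) = (χ : G → ℂ) (z ^ i) := by
    intro i
    obtain ⟨g, rfl⟩ := isConj_iff.1 hxz
    rw [conj_pow]
    exact (Core.isIrr_isClassFunction χ.2 (x ^ i) g).symm
  have hzi : ∀ i ∈ Finset.Ico 1 p, z ^ i ∈ (P : Subgroup G) ∧ z ^ i ≠ 1 := fun i hi =>
    ⟨pow_mem hzP i, pow_ne_one_of_mem hzo hi⟩
  unfold av
  simp only [hval]
  by_cases h1 : χ ∈ NE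
  · rw [Finset.sum_congr rfl fun i hi => hv χ h1 (z ^ i) (hzi i hi).1 (hzi i hi).2, Finset.sum_const, Nat.card_Ico,
      nsmul_eq_mul, Nat.cast_sub hp.one_le, Nat.cast_one, mul_div_assoc, mul_comm, div_mul_cancel₀ _ hpr]
    rcases hε χ h1 with h | h <;> rw [h] <;> simp
  by_cases h2 : χ ∈ X
  · obtain ⟨hSc, hS1, hSv⟩ := hvX χ h2
    have h3 : ∀ i ∈ Finset.Ico 1 p, (χ : G → ℂ) (z ^ i) = d * ∑ l ∈ T χ, ((l ⟨z, hzP⟩ : ℂˣ) : ℂ) ^ i := by
      intro i hi
      have h4 := hSv ⟨z ^ i, (hzi i hi).1⟩ (fun h => (hzi i hi).2 (congrArg Subtype.val h))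
      rw [h4]
      congr 1
      refine Finset.sum_congr rfl fun l _ => ?_
      have h5 : (⟨z ^ i, (hzi i hi).1⟩ : P) = ⟨z, hzP⟩ ^ i := Subtype.ext (by simp)
      rw [h5, map_pow]
      push_cast
      rfl
    have h6 : ∀ l ∈ T χ, ∑ i ∈ Finset.Ico 1 p, ((l ⟨z, hzP⟩ : ℂˣ) : ℂ) ^ i = -1 := by
      intro l hl
      apply sum_root hp
      · have h7 : (⟨z, hzP⟩ : P) ^ p = 1 := Subtype.ext (show z ^ p = 1 by rw [← hzo]; exact pow_orderOf_eq_one z)
        have h8 : (l ⟨z, hzP⟩) ^ p = 1 := by rw [← map_pow, h7, map_one]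
        rw [← Units.val_pow_eq_pow_val, h8, Units.val_one]
      · intro h7
        apply hS1
        have h8 : l = 1 := by
          ext w
          have hw : (w : G) ∈ zpowers z := by
            rw [zpowers_eq (P := (P : Subgroup G)) hP hzP hz1]; exact w.2
          obtain ⟨k, hk⟩ := mem_zpowers_iff.1 hw
          have h9 : w = ⟨z, hzP⟩ ^ k := Subtype.ext (by simp [hk])
          have h10 : l ⟨z, hzP⟩ = 1 := Units.ext h7
          rw [h9, map_zpow, h10, one_zpow]
          rfl
        rwa [h8] at hl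
    have h7 : ∑ i ∈ Finset.Ico 1 p, (χ : G → ℂ) (z ^ i) = -(d * e) := by
      rw [Finset.sum_congr rfl h3, ← Finset.mul_sum, Finset.sum_comm, Finset.sum_congr rfl h6, Finset.sum_const, hSc]
      simp
    rw [h7, norm_div, norm_neg, norm_mul]
    have h8 : ‖(d : ℂ)‖ = 1 := by rcases hd with h | h <;> rw [h] <;> simp
    have h9 : ‖(e : ℂ)‖ = e := Complex.norm_natCast e
    have h10 : ‖((p : ℂ) - 1)‖ = (p : ℝ) - 1 := by
      rw [show ((p : ℂ) - 1) = (((p : ℝ) - 1 : ℝ) : ℂ) by push_cast; ring, Complex.norm_real, Real.norm_of_nonneg]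
      have : (1 : ℝ) ≤ p := by exact_mod_cast hp.one_le
      linarith only [this]
    rw [h8, h9, h10, one_mul]
    have h11 : (1 : ℝ) < p := by exact_mod_cast hp.one_lt
    rw [div_le_one (by linarith only [h11])]
    have h12 : e ≤ p - 1 := Nat.le_of_dvd (by have := hp.two_le; omega) ⟨t, ht.symm⟩
    have h13 : (e : ℝ) ≤ ((p - 1 : ℕ) : ℝ) := by exact_mod_cast h12
    rwa [Nat.cast_sub hp.one_le, Nat.cast_one] at h13
  · have h3 : ∀ i ∈ Finset.Ico 1 p, (χ : G → ℂ) (z ^ i) = 0 := fun i hi =>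
      (hz χ h1 h2).1 _ (hzi i hi).1 (hzi i hi).2
    rw [Finset.sum_congr rfl h3]
    simp

end Cfsg.Agent.H885.FT
end

-- part: H885/FT/Eng
section
/-!
# The pair engine (S2464, F4(3), helper885)

`x` of order `p`, self-centralizing, `y` of order `r`, `|C(y)| = c`, `p`, `r` exact, `St` an irreducible character which vanishes at
`g`, `g` of order prime to `p`, `r`.

* `one_le_sum` : if `g` is not in `x^G y^G` then `1 ≤ ∑_{χ ≠ 1, St} ‖A_χ‖ ‖B_χ‖ ‖χ(g)‖ / χ(1)`;
* `Pair.prd` : `‖χ(g)‖ ≤ ρ χ(1)` for all `χ ≠ 1, St` and `ρ² a b < 1`, `a = e p / (p - 1) - 2`, `b = e' c / (r - 1) - 2`;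
* `Pair.prd_cent` : `d ≤ χ(1)` for all `χ ≠ 1, St` and `b |C(g)| < d²`;
* `Pair.of` : the constructor.
-/

set_option autoImplicit false

namespace Cfsg.Agent.H885.FT

open Cfsg Cfsg.Agent.Characters Subgroup Cfsg.Agent.H65.Ore
open scoped ComplexConjugate

universe u

variable {G : Type u} [Group G] [Finite G]

theorem av_one {p : ℕ} (hp : p.Prime) (x : G) : av p x (one1 G) = 1 := by
  have hpr : ((p : ℂ) - 1) ≠ 0 := by
    rw [sub_ne_zero]; exact_mod_cast hp.one_lt.ne'
  unfold av
  simp only [one1_apply]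
  rw [Finset.sum_const, Nat.card_Ico, nsmul_eq_mul, Nat.cast_sub hp.one_le, Nat.cast_one, mul_one, div_self hpr]

/-- The data of the pair. -/
structure Pair (x y : G) (p r : ℕ) (St : IrrCharacter G) (a b : ℝ) : Prop where
  hp : p.Prime
  hr : r.Prime
  hpr : p ≠ r
  hx : orderOf x = p
  hy : orderOf y = r
  fac : ∃ n, ¬ p ∣ n ∧ Nat.card G = p * n
  fac' : ∃ n, ¬ r ∣ n ∧ Nat.card G = r * n
  ne_one : St ≠ one1 G
  st_x : ‖av p x St‖ = 1
  st_y : ‖av r y St‖ = 1
  sum_x : ∀ [Fintype (IrrCharacter G)], ∑ χ : IrrCharacter G, ‖av p x χ‖ ^ 2 = a + 2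
  sum_y : ∀ [Fintype (IrrCharacter G)], ∑ χ : IrrCharacter G, ‖av r y χ‖ ^ 2 = b + 2
  le_one : ∀ χ : IrrCharacter G, ‖av p x χ‖ ≤ 1

section

variable {x y : G} {p r : ℕ} {St : IrrCharacter G} {a b : ℝ}

open Classical in
/-- the nontrivial characters except `St` -/
noncomputable def mid (G : Type u) [Group G] [Fintype (IrrCharacter G)] (St : IrrCharacter G) : Finset (IrrCharacter G) :=
  (Finset.univ.erase (one1 G)).erase St

omit [Finite G] in
theorem mem_mid [Fintype (IrrCharacter G)] {χ : IrrCharacter G} : χ ∈ mid G St ↔ χ ≠ St ∧ χ ≠ one1 G := by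
  classical
  unfold mid
  rw [Finset.mem_erase, Finset.mem_erase]
  simp only [_root_.ne_eq, _root_.Finset.mem_univ, _root_.and_true]

omit [Finite G] in
theorem sum_mid [Fintype (IrrCharacter G)] {A : Type*} [AddCommMonoid A] (hSt : St ≠ one1 G) (f : IrrCharacter G → A) :
    ∑ χ : IrrCharacter G, f χ = f (one1 G) + (f St + ∑ χ ∈ mid G St, f χ) := by
  classical
  unfold mid
  rw [Finset.add_sum_erase _ f (by rw [Finset.mem_erase]; exact ⟨hSt, Finset.mem_univ _⟩),
    Finset.add_sum_erase _ f (Finset.mem_univ _)]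

theorem Pair.one_le_sum (h : Pair x y p r St a b) [Fintype (IrrCharacter G)] {g : G} (hg : ¬ p ∣ orderOf g)
    (hg' : ¬ r ∣ orderOf g) (hSt : (St : G → ℂ) g = 0) (hno : ¬ Prd x y g) :
    1 ≤ ∑ χ ∈ mid G St, ‖av p x χ‖ * ‖av r y χ‖ * (‖(χ : G → ℂ) g‖ / ‖(χ : G → ℂ) 1‖) := by
  obtain ⟨n, hn, hG⟩ := h.fac
  obtain ⟨n', hn', hG'⟩ := h.fac'
  have h0 : SS x y g = 0 := by
    by_contra h1
    exact hno (prd_of_ne_zero h1)
  rw [SS_avg h.hp hn hG h.hr hn' hG' h.hx h.hy h.hpr hg hg', sum_mid h.ne_one, av_one h.hp, av_one h.hr, hSt] at h0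
  simp only [one1_apply, map_one, map_zero, zero_div, mul_zero, zero_add, mul_one, div_one] at h0
  have h1 : ∑ χ ∈ mid G St, av p x χ * av r y χ * (conj ((χ : G → ℂ) g) / (χ : G → ℂ) 1) = -1 := by
    linear_combination h0
  have h2 := norm_sum_le (mid G St) (fun χ => av p x χ * av r y χ * (conj ((χ : G → ℂ) g) / (χ : G → ℂ) 1))
  rw [h1, norm_neg, norm_one] at h2
  refine h2.trans (le_of_eq (Finset.sum_congr rfl fun χ _ => ?_))
  rw [norm_mul, norm_mul, norm_div, Complex.norm_conj]

theorem Pair.mid_x (h : Pair x y p r St a b) [Fintype (IrrCharacter G)] :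
    ∑ χ ∈ mid G St, ‖av p x χ‖ ^ 2 = a := by
  have h1 := h.sum_x
  rw [sum_mid h.ne_one, av_one h.hp, h.st_x, norm_one] at h1
  linarith

theorem Pair.mid_y (h : Pair x y p r St a b) [Fintype (IrrCharacter G)] :
    ∑ χ ∈ mid G St, ‖av r y χ‖ ^ 2 = b := by
  have h1 := h.sum_y
  rw [sum_mid h.ne_one, av_one h.hr, h.st_y, norm_one] at h1
  linarith

omit [Finite G] in
theorem norm_one_pos (χ : IrrCharacter G) : 0 < ‖(χ : G → ℂ) 1‖ :=
  norm_pos_iff.2 (Core.isIrr_apply_one_ne_zero χ.2)

/-- **The ratio form.** -/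
theorem Pair.prd (h : Pair x y p r St a b) {g : G} (hg : ¬ p ∣ orderOf g) (hg' : ¬ r ∣ orderOf g)
    (hSt : (St : G → ℂ) g = 0) {ρ : ℝ} (hρ : 0 ≤ ρ) (hab : ρ ^ 2 * (a * b) < 1)
    (hrat : ∀ χ : IrrCharacter G, χ ≠ one1 G → χ ≠ St → ‖(χ : G → ℂ) g‖ ≤ ρ * ‖(χ : G → ℂ) 1‖) : Prd x y g := by
  have := Core.finite_irr (G := G)
  have := Fintype.ofFinite (IrrCharacter G)
  by_contra hno
  have h1 := h.one_le_sum hg hg' hSt hno
  have h2 : ∑ χ ∈ mid G St, ‖av p x χ‖ * ‖av r y χ‖ * (‖(χ : G → ℂ) g‖ / ‖(χ : G → ℂ) 1‖) ≤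
      ρ * ∑ χ ∈ mid G St, ‖av p x χ‖ * ‖av r y χ‖ := by
    rw [Finset.mul_sum]
    refine Finset.sum_le_sum fun χ hχ => ?_
    rw [mem_mid] at hχ
    have h3 : ‖(χ : G → ℂ) g‖ / ‖(χ : G → ℂ) 1‖ ≤ ρ := by
      rw [div_le_iff₀ (norm_one_pos χ)]
      exact hrat χ hχ.2 hχ.1
    calc ‖av p x χ‖ * ‖av r y χ‖ * (‖(χ : G → ℂ) g‖ / ‖(χ : G → ℂ) 1‖) ≤ ‖av p x χ‖ * ‖av r y χ‖ * ρ :=
          mul_le_mul_of_nonneg_left h3 (by (clear * -; positivity))
      _ = ρ * (‖av p x χ‖ * ‖av r y χ‖) := by ring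
  have h3 := Finset.sum_mul_sq_le_sq_mul_sq (mid G St) (fun χ => ‖av p x χ‖) (fun χ => ‖av r y χ‖)
  rw [h.mid_x, h.mid_y] at h3
  set s := ∑ χ ∈ mid G St, ‖av p x χ‖ * ‖av r y χ‖ with hs
  have h4 : 1 ≤ ρ * s := h1.trans h2
  have h5 : 1 ≤ (ρ * s) ^ 2 := by nlinarith only [h1, h2]
  have h6 : (ρ * s) ^ 2 ≤ ρ ^ 2 * (a * b) := by
    rw [mul_pow]
    exact mul_le_mul_of_nonneg_left h3 (by positivity)
  linarith

end

/-- **The constructor.** -/
theorem Pair.of [IsSimpleGroup G] (hG : ¬ IsMulCommutative G) {N : ℕ} (hN : Nat.card G = N)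
    {p r : ℕ} (hp : p.Prime) (hr : r.Prime) (hpr : p ≠ r) {x y : G} (hx : orderOf x = p) (hy : orderOf y = r)
    (hcx : Nat.card (centralizer ({x} : Set G)) = p) {c : ℕ} (hcy : Nat.card (centralizer ({y} : Set G)) = c)
    {e e' t S : ℕ} (hnum : chkSC N p e t S = true) (h1 : N % p = 0) (h2 : N % p ^ 2 ≠ 0) (h3 : N / p % p = e)
    (h4 : N % r = 0) (h5 : N % r ^ 2 ≠ 0) (h6 : N / c % r = e') {St : IrrCharacter G} (hSt : St ≠ one1 G)
    (hsx : ‖av p x St‖ = 1) (hsy : ‖av r y St‖ = 1) :
    Pair x y p r St ((e : ℝ) * p / ((p : ℝ) - 1) - 2) ((e' : ℝ) * c / ((r : ℝ) - 1) - 2) where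
  hp := hp
  hr := hr
  hpr := hpr
  hx := hx
  hy := hy
  fac := by
    refine ⟨N / p, ?_, ?_⟩
    · intro h
      apply h2
      obtain ⟨k, hk⟩ := h
      have h7 : N = p ^ 2 * k := by
        rw [sq, mul_assoc, ← hk, Nat.mul_div_cancel' (Nat.dvd_of_mod_eq_zero h1)]
      rw [h7]; exact Nat.mul_mod_right _ _
    · rw [hN, Nat.mul_div_cancel' (Nat.dvd_of_mod_eq_zero h1)]
  fac' := by
    refine ⟨N / r, ?_, ?_⟩
    · intro h
      apply h5
      obtain ⟨k, hk⟩ := h
      have h7 : N = r ^ 2 * k := by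
        rw [sq, mul_assoc, ← hk, Nat.mul_div_cancel' (Nat.dvd_of_mod_eq_zero h4)]
      rw [h7]; exact Nat.mul_mod_right _ _
    · rw [hN, Nat.mul_div_cancel' (Nat.dvd_of_mod_eq_zero h4)]
  ne_one := hSt
  st_x := hsx
  st_y := hsy
  sum_x := by
    intro _
    rw [sum_av_sq hp (card_conj_pow hG hp hN hx hcx h1 h2 h3) (card_cent_pow hp hx hcx)]
    ring
  sum_y := by
    intro _
    rw [sum_av_sq hr (card_conj_pow hG hr hN hy hcy h4 h5 h6) (card_cent_pow hr hy hcy)]
    ring
  le_one := norm_av_le hG hp hN hx hcx e t S hnum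

end Cfsg.Agent.H885.FT
end

private theorem dce_ef4055ae3d6e : _root_.True := by
  try have : _root_.True := by simp only [_root_.Cfsg.Agent.H885.FT.av.eq_1]
  exact _root_.True.intro
end

-- part: H519/TDU/Main
section
prune_inst 0x352061047d40000000188590032000246c0004b00060000058e10d42000f334000c308014ea00d1b5a2a08010004000000100000400041c040a04000000101000000140490084008820000000000005000381980000000000000000000041004000008000
set_option linter.all false
open scoped Cfsg.Agent.FastGrp

-- part: H519/TDU/Core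
section
/-!
# A CC-subgroup with automizer of order 4 and a pair `(x, u z)` (helper519, for S2464, `³D₄(q)`, `q = 5, 7, 17`)

`A` a CC-subgroup with `|N(A) : A| = 4`, `St` of degree the `p`-part of `|G|`, `u` a `p`-element centralizing a Sylow
`p`-subgroup, `z` of order `r` commuting with `u`, `r ^ 2 ∥ |G|`. Under a condition on the degrees (`Sieve`), every
`g ≠ 1` is the product of a conjugate of `x ∈ A#` and a conjugate of `u z`.
-/

set_option autoImplicit false

open scoped ComplexConjugate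
open Cfsg Subgroup

namespace Cfsg.Agent.H519.TDU

open Cfsg.Agent.Characters Cfsg.Agent.Characters.Core Cfsg.Agent.H678.CCExact Cfsg.Agent.H686.CharKit
  Cfsg.Agent.Characters.CCCounting

universe u

variable {G : Type u} [Group G]

section basic

variable [Finite G]

theorem col_zero [Fintype (IrrCharacter G)] {g h : G} (hne : ¬ IsConj g h) :
    ∑ χ : IrrCharacter G, (χ : G → ℂ) g * conj ((χ : G → ℂ) h) = 0 := by
  classical
  rw [col_orth g h, if_neg hne]

/-- the degree divides the order -/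
theorem deg_dvd (χ : IrrCharacter G) : charDegree (χ : G → ℂ) ∣ Nat.card G := by
  have h1 := charDegree_irr χ
  obtain ⟨n, ρ, hρ, h⟩ := χ.2
  rw [← h, Representation.char_one] at h1
  have h2 : charDegree (χ : G → ℂ) = Module.finrank ℂ (Fin n → ℂ) := by
    rw [← h]
    exact_mod_cast h1
  rw [h2]
  exact S0135.result ρ

/-- the central character is integral -/
theorem centralInt (χ : IrrCharacter G) (g : G) :
    IsIntegral ℤ (((centralizer ({g} : Set G)).index : ℂ) * (χ : G → ℂ) g / (χ : G → ℂ) 1) := by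
  obtain ⟨n, ρ, hρ, h⟩ := χ.2
  have h1 := S0141.result ρ g
  rw [← h, Representation.char_one]
  exact h1

/-- Burnside -/
theorem burn (χ : IrrCharacter G) {g : G}
    (hc : Nat.Coprime (charDegree (χ : G → ℂ)) (centralizer ({g} : Set G)).index) :
    (χ : G → ℂ) g = 0 ∨ ‖(χ : G → ℂ) g‖ = (charDegree (χ : G → ℂ) : ℝ) := by
  have h0 := charDegree_irr χ
  obtain ⟨n, ρ, hρ, h⟩ := χ.2
  rw [← h, Representation.char_one] at h0
  have h2 : charDegree (χ : G → ℂ) = Module.finrank ℂ (Fin n → ℂ) := by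
    rw [← h]
    exact_mod_cast h0
  rw [h2] at hc ⊢
  have := S0142.result ρ g hc
  rw [← h]
  exact this

/-- a nonprincipal irreducible character of a nonabelian simple group: `|χ(g)| = χ(1)` only for `g = 1` -/
theorem norm_lt [IsSimpleGroup G] (hna : ∃ a b : G, a * b ≠ b * a) (χ : IrrCharacter G) (hχ : (χ : G → ℂ) ≠ 1) {g : G}
    (hg : g ≠ 1) : ‖(χ : G → ℂ) g‖ ≠ (charDegree (χ : G → ℂ) : ℝ) := by
  classical
  have := Fintype.ofFinite G
  intro hn
  have h0 := charDegree_irr χ
  obtain ⟨n, ρ, hρ, h⟩ := χ.2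
  rw [← h, Representation.char_one] at h0
  have h2 : charDegree (χ : G → ℂ) = Module.finrank ℂ (Fin n → ℂ) := by
    rw [← h]
    exact_mod_cast h0
  rw [h2, ← h] at hn
  obtain ⟨w, hw⟩ := (S0138.result ρ g).1 hn
  -- the commutators `[g, k]` are in the kernel
  have hk : ∀ k : G, ρ (g * k * g⁻¹ * k⁻¹) = LinearMap.id := by
    intro k
    have e1 : ρ (g * k * g⁻¹ * k⁻¹) = ρ (g * k * g⁻¹) * ρ k⁻¹ := map_mul ρ _ _
    have e2 : ρ (g * k * g⁻¹) = ρ g * ρ k * ρ g⁻¹ := by rw [map_mul, map_mul]
    have e3 : ρ g * ρ k = ρ k * ρ g := by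
      rw [hw]
      ext v
      simp only [_root_.Algebra.smul_mul_assoc, _root_.LinearMap.coe_comp, _root_.LinearMap.coe_smul, _root_.LinearMap.coe_single, _root_.Function.comp_apply, _root_.Pi.smul_apply, _root_.Module.End.mul_apply, _root_.LinearMap.id_coe, _root_.id_eq, _root_.smul_eq_mul, _root_.Algebra.mul_smul_comm]
    rw [e1, e2, e3, mul_assoc (ρ k), ← map_mul, mul_inv_cancel, map_one, mul_one, ← map_mul, mul_inv_cancel, map_one]
    rfl
  have hchar : ∀ k : G, (χ : G → ℂ) (g * k * g⁻¹ * k⁻¹) = (χ : G → ℂ) 1 := by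
    intro k
    rw [← h, Representation.character, Representation.character, hk k, map_one]
    rfl
  have hcen : ∀ k : G, g * k = k * g := by
    intro k
    have h3 := Cfsg.Agent.SmallSimple.DihedralNormalizer.eq_one_of_apply_eq χ.2 hχ (hchar k)
    have h4 : g * k * g⁻¹ * k⁻¹ * (k * g) = g * k := by group
    rw [h3, one_mul] at h4
    exact h4.symm
  have hz : g ∈ center G := Subgroup.mem_center_iff.2 fun k => (hcen k).symm
  rcases (inferInstance : (center G).Normal).eq_bot_or_eq_top with h5 | h5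
  · rw [h5, Subgroup.mem_bot] at hz
    exact hg hz
  · obtain ⟨a, b, hab⟩ := hna
    exact hab ((Subgroup.mem_center_iff.1 (h5 ▸ Subgroup.mem_top a) b).symm)

/-- **Two characters.** -/
theorem prod_of_two [IsSimpleGroup G] {x y : G} (hxy : ¬ IsConj x y) (B : IrrCharacter G) (hB : (B : G → ℂ) ≠ 1)
    (hreal : conj ((B : G → ℂ) x) = (B : G → ℂ) x)
    (h : ∀ χ : IrrCharacter G, (χ : G → ℂ) x = 0 ∨ (χ : G → ℂ) y = 0 ∨ (χ : G → ℂ) = 1 ∨ χ = B) {g : G} (hg : g ≠ 1) :
    ∃ u v : G, g = (u * x * u⁻¹) * (v * y * v⁻¹) := by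
  classical
  have := Fintype.ofFinite G
  have hfin := finite_irr (G := G)
  have : Fintype (IrrCharacter G) := Fintype.ofFinite _
  obtain ⟨I, hI⟩ : ∃ I : IrrCharacter G, I = ⟨1, isIrr_one⟩ := ⟨_, rfl⟩
  have hI1 : ∀ k : G, (I : G → ℂ) k = 1 := fun k => by rw [hI]; rfl
  have hIB : I ≠ B := by
    rintro rfl
    exact hB (by rw [hI])
  have hsum : ∀ F : IrrCharacter G → ℂ, (∀ χ : IrrCharacter G, (χ : G → ℂ) x = 0 ∨ (χ : G → ℂ) y = 0 → F χ = 0) →
      ∑ χ : IrrCharacter G, F χ = F I + F B := by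
    intro F hF
    rw [← Finset.sum_pair hIB]
    symm
    apply Finset.sum_subset (Finset.subset_univ _)
    intro χ _ hχ
    apply hF
    rcases h χ with h1 | h1 | h1 | h1
    · exact Or.inl h1
    · exact Or.inr h1
    · exfalso
      apply hχ
      rw [Finset.mem_insert]
      left
      apply Subtype.ext
      rw [h1, hI]
    · exfalso
      apply hχ
      rw [Finset.mem_insert, Finset.mem_singleton]
      exact Or.inr h1
  have h1 := col_zero hxy
  rw [hsum _ (fun χ hχ => by
    rcases hχ with h2 | h2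
    · rw [h2, zero_mul]
    · rw [h2, map_zero, mul_zero]), hI1, hI1, map_one, mul_one] at h1
  have h2 : 1 + (B : G → ℂ) x * (B : G → ℂ) y = 0 := by
    have h3 := congrArg conj h1
    rw [map_add, map_mul, map_one, map_zero, Complex.conj_conj, hreal] at h3
    exact h3
  have h3 := Cfsg.Agent.Characters.ClassMul.card_conj_mul_conj x y g
  rw [hsum _ (fun χ hχ => by
    rcases hχ with h2 | h2
    · rw [h2, zero_mul, zero_mul, zero_div]
    · rw [h2, mul_zero, zero_mul, zero_div]), hI1, hI1, hI1, hI1, map_one, mul_one, mul_one, div_one,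
    show (B : G → ℂ) x * (B : G → ℂ) y = -1 by linear_combination h2] at h3
  have hB1 : (B : G → ℂ) 1 ≠ 0 := isIrr_apply_one_ne_zero B.2
  have h4 : (1 : ℂ) + -1 * conj ((B : G → ℂ) g) / (B : G → ℂ) 1 ≠ 0 := by
    intro h5
    have h6 : conj ((B : G → ℂ) g) = (B : G → ℂ) 1 := by
      field_simp at h5
      linear_combination -h5
    have h7 : (B : G → ℂ) g = (B : G → ℂ) 1 := by
      have h8 := congrArg conj h6
      rw [Complex.conj_conj, ← charDegree_irr, Complex.conj_natCast] at h8
      rw [h8, charDegree_irr]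
    exact hg (Cfsg.Agent.SmallSimple.DihedralNormalizer.eq_one_of_apply_eq B.2 hB h7)
  have h5 : Nat.card {p : G × G // p.1 * x * p.1⁻¹ * (p.2 * y * p.2⁻¹) = g} ≠ 0 := by
    intro h6
    rw [h6, Nat.cast_zero] at h3
    rcases mul_eq_zero.1 h3.symm with h7 | h7
    · exact Nat.card_pos.ne' (by exact_mod_cast h7)
    · exact h4 h7
  obtain ⟨⟨⟨u, v⟩, h6⟩⟩ := (Nat.card_ne_zero.1 h5).1
  exact ⟨u, v, h6.symm⟩

end basic

end Cfsg.Agent.H519.TDU
end

-- part: H519/TDU/Main
section
/-!
# The main theorem on the pair `(x, u z)` (helper519)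
-/

set_option autoImplicit false

open scoped ComplexConjugate
open Cfsg Subgroup

namespace Cfsg.Agent.H519.TDU

open Cfsg.Agent.Characters Cfsg.Agent.Characters.Core Cfsg.Agent.H678.CCExact Cfsg.Agent.H686.CharKit
  Cfsg.Agent.Characters.CCCounting Cfsg.Agent.Characters.CCBasic Cfsg.Agent.Characters.CCEstimates

universe u

/-- four squares -/
theorem four_sq {ι : Type*} [Fintype ι] [DecidableEq ι] {f : ι → ℤ} {i j : ι} (hij : i ≠ j) (hi : f i = 1) (hj : f j = 1)
    (h : ∑ k, f k ^ 2 = 4) : ∃ a b : ι, a ≠ b ∧ a ≠ i ∧ a ≠ j ∧ b ≠ i ∧ b ≠ j ∧ (f a = 1 ∨ f a = -1) ∧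
      (f b = 1 ∨ f b = -1) ∧ ∀ k, f k ≠ 0 → k = i ∨ k = j ∨ k = a ∨ k = b := by
  classical
  obtain ⟨T, hT⟩ : ∃ T : Finset ι, T = (Finset.univ.filter fun k => f k ≠ 0 ∧ k ≠ i ∧ k ≠ j) := ⟨_, rfl⟩
  have hmem : ∀ k, k ∈ T ↔ f k ≠ 0 ∧ k ≠ i ∧ k ≠ j := fun k => by rw [hT]; simp only [_root_.ne_eq, _root_.Finset.mem_filter, _root_.Finset.mem_univ, _root_.true_and]
  have hsum : ∑ k ∈ T, f k ^ 2 = 2 := by
    have h1 : ∑ k, f k ^ 2 = ∑ k ∈ insert i (insert j T), f k ^ 2 := by
      symm
      apply Finset.sum_subset (Finset.subset_univ _)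
      intro k _ hk
      rw [Finset.mem_insert, Finset.mem_insert, hmem] at hk
      push Not at hk
      by_contra hne
      have h0 : f k ≠ 0 := fun h0 => hne (by rw [h0]; ring)
      exact hk.2.1 (hk.2.2 h0 hk.1)
    rw [Finset.sum_insert, Finset.sum_insert, hi, hj, h] at h1
    · linarith
    · rw [hmem]; tauto
    · rw [Finset.mem_insert, hmem]; tauto
  have hone : ∀ k ∈ T, 1 ≤ f k ^ 2 := fun k hk => by
    have h0 := ((hmem k).1 hk).1
    have := sq_pos_of_pos (abs_pos.2 h0)
    rw [sq_abs] at this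
    omega
  have hcard : (T.card : ℤ) ≤ 2 := by
    rw [← hsum]
    calc (T.card : ℤ) = ∑ k ∈ T, 1 := by simp
      _ ≤ _ := Finset.sum_le_sum hone
  have hcard' : T.card ≤ 2 := by exact_mod_cast hcard
  rcases Nat.lt_or_ge T.card 1 with h0 | h0
  · have h1 : T = ∅ := Finset.card_eq_zero.1 (by omega)
    rw [h1] at hsum
    simp at hsum
  rcases Nat.lt_or_ge T.card 2 with h2 | h2
  · obtain ⟨a, ha⟩ := Finset.card_eq_one.1 (show T.card = 1 by omega)
    rw [ha, Finset.sum_singleton] at hsum
    exfalso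
    have h3 : f a < 2 := by nlinarith only [hsum]
    have h4 : -2 < f a := by nlinarith only [hsum]
    have h5 : f a = -1 ∨ f a = 0 ∨ f a = 1 := by omega
    rcases h5 with h5 | h5 | h5 <;> rw [h5] at hsum <;> norm_num at hsum
  · obtain ⟨a, b, hab, hTab⟩ := Finset.card_eq_two.1 (show T.card = 2 by omega)
    have ha := (hmem a).1 (by rw [hTab]; simp)
    have hb := (hmem b).1 (by rw [hTab]; simp)
    have ha1 := hone a (by rw [hTab]; simp)
    have hb1 := hone b (by rw [hTab]; simp)
    rw [hTab, Finset.sum_pair hab] at hsum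
    have key : ∀ t : ℤ, t ^ 2 = 1 → t = 1 ∨ t = -1 := fun t ht => by
      rcases mul_eq_zero.1 (show (t - 1) * (t + 1) = 0 by linear_combination ht) with h | h
      · left; linarith only [h]
      · right; linarith only [h]
    refine ⟨a, b, hab, ha.2.1, ha.2.2, hb.2.1, hb.2.2, key _ (by linarith only [hsum, ha1, hb1]), key _ (by linarith only [hsum, ha1, hb1]), fun k hk => ?_⟩
    by_cases h3 : k = i
    · exact Or.inl h3
    by_cases h4 : k = j
    · exact Or.inr (Or.inl h4)
    have h5 := (hmem k).2 ⟨hk, h3, h4⟩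
    rw [hTab, Finset.mem_insert, Finset.mem_singleton] at h5
    exact Or.inr (Or.inr h5)

/-- the condition on the degrees -/
def Sieve (M Q N p r : ℕ) : Prop :=
  ∀ a b d : ℕ, a ∣ M → b ∣ M → d ∣ M → ∀ α β ε : ℤ, (α = 1 ∨ α = -1) → (β = 1 ∨ β = -1) → (ε = 1 ∨ ε = -1) →
    (N : ℤ) ∣ a - α → (N : ℤ) ∣ b - β → 1 + (Q : ℤ) + α * a + β * b = ε * d →
    r ^ 2 ∣ d ∧ (r ^ 2 ∣ a ∨ r ^ 2 ∣ b ∨ ((∃ k, a = p ^ k) ∧ ∃ k, b = p ^ k))

theorem dvd_of_isIntegral {m d : ℕ} (hd : d ≠ 0) {ε : ℤ} (hε : ε = 1 ∨ ε = -1)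
    (h : IsIntegral ℤ ((m : ℂ) * (ε : ℂ) / (d : ℂ))) : d ∣ m := by
  have h1 : (m : ℂ) * (ε : ℂ) / (d : ℂ) = algebraMap ℚ ℂ ((m : ℚ) * (ε : ℚ) / (d : ℚ)) := by
    simp only [_root_.map_div₀, _root_.eq_ratCast, _root_.Rat.cast_mul, _root_.Rat.cast_natCast, _root_.Rat.cast_intCast, _root_.map_natCast]
  rw [h1] at h
  have h2 : IsIntegral ℤ ((m : ℚ) * (ε : ℚ) / (d : ℚ)) :=
    (isIntegral_algebraMap_iff (FaithfulSMul.algebraMap_injective ℚ ℂ)).1 h
  obtain ⟨k, hk⟩ := IsIntegrallyClosed.isIntegral_iff.1 h2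
  have hd' : (d : ℚ) ≠ 0 := by exact_mod_cast hd
  have h3 : (m : ℚ) * ε = k * d := by
    rw [eq_div_iff hd'] at hk
    rw [← hk]
    simp
  have h4 : (m : ℤ) * ε = k * d := by exact_mod_cast h3
  have h5 : (d : ℤ) ∣ (m : ℤ) := by
    rcases hε with rfl | rfl
    · exact ⟨k, by linarith only [h4]⟩
    · exact ⟨-k, by linarith only [h4]⟩
  exact_mod_cast h5

variable {G : Type u} [Group G] [Finite G]

section data

variable [Fintype (IrrCharacter G)] {A : Subgroup G} {s : ℕ}

omit [Finite G] in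
theorem c_zero (D : CCData A s 4) (hs : 7 ≤ s) : D.c = 0 := by
  have h := D.sq
  have h1 : 0 ≤ ∑ ψ : IrrCharacter G, D.f ψ ^ 2 := Finset.sum_nonneg fun _ _ => sq_nonneg _
  by_contra hc
  have h2 : 1 ≤ D.c ^ 2 := by
    have := sq_pos_of_pos (abs_pos.2 hc)
    rw [sq_abs] at this
    omega
  have h3 : 2 * D.ε * D.c ≤ 2 * D.c ^ 2 := by
    rcases D.hε with h | h <;> rw [h] <;> rcases lt_or_gt_of_ne hc with h4 | h4 <;> nlinarith only [h2, h4]
  have h4 : (7 : ℤ) ≤ s := by exact_mod_cast hs
  push_cast at h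
  nlinarith only [hs, h, h1, h2, h3]

end data

theorem dz {r : ℕ} [Fact r.Prime] (hr2 : (Nat.card G).factorization r = 2) {χ : IrrCharacter G}
    (hd : r ^ 2 ∣ charDegree (χ : G → ℂ)) {y : G} (hy : r ∣ orderOf y) : (χ : G → ℂ) y = 0 := by
  have hr : r.Prime := Fact.out
  refine Cfsg.Agent.H713.irr_zero_of_singular (p := r) ?_ hy
  apply le_antisymm
  · exact (Nat.factorization_le_iff_dvd (charDegree_pos χ).ne' Nat.card_pos.ne').2 (deg_dvd χ) r
  · rw [hr2]
    exact (hr.pow_dvd_iff_le_factorization (charDegree_pos χ).ne').1 hd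

/-- **Main theorem** -/
theorem main [IsSimpleGroup G] (hna : ∃ a b : G, a * b ≠ b * a) {A : Subgroup G} (hA : IsCC A) {N s : ℕ}
    (hN : Nat.card A = N) (he : len A = 4) (hs : s * 4 + 1 = N) (h7 : 7 ≤ s) {p r : ℕ} [hp : Fact p.Prime]
    [hr : Fact r.Prime] (hst : Cfsg.Agent.H167.StChar.HasSt p G) {Q : ℕ}
    (hQ : p ^ (Nat.card G).factorization p = Q) (hpG : p ∣ Nat.card G) (hQN : (N : ℤ) ∣ Q - 1) (hpN : ¬ p ∣ N)
    (hr2 : (Nat.card G).factorization r = 2) (hS : Sieve (Nat.card G) Q N p r) {u z : G}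
    (hup : p ∣ orderOf u) (hu : ¬ p ∣ (centralizer ({u} : Set G)).index) (huz : Commute u z)
    (hz : orderOf z = r) (hpy : p ∣ orderOf (u * z)) (hry : r ∣ orderOf (u * z)) {x : G} (hx : x ∈ A) (hx1 : x ≠ 1)
    {g : G} (hg : g ≠ 1) : ∃ v w : G, g = (v * x * v⁻¹) * (w * (u * z) * w⁻¹) := by
  classical
  have := Fintype.ofFinite G
  have hfin := finite_irr (G := G)
  have : Fintype (IrrCharacter G) := Fintype.ofFinite _
  have hpp : p.Prime := Fact.out
  have hrp : r.Prime := Fact.out
  obtain ⟨D⟩ := nonempty_ccData hA he (hs.trans hN.symm) (by omega : 2 ≤ s)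
  have hc0 := c_zero D h7
  have hsq := D.sq
  have hsd := D.sd
  rw [hc0] at hsq hsd
  have hsq' : ∑ ψ : IrrCharacter G, D.f ψ ^ 2 = 4 := by push_cast at hsq; linarith only [hsq]
  have hsd' : ∑ ψ : IrrCharacter G, (charDegree (ψ : G → ℂ) : ℤ) * D.f ψ = D.ε * D.d := by linarith only [hsd]
  -- orders of the elements of `A`
  have hordA : ∀ a ∈ A, orderOf a ∣ N := fun a ha => by
    have := _root_.orderOf_dvd_natCard (⟨a, ha⟩ : A)
    rwa [← Subgroup.orderOf_coe, hN] at this
  have hconj : ∀ (t : ℕ) (y : G), ¬ t ∣ N → t ∣ orderOf y → ∀ a ∈ A, ¬ IsConj a y := by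
    intro t y ht hty a ha hc
    have h1 : orderOf a = orderOf y := by
      obtain ⟨c, rfl⟩ := isConj_iff.1 hc
      exact ((MulAut.conj c).orderOf_eq a).symm
    exact ht ((hty.trans (h1 ▸ dvd_rfl)).trans (hordA a ha))
  have hxu := hconj p u hpN hup x hx
  have hxy := hconj p (u * z) hpN hpy x hx
  have huA : ¬ InConj A u := fun ⟨a, ha, _, h⟩ => hconj p u hpN hup a ha h
  -- the Steinberg character
  obtain ⟨χ, hχ, hχ1, -⟩ := hst
  obtain ⟨St, hSt⟩ : ∃ St : IrrCharacter G, St = ⟨χ, hχ⟩ := ⟨_, rfl⟩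
  have hStd : charDegree (St : G → ℂ) = Q := by
    have h1 : (charDegree (St : G → ℂ) : ℂ) = (Q : ℂ) := by
      rw [charDegree_irr, hSt, ← hQ]
      exact hχ1
    exact_mod_cast h1
  have hQ1 : 1 < Q := by
    rw [← hQ]
    exact Nat.one_lt_pow (by
      have := (hpp.dvd_iff_one_le_factorization Nat.card_pos.ne').1 hpG
      omega) hpp.one_lt
  have hSt0 : ∀ y : G, p ∣ orderOf y → (St : G → ℂ) y = 0 := fun y hy => by
    refine Cfsg.Agent.H713.irr_zero_of_singular (p := p) ?_ hy
    rw [hStd, ← hQ, hpp.factorization_pow, Finsupp.single_eq_same]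
  obtain ⟨I, hI⟩ : ∃ I : IrrCharacter G, I = ⟨1, isIrr_one⟩ := ⟨_, rfl⟩
  have hI1 : ∀ k : G, (I : G → ℂ) k = 1 := fun k => by rw [hI]; rfl
  have hId : charDegree (I : G → ℂ) = 1 := (charDegree_eq_one_iff I).2 (hI1 1)
  have hISt : I ≠ St := by
    intro h
    rw [h, hStd] at hId
    omega
  have hIR : I ∉ D.R := fun h => by
    obtain ⟨a, -, -, h1⟩ := D.nonconst I h 1
    exact h1 (hI1 a)
  have hfI : D.f I = 1 := by
    have h1 := D.hf I hIR x hx hx1
    rw [hI1] at h1
    exact_mod_cast h1.symm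
  have hN29 : (29 : ℤ) ≤ N := by
    have : 29 ≤ N := by omega
    exact_mod_cast this
  have hdd := D.ddvd
  have hStR : St ∉ D.R := fun h => by
    have h1 := D.deg St h
    rw [hStd] at h1
    rw [hN, ← h1, hc0] at hdd
    have h2 := dvd_sub hdd hQN
    push_cast at h2
    rcases D.hε with h3 | h3
    · rw [h3] at h2
      have h4 : (Q : ℤ) - (1 * 4 + 0) - (Q - 1) = -3 := by ring
      rw [h4, dvd_neg] at h2
      have := Int.le_of_dvd (by norm_num) h2
      omega
    · rw [h3] at h2
      have h4 : (Q : ℤ) - (-1 * 4 + 0) - (Q - 1) = 5 := by ring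
      rw [h4] at h2
      have := Int.le_of_dvd (by norm_num) h2
      omega
  have hle4 : ∀ k : IrrCharacter G, D.f k ^ 2 ≤ 4 := fun k => by
    rw [← hsq']
    exact Finset.single_le_sum (f := fun k => D.f k ^ 2) (fun _ _ => sq_nonneg _) (Finset.mem_univ k)
  have hfSt : D.f St = 1 := by
    have h1 := D.dvd St hStR
    rw [hN, hStd] at h1
    have h2 := dvd_sub hQN h1
    have h3 : (Q : ℤ) - 1 - (Q - D.f St) = D.f St - 1 := by ring
    rw [h3] at h2
    have h4 := hle4 St
    have h5 : D.f St ≤ 2 := by nlinarith only [h4]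
    have h6 : -2 ≤ D.f St := by nlinarith only [h4]
    have h7 := Int.eq_zero_of_abs_lt_dvd h2 (by rw [abs_lt]; omega)
    omega
  obtain ⟨a, b, hab, haI, haS, hbI, hbS, hfa, hfb, hall⟩ := four_sq hISt hfI hfSt hsq'
  have hfa0 : D.f a ≠ 0 := by rcases hfa with h | h <;> rw [h] <;> norm_num
  have hfb0 : D.f b ≠ 0 := by rcases hfb with h | h <;> rw [h] <;> norm_num
  have haR : a ∉ D.R := fun h => hfa0 (D.hf0 a h)
  have hbR : b ∉ D.R := fun h => hfb0 (D.hf0 b h)
  have ha1 : (a : G → ℂ) ≠ 1 := fun h => haI (Subtype.ext (by rw [h, hI]))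
  have hb1 : (b : G → ℂ) ≠ 1 := fun h => hbI (Subtype.ext (by rw [h, hI]))
  have hsum : ∀ {M : Type} [AddCommMonoid M] (F : IrrCharacter G → M), (∀ χ : IrrCharacter G, D.f χ = 0 → F χ = 0) →
      ∑ χ : IrrCharacter G, F χ = F I + (F St + (F a + F b)) := by
    intro M _ F hF
    have h1 : ∑ χ : IrrCharacter G, F χ = ∑ χ ∈ ({I, St, a, b} : Finset (IrrCharacter G)), F χ := by
      symm
      apply Finset.sum_subset (Finset.subset_univ _)
      intro k _ hk
      apply hF
      by_contra h0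
      apply hk
      simp only [Finset.mem_insert, Finset.mem_singleton]
      exact hall k h0
    rw [h1, Finset.sum_insert, Finset.sum_insert, Finset.sum_pair hab]
    · simp only [Finset.mem_insert, Finset.mem_singleton, not_or]
      exact ⟨haS.symm, hbS.symm⟩
    · simp only [Finset.mem_insert, Finset.mem_singleton, not_or]
      exact ⟨hISt, haI.symm, hbI.symm⟩
  -- the degree equation
  have hdeg : 1 + (Q : ℤ) + D.f a * charDegree (a : G → ℂ) + D.f b * charDegree (b : G → ℂ) = D.ε * D.d := by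
    rw [← hsd', hsum (fun ψ => (charDegree (ψ : G → ℂ) : ℤ) * D.f ψ) (fun χ h => by rw [h, mul_zero]), hId, hStd, hfI, hfSt]
    push_cast
    ring
  obtain ⟨ψ₀, hψ₀⟩ : ∃ ψ, ψ ∈ D.R := Finset.card_pos.1 (by rw [D.hcard]; omega)
  have hd0 : D.d ≠ 0 := by
    rw [← D.deg ψ₀ hψ₀]
    exact (charDegree_pos ψ₀).ne'
  obtain ⟨hrd, htri⟩ := hS _ _ _ (deg_dvd a) (deg_dvd b) (by rw [← D.deg ψ₀ hψ₀]; exact deg_dvd ψ₀) (D.f a) (D.f b) D.ε
    hfa hfb D.hε (by rw [← hN]; exact D.dvd a haR) (by rw [← hN]; exact D.dvd b hbR) hdeg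
  have hRy : ∀ ψ ∈ D.R, (ψ : G → ℂ) (u * z) = 0 := fun ψ hψ => dz hr2 (by rw [D.deg ψ hψ]; exact hrd) hry
  -- the general conclusion
  have hfin : ∀ k l : IrrCharacter G, k ∉ D.R → (k : G → ℂ) ≠ 1 → (l : G → ℂ) (u * z) = 0 →
      (∀ m : IrrCharacter G, D.f m ≠ 0 → m = I ∨ m = St ∨ m = k ∨ m = l) →
      ∃ v w : G, g = (v * x * v⁻¹) * (w * (u * z) * w⁻¹) := by
    intro k l hkR hk1 hl hm
    refine prod_of_two hxy k hk1 ?_ (fun m => ?_) hg
    · rw [D.hf k hkR x hx hx1, map_intCast]
    · by_cases hmR : m ∈ D.R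
      · exact Or.inr (Or.inl (hRy m hmR))
      by_cases hm0 : D.f m = 0
      · left
        rw [D.hf m hmR x hx hx1, hm0, Int.cast_zero]
      rcases hm m hm0 with h | h | h | h
      · right; right; left
        rw [h, hI]
      · right; left
        rw [h]
        exact hSt0 _ hpy
      · exact Or.inr (Or.inr (Or.inr h))
      · right; left
        rw [h, hl]
  rcases htri with h | h | ⟨⟨k, hk⟩, ⟨l, hl⟩⟩
  · exact hfin b a hbR hb1 (dz hr2 h hry) fun m hm => by
      rcases hall m hm with h | h | h | h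
      · exact Or.inl h
      · exact Or.inr (Or.inl h)
      · exact Or.inr (Or.inr (Or.inr h))
      · exact Or.inr (Or.inr (Or.inl h))
  · exact hfin a b haR ha1 (dz hr2 h hry) hall
  · exfalso
    have hu1 : u ≠ 1 := by
      rintro rfl
      rw [orderOf_one] at hup
      exact hpp.one_lt.ne' (Nat.dvd_one.1 hup)
    have hcop : ∀ k : ℕ, Nat.Coprime (p ^ k) (centralizer ({u} : Set G)).index := fun k =>
      Nat.Coprime.pow_left k ((hpp.coprime_iff_not_dvd).2 hu)
    have hau : (a : G → ℂ) u = 0 :=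
      (burn a (g := u) (by rw [hk]; exact hcop k)).resolve_right (norm_lt hna a ha1 hu1)
    have hbu : (b : G → ℂ) u = 0 :=
      (burn b (g := u) (by rw [hl]; exact hcop l)).resolve_right (norm_lt hna b hb1 hu1)
    -- splitting the column sums
    have hcol : ∀ y : G, ¬ InConj A y → ∑ χ : IrrCharacter G, (χ : G → ℂ) x * conj ((χ : G → ℂ) y) =
        (∑ ψ ∈ D.R, (ψ : G → ℂ) x) * conj ((ψ₀ : G → ℂ) y) + ∑ χ : IrrCharacter G, (D.f χ : ℂ) * conj ((χ : G → ℂ) y) := by
      intro y hy
      rw [← Finset.sum_filter_add_sum_filter_not Finset.univ (fun ψ => ψ ∈ D.R),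
        ← Finset.sum_filter_add_sum_filter_not (f := fun χ : IrrCharacter G => (D.f χ : ℂ) * conj ((χ : G → ℂ) y))
          Finset.univ (fun ψ => ψ ∈ D.R)]
      have e1 : Finset.univ.filter (fun ψ => ψ ∈ D.R) = D.R := by ext; simp only [_root_.Finset.subset_univ, _root_.Finset.filter_mem_eq_of_subset]
      rw [e1, Finset.sum_mul]
      have e2 : ∑ χ ∈ D.R, (D.f χ : ℂ) * conj ((χ : G → ℂ) y) = 0 :=
        Finset.sum_eq_zero fun χ hχ => by rw [D.hf0 χ hχ, Int.cast_zero, zero_mul]
      rw [e2, zero_add]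
      congr 1
      · exact Finset.sum_congr rfl fun ψ hψ => by rw [D.agree ψ hψ ψ₀ hψ₀ y hy]
      · exact Finset.sum_congr rfl fun ψ hψ => by
          rw [D.hf ψ (Finset.mem_filter.1 hψ).2 x hx hx1]
    have hS1 : ∑ ψ ∈ D.R, (ψ : G → ℂ) x = -D.ε := by
      have h1 := hcol 1 (one_not_inConj A)
      have hx1' : ¬ IsConj x 1 := fun h => hx1 (isConj_one_left.1 h)
      rw [col_zero hx1'] at h1
      have h2 : ∑ χ : IrrCharacter G, (D.f χ : ℂ) * conj ((χ : G → ℂ) 1) = D.ε * D.d := by
        have h3 : ((∑ ψ : IrrCharacter G, (charDegree (ψ : G → ℂ) : ℤ) * D.f ψ : ℤ) : ℂ) = ((D.ε * D.d : ℤ) : ℂ) := by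
          rw [hsd']
        push_cast at h3
        rw [← h3]
        exact Finset.sum_congr rfl fun χ _ => by
          rw [← charDegree_irr, Complex.conj_natCast]; ring
      rw [h2, ← charDegree_irr, D.deg ψ₀ hψ₀, Complex.conj_natCast] at h1
      have hd0' : (D.d : ℂ) ≠ 0 := by exact_mod_cast hd0
      have h3 : (D.d : ℂ) * (∑ ψ ∈ D.R, (ψ : G → ℂ) x + D.ε) = 0 := by linear_combination -h1
      rcases mul_eq_zero.1 h3 with h4 | h4
      · exact absurd h4 hd0'
      · linear_combination h4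
    have hψu : (ψ₀ : G → ℂ) u = D.ε := by
      have h1 := hcol u huA
      rw [col_zero hxu, hS1, hsum (fun χ => (D.f χ : ℂ) * conj ((χ : G → ℂ) u)) (fun χ h => by
        rw [h, Int.cast_zero, zero_mul]), hau, hbu, hSt0 u hup, hI1, hfI] at h1
      simp only [map_zero, mul_zero, add_zero, map_one, Int.cast_one, mul_one] at h1
      have h2 : conj ((ψ₀ : G → ℂ) u) = D.ε := by
        rcases D.hε with h3 | h3 <;> rw [h3] at h1 ⊢ <;> push_cast at h1 ⊢
        · linear_combination h1
        · linear_combination -h1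
      have h3 := congrArg conj h2
      rw [Complex.conj_conj, map_intCast] at h3
      exact h3
    have hint := centralInt ψ₀ u
    rw [hψu, ← charDegree_irr, D.deg ψ₀ hψ₀] at hint
    have hdi := dvd_of_isIntegral hd0 D.hε hint
    have h1 : r ∣ Nat.card ↥(centralizer ({u} : Set G)) := by
      have hzc : z ∈ centralizer ({u} : Set G) := mem_centralizer_singleton_iff.2 huz.eq.symm
      have := _root_.orderOf_dvd_natCard (⟨z, hzc⟩ : ↥(centralizer ({u} : Set G)))
      rwa [← Subgroup.orderOf_coe, hz] at this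
    have h2 : r ^ 3 ∣ Nat.card G := by
      rw [← (centralizer ({u} : Set G)).card_mul_index, pow_succ']
      exact Nat.mul_dvd_mul h1 (hrd.trans hdi)
    have h3 := (hrp.pow_dvd_iff_le_factorization Nat.card_pos.ne').1 h2
    omega

end Cfsg.Agent.H519.TDU
end
end

-- part: H812/TC/SpFour
section
prune_inst 0x38998000000000000080000000000001c018000
set_option linter.all false
open scoped Cfsg.Agent.FastGrp

/-!
# S2464, row `PSp_4(q)`: the class of an element of prime order dividing `q² + 1` (helper812)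

* `exists_prime` : a prime `r ≥ 5` with `ord_r q = 4`;
* `irr_charpoly` : an element of order `r` of `GL_4(q)` has an irreducible characteristic polynomial;
* `isConj_of` : two elements of `Sp_4(q)` with the same characteristic polynomial as an element of order `r` are
  conjugate in `Sp_4(q)`;
* `row3_of` : the row from the product theorem.
-/

set_option autoImplicit false

namespace Cfsg.Agent.H812.TC.SpF

open Matrix Polynomial

variable {F : Type} [Field F] [Fintype F]

theorem cast_card_ne {r : ℕ} (hr : r.Prime) (h4 : orderOf ((Fintype.card F : ℕ) : ZMod r) = 4) {p : ℕ} [CharP F p] :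
    p ≠ r := by
  rintro rfl
  have hrr : Fact p.Prime := ⟨hr⟩
  obtain ⟨f, -, hF⟩ := FiniteField.card F p
  have h0 : ((Fintype.card F : ℕ) : ZMod p) = 0 := by
    rw [hF]
    push_cast
    rw [ZMod.natCast_self, zero_pow f.pos.ne']
  rw [h0] at h4
  have h5 : (0 : ZMod p) ^ 4 = 1 := by rw [← h4]; exact pow_orderOf_eq_one _
  rw [zero_pow (by norm_num)] at h5
  exact zero_ne_one h5

theorem irr_charpoly {ι : Type*} [Fintype ι] [DecidableEq ι] {r : ℕ} (hr : r.Prime)
    (h4 : orderOf ((Fintype.card F : ℕ) : ZMod r) = 4) (hι : Fintype.card ι = 4) {M : Matrix ι ι F} (hM : M ^ r = 1)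
    (h1 : M ≠ 1) : Irreducible M.charpoly := by
  classical
  obtain ⟨p, hp⟩ := CharP.exists F
  have hpp : Fact p.Prime := ⟨CharP.char_is_prime F p⟩
  obtain ⟨f, -, hF⟩ := FiniteField.card F p
  have hrr : Fact r.Prime := ⟨hr⟩
  have hpr : p ≠ r := cast_card_ne (F := F) hr h4
  have hn : p.Coprime r := (Nat.coprime_primes hpp.out hr).2 hpr
  have hnc : ¬ IsCoprime M.charpoly (cyclotomic r F) := by
    rintro ⟨a, b, hab⟩
    have e1 := congrArg (aeval M) hab
    simp only [map_add, map_mul, aeval_self_charpoly, mul_zero, zero_add, map_one] at e1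
    have e2 := congrArg (aeval M) (cyclotomic_prime_mul_X_sub_one F r)
    simp only [map_mul, map_sub, map_pow, aeval_X, map_one, hM, sub_self] at e2
    apply h1
    have e3 : M - 1 = 0 := by
      calc M - 1 = (aeval M b * aeval M (cyclotomic r F)) * (M - 1) := by rw [e1, one_mul]
        _ = 0 := by rw [mul_assoc, e2, mul_zero]
    exact sub_eq_zero.1 e3
  obtain ⟨P, hP, hP1, hP2⟩ : ∃ P : F[X], Irreducible P ∧ P ∣ M.charpoly ∧ P ∣ cyclotomic r F := by
    by_contra hcon
    push Not at hcon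
    exact hnc (isCoprime_of_irreducible_dvd (fun h => M.charpoly_monic.ne_zero h.1) fun z hz hz1 => hcon z hz hz1)
  have hdeg : P.natDegree = 4 := by
    rw [natDegree_of_dvd_cyclotomic_of_irreducible hF hn hP2 hP, ← h4, ← orderOf_units, ZMod.coe_unitOfCoprime, hF]
  have hass : Associated P M.charpoly := associated_of_dvd_of_natDegree_le hP1 M.charpoly_monic.ne_zero
    (by rw [hdeg, M.charpoly_natDegree_eq_dim, hι])
  exact hass.irreducible hP

theorem isConj_of {r : ℕ} (hr : r.Prime) (h4 : orderOf ((Fintype.card F : ℕ) : ZMod r) = 4)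
    {x y : symplecticGroup (Fin 2) F} (hx : x ^ r = 1) (hx1 : x ≠ 1) (h : y.1.charpoly = x.1.charpoly) : IsConj x y := by
  classical
  obtain ⟨p, hp⟩ := CharP.exists F
  have hpp : Fact p.Prime := ⟨CharP.char_is_prime F p⟩
  have hpr : p ≠ r := cast_card_ne (F := F) hr h4
  have hirr : Irreducible x.1.charpoly := by
    refine irr_charpoly hr h4 (by simp) (M := x.1) ?_ (fun h1 => hx1 (Subtype.ext h1))
    have := congrArg Subtype.val hx
    rwa [SubmonoidClass.coe_pow] at this
  let e : symplecticGroup (Fin 2) F →* GL (Fin 2 ⊕ Fin 2) F := (symplecticGroup (Fin 2) F).subtype.toHomUnits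
  have he : ∀ z : symplecticGroup (Fin 2) F, ((e z : GL (Fin 2 ⊕ Fin 2) F) : Matrix _ _ F) = z.1 := fun z => rfl
  have hc : IsConj (e x) (e y) := by
    refine H193.SsConj.isConj_of_charpoly (e x) (e y) x.1.charpoly hirr.squarefree ?_ ?_ ?_
    · rw [he]; exact aeval_self_charpoly _
    · rw [he, ← h]; exact aeval_self_charpoly _
    · rw [he, he, h]
  obtain ⟨c, hc⟩ := isConj_iff.1 hc
  refine H175.SympConj.exists_conj (p := p) x y ?_ (c : Matrix (Fin 2 ⊕ Fin 2) (Fin 2 ⊕ Fin 2) F) c.isUnit ?_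
  · exact Nat.Coprime.coprime_dvd_left (orderOf_dvd_of_pow_eq_one hx) ((Nat.coprime_primes hr hpp.out).2 (Ne.symm hpr))
  · have h1 : c * e x = e y * c := by rw [← hc]; group
    exact congrArg Units.val h1

/-- the row from the product theorem up to sign (`x = y` is real, so transvections are products only up to sign) -/
theorem row3_sign {r : ℕ} (hr : r.Prime) (h5 : 5 ≤ r) (h4 : orderOf ((Fintype.card F : ℕ) : ZMod r) = 4)
    {x : symplecticGroup (Fin 2) F} (hx : orderOf x = r)
    (H : ∀ g : symplecticGroup (Fin 2) F, g ∉ Subgroup.center (symplecticGroup (Fin 2) F) →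
      ∃ A B : symplecticGroup (Fin 2) F, (A.1 * B.1 = g.1 ∨ A.1 * B.1 = -g.1) ∧
        A.1.charpoly = x.1.charpoly ∧ B.1.charpoly = x.1.charpoly) :
    H210.TC.Row3 (PSp 2 F) := by
  have hxr : x ^ r = 1 := by rw [← hx]; exact pow_orderOf_eq_one x
  have hx1 : x ≠ 1 := by
    rintro rfl
    rw [orderOf_one] at hx
    omega
  let π : symplecticGroup (Fin 2) F →* PSp 2 F := QuotientGroup.mk' _
  have hxπ : π x ≠ 1 := fun h => hx1 (H104.RowPSp.center_free (m := 2) (by norm_num) hr (by omega) x hxr h)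
  have ho : orderOf (π x) = r := by
    have h1 : orderOf (π x) ∣ r := orderOf_dvd_of_pow_eq_one (by rw [← map_pow, hxr, map_one])
    rcases (Nat.dvd_prime hr).1 h1 with h2 | h2
    · exact absurd (orderOf_eq_one_iff.1 h2) hxπ
    · exact h2
  refine H210.TC.Row3.of_sq (x := π x) (by rw [ho]; exact hr) ?_ ?_
  · rw [ho]
    have h2 : Nat.Coprime r 2 := (Nat.coprime_primes hr Nat.prime_two).2 (by omega)
    have h3 : Nat.Coprime r 3 := (Nat.coprime_primes hr Nat.prime_three).2 (by omega)
    exact Nat.Coprime.mul_right h2 h3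
  · intro g hg
    obtain ⟨g', rfl⟩ := QuotientGroup.mk'_surjective _ g
    have hg' : g' ∉ Subgroup.center (symplecticGroup (Fin 2) F) := fun h => hg ((QuotientGroup.eq_one_iff g').2 h)
    obtain ⟨A, B, e, hA, hB⟩ := H g' hg'
    obtain ⟨u, hu⟩ := isConj_iff.1 (isConj_of hr h4 hxr hx1 hA)
    obtain ⟨v, hv⟩ := isConj_iff.1 (isConj_of hr h4 hxr hx1 hB)
    refine ⟨π u, π v, ?_⟩
    have key : π g' = π (A * B) := by
      rcases e with e | e
      · rw [show A * B = g' from Subtype.ext e]
      · refine (QuotientGroup.eq).2 ?_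
        rw [LieClassical.SympCenter.mem_center_iff]
        refine ⟨-1, ?_⟩
        have h4' : g'⁻¹.1 * g'.1 = 1 := by
          have := congrArg Subtype.val (inv_mul_cancel g')
          rwa [Submonoid.coe_mul] at this
        show (g'⁻¹ * (A * B)).1 = _
        rw [Submonoid.coe_mul, Submonoid.coe_mul, e, mul_neg, h4']
        simp
    show π g' = _
    rw [key, ← hu, ← hv]
    simp only [map_mul, map_inv]

/-- a prime `r ≥ 5` with `ord_r q = 4` and an element of order `r` -/
theorem exists_elt (hF : 3 ≤ Fintype.card F) : ∃ r : ℕ, r.Prime ∧ 5 ≤ r ∧ orderOf ((Fintype.card F : ℕ) : ZMod r) = 4 ∧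
    ∃ x : symplecticGroup (Fin 2) F, orderOf x = r := by
  obtain ⟨q, hq⟩ : ∃ q, Fintype.card F = q := ⟨_, rfl⟩
  rw [hq] at hF ⊢
  -- a prime `r ≠ 2` dividing `q² + 1`
  obtain ⟨r, hr, hr2, hrd⟩ : ∃ r : ℕ, r.Prime ∧ r ≠ 2 ∧ r ∣ q ^ 2 + 1 := by
    by_contra hcon
    push Not at hcon
    have h2 : ∀ r : ℕ, r.Prime → r ∣ q ^ 2 + 1 → r = 2 := fun r hr hd => by
      by_contra h
      exact hcon r hr h hd
    have h3 : q ^ 2 + 1 = 2 ^ (q ^ 2 + 1).primeFactorsList.length :=
      Nat.eq_prime_pow_of_unique_prime_dvd (by positivity) (fun {d} hd hdd => h2 d hd hdd)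
    have h4 : ∀ n : ℕ, n % 4 = 0 ∨ n % 4 = 1 ∨ n % 4 = 2 ∨ n % 4 = 3 := fun n => by omega
    have h5 : (q ^ 2 + 1) % 4 ≠ 0 := by
      rw [pow_two]
      rcases h4 q with h | h | h | h <;> simp [Nat.add_mod, Nat.mul_mod, h]
    have h6 : 9 ≤ q ^ 2 := by nlinarith
    rcases hk : (q ^ 2 + 1).primeFactorsList.length with _ | _ | k
    · rw [hk] at h3
      norm_num at h3
      omega
    · rw [hk] at h3
      norm_num at h3
      omega
    · rw [hk] at h3
      apply h5
      rw [h3, pow_add]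
      omega
  have hrr : Fact r.Prime := ⟨hr⟩
  have hr3 : r ≠ 3 := by
    rintro rfl
    have h4 : (q ^ 2 + 1) % 3 = 0 := Nat.mod_eq_zero_of_dvd hrd
    have h5 : q % 3 = 0 ∨ q % 3 = 1 ∨ q % 3 = 2 := by omega
    rw [pow_two] at h4
    rcases h5 with h | h | h <;> simp [Nat.add_mod, Nat.mul_mod, h] at h4
  have hr5 : 5 ≤ r := by
    have h1 := hr.two_le
    by_contra h
    have h4 : r = 4 := by omega
    rw [h4] at hr
    exact absurd hr (by decide)
  have hz : ((q : ℕ) : ZMod r) ^ 2 = -1 := by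
    have h1 : ((q ^ 2 + 1 : ℕ) : ZMod r) = 0 := (ZMod.natCast_eq_zero_iff _ _).2 hrd
    push_cast at h1
    exact eq_neg_of_add_eq_zero_left h1
  have hne : (-1 : ZMod r) ≠ 1 := by
    intro h
    have h2 : ((2 : ℕ) : ZMod r) = 0 := by
      push_cast
      linear_combination -h
    have := (ZMod.natCast_eq_zero_iff _ _).1 h2
    have := Nat.le_of_dvd (by norm_num) this
    omega
  have h4 : orderOf ((q : ℕ) : ZMod r) = 4 := by
    have : orderOf ((q : ℕ) : ZMod r) = 2 ^ (1 + 1) := by
      refine orderOf_eq_prime_pow ?_ ?_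
      · rw [pow_one, hz]; exact hne
      · show ((q : ℕ) : ZMod r) ^ (2 * 2) = 1
        rw [pow_mul, hz]; norm_num
    simpa using this
  refine ⟨r, hr, hr5, h4, ?_⟩
  have hd : r ∣ Nat.card (symplecticGroup (Fin 2) F) := by
    rw [LieClassical.SympCount.card_symplecticGroup, hq]
    refine Dvd.dvd.mul_left ?_ _
    refine Dvd.dvd.trans ?_ (Finset.dvd_prod_of_mem _ (Finset.mem_range.2 (show 1 < 2 by norm_num)))
    have h1 : q ^ (2 * (1 + 1)) - 1 = (q ^ 2 + 1) * (q ^ 2 - 1) := by
      have h2 : 1 ≤ q ^ 2 := Nat.one_le_pow _ _ (by omega)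
      obtain ⟨c, hc⟩ := Nat.exists_eq_add_of_le h2
      have h3 : q ^ (2 * (1 + 1)) = (q ^ 2) ^ 2 := by ring
      rw [h3, hc]
      have h4 : (1 + c) ^ 2 = (1 + c + 1) * c + 1 := by ring
      rw [h4]
      simp
    rw [h1]
    exact hrd.mul_right _
  exact exists_prime_orderOf_dvd_card' r hd

end Cfsg.Agent.H812.TC.SpF
end

-- part: H309/SF/Row7
section
prune_inst 0x11004101554010000004059073204ea3370000b00000000020a501420589cc0089c28060a8100409588800050835004000000020400041c040a44000011a018008000000c0c9409100001000028841500038998000000000000080000000000401c018000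
set_option linter.all false
open scoped Cfsg.Agent.FastGrp
private noncomputable def lq26c7747f93 {T : Sort _} (f :
    type_of% (@_root_.List.cons.{0}) →
    type_of% (@_root_.List.nil.{0}) →
    type_of% (@_root_.List.cons.{0} (List Nat)) →
    type_of% (@_root_.Nat.mul) →
    type_of% (@_root_.Nat.add) →
    type_of% (@_root_.Bool.and) →
    type_of% (@_root_.Nat.mod) →
    type_of% (@_root_.Nat.beq) →
    type_of% (@_root_.Bool.true) → T) : T :=
  f (@_root_.List.cons.{0}) (@_root_.List.nil.{0}) (@_root_.List.cons.{0} (List Nat)) (@_root_.Nat.mul) (@_root_.Nat.add) (@_root_.Bool.and) (@_root_.Nat.mod) (@_root_.Nat.beq) (@_root_.Bool.true)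

-- part: H309/SF/Nf
section
/-!
# Normal forms of the noncentral elements of `Sp_4(F)` (helper309, S2464, S2452)
-/

set_option autoImplicit false

namespace Cfsg.Agent.H309.SF

open Matrix

variable {F : Type*} [Field F]

/-- the index type -/
abbrev Ix := Fin 2 ⊕ Fin 2

/-- the symplectic form -/
def B (u v : Ix → F) : F :=
  u (Sum.inr 0) * v (Sum.inl 0) + u (Sum.inr 1) * v (Sum.inl 1) - u (Sum.inl 0) * v (Sum.inr 0) -
    u (Sum.inl 1) * v (Sum.inr 1)

theorem B_eq (u v : Ix → F) : u ⬝ᵥ (J (Fin 2) F *ᵥ v) = B u v := by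
  simp only [J, dotProduct, mulVec, Fintype.sum_sum_type, Fin.sum_univ_two, fromBlocks_apply₁₁,
    fromBlocks_apply₁₂, fromBlocks_apply₂₁, fromBlocks_apply₂₂, Matrix.zero_apply, Matrix.neg_apply, Matrix.one_apply,
    B]
  simp only [_root_.Fin.isValue, _root_.MulZeroClass.zero_mul, _root_.add_zero, ↓ _root_.reduceIte, _root_.neg_mul, _root_.one_mul, _root_.zero_ne_one, _root_.neg_zero, _root_.zero_add, _root_.mul_neg, _root_.one_ne_zero]
  ring

theorem B_add_left (u u' v : Ix → F) : B (u + u') v = B u v + B u' v := by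
  simp only [B, Pi.add_apply]; ring

theorem B_add_right (u v v' : Ix → F) : B u (v + v') = B u v + B u v' := by
  simp only [B, Pi.add_apply]; ring

theorem B_sub_left (u u' v : Ix → F) : B (u - u') v = B u v - B u' v := by
  simp only [B, Pi.sub_apply]; ring

theorem B_sub_right (u v v' : Ix → F) : B u (v - v') = B u v - B u v' := by
  simp only [B, Pi.sub_apply]; ring

theorem B_neg_left (u v : Ix → F) : B (-u) v = -B u v := by
  simp only [B, Pi.neg_apply]; ring

theorem B_neg_right (u v : Ix → F) : B u (-v) = -B u v := by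
  simp only [B, Pi.neg_apply]; ring

theorem B_smul_left (c : F) (u v : Ix → F) : B (c • u) v = c * B u v := by
  simp only [B, Pi.smul_apply, smul_eq_mul]; ring

theorem B_smul_right (c : F) (u v : Ix → F) : B u (c • v) = c * B u v := by
  simp only [B, Pi.smul_apply, smul_eq_mul]; ring

theorem B_self (u : Ix → F) : B u u = 0 := by
  simp only [B]; ring

theorem B_comm (u v : Ix → F) : B u v = -B v u := by
  simp only [B]; ring

theorem B_nondeg {u : Ix → F} (h : ∀ v, B u v = 0) : u = 0 := by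
  funext i
  rcases i with i | i
  · have := h (Pi.single (Sum.inr i) 1)
    fin_cases i <;> simpa [B] using this
  · have := h (Pi.single (Sum.inl i) 1)
    fin_cases i <;> simpa [B] using this

theorem exists_B {u : Ix → F} (h : u ≠ 0) : ∃ v, B u v ≠ 0 := by
  by_contra hc
  push Not at hc
  exact h (B_nondeg hc)

theorem B_mulVec {g : Matrix Ix Ix F} (hg : gᵀ * J (Fin 2) F * g = J (Fin 2) F) (u v : Ix → F) :
    B (g *ᵥ u) (g *ᵥ v) = B u v := by
  rw [← B_eq, ← B_eq, ← Matrix.vecMul_transpose, ← dotProduct_mulVec, mulVec_mulVec, mulVec_mulVec, hg]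

/-- matrix of four vectors -/
def mat (w : Fin 4 → Ix → F) : Matrix Ix (Fin 4) F := of fun i j => w j i

/-- Gram matrix -/
def gram (w : Fin 4 → Ix → F) : Matrix (Fin 4) (Fin 4) F := of fun i j => B (w i) (w j)

theorem mat_mulVec (w : Fin 4 → Ix → F) (c : Fin 4 → F) : mat w *ᵥ c = ∑ k, c k • w k := by
  funext i
  simp only [mat, mulVec, dotProduct, of_apply, Finset.sum_apply, Pi.smul_apply, smul_eq_mul]
  exact Finset.sum_congr rfl fun k _ => mul_comm _ _

theorem gram_eq (w : Fin 4 → Ix → F) : (mat w)ᵀ * J (Fin 2) F * mat w = gram w := by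
  ext i j
  rw [Matrix.mul_assoc, Matrix.mul_apply]
  simp only [gram, of_apply, ← B_eq]
  rfl

theorem inv_of_gram {w : Fin 4 → Ix → F} {G' : Matrix (Fin 4) (Fin 4) F} (h : G' * gram w = 1) :
    (G' * (mat w)ᵀ * J (Fin 2) F) * mat w = 1 ∧ mat w * (G' * (mat w)ᵀ * J (Fin 2) F) = 1 := by
  have h1 : (G' * (mat w)ᵀ * J (Fin 2) F) * mat w = 1 := by
    rw [Matrix.mul_assoc, Matrix.mul_assoc, ← Matrix.mul_assoc (mat w)ᵀ, gram_eq, h]
  exact ⟨h1, (Matrix.mul_eq_one_comm_of_card_eq _ _ _ (by simp)).1 h1⟩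

theorem span_of_gram {w : Fin 4 → Ix → F} {G' : Matrix (Fin 4) (Fin 4) F} (h : G' * gram w = 1) (x : Ix → F) :
    ∃ c : Fin 4 → F, x = c 0 • w 0 + c 1 • w 1 + c 2 • w 2 + c 3 • w 3 := by
  refine ⟨(G' * (mat w)ᵀ * J (Fin 2) F) *ᵥ x, ?_⟩
  have h1 : x = mat w *ᵥ ((G' * (mat w)ᵀ * J (Fin 2) F) *ᵥ x) := by
    rw [mulVec_mulVec, (inv_of_gram h).2, one_mulVec]
  conv_lhs => rw [h1, mat_mulVec]
  simp only [Fin.sum_univ_four]


/-- the standard Gram matrix -/
def H2 (ε : F) : Matrix (Fin 4) (Fin 4) F := !![0, 1, 0, 0; -1, 0, 0, 0; 0, 0, 0, ε; 0, 0, -ε, 0]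

/-- the Toeplitz Gram matrix -/
def T1 (b a : F) : Matrix (Fin 4) (Fin 4) F := !![0, 1, b, a; -1, 0, 1, b; -b, -1, 0, 1; -a, -b, -1, 0]

theorem H2_inv {ε : F} (h : ε ≠ 0) : (!![0, -1, 0, 0; 1, 0, 0, 0; 0, 0, 0, -ε⁻¹; 0, 0, ε⁻¹, 0] :
    Matrix (Fin 4) (Fin 4) F) * H2 ε = 1 := by
  ext i j
  (revert i j; simp only [H2, Matrix.mul_apply, Fin.sum_univ_four, h, _root_.Fin.forall_fin_succ, _root_.Matrix.of_apply, _root_.Matrix.cons_val', _root_.Matrix.cons_val_fin_one, Fin.isValue, _root_.Matrix.cons_val_zero, _root_.Matrix.cons_val_one, _root_.Matrix.cons_val, _root_.MulZeroClass.mul_zero, _root_.mul_neg, _root_.mul_one, _root_.zero_add, _root_.add_zero, _root_.Matrix.cons_val_succ, _root_.IsEmpty.forall_iff, _root_.and_true, _root_.neg_neg, _root_.Matrix.one_apply_eq, Nat.reduceAdd, _root_.Fin.succ_zero_eq_one, _root_.ne_eq, _root_.zero_ne_one, _root_.not_false_eq_true, _root_.Matrix.one_apply_ne, _root_.MulZeroClass.zero_mul, _root_.neg_zero, _root_.Fin.succ_one_eq_two, Fin.reduceEq,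 Fin.reduceSucc, _root_.and_self, _root_.Fin.succ_ne_zero, _root_.neg_eq_zero, _root_.neg_mul, _root_.inv_mul_cancel₀, _root_.true_and])

theorem T1_inv {b a : F} (h : 1 - b * b + a ≠ 0) : ((1 - b * b + a)⁻¹ • (!![0, -1, b, -1; 1, 0, -a, b;
    -b, a, 0, -1; 1, -b, 1, 0] : Matrix (Fin 4) (Fin 4) F)) * T1 b a = 1 := by
  rw [smul_mul_assoc]
  have : (!![0, -1, b, -1; 1, 0, -a, b; -b, a, 0, -1; 1, -b, 1, 0] : Matrix (Fin 4) (Fin 4) F) * T1 b a =
      (1 - b * b + a) • (1 : Matrix (Fin 4) (Fin 4) F) := by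
    ext i j
    (revert i j; simp only [T1, Matrix.mul_apply, Fin.sum_univ_four, _root_.Fin.forall_fin_succ, _root_.Matrix.of_apply, _root_.Matrix.cons_val', _root_.Matrix.cons_val_fin_one, Fin.isValue, _root_.Matrix.cons_val_zero, _root_.Matrix.cons_val_one, _root_.Matrix.cons_val, _root_.Matrix.smul_apply, _root_.smul_eq_mul, _root_.MulZeroClass.mul_zero, _root_.mul_neg, _root_.mul_one, _root_.zero_add, _root_.Matrix.cons_val_succ, _root_.add_zero, _root_.IsEmpty.forall_iff, _root_.and_true, _root_.neg_neg, _root_.neg_mul, _root_.one_mul, _root_.Matrix.one_apply_eq, _root_.add_left_inj, _root_.neg_add_cancel, Nat.reduceAdd, _root_.Fin.succ_zero_eq_one, _root_.ne_eq, _root_.zero_ne_one, _root_.not_false_eq_true, _root_.Matrix.one_apply_ne, _root_.MulZeroClass.zero_mul, _root_.Fin.succ_one_eq_two, Fin.reduceEq, Fin.reduceSucc, _root_.and_self, _root_.Fin.succ_ne_zero, _root_.neg_zero, _root_.add_neg_cancel, _root_.true_and, _root_.zero_eq_mul, _root_.or_true]) <;> (repeat' with_reducible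 apply And.intro) <;> ring
  rw [this, smul_smul, inv_mul_cancel₀ h, one_smul]

theorem inv_smul_gram {a : F} (ha : a ≠ 0) {w : Fin 4 → Ix → F} {Γ G' : Matrix (Fin 4) (Fin 4) F}
    (h : gram w = a • Γ) (hG : G' * Γ = 1) : (a⁻¹ • G') * gram w = 1 := by
  rw [h, smul_mul_assoc, mul_smul_comm, smul_smul, inv_mul_cancel₀ ha, hG, one_smul]

/-- the normal forms: the matrix of `g` and the Gram matrix (up to a scalar) -/
def NF (C Γ : Matrix (Fin 4) (Fin 4) F) : Prop :=
  (∃ b s p a : F, a = s * b - p + 1 ∧ 1 - b * b + a ≠ 0 ∧ Γ = T1 b a ∧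
    C = !![0, 0, 0, -1; 1, 0, 0, s; 0, 1, 0, -p; 0, 0, 1, s]) ∨
  (∃ β l l' y : F, l * l' = 1 ∧ Γ = H2 1 ∧
    C = !![0, -1, 0, 0; 1, β, 0, l'; 0, 1, l, y; 0, 0, 0, l']) ∨
  (∃ β β' ε : F, ε ≠ 0 ∧ Γ = H2 ε ∧ C = !![0, -1, 0, 0; 1, β, 0, 0; 0, 0, 0, -1; 0, 0, 1, β']) ∨
  (∃ β ε : F, (ε = 1 ∨ ε = -1) ∧ Γ = H2 1 ∧ C = !![0, -1, 0, 0; 1, β, 0, 0; 0, 0, ε, 0; 0, 0, 0, ε]) ∨
  (Γ = H2 1 ∧ C = !![1, 0, 0, 0; 0, 1, 0, 0; 0, 0, -1, 0; 0, 0, 0, -1])

end Cfsg.Agent.H309.SF
end

-- part: H309/SF/Nf2
section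
set_option autoImplicit false

namespace Cfsg.Agent.H309.SF

open Matrix

variable {F : Type*} [Field F]

theorem mul_mat {g : Matrix Ix Ix F} {w : Fin 4 → Ix → F} {C : Matrix (Fin 4) (Fin 4) F}
    (h : ∀ j, g *ᵥ w j = ∑ k, C k j • w k) : g * mat w = mat w * C := by
  ext i j
  have h1 := congrFun (h j) i
  rw [Matrix.mul_apply, Matrix.mul_apply]
  have h2 : (g *ᵥ w j) i = ∑ k, g i k * mat w k j := rfl
  rw [← h2, h1]
  simp only [Finset.sum_apply, Pi.smul_apply, smul_eq_mul, mat, of_apply]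
  exact Finset.sum_congr rfl fun k _ => mul_comm _ _

theorem perp_zero {w : Fin 4 → Ix → F} {G' : Matrix (Fin 4) (Fin 4) F} (h : G' * gram w = 1) {x : Ix → F}
    (h0 : B (w 0) x = 0) (h1 : B (w 1) x = 0) (h2 : B (w 2) x = 0) (h3 : B (w 3) x = 0) : x = 0 := by
  apply B_nondeg
  intro y
  obtain ⟨c, rfl⟩ := span_of_gram h y
  rw [B_comm]
  simp only [B_add_left, B_smul_left, h0, h1, h2, h3]
  ring

/-- the conclusion -/
def Concl (g : Matrix Ix Ix F) : Prop :=
  ∃ (w : Fin 4 → Ix → F) (a : F) (C Γ G' : Matrix (Fin 4) (Fin 4) F), a ≠ 0 ∧ NF C Γ ∧ gram w = a • Γ ∧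
    g * mat w = mat w * C ∧ G' * Γ = 1

theorem gram_ext {w : Fin 4 → Ix → F} {a ε : F} (h01 : B (w 0) (w 1) = a) (h02 : B (w 0) (w 2) = 0)
    (h03 : B (w 0) (w 3) = 0) (h12 : B (w 1) (w 2) = 0) (h13 : B (w 1) (w 3) = 0) (h23 : B (w 2) (w 3) = a * ε) :
    gram w = a • H2 ε := by
  have h10 : B (w 1) (w 0) = -a := by rw [B_comm, h01]
  have h20 : B (w 2) (w 0) = 0 := by rw [B_comm, h02, neg_zero]
  have h30 : B (w 3) (w 0) = 0 := by rw [B_comm, h03, neg_zero]
  have h21 : B (w 2) (w 1) = 0 := by rw [B_comm, h12, neg_zero]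
  have h31 : B (w 3) (w 1) = 0 := by rw [B_comm, h13, neg_zero]
  have h32 : B (w 3) (w 2) = -(a * ε) := by rw [B_comm, h23]
  ext i j
  (revert i j; simp only [gram, H2, B_self, h01, h02, h03, h12, h13, h23, h10, h20, h30, h21, h31, h32, _root_.Fin.forall_fin_succ, _root_.Matrix.of_apply, _root_.Matrix.smul_apply, _root_.Matrix.cons_val', _root_.Matrix.cons_val_fin_one, _root_.smul_eq_mul, Fin.isValue, _root_.Matrix.cons_val_zero, _root_.Matrix.cons_val_succ, _root_.Fin.succ_zero_eq_one, _root_.Fin.succ_one_eq_two, Fin.reduceSucc, _root_.IsEmpty.forall_iff, _root_.and_true, _root_.MulZeroClass.mul_zero, _root_.mul_one, _root_.and_self, _root_.mul_neg])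

/-- involutions -/
theorem case_inv (h2 : (2 : F) ≠ 0) {g : Matrix Ix Ix F} (hg : gᵀ * J (Fin 2) F * g = J (Fin 2) F) (h1 : g ≠ 1)
    (hm : g ≠ -1) (hgg : ∀ x : Ix → F, g *ᵥ (g *ᵥ x) = x) : Concl g := by
  have hB := fun u v => B_mulVec hg u v
  obtain ⟨x, hx⟩ : ∃ x : Ix → F, g *ᵥ x + x ≠ 0 := by
    by_contra hc
    push Not at hc
    apply hm
    apply Matrix.ext_of_mulVec_single
    intro i
    rw [neg_mulVec, one_mulVec]
    exact eq_neg_of_add_eq_zero_left (hc _)
  obtain ⟨y, hy⟩ : ∃ y : Ix → F, y - g *ᵥ y ≠ 0 := by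
    by_contra hc
    push Not at hc
    apply h1
    apply Matrix.ext_of_mulVec_single
    intro i
    rw [one_mulVec]
    exact (sub_eq_zero.1 (hc _)).symm
  obtain ⟨e1, he1⟩ : ∃ e1, e1 = g *ᵥ x + x := ⟨_, rfl⟩
  obtain ⟨e2, he2⟩ : ∃ e2, e2 = y - g *ᵥ y := ⟨_, rfl⟩
  have ge1 : g *ᵥ e1 = e1 := by rw [he1, mulVec_add, hgg]; abel
  have ge2 : g *ᵥ e2 = -e2 := by rw [he2, mulVec_sub, hgg]; abel
  rw [← he1] at hx
  rw [← he2] at hy
  obtain ⟨z, hz⟩ := exists_B hx
  obtain ⟨t, ht⟩ := exists_B hy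
  obtain ⟨f1, hf1⟩ : ∃ f1, f1 = (2 * B e1 z)⁻¹ • (z + g *ᵥ z) := ⟨_, rfl⟩
  obtain ⟨f2, hf2⟩ : ∃ f2, f2 = (2 * B e2 t)⁻¹ • (t - g *ᵥ t) := ⟨_, rfl⟩
  have gf1 : g *ᵥ f1 = f1 := by rw [hf1, mulVec_smul, mulVec_add, hgg, add_comm]
  have gf2 : g *ᵥ f2 = -f2 := by rw [hf2, mulVec_smul, mulVec_sub, hgg, ← smul_neg, neg_sub]
  have b1 : B e1 f1 = 1 := by
    have h3 : B e1 (g *ᵥ z) = B e1 z := by
      conv_lhs => rw [← ge1]
      exact hB _ _
    rw [hf1, B_smul_right, B_add_right, h3]
    have : 2 * B e1 z ≠ 0 := mul_ne_zero h2 hz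
    field_simp
    ring
  have b2 : B e2 f2 = 1 := by
    have h3 : B e2 (g *ᵥ t) = - B e2 t := by
      have := hB e2 t
      rw [ge2, B_neg_left] at this
      linear_combination -this
    rw [hf2, B_smul_right, B_sub_right, h3]
    have : 2 * B e2 t ≠ 0 := mul_ne_zero h2 ht
    field_simp
    ring
  have perp : ∀ u v : Ix → F, g *ᵥ u = u → g *ᵥ v = -v → B u v = 0 := by
    intro u v hu hv
    have h3 := hB u v
    rw [hu, hv, B_neg_right] at h3
    have h4 : 2 * B u v = 0 := by linear_combination -h3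
    exact (mul_eq_zero.1 h4).resolve_left h2
  refine ⟨![e1, f1, e2, f2], 1, _, H2 1, _, one_ne_zero, Or.inr (Or.inr (Or.inr (Or.inr ⟨rfl, rfl⟩))), ?_, ?_,
    H2_inv one_ne_zero⟩
  · exact gram_ext b1 (perp _ _ ge1 ge2) (perp _ _ ge1 gf2) (perp _ _ gf1 ge2) (perp _ _ gf1 gf2) (by simpa using b2)
  · apply mul_mat
    intro j
    (revert j; simp only [Fin.sum_univ_four, ge1, ge2, gf1, gf2, _root_.Fin.forall_fin_succ, _root_.Matrix.of_apply, _root_.Matrix.cons_val', _root_.Matrix.cons_val_fin_one, Fin.isValue, _root_.Matrix.cons_val_zero, _root_.Matrix.cons_val_one, _root_.Matrix.cons_val, _root_.one_smul, _root_.zero_smul, _root_.add_zero, _root_.Matrix.cons_val_succ, _root_.zero_add, _root_.neg_smul, _root_.implies_true, _root_.and_self])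

end Cfsg.Agent.H309.SF
end

-- part: H309/SF/Nf3
section
set_option autoImplicit false

namespace Cfsg.Agent.H309.SF

open Matrix

variable {F : Type*} [Field F]

/-- `v, gv, g²v, g³v` is a basis -/
theorem case_cyc {g : Matrix Ix Ix F} (hg : gᵀ * J (Fin 2) F * g = J (Fin 2) F) {v : Ix → F} {a b α : F} (ha : a ≠ 0)
    (h1 : B v (g *ᵥ v) = a) (h2 : B v (g *ᵥ (g *ᵥ v)) = a * b) (h3 : B v (g *ᵥ (g *ᵥ (g *ᵥ v))) = a * α)
    (hP : 1 - b * b + α ≠ 0) : Concl g := by
  have hB := fun u v => B_mulVec hg u v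
  obtain ⟨v1, hv1⟩ : ∃ v1, v1 = g *ᵥ v := ⟨_, rfl⟩
  obtain ⟨v2, hv2⟩ : ∃ v2, v2 = g *ᵥ v1 := ⟨_, rfl⟩
  obtain ⟨v3, hv3⟩ : ∃ v3, v3 = g *ᵥ v2 := ⟨_, rfl⟩
  rw [← hv1] at h1 h2 h3
  rw [← hv2] at h2 h3
  rw [← hv3] at h3
  have h12 : B v1 v2 = a := by
    have := hB v v1
    rw [← hv1, ← hv2] at this
    rw [this, h1]
  have h23 : B v2 v3 = a := by
    have := hB v1 v2
    rw [← hv2, ← hv3] at this
    rw [this, h12]
  have h13 : B v1 v3 = a * b := by
    have := hB v v2
    rw [← hv1, ← hv3] at this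
    rw [this, h2]
  have hgram : gram ![v, v1, v2, v3] = a • T1 b α := by
    have h10 : B v1 v = -a := by rw [B_comm, h1]
    have h20 : B v2 v = -(a * b) := by rw [B_comm, h2]
    have h30 : B v3 v = -(a * α) := by rw [B_comm, h3]
    have h21 : B v2 v1 = -a := by rw [B_comm, h12]
    have h31 : B v3 v1 = -(a * b) := by rw [B_comm, h13]
    have h32 : B v3 v2 = -a := by rw [B_comm, h23]
    ext i j
    (revert i j; simp only [gram, T1, B_self, h1, h2, h3, h12, h13, h23, h10, h20, h30, h21, h31, h32, _root_.Fin.forall_fin_succ, _root_.Matrix.of_apply, _root_.Matrix.smul_apply, _root_.Matrix.cons_val', _root_.Matrix.cons_val_fin_one, _root_.smul_eq_mul, Fin.isValue, _root_.Matrix.cons_val_zero, _root_.Matrix.cons_val_succ, _root_.forall_const, _root_.MulZeroClass.mul_zero, _root_.mul_one, _root_.and_self, _root_.mul_neg, _root_.implies_true])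
  have hinv := inv_smul_gram ha hgram (T1_inv hP)
  obtain ⟨c, hc⟩ := span_of_gram hinv (g *ᵥ v3)
  simp only [cons_val_zero, cons_val_one, cons_val_two, cons_val_three, head_cons, tail_cons, cons_val] at hc
  have e1 : B v1 (g *ᵥ v3) = a * α := by
    have := hB v v3
    rw [← hv1] at this
    rw [this, h3]
  have e2 : B v2 (g *ᵥ v3) = a * b := by
    have := hB v1 v3
    rw [← hv2] at this
    rw [this, h13]
  have e3 : B v3 (g *ᵥ v3) = a := by
    have := hB v2 v3
    rw [← hv3] at this
    rw [this, h23]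
  rw [hc] at e1 e2 e3
  simp only [B_add_right, B_smul_right, B_self, h12, h13, h23, B_comm v1 v, B_comm v2 v, B_comm v3 v, B_comm v2 v1,
    B_comm v3 v1, B_comm v3 v2, h1, h2, h3] at e1 e2 e3
  obtain ⟨c0, hc0⟩ : ∃ c0, c0 = c 0 := ⟨_, rfl⟩
  obtain ⟨c1, hc1⟩ : ∃ c1, c1 = c 1 := ⟨_, rfl⟩
  obtain ⟨c2, hc2⟩ : ∃ c2, c2 = c 2 := ⟨_, rfl⟩
  obtain ⟨c3, hc3⟩ : ∃ c3, c3 = c 3 := ⟨_, rfl⟩
  rw [← hc0, ← hc1, ← hc2, ← hc3] at e1 e2 e3 hc
  have e1' : α = -c0 + c2 + b * c3 := by
    apply mul_left_cancel₀ ha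
    linear_combination -e1
  have e2' : b = -(c0 * b) - c1 + c3 := by
    apply mul_left_cancel₀ ha
    linear_combination -e2
  have e3' : 1 = -(c0 * α) - c1 * b - c2 := by
    apply mul_left_cancel₀ ha
    linear_combination -e3
  have hk : (1 + c0) * (1 - b * b + α) = 0 := by
    linear_combination e1' - b * e2' + e3'
  have hk0 : c0 = -1 := eq_neg_of_add_eq_zero_right ((mul_eq_zero.1 hk).resolve_right hP)
  have hk1 : c1 = c3 := by
    rw [hk0] at e2'
    linear_combination e2'
  refine ⟨![v, v1, v2, v3], a, !![0, 0, 0, -1; 1, 0, 0, c3; 0, 1, 0, c2; 0, 0, 1, c3], T1 b α, _, ha,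
    Or.inl ⟨b, c3, -c2, α, ?_, hP, rfl, ?_⟩, hgram, ?_, T1_inv hP⟩
  · rw [hk0] at e1'
    linear_combination e1'
  · simp
  · apply mul_mat
    intro j
    fin_cases j
    · simp [Fin.sum_univ_four, ← hv1]
    · simp [Fin.sum_univ_four, ← hv2]
    · simp [Fin.sum_univ_four, ← hv3]
    · simp only [Fin.sum_univ_four, hc, hk0, hk1, _root_.Fin.reduceFinMk, _root_.Matrix.cons_val, _root_.neg_smul, _root_.one_smul, _root_.Matrix.of_apply, _root_.Fin.isValue, _root_.Matrix.cons_val', _root_.Matrix.cons_val_fin_one, _root_.Matrix.cons_val_zero, _root_.Matrix.cons_val_one]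


/-- three-dimensional cyclic subspace -/
theorem case_three {g : Matrix Ix Ix F} (hg : gᵀ * J (Fin 2) F * g = J (Fin 2) F) {v e : Ix → F} {a b : F} (ha : a ≠ 0)
    (h1 : B v (g *ᵥ v) = a) (he : g *ᵥ (g *ᵥ v) = -v + b • (g *ᵥ v) + e) (he0 : e ≠ 0) (hve : B v e = 0)
    (hve1 : B (g *ᵥ v) e = 0) (hq : B v (g *ᵥ e) = 0) : Concl g := by
  have hB := fun u v => B_mulVec hg u v
  obtain ⟨v1, hv1⟩ : ∃ v1, v1 = g *ᵥ v := ⟨_, rfl⟩
  rw [← hv1] at h1 he hve1
  -- the vector `f`
  obtain ⟨y, hy⟩ := exists_B he0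
  obtain ⟨f, hf1, hf2, hf3⟩ : ∃ f, B v f = 0 ∧ B v1 f = 0 ∧ B e f = a := by
    refine ⟨(a / B e y) • (y + (B v1 y / a) • v - (B v y / a) • v1), ?_, ?_, ?_⟩
    · simp only [B_add_right, B_sub_right, B_smul_right, B_self, h1]
      field_simp
      ring
    · simp only [B_add_right, B_sub_right, B_smul_right, B_self, B_comm v1 v, h1]
      field_simp
      ring
    · simp only [B_add_right, B_sub_right, B_smul_right, B_comm e v, B_comm e v1, hve, hve1]
      field_simp
      ring
  have hgram : gram ![v, v1, e, f] = a • H2 1 := gram_ext h1 hve hf1 hve1 hf2 (by simpa using hf3)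
  have hinv := inv_smul_gram ha hgram (H2_inv one_ne_zero)
  have hv1e : B v1 (g *ᵥ e) = 0 := by
    have := hB v e
    rw [← hv1] at this
    rw [this, hve]
  have hee : B e (g *ᵥ e) = 0 := by
    have h3 : B (g *ᵥ v1) (g *ᵥ e) = 0 := by rw [hB, hve1]
    rw [he] at h3
    simp only [B_add_left, B_neg_left, B_smul_left, hq, hv1e] at h3
    linear_combination h3
  -- `g e = l e`
  obtain ⟨l, hl⟩ : ∃ l, l = -(B f (g *ᵥ e) / a) := ⟨_, rfl⟩
  have hge : g *ᵥ e = l • e := by
    rw [← sub_eq_zero]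
    apply perp_zero hinv
    · show B v _ = 0
      rw [B_sub_right, B_smul_right, hq, hve]; ring
    · show B v1 _ = 0
      rw [B_sub_right, B_smul_right, hv1e, hve1]; ring
    · show B e _ = 0
      rw [B_sub_right, B_smul_right, hee, B_self]; ring
    · show B f _ = 0
      rw [B_sub_right, B_smul_right, B_comm f e, hf3, hl]
      field_simp
      ring
  obtain ⟨c, hc⟩ := span_of_gram hinv (g *ᵥ f)
  simp only [cons_val_zero, cons_val_one, cons_val] at hc
  have hfe : B f e = -a := by rw [B_comm, hf3]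
  have hv1v : B v1 v = -a := by rw [B_comm, h1]
  have k0 : c 0 = 0 := by
    have h3 : B v1 (g *ᵥ f) = 0 := by
      have := hB v f
      rw [← hv1] at this
      rw [this, hf1]
    rw [hc] at h3
    simp only [B_add_right, B_smul_right, B_self, hv1v, hve1, hf2] at h3
    have h4 : c 0 * a = 0 := by linear_combination -h3
    exact (mul_eq_zero.1 h4).resolve_right ha
  have k3 : l * c 3 = 1 := by
    have h3 : B (g *ᵥ e) (g *ᵥ f) = a := by rw [hB, hf3]
    rw [hge, hc] at h3
    simp only [B_add_right, B_smul_right, B_smul_left, B_self, B_comm e v, B_comm e v1, hve, hve1, hf3] at h3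
    apply mul_right_cancel₀ ha
    linear_combination h3
  have k1 : c 1 = c 3 := by
    have h3 : B (g *ᵥ v1) (g *ᵥ f) = 0 := by rw [hB, hf2]
    rw [he, hc, k0] at h3
    simp only [B_add_right, B_add_left, B_neg_left, B_smul_right, B_smul_left, B_self, B_comm e v, B_comm e v1, hve,
      hve1, hf3, hf1, hf2, h1, hv1v] at h3
    apply mul_right_cancel₀ ha
    linear_combination -h3
  refine ⟨![v, v1, e, f], a, !![0, -1, 0, 0; 1, b, 0, c 3; 0, 1, l, c 2; 0, 0, 0, c 3], H2 1, _, ha,
    Or.inr (Or.inl ⟨b, l, c 3, c 2, k3, rfl, rfl⟩), hgram, ?_, H2_inv one_ne_zero⟩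
  apply mul_mat
  intro j
  fin_cases j
  · simp [Fin.sum_univ_four, ← hv1]
  · simp only [Fin.sum_univ_four, he, _root_.Fin.mk_one, _root_.Fin.isValue, _root_.Matrix.cons_val_one, _root_.Matrix.cons_val_zero, _root_.Matrix.of_apply, _root_.Matrix.cons_val', _root_.Matrix.cons_val_fin_one, _root_.neg_smul, _root_.one_smul, _root_.Matrix.cons_val, _root_.zero_smul, _root_.add_zero]
  · simp [Fin.sum_univ_four, hge]
  · simp [Fin.sum_univ_four, hc, k0, k1]

end Cfsg.Agent.H309.SF
end

-- part: H309/SF/Nf4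
section
set_option autoImplicit false

namespace Cfsg.Agent.H309.SF

open Matrix

variable {F : Type*} [Field F]

/-- invariant nondegenerate plane -/
theorem case_two {g : Matrix Ix Ix F} (hg : gᵀ * J (Fin 2) F * g = J (Fin 2) F) {v : Ix → F} {a b : F} (ha : a ≠ 0)
    (h1 : B v (g *ᵥ v) = a) (he : g *ᵥ (g *ᵥ v) = -v + b • (g *ᵥ v)) : Concl g := by
  have hB := fun u v => B_mulVec hg u v
  obtain ⟨v1, hv1⟩ : ∃ v1, v1 = g *ᵥ v := ⟨_, rfl⟩
  rw [← hv1] at h1 he
  have hv1v : B v1 v = -a := by rw [B_comm, h1]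
  -- projection
  obtain ⟨pr, hpr⟩ : ∃ pr : (Ix → F) → (Ix → F), pr = fun x => x + (B v1 x / a) • v - (B v x / a) • v1 := ⟨_, rfl⟩
  have pr1 : ∀ x, B v (pr x) = 0 := by
    intro x
    rw [hpr]
    simp only [B_add_right, B_sub_right, B_smul_right, B_self, h1]
    field_simp
    ring
  have pr2 : ∀ x, B v1 (pr x) = 0 := by
    intro x
    rw [hpr]
    simp only [B_add_right, B_sub_right, B_smul_right, B_self, hv1v]
    field_simp
    ring
  have pr3 : ∀ u x, B v u = 0 → B v1 u = 0 → B u (pr x) = B u x := by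
    intro u x hu hu1
    rw [hpr]
    simp only [B_add_right, B_sub_right, B_smul_right, B_comm u v, B_comm u v1, hu, hu1]
    ring
  -- invariance
  have inv1 : ∀ u, B v u = 0 → B v1 (g *ᵥ u) = 0 := by
    intro u hu
    have := hB v u
    rw [← hv1] at this
    rw [this, hu]
  have inv0 : ∀ u, B v u = 0 → B v1 u = 0 → B v (g *ᵥ u) = 0 := by
    intro u hu hu1
    have h3 : B (g *ᵥ v1) (g *ᵥ u) = 0 := by rw [hB, hu1]
    rw [he] at h3
    simp only [B_add_left, B_neg_left, B_smul_left, inv1 u hu] at h3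
    linear_combination -h3
  -- a vector outside
  obtain ⟨x, hx⟩ : ∃ x, pr x ≠ 0 := by
    by_contra hc
    push Not at hc
    have htop : (⊤ : Submodule F (Ix → F)) ≤ Submodule.span F {v, v1} := by
      intro x _
      have h3 := hc x
      rw [hpr] at h3
      have h4 : x = (-(B v1 x / a)) • v + (B v x / a) • v1 := by
        have h5 : x + (B v1 x / a) • v - (B v x / a) • v1 = 0 := h3
        have h6 : x = (-(B v1 x / a)) • v + (B v x / a) • v1 + (x + (B v1 x / a) • v - (B v x / a) • v1) := by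
          module
        rw [h5, add_zero] at h6
        exact h6
      rw [h4]
      exact Submodule.add_mem _ (Submodule.smul_mem _ _ (Submodule.subset_span (by simp)))
        (Submodule.smul_mem _ _ (Submodule.subset_span (by simp)))
    classical
    have h4 := Submodule.finrank_mono htop
    have h5 := finrank_span_le_card (R := F) ({v, v1} : Set (Ix → F))
    rw [finrank_top, Module.finrank_fintype_fun_eq_card] at h4
    have h6 : (({v, v1} : Set (Ix → F)).toFinset).card ≤ 2 := by
      rw [Set.toFinset_insert, Set.toFinset_singleton]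
      exact Finset.card_le_two
    have h7 : Fintype.card Ix = 4 := by simp
    omega
  obtain ⟨u, hu⟩ : ∃ u, u = pr x := ⟨_, rfl⟩
  have hu1 : B v u = 0 := by rw [hu]; exact pr1 x
  have hu2 : B v1 u = 0 := by rw [hu]; exact pr2 x
  rw [← hu] at hx
  by_cases hU : ∃ u : Ix → F, B v u = 0 ∧ B v1 u = 0 ∧ B u (g *ᵥ u) ≠ 0
  · obtain ⟨u, hu1, hu2, hu3⟩ := hU
    obtain ⟨t, ht⟩ : ∃ t, t = g *ᵥ u := ⟨_, rfl⟩
    rw [← ht] at hu3
    obtain ⟨ε, hε⟩ : ∃ ε, ε = B u t / a := ⟨_, rfl⟩
    have hε0 : ε ≠ 0 := by rw [hε]; exact div_ne_zero hu3 ha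
    have hut : B u t = a * ε := by rw [hε]; field_simp
    have ht1 : B v t = 0 := by rw [ht]; exact inv0 u hu1 hu2
    have ht2 : B v1 t = 0 := by rw [ht]; exact inv1 u hu1
    have hgram : gram ![v, v1, u, t] = a • H2 ε := gram_ext h1 hu1 ht1 hu2 ht2 hut
    have hinv := inv_smul_gram ha hgram (H2_inv hε0)
    have ht3 : B v (g *ᵥ t) = 0 := inv0 t ht1 ht2
    have ht4 : B v1 (g *ᵥ t) = 0 := inv1 t ht1
    have ht5 : B t (g *ᵥ t) = a * ε := by
      have := hB u t
      rw [← ht] at this
      rw [this, hut]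
    obtain ⟨β, hβ⟩ : ∃ β, β = B u (g *ᵥ t) / B u t := ⟨_, rfl⟩
    have hβ' : B u (g *ᵥ t) = a * ε * β := by rw [← hut, hβ]; field_simp
    have hgt : g *ᵥ t = -u + β • t := by
      rw [← sub_eq_zero]
      apply perp_zero hinv
      · show B v _ = 0
        simp only [B_sub_right, B_add_right, B_neg_right, B_smul_right, ht3, hu1, ht1]; ring
      · show B v1 _ = 0
        simp only [B_sub_right, B_add_right, B_neg_right, B_smul_right, ht4, hu2, ht2]; ring
      · show B u _ = 0
        simp only [B_sub_right, B_add_right, B_neg_right, B_smul_right, B_self, hβ', hut]; ring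
      · show B t _ = 0
        simp only [B_sub_right, B_add_right, B_neg_right, B_smul_right, B_self, ht5, B_comm t u, hut]; ring
    refine ⟨![v, v1, u, t], a, _, H2 ε, _, ha, Or.inr (Or.inr (Or.inl ⟨b, β, ε, hε0, rfl, rfl⟩)), hgram, ?_,
      H2_inv hε0⟩
    apply mul_mat
    intro j
    fin_cases j
    · simp [Fin.sum_univ_four, ← hv1]
    · simp [Fin.sum_univ_four, he]
    · simp [Fin.sum_univ_four, ← ht]
    · simp [Fin.sum_univ_four, hgt]
  · push Not at hU
    obtain ⟨y, hy⟩ := exists_B hx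
    have hy0 : B u (pr y) ≠ 0 := by rwa [pr3 u y hu1 hu2]
    obtain ⟨f, hf⟩ : ∃ f, f = (a / B u (pr y)) • pr y := ⟨_, rfl⟩
    have hf1 : B v f = 0 := by rw [hf, B_smul_right, pr1, mul_zero]
    have hf2 : B v1 f = 0 := by rw [hf, B_smul_right, pr2, mul_zero]
    have hf3 : B u f = a := by rw [hf, B_smul_right]; field_simp
    have hfu : B f u = -a := by rw [B_comm, hf3]
    have hgram : gram ![v, v1, u, f] = a • H2 1 := gram_ext h1 hu1 hf1 hu2 hf2 (by simpa using hf3)
    have hinv := inv_smul_gram ha hgram (H2_inv one_ne_zero)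
    have guu : B u (g *ᵥ u) = 0 := hU u hu1 hu2
    have gff : B f (g *ᵥ f) = 0 := hU f hf1 hf2
    obtain ⟨c, hc⟩ : ∃ c, c = -(B f (g *ᵥ u) / a) := ⟨_, rfl⟩
    have hgu : g *ᵥ u = c • u := by
      rw [← sub_eq_zero]
      apply perp_zero hinv
      · show B v _ = 0
        simp only [B_sub_right, B_smul_right, inv0 u hu1 hu2, hu1]; ring
      · show B v1 _ = 0
        simp only [B_sub_right, B_smul_right, inv1 u hu1, hu2]; ring
      · show B u _ = 0
        simp only [B_sub_right, B_smul_right, guu, B_self]; ring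
      · show B f _ = 0
        simp only [B_sub_right, B_smul_right, hfu, hc]
        field_simp
        ring
    obtain ⟨d, hd⟩ : ∃ d, d = B u (g *ᵥ f) / a := ⟨_, rfl⟩
    have hgf : g *ᵥ f = d • f := by
      rw [← sub_eq_zero]
      apply perp_zero hinv
      · show B v _ = 0
        simp only [B_sub_right, B_smul_right, inv0 f hf1 hf2, hf1]; ring
      · show B v1 _ = 0
        simp only [B_sub_right, B_smul_right, inv1 f hf1, hf2]; ring
      · show B u _ = 0
        simp only [B_sub_right, B_smul_right, hf3, hd]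
        field_simp
        ring
      · show B f _ = 0
        simp only [B_sub_right, B_smul_right, gff, B_self]; ring
    have hcd : c = d := by
      have h3 := hU (u + f) (by rw [B_add_right, hu1, hf1, add_zero]) (by rw [B_add_right, hu2, hf2, add_zero])
      rw [mulVec_add, hgu, hgf] at h3
      simp only [B_add_left, B_add_right, B_smul_right, B_self, hf3, hfu] at h3
      apply mul_right_cancel₀ ha
      linear_combination -h3
    have hcc : c * c = 1 := by
      have h3 := hB u f
      rw [hgu, hgf, ← hcd, hf3] at h3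
      simp only [B_smul_left, B_smul_right, hf3] at h3
      apply mul_right_cancel₀ ha
      linear_combination h3
    have hc1 : c = 1 ∨ c = -1 := mul_self_eq_one_iff.1 hcc
    refine ⟨![v, v1, u, f], a, _, H2 1, _, ha, Or.inr (Or.inr (Or.inr (Or.inl ⟨b, c, hc1, rfl, rfl⟩))), hgram, ?_,
      H2_inv one_ne_zero⟩
    apply mul_mat
    intro j
    fin_cases j
    · simp [Fin.sum_univ_four, ← hv1]
    · simp [Fin.sum_univ_four, he]
    · simp [Fin.sum_univ_four, hgu]
    · simp [Fin.sum_univ_four, hgf, ← hcd]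

/-- **Normal forms.** -/
theorem nf (h2 : (2 : F) ≠ 0) {g : Matrix Ix Ix F} (hg : gᵀ * J (Fin 2) F * g = J (Fin 2) F) (h1 : g ≠ 1)
    (hm : g ≠ -1) : Concl g := by
  have hB := fun u v => B_mulVec hg u v
  by_cases hv : ∀ v : Ix → F, B v (g *ᵥ v) = 0
  · apply case_inv h2 hg h1 hm
    intro x
    rw [← sub_eq_zero]
    apply B_nondeg
    intro y
    -- `y = g z`
    obtain ⟨z, rfl⟩ : ∃ z, y = g *ᵥ z := by
      refine ⟨(-(J (Fin 2) F * gᵀ * J (Fin 2) F)) *ᵥ y, ?_⟩
      rw [mulVec_mulVec]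
      have h3 : (-(J (Fin 2) F * gᵀ * J (Fin 2) F)) * g = 1 := by
        rw [neg_mul, Matrix.mul_assoc, Matrix.mul_assoc, ← Matrix.mul_assoc gᵀ, hg, J_squared, neg_neg]
      rw [mul_eq_one_comm.1 h3, one_mulVec]
    have h3 := hv (x + z)
    rw [mulVec_add, B_add_left, B_add_right, B_add_right, hv x, hv z] at h3
    rw [B_sub_left, hB]
    have h4 : B x (g *ᵥ z) = - B z (g *ᵥ x) := by linear_combination h3
    rw [h4, B_comm z]
    ring
  · push Not at hv
    obtain ⟨v, hv⟩ := hv
    obtain ⟨a, ha⟩ : ∃ a, a = B v (g *ᵥ v) := ⟨_, rfl⟩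
    rw [← ha] at hv
    obtain ⟨b, hb⟩ : ∃ b, b = B v (g *ᵥ (g *ᵥ v)) / a := ⟨_, rfl⟩
    have hb' : B v (g *ᵥ (g *ᵥ v)) = a * b := by rw [hb]; field_simp
    obtain ⟨e, he⟩ : ∃ e, e = g *ᵥ (g *ᵥ v) + v - b • (g *ᵥ v) := ⟨_, rfl⟩
    have he' : g *ᵥ (g *ᵥ v) = -v + b • (g *ᵥ v) + e := by rw [he]; module
    by_cases he0 : e = 0
    · rw [he0, add_zero] at he'
      exact case_two hg hv ha.symm he'
    · by_cases hq : B v (g *ᵥ e) = 0
      · refine case_three hg hv ha.symm he' he0 ?_ ?_ hq
        · rw [he, B_sub_right, B_add_right, B_smul_right, B_self, hb', ← ha]; ring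
        · rw [he, B_sub_right, B_add_right, B_smul_right, B_self, hB, ← ha, B_comm _ v, ← ha]; ring
      · obtain ⟨α, hα⟩ : ∃ α, α = B v (g *ᵥ (g *ᵥ (g *ᵥ v))) / a := ⟨_, rfl⟩
        have hα' : B v (g *ᵥ (g *ᵥ (g *ᵥ v))) = a * α := by rw [hα]; field_simp
        refine case_cyc hg hv ha.symm hb' hα' ?_
        intro h3
        apply hq
        rw [he, mulVec_sub, mulVec_add, mulVec_smul, B_sub_right, B_add_right, B_smul_right, hb', ← ha, hα']
        linear_combination a * h3

end Cfsg.Agent.H309.SF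
end

-- part: H309/SF/Dat7
section
set_option autoImplicit false
set_option maxRecDepth 100000

/-!
# Tables for `PSp_4(7)` (helper309)
-/

namespace Cfsg.Agent.H309.SF.T7

/-- table -/
def tab1 : List (List Nat) := (beta% delta% lq26c7747f93 fun a c d _ _ _ _ _ _ =>
 (let f:=(let f:=(let f:=(let f:=(let f:=(let f:=(d (a 27359776629640<|a 215555965459456<|a 42059851023476<|a 213009765532913<|a 18376046526665<|a 117980163350625<|a 225827981050380<|a 160195219652717<|a 78349067496584<|c)<|
 d c<|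
 d (a 27016179248520<|a 215538785590272<|a 199289883474457<|a 151226121087835<|a 215857348392802<|a 121637285566034<|a 85599172581578<|a 121326892297078<|a 177642199355573<|c)<|
 d (a 27084898724744<|a 215530195655680<|a 238345514330697<|a 75528081149202<|a 86765087490645<|a 229125980802397<|a 28632149275563<|a 94339779189674<|a 180992143790294<|c)<|
 d (a 27153618200968<|a 215521605721088<|a 152132098208365<|a 179676481149953<|a 166047224171342<|a 225758018651910<|a 28202574560480<|a 155926980923817<|a 42715744442218<|c)<|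
 d (a 27222337677192<|a 215513015786496<|a 126658817826907<|a 84698557893321<|a 10532442036766<|a 154315400030480<|a 54456619322146<|a 56311510608164<|a 28891576409446<|c)<|c);
 (d c<|
 d (a 27016179248520<|a 180345821469696<|a 18405055579024<|a 234222528072265<|a 202693868817754<|a 77561316084958<|a 115274044292507<|a 223109268996450<|a 62690898007707<|c)<|
 d (a 27084898724744<|a 180337231535104<|a 184034019162512<|a 141911636610340<|a 194691514541872<|a 197192732189252<|a 94983478060616<|a 160440308647686<|a 112737894408715<|c)<|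
 d (a 27153618200968<|a 180328641600512<|a 179140076766467<|a 93102881252713<|a 218141480643330<|a 146246457956277<|a 123868289542390<|a 47079372527177<|a 189406584013313<|c)<|
 d (a 27291057153416<|a 215504425851904<|a 159712764139268<|a 126687749430292<|a 200257417150515<|a 227737455963314<|a 28492947603862<|a 90026251076810<|a 123472403504147<|c)<|
 f));
 (let f:=(d c<|
 d (a 27016179248520<|a 145152857349120<|a 53887078918798<|a 82014053368881<|a 28976090597208<|a 182281642792027<|a 93128192305803<|a 94246114478693<|a 95732465553738<|c)<|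
 d (a 27084898724744<|a 145144267414528<|a 205790579568822<|a 92728437047987<|a 125039204012466<|a 111817077961485<|a 49135737028705<|a 83572863588770<|a 12524834711897<|c)<|
 d (a 27222337677192<|a 180320051665920<|a 128919438242101<|a 204185086596708<|a 221012709010304<|a 116357480194640<|a 155256390992458<|a 147103186002534<|a 21272404273928<|c)<|
 d (a 27291057153416<|a 180371591273472<|a 229975597193107<|a 161101726123712<|a 11893072351621<|a 129576214053226<|a 227294677743661<|a 106495517729475<|a 148166359425234<|c)<|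
 d (a 27359776629640<|a 180363001338880<|a 90998105888114<|a 151198663710091<|a 143873041666196<|a 65109230897520<|a 219262070459182<|a 76439232580418<|a 185655338931521<|c)<|
 f);
 (d (a 27016179248520<|a 109959893228544<|a 29810622632581<|a 49653808248987<|a 184798960735836<|a 84877581260131<|a 186531553909932<|a 47157009262660<|a 44360788533525<|c)<|
 d (a 27153618200968<|a 145135677479936<|a 240038227224110<|a 106792966509912<|a 123447704955013<|a 87172294534686<|a 10887948978371<|a 64549092515915<|a 108741694873994<|c)<|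
 d (a 27222337677192<|a 145187217087488<|a 14431149838744<|a 123361433135862<|a 55323749636773<|a 124368349061440<|a 50756181328936<|a 7865451290804<|a 28038705825370<|c)<|
 d (a 27291057153416<|a 145178627152896<|a 179376602819869<|a 75978441437320<|a 161905852935284<|a 218309264957675<|a 27323013662749<|a 220642282150299<|a 230748701445190<|c)<|
 d (a 27359776629640<|a 145170037218304<|a 123510866130060<|a 89915480513636<|a 226380531965356<|a 169519962337637<|a 197129041897004<|a 4785684466394<|a 80017799776458<|c)<|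
 f)));
 (let f:=(let f:=(d (a 27084898724744<|a 109951303293952<|a 112857218976899<|a 39935824433331<|a 110829996190349<|a 153196960518251<|a 159852750780941<|a 9925420686490<|a 57450225590506<|c)<|
 d (a 27153618200968<|a 110002842901504<|a 133507253588296<|a 108145459629459<|a 86529855589284<|a 169156804117893<|a 126689120556208<|a 127759369482350<|a 12121183143717<|c)<|
 d (a 27222337677192<|a 109994252966912<|a 85645221570676<|a 6858144756654<|a 213397767990129<|a 133116820063576<|a 87051287972523<|a 160547521742000<|a 132703821646536<|c)<|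
 d (a 27291057153416<|a 109985663032320<|a 59668651387425<|a 213386283790636<|a 234340501433441<|a 126327629316982<|a 226845646590062<|a 205434369772165<|a 72453148164165<|c)<|
 d (a 27359776629640<|a 109977073097728<|a 129948938085220<|a 235465545778306<|a 224427724854110<|a 238218349119829<|a 100128860045610<|a 129422767790793<|a 221816025307872<|c)<|
 d c<|
 f);
 (d (a 27153618200968<|a 74809878780928<|a 84938029359914<|a 160438592020492<|a 44647356475586<|a 25367908310114<|a 38389722461580<|a 61826761078989<|a 55692140931732<|c)<|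
 d (a 27222337677192<|a 74801288846336<|a 122306773061961<|a 15778260208392<|a 22961476715395<|a 84950965068966<|a 80970441232532<|a 119747503367874<|a 12539388366027<|c)<|
 d (a 27291057153416<|a 74792698911744<|a 119593828307984<|a 37209250736716<|a 7495123911748<|a 39952689160949<|a 5002671884382<|a 82876186368232<|a 71472883092386<|c)<|
 d (a 27359776629640<|a 74784108977152<|a 163072639878821<|a 167419743686756<|a 108121601266933<|a 148753057504363<|a 159297254510989<|a 154710986786154<|a 116932467152024<|c)<|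
 d c<|
 f));
 (let f:=(d (a 27222337677192<|a 39608324725760<|a 177649285535362<|a 224533710524749<|a 196470665495812<|a 48428193802283<|a 111632418684165<|a 211413642365189<|a 114544169246860<|c)<|
 d (a 27291057153416<|a 39599734791168<|a 89167219663713<|a 109139221407784<|a 214590206558338<|a 44334606063448<|a 5541817369835<|a 177053992894533<|a 59482296391452<|c)<|
 d (a 27359776629640<|a 39591144856576<|a 194845668393997<|a 240117205776114<|a 230112041757224<|a 130460276155297<|a 157070788482676<|a 133047142967730<|a 179362559230882<|c)<|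
 d (a 27016179248520<|a 74766929107968<|a 149847495694773<|a 59561103206109<|a 198371977530242<|a 124875873080683<|a 156389915871405<|a 72183037518068<|a 110681987834217<|c)<|
 d (a 27084898724744<|a 74818468715520<|a 83907122076595<|a 110195198475281<|a 39703367861814<|a 112225560169680<|a 189993003044250<|a 9394323330772<|a 205838786053896<|c)<|
 f);
 (d (a 27291057153416<|a 4406770670592<|a 160909666308616<|a 97739785067026<|a 155811079283491<|a 170207866078065<|a 91636139599982<|a 169434986716246<|a 35763560662530<|c)<|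
 d c<|
 d (a 27016179248520<|a 39634094529536<|a 73545242197251<|a 96969289748570<|a 205833149410398<|a 19467044340813<|a 107969312745609<|a 71039990809157<|a 48666983873942<|c)<|
 d (a 27084898724744<|a 39625504594944<|a 36193986308812<|a 167823437988560<|a 41899715221038<|a 54434844514369<|a 112383252120328<|a 159989901639821<|a 189954267809812<|c)<|
 d (a 27153618200968<|a 39616914660352<|a 175993628017586<|a 241021329089644<|a 205612331901971<|a 169568202962254<|a 56406163068585<|a 16907981164592<|a 216456479730846<|c)<|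
 f))));
 (let f:=(let f:=(let f:=(d (a 27359776629640<|a 4398180736000<|a 202329803752821<|a 143779751924876<|a 73336841724963<|a 162981147353884<|a 161135909967459<|a 82847445568262<|a 185454545158472<|c)<|
 d c<|
 d (a 27016179248520<|a 4441130408960<|a 89090564115501<|a 46881799930774<|a 44951235273515<|a 178882633389288<|a 163080633463453<|a 187791143276883<|a 36443077609172<|c)<|
 d (a 27084898724744<|a 4432540474368<|a 200804460004486<|a 229119614272403<|a 22233354900275<|a 77727947966794<|a 44908963907881<|a 26750334126746<|a 79596846667288<|c)<|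
 d (a 27153618200968<|a 4423950539776<|a 4489653880597<|a 233724637898320<|a 187087032699290<|a 63918040231979<|a 78367091238917<|a 153962283487518<|a 156818945659800<|c)<|
 d (a 27222337677192<|a 4415360605184<|a 128356554334886<|a 117446151604509<|a 217185172203109<|a 157011131564595<|a 89969376307270<|a 51406842399248<|a 234845777808694<|c)<|
 f);
 (d (a 27909547123528<|a 215547375524864<|a 147460495316242<|a 81718413677778<|a 39939995767002<|a 71109050643459<|a 79283141117056<|a 89130815275153<|a 192230225793542<|c)<|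
 d (a 27497230262600<|a 215538785590272<|a 4701048611754<|a 214188787630198<|a 22378291303528<|a 16170594548611<|a 142775992542576<|a 153070895044508<|a 64473583332440<|c)<|
 d (a 27565949742408<|a 215530195655680<|a 60291477341280<|a 10262514026678<|a 9632646031464<|a 1429574276331<|a 35380252937373<|a 232398860079641<|a 204015462402832<|c)<|
 d (a 27634669218632<|a 215521605721088<|a 93206440740265<|a 2369285167697<|a 23480745868306<|a 4965356334357<|a 35839397172642<|a 5242773694729<|a 99576202745601<|c)<|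
 d (a 27703388694856<|a 215513015786496<|a 237512199457633<|a 141740817548433<|a 217826859116813<|a 228976582284594<|a 63772078842534<|a 46253146058770<|a 81236589807827<|c)<|
 f));
 (let f:=(d (a 27840827647304<|a 180354411404288<|a 117153532019293<|a 176554564179253<|a 145516148707995<|a 152156908306550<|a 19019609341966<|a 118806101995753<|a 239840442570268<|c)<|
 d (a 27909547123528<|a 180345821469696<|a 47028147138908<|a 97000147512168<|a 205065143404140<|a 149763943505164<|a 89097824953249<|a 58321465296416<|a 11217167110426<|c)<|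
 d (a 27497230262600<|a 180337231535104<|a 151397732586021<|a 40323887749798<|a 28215865877796<|a 41478760056114<|a 181123881126054<|a 142027260170665<|a 37775990768866<|c)<|
 d (a 27565949742408<|a 180328641600512<|a 195002884279347<|a 116759504814604<|a 47631788331696<|a 77381693950294<|a 150375831970602<|a 133204856451349<|a 36013947326573<|c)<|
 d c<|
 d (a 27840827647304<|a 215555965459456<|a 48728313045891<|a 156045870667628<|a 239850009151630<|a 70805411909796<|a 219948316989460<|a 152510687122436<|a 61782117098777<|c)<|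
 f);
 (d (a 27840827647304<|a 145152857349120<|a 72921596154520<|a 187347756927505<|a 184857903403713<|a 239773047905588<|a 100374739097510<|a 236635812153675<|a 45645478652018<|c)<|
 d (a 27909547123528<|a 145144267414528<|a 87210942162866<|a 35516179307301<|a 154694041917645<|a 135149160409410<|a 157596763183912<|a 178922650599734<|a 146035707067520<|c)<|
 d (a 27634669218632<|a 180320051665920<|a 60565309437533<|a 203986090137490<|a 49484211185432<|a 214763689869460<|a 237908741999634<|a 73991320775726<|a 169482720334168<|c)<|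
 d (a 27703388694856<|a 180371591273472<|a 228934970137494<|a 44446909466387<|a 9248273024290<|a 240645419191372<|a 100423651771785<|a 191895489767668<|a 203857976638528<|c)<|
 d c<|
 f)));
 (let f:=(let f:=(d c<|
 d (a 27497230262600<|a 145135677479936<|a 146104078360786<|a 145870807787251<|a 19314762200885<|a 60236002547977<|a 218644322786081<|a 40014828689286<|a 20725634701968<|c)<|
 d (a 27565949742408<|a 145187217087488<|a 213106348535153<|a 231286943454371<|a 236862305569961<|a 16258068482069<|a 213155675159298<|a 145192690168515<|a 44967001352478<|c)<|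
 d (a 27634669218632<|a 145178627152896<|a 151561377097011<|a 29848046443877<|a 240505127965748<|a 176037887108016<|a 197935188362358<|a 7711929003188<|a 91486226271464<|c)<|
 d (a 27703388694856<|a 145170037218304<|a 148348228176590<|a 224339809950923<|a 144072218354613<|a 237882766328836<|a 64876768209024<|a 116071513885097<|a 190114265930564<|c)<|
 d c<|
 f);
 (d (a 27909547123528<|a 110002842901504<|a 164635013923462<|a 235027747197654<|a 182041558459075<|a 28212772787050<|a 38702372460653<|a 182770746189153<|a 233169894064153<|c)<|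
 d (a 27497230262600<|a 109994252966912<|a 76520803469668<|a 29024160786270<|a 156307232049040<|a 220221860356778<|a 133098018196053<|a 126213554710722<|a 116207025234213<|c)<|
 d (a 27565949742408<|a 109985663032320<|a 59482939458139<|a 144507165659152<|a 240063180474078<|a 60793140339554<|a 77942121110124<|a 59294860065162<|a 240004704640178<|c)<|
 d (a 27634669218632<|a 109977073097728<|a 50236664357418<|a 147178358596273<|a 77555473421731<|a 99509220280556<|a 153193320761629<|a 81435500091509<|a 38101151211886<|c)<|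
 d (a 27703388694856<|a 109968483163136<|a 178886596440101<|a 45323461267750<|a 156941567000642<|a 92999303957835<|a 152353809318313<|a 233216743655773<|a 1830128267396<|c)<|
 f));
 (let f:=(d (a 27909547123528<|a 74801288846336<|a 240884139497217<|a 170498076920169<|a 193611575452355<|a 120431173121892<|a 120641370547436<|a 216850898836298<|a 154387751839571<|c)<|
 d (a 27497230262600<|a 74792698911744<|a 190630174026330<|a 93009279408864<|a 164930166736910<|a 70456879233933<|a 114394579618161<|a 191328470190100<|a 99313790592347<|c)<|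
 d (a 27565949742408<|a 74784108977152<|a 64470777421232<|a 141017929561328<|a 21014255291586<|a 47493894386957<|a 41129705112737<|a 84551488874305<|a 240805482145282<|c)<|
 d (a 27634669218632<|a 74775519042560<|a 94332684349621<|a 135659502833890<|a 149932661834789<|a 106843310729368<|a 48539777541395<|a 145572155287669<|a 12487354748049<|c)<|
 d (a 27840827647304<|a 109951303293952<|a 218489792433060<|a 4800192332006<|a 231568284174068<|a 130724555549100<|a 157035095541045<|a 38709178192466<|a 204786835003226<|c)<|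
 f);
 (d (a 27909547123528<|a 39599734791168<|a 46345943996139<|a 194717226320690<|a 54576645430345<|a 63542705837898<|a 183838935161577<|a 116171587890388<|a 159744149520673<|c)<|
 d (a 27497230262600<|a 39591144856576<|a 231024240265371<|a 63669208230403<|a 165554384029354<|a 217258921112939<|a 97517523575981<|a 205181430441745<|a 151424501180724<|c)<|
 d (a 27703388694856<|a 74766929107968<|a 120651407545074<|a 194871843969868<|a 195339991201858<|a 150882416134224<|a 89211862133514<|a 61758844738390<|a 229637015046218<|c)<|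
 d c<|
 d (a 27840827647304<|a 74809878780928<|a 233133684386851<|a 131956633703949<|a 24423428994869<|a 237705009869130<|a 170459206621225<|a 94422917562390<|a 213540157115618<|c)<|
 f)))));
 (let f:=(let f:=(let f:=(let f:=(d (a 27840827647304<|a 4406770670592<|a 185063036555331<|a 239185157040435<|a 157620118642970<|a 85569243223118<|a 186575068271753<|a 155103704524482<|a 26708338653409<|c)<|
 d (a 27565949742408<|a 39582554921984<|a 107376517892008<|a 240450089370764<|a 167974362187442<|a 223666559901859<|a 239064548323860<|a 371342349576<|a 134700735088331<|c)<|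
 d (a 27634669218632<|a 39634094529536<|a 2104994999577<|a 57738875832410<|a 108699786764406<|a 30088432233310<|a 74129802402155<|a 107286965040555<|a 230428354042676<|c)<|
 d (a 27703388694856<|a 39625504594944<|a 83727780342853<|a 193584732420713<|a 161425770419942<|a 24004812145392<|a 73352163730014<|a 170886493047308<|a 61722987206188<|c)<|
 d c<|
 d (a 27840827647304<|a 39608324725760<|a 5693797841816<|a 157690004804192<|a 16377559800421<|a 197211417402080<|a 165345957468508<|a 182429202921640<|a 77009469081755<|c)<|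
 f);
 (d (a 27497230262600<|a 4449720343552<|a 15061083953949<|a 6973031598252<|a 96856505183468<|a 17960179639374<|a 178141110997129<|a 126742888145973<|a 195511819364110<|c)<|
 d (a 27565949742408<|a 4441130408960<|a 105639729606021<|a 85441736167787<|a 61674140379281<|a 81994761000052<|a 80643859104398<|a 157231981661620<|a 237872577058581<|c)<|
 d (a 27634669218632<|a 4432540474368<|a 196692752584789<|a 211821613376722<|a 84496032635433<|a 213359389663811<|a 26721461215816<|a 199339306569938<|a 29322518858333<|c)<|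
 d (a 27703388694856<|a 4423950539776<|a 90285759945026<|a 186248169795602<|a 114680661354628<|a 76507652868829<|a 79966554233179<|a 201627552617990<|a 114714845157989<|c)<|
 d c<|
 f));
 (let f:=(d (a 28390598141192<|a 215547375524864<|a 98454822077714<|a 54847236310889<|a 23765737330568<|a 159989220140660<|a 231130659048654<|a 217516986787432<|a 192210745296402<|c)<|
 d c<|
 d (a 28047000756488<|a 215530195655680<|a 133075276617860<|a 225520989183010<|a 213557732250378<|a 8817075625001<|a 212216963212677<|a 155332962738184<|a 149821019398414<|c)<|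
 d (a 28115720236296<|a 215521605721088<|a 211333363354386<|a 141121056322709<|a 95865224928600<|a 135001968553126<|a 16875246069140<|a 54300706191654<|a 194807205927493<|c)<|
 d (a 28184439712520<|a 215513015786496<|a 224478403855654<|a 98277684320854<|a 135075223617891<|a 88650646129550<|a 222178967073649<|a 89750365562218<|a 90599721425614<|c)<|
 d (a 27909547123528<|a 4398180736000<|a 164669557891673<|a 92574305690650<|a 13583718386601<|a 181113581877377<|a 163393870155024<|a 73552123500036<|a 240146054244366<|c)<|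
 f);
 (d (a 28321878664968<|a 180345821469696<|a 63955570481163<|a 111407328273486<|a 145577465275809<|a 109980661428340<|a 154528010220046<|a 153229827094852<|a 109133297532134<|c)<|
 d (a 28390598141192<|a 180337231535104<|a 221217815958153<|a 143181345919123<|a 117951982483736<|a 135246391961248<|a 52124528724180<|a 97139658647902<|a 236847069769822<|c)<|
 d c<|
 d (a 28253159188744<|a 215504425851904<|a 64574166557717<|a 8960623010947<|a 189576185759041<|a 112869622994163<|a 154854783260318<|a 11181556089061<|a 71822092664878<|c)<|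
 d (a 28321878664968<|a 215555965459456<|a 3332974872461<|a 91720991288205<|a 60519411685144<|a 195810591507806<|a 24519267322539<|a 199020801251622<|a 148607649408706<|c)<|
 f)));
 (let f:=(let f:=(d (a 28184439712520<|a 145152857349120<|a 35546515695787<|a 231847944641432<|a 15810134937629<|a 183120722957616<|a 22915858078374<|a 83881959425961<|a 128945445309252<|c)<|
 d (a 28253159188744<|a 145144267414528<|a 55692339021006<|a 142187757746781<|a 129284742624604<|a 116211431120208<|a 84886583133610<|a 191139440379648<|a 84573983960324<|c)<|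
 d (a 28047000756488<|a 180320051665920<|a 88873887750501<|a 159036441275826<|a 65237438605962<|a 60473741033553<|a 7584989529098<|a 9427137999462<|a 165328419457253<|c)<|
 d (a 28115720236296<|a 180371591273472<|a 81608229571656<|a 22776782327904<|a 142140086213838<|a 83637816296101<|a 221569551603796<|a 18234448153731<|a 216080548504075<|c)<|
 d (a 28184439712520<|a 180363001338880<|a 118964850944804<|a 148763219543915<|a 241005456995995<|a 183485462888584<|a 22909913055761<|a 26436140336880<|a 85421306807453<|c)<|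
 d (a 28253159188744<|a 180354411404288<|a 97910767850670<|a 85113922654518<|a 214592215395534<|a 22638156203142<|a 108408659790480<|a 164557446335197<|a 199126261018947<|c)<|
 f);
 (d (a 28321878664968<|a 145135677479936<|a 189410025014899<|a 186059352703067<|a 39966291335093<|a 218987557250652<|a 168119529237707<|a 239026754363994<|a 113490848686274<|c)<|
 d (a 28390598141192<|a 145187217087488<|a 62749884933986<|a 77848753480110<|a 150757205206259<|a 176010384649630<|a 197914570688435<|a 142498981849638<|a 129891040537232<|c)<|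
 d c<|
 d (a 28047000756488<|a 145170037218304<|a 235437063068430<|a 89296978865078<|a 232320834863989<|a 192561339184137<|a 200009203517569<|a 157045191547112<|a 86973319849617<|c)<|
 d (a 28115720236296<|a 145161447283712<|a 46389408207132<|a 142399642419250<|a 184001311496013<|a 121517213409410<|a 226321645623312<|a 45919338410122<|a 15612558922651<|c)<|
 f));
 (let f:=(d (a 28253159188744<|a 109994252966912<|a 113628096390958<|a 124078494262057<|a 198353967126877<|a 36998102509313<|a 110169284948192<|a 113512812275545<|a 155149296748715<|c)<|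
 d (a 28321878664968<|a 109985663032320<|a 115724741167500<|a 205993715710123<|a 144195580100700<|a 18305348985513<|a 107841280694357<|a 124265677796277<|a 168003378189685<|c)<|
 d (a 28390598141192<|a 109977073097728<|a 44083768793499<|a 124839316755277<|a 218308336161092<|a 99802749985804<|a 12492529908353<|a 125002021193374<|a 168991606574300<|c)<|
 d c<|
 d (a 28047000756488<|a 109959893228544<|a 220015756781864<|a 190878315717713<|a 53436553192652<|a 160374712443154<|a 231144477458978<|a 152655527107600<|a 161105140409413<|c)<|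
 f);
 (d (a 28184439712520<|a 74792698911744<|a 61836147955363<|a 219982027349217<|a 142155248244147<|a 124396029797425<|a 226638556385926<|a 76325568121577<|a 116759588718288<|c)<|
 d (a 28253159188744<|a 74784108977152<|a 97731202433747<|a 30070682272499<|a 235092255466581<|a 226897925517508<|a 28353648657432<|a 1524330751793<|a 231762565991763<|c)<|
 d (a 28321878664968<|a 74775519042560<|a 28349497547093<|a 35242418130132<|a 216158831125102<|a 36146938419908<|a 180397273879896<|a 14948921939734<|a 164227750859619<|c)<|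
 d (a 28115720236296<|a 109951303293952<|a 43331170940320<|a 71354184839949<|a 115872388913952<|a 11596759478481<|a 36685510826522<|a 119599350692466<|a 98958620934660<|c)<|
 d (a 28184439712520<|a 110002842901504<|a 80141408536238<|a 229689905251613<|a 152730224420789<|a 80087251609475<|a 80353876627696<|a 181232783734898<|a 117543260973363<|c)<|
 f))));
 (let f:=(let f:=(let f:=(d (a 28047000756488<|a 39599734791168<|a 119423851248373<|a 123920368061004<|a 182850221695526<|a 81382878567537<|a 115760329534862<|a 108951141541441<|a 192810773431126<|c)<|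
 d (a 28115720236296<|a 39591144856576<|a 176082069267554<|a 159138674747481<|a 44563214830768<|a 164722887697245<|a 20564601645163<|a 43040516211956<|a 77110154954899<|c)<|
 d (a 28390598141192<|a 74766929107968<|a 217370537023084<|a 232010158181132<|a 176560826691638<|a 239163741067861<|a 170632945501514<|a 51687280687818<|a 168478483437798<|c)<|
 d c<|
 d (a 28047000756488<|a 74809878780928<|a 135160037304088<|a 223522336277549<|a 11572362390244<|a 192486129206920<|a 59262320208081<|a 110945854876067<|a 124837939712921<|c)<|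
 d (a 28115720236296<|a 74801288846336<|a 13555372248451<|a 20179000911115<|a 45292899189857<|a 70791546983253<|a 184745042399338<|a 129010525155552<|a 237724348080740<|c)<|
 f);
 (d (a 28184439712520<|a 39582554921984<|a 125126442640769<|a 240391203138955<|a 97120575726772<|a 205357790370934<|a 236784539975054<|a 167406203056276<|a 96847790614936<|c)<|
 d (a 28253159188744<|a 39634094529536<|a 124712651808777<|a 28327803165446<|a 80305992164544<|a 11684034585678<|a 36662049990281<|a 64440118674954<|a 656596384512<|c)<|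
 d (a 28321878664968<|a 39625504594944<|a 235694523996507<|a 98167274709857<|a 2942435592802<|a 203165749906246<|a 166116018837352<|a 224963098454378<|a 116852128944481<|c)<|
 d (a 28390598141192<|a 39616914660352<|a 29568262551571<|a 216624650454160<|a 116583162926612<|a 133282769539493<|a 192582215025716<|a 235164314128714<|a 108617617815206<|c)<|
 d c<|
 f));
 (let f:=(d (a 28047000756488<|a 4449720343552<|a 45307453254434<|a 51782285934634<|a 86630139245250<|a 235308011166365<|a 99799429636435<|a 55221671811428<|a 195908161942853<|c)<|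
 d (a 28115720236296<|a 4441130408960<|a 90185908099908<|a 194393897043657<|a 95245969950563<|a 52044474731075<|a 112058675606856<|a 115470757269606<|a 198233545462150<|c)<|
 d (a 28184439712520<|a 4432540474368<|a 81089588304925<|a 77821404044021<|a 5801624469651<|a 62755015714825<|a 78238890945793<|a 145757852257283<|a 37540637782449<|c)<|
 d (a 28253159188744<|a 4423950539776<|a 38935233315992<|a 62313014670688<|a 23790696730835<|a 182076703336074<|a 93154110286033<|a 236585664130198<|a 200120619633668<|c)<|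
 d (a 28321878664968<|a 4415360605184<|a 45882399873248<|a 10192798754477<|a 204884737831978<|a 145943346856145<|a 229340552567322<|a 40392221451085<|a 124805773378133<|c)<|
 d (a 28390598141192<|a 4406770670592<|a 21253815707694<|a 14658143814185<|a 217279322350227<|a 196142794558225<|a 200405343733602<|a 218078797453456<|a 143901976751125<|c)<|
 f);
 (d (a 28940368635080<|a 215538785590272<|a 150348239510570<|a 225855494568726<|a 5568839980102<|a 183696889621187<|a 234059757996376<|a 75153418344561<|a 36673003612318<|c)<|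
 d c<|
 d (a 28596771250376<|a 215521605721088<|a 121002611913128<|a 12460858695891<|a 186794868947635<|a 182180300239643<|a 198694410556003<|a 92487307344<|a 5528441543499<|c)<|
 d (a 28665490730184<|a 215513015786496<|a 53958080320093<|a 121260638783315<|a 49624354874894<|a 106378116358438<|a 224369133142564<|a 90314728743821<|a 41579790770368<|c)<|
 d c<|
 f)));
 (let f:=(let f:=(d (a 28734210206408<|a 180345821469696<|a 239531429877826<|a 58667519355778<|a 230180329842092<|a 160982440470752<|a 160843107250460<|a 189963242721822<|a 145294021624862<|c)<|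
 d (a 28802929682632<|a 180337231535104<|a 230770024121502<|a 46598735999843<|a 84734173792642<|a 176618431009874<|a 22085885422730<|a 1011131993093<|a 81269879424053<|c)<|
 d (a 28871649158856<|a 180328641600512<|a 111370487292624<|a 9524955719326<|a 58993233924638<|a 45472039885150<|a 181562924145963<|a 115289518168906<|a 49535253418065<|c)<|
 d (a 28734210206408<|a 215504425851904<|a 127589970119414<|a 231872168053025<|a 220678048897808<|a 164055298559030<|a 196411601282950<|a 141915407149348<|a 192850311666990<|c)<|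
 d (a 28802929682632<|a 215555965459456<|a 161191930842202<|a 204311880406172<|a 94242162828956<|a 35400014584086<|a 109969530252066<|a 158774675641107<|a 217313150427173<|c)<|
 d (a 28871649158856<|a 215547375524864<|a 114570942833218<|a 117150021420678<|a 651327712480<|a 24350678969700<|a 178948504959404<|a 221153815904811<|a 39769353342123<|c)<|
 f);
 (d (a 28596771250376<|a 145144267414528<|a 213697262020978<|a 10112584418328<|a 183181640944513<|a 162919445092570<|a 196303966753563<|a 169197626580389<|a 166216336442400<|c)<|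
 d (a 28940368635080<|a 180320051665920<|a 181090351899858<|a 180397578741419<|a 159498150159920<|a 233935499211297<|a 134795059959364<|a 176071299721393<|a 196617801442850<|c)<|
 d c<|
 d (a 28596771250376<|a 180363001338880<|a 95797241796688<|a 178879684289226<|a 55973711987852<|a 218813730831048<|a 97754824464217<|a 53418008894532<|a 146291638241618<|c)<|
 d (a 28665490730184<|a 180354411404288<|a 4821248238193<|a 149881884940000<|a 5919230838433<|a 37772818659499<|a 215836418507541<|a 168784775647592<|a 238506324150316<|c)<|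
 f));
 (let f:=(d (a 28734210206408<|a 145187217087488<|a 201231478864484<|a 115846619997781<|a 40705055695778<|a 98316528782443<|a 153027060747149<|a 227472252998561<|a 182825843467682<|c)<|
 d (a 28802929682632<|a 145178627152896<|a 129078535729811<|a 187005541155249<|a 58830887805080<|a 170465794021161<|a 21325412508901<|a 62041051509284<|a 45287797875558<|c)<|
 d (a 28871649158856<|a 145170037218304<|a 54570409206376<|a 7547976339459<|a 27861759141726<|a 73403887683916<|a 114694238294825<|a 707844943906<|a 238638357944042<|c)<|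
 d (a 28940368635080<|a 145161447283712<|a 27603173150050<|a 97582362723660<|a 199855613110048<|a 70833760951082<|a 79180008330085<|a 221032060095849<|a 235469932541158<|c)<|
 d c<|
 f);
 (d (a 28596771250376<|a 109985663032320<|a 151399885285212<|a 112243088301333<|a 63932967003715<|a 49210036609462<|a 6142670930486<|a 196448324231842<|a 151994224814696<|c)<|
 d (a 28665490730184<|a 109977073097728<|a 166036604537654<|a 16678777928819<|a 64530922524036<|a 89140983809104<|a 81545731084938<|a 114698816497032<|a 197246971195662<|c)<|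
 d (a 28734210206408<|a 109968483163136<|a 216144793940504<|a 45175574468251<|a 93722301014043<|a 190502410019937<|a 94155779820172<|a 73782793234140<|a 213323938370219<|c)<|
 d (a 28802929682632<|a 109959893228544<|a 18577480155738<|a 227725289796140<|a 19061294336083<|a 20932234369286<|a 37826669090592<|a 77186771393064<|a 240063396488846<|c)<|
 d (a 28665490730184<|a 145135677479936<|a 180514482359665<|a 192730772449377<|a 65109828418707<|a 44141691570589<|a 75903633397043<|a 44778065271469<|a 44951644983660<|c)<|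
 f))))));
 (let f:=(let f:=(let f:=(let f:=(let f:=(d (a 28871649158856<|a 74792698911744<|a 84804579169557<|a 120541129755681<|a 237573040597588<|a 181123478678133<|a 198536533863758<|a 15720275460440<|a 89416021756043<|c)<|
 d (a 28940368635080<|a 74784108977152<|a 201488484883524<|a 121516061505453<|a 106740026284614<|a 170199172102704<|a 197162399314758<|a 110808767490250<|a 61805480322454<|c)<|
 d c<|
 d (a 28871649158856<|a 109951303293952<|a 186815016684557<|a 88737250489264<|a 30109890335970<|a 93362313270084<|a 117206219267176<|a 71505050428016<|a 212048046217874<|c)<|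
 d (a 28940368635080<|a 110002842901504<|a 135520797972130<|a 238157010933296<|a 29906363916900<|a 46511434577053<|a 76156914180755<|a 13506904767373<|a 164769500509196<|c)<|
 d c<|
 f);
 (d (a 28734210206408<|a 39591144856576<|a 158541444172008<|a 56421952915573<|a 16070269953553<|a 168261552401418<|a 196971736460161<|a 204119087980621<|a 124254134165588<|c)<|
 d (a 28596771250376<|a 74766929107968<|a 95745090069585<|a 88600719427336<|a 90160558264908<|a 168880827125036<|a 232216344312229<|a 194903121863091<|a 205523232639028<|c)<|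
 d (a 28665490730184<|a 74818468715520<|a 186987620073752<|a 38541484033426<|a 105714892260249<|a 166139328270598<|a 20784600098848<|a 192139825122396<|a 15439754275632<|c)<|
 d (a 28734210206408<|a 74809878780928<|a 4615492546629<|a 206008529566811<|a 59492300562980<|a 150409796048388<|a 89161376650432<|a 237871188368738<|a 26529042156854<|c)<|
 d (a 28802929682632<|a 74801288846336<|a 50873192635803<|a 106142794615539<|a 191687970692288<|a 217875178211731<|a 62435942943538<|a 146979723842662<|a 42109398172844<|c)<|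
 f));
 (let f:=(d (a 28802929682632<|a 39582554921984<|a 187899745665317<|a 28950587809921<|a 2639099471361<|a 238623019701805<|a 65038019356357<|a 144497253080115<|a 15030578649317<|c)<|
 d (a 28871649158856<|a 39634094529536<|a 148814329088813<|a 59068520617179<|a 100352687949365<|a 194388290849317<|a 200203219028292<|a 29314500679844<|a 196651992630018<|c)<|
 d (a 28940368635080<|a 39625504594944<|a 106329517861160<|a 224375741700485<|a 64082804873440<|a 93544944405070<|a 11727475694409<|a 234769510577481<|a 119851920808810<|c)<|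
 d c<|
 d (a 28596771250376<|a 39608324725760<|a 151089581614002<|a 95125852608937<|a 71908911121476<|a 88032661267329<|a 222118911416432<|a 35377961876773<|a 216441810247977<|c)<|
 d (a 28665490730184<|a 39599734791168<|a 41528328898291<|a 191868429756068<|a 9994692035654<|a 50256261780021<|a 6256258724934<|a 240082445101790<|a 122281624863896<|c)<|
 f);
 (d (a 28665490730184<|a 4441130408960<|a 162009499372628<|a 235373880591393<|a 50658307419187<|a 62818260570254<|a 7860872505361<|a 7383700019992<|a 216907831190888<|c)<|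
 d (a 28734210206408<|a 4432540474368<|a 53931137944654<|a 24450213880932<|a 49660240994960<|a 163289758328882<|a 231526038063878<|a 230488449770388<|a 216521794169571<|c)<|
 d (a 28802929682632<|a 4423950539776<|a 132917182638093<|a 198718235041030<|a 24201713188954<|a 23823557356659<|a 214066999427470<|a 78154275632757<|a 109021550946122<|c)<|
 d (a 28871649158856<|a 4415360605184<|a 86360257535324<|a 164132938077094<|a 223050046071061<|a 49281533006619<|a 41318802299491<|a 222115498989284<|a 46406725572497<|c)<|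
 d (a 28940368635080<|a 4406770670592<|a 2925347608173<|a 91275143468564<|a 84783951692485<|a 239319419906094<|a 170678177256197<|a 229022744642082<|a 168363423999201<|c)<|
 f)));
 (let f:=(let f:=(d c<|
 d (a 29490139128968<|a 215530195655680<|a 71305361698226<|a 46297341584997<|a 188142203485506<|a 26996263617864<|a 108970592602793<|a 160852382160657<|a 240972037153184<|c)<|
 d (a 29558858605192<|a 215521605721088<|a 220261416813589<|a 151377741567158<|a 225764574606609<|a 707758238432<|a 140825962330460<|a 234852623750350<|a 178845268861966<|c)<|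
 d (a 29146541744264<|a 215513015786496<|a 49152517221805<|a 238688559310464<|a 236612540712165<|a 86553745474898<|a 10819207699626<|a 52040083184019<|a 40841334376340<|c)<|
 d c<|
 d (a 28596771250376<|a 4449720343552<|a 154689197696725<|a 51292676648202<|a 99280074171739<|a 90822614117189<|a 81755928582504<|a 226812264823465<|a 120221308990753<|c)<|
 f);
 (d (a 29215261224072<|a 180337231535104<|a 88890619199811<|a 91398394819666<|a 196526392892822<|a 237592830583979<|a 240813919998613<|a 191487369840472<|a 22246612316742<|c)<|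
 d (a 29283980700296<|a 180328641600512<|a 54451950249352<|a 55150206011285<|a 73334906454161<|a 140911911212380<|a 158377244965547<|a 53720222414858<|a 183659390425310<|c)<|
 d (a 29215261224072<|a 215504425851904<|a 98018438298793<|a 193834765320402<|a 89325145213956<|a 189806057882350<|a 234814809900125<|a 89130979254412<|a 58717057524914<|c)<|
 d (a 29283980700296<|a 215555965459456<|a 89918021420378<|a 71482964902189<|a 143883556988644<|a 223282773308044<|a 239050938936401<|a 60734629229730<|a 94146855102853<|c)<|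
 d (a 29352700176520<|a 215547375524864<|a 124290683254052<|a 218722420482350<|a 43040044657731<|a 155146134899602<|a 54603404558706<|a 60762893591920<|a 90486720799937<|c)<|
 f));
 (let f:=(d (a 29352700176520<|a 180320051665920<|a 145784284189091<|a 98658670930337<|a 64167418381546<|a 93909549687644<|a 11695737746539<|a 100104293529112<|a 6359813768778<|c)<|
 d c<|
 d (a 29490139128968<|a 180363001338880<|a 240135021673856<|a 161466766492418<|a 178420165757782<|a 187764464174723<|a 23444784022224<|a 132738283218852<|a 39592731648291<|c)<|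
 d (a 29558858605192<|a 180354411404288<|a 233338672546069<|a 29326090621971<|a 25070014937862<|a 165111784594092<|a 91024886635349<|a 187359187320073<|a 16136604138212<|c)<|
 d (a 29146541744264<|a 180345821469696<|a 154377064409168<|a 123235976996891<|a 5545315101224<|a 215837420764274<|a 62146869816206<|a 240000021187269<|a 146276416295689<|c)<|
 f);
 (d (a 29146541744264<|a 145178627152896<|a 62956925037709<|a 129500190467186<|a 182153888348197<|a 21028919435907<|a 2620024993872<|a 71868874168608<|a 220821659113318<|c)<|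
 d (a 29215261224072<|a 145170037218304<|a 81206251580080<|a 177617383138931<|a 61808886944097<|a 192292176156965<|a 164765422535460<|a 212976828115490<|a 188072497358185<|c)<|
 d (a 29283980700296<|a 145161447283712<|a 24012189913138<|a 107843567770368<|a 51560467255590<|a 130155452474421<|a 86595228163206<|a 204138428318352<|a 3438281859353<|c)<|
 d (a 29352700176520<|a 145152857349120<|a 49498233653830<|a 141414030262930<|a 114762205025429<|a 18567761908437<|a 213401435065434<|a 230022804723229<|a 180732967048920<|c)<|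
 d c<|
 f))));
 (let f:=(let f:=(let f:=(d (a 29352700176520<|a 109985663032320<|a 21060534253412<|a 158554847110321<|a 229985253218836<|a 624067877417<|a 70472514077509<|a 197913474383139<|a 151412096217289<|c)<|
 d c<|
 d (a 29490139128968<|a 109968483163136<|a 196890128705108<|a 82541818788761<|a 125789043770434<|a 230489220398229<|a 204767376926098<|a 29449217719490<|a 170081477363612<|c)<|
 d (a 29558858605192<|a 109959893228544<|a 183156953686867<|a 199875032173081<|a 181064563895436<|a 36865074915036<|a 180572944479963<|a 154296434614349<|a 58537661327147<|c)<|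
 d (a 29490139128968<|a 145135677479936<|a 106769772034834<|a 185498403767692<|a 141012591628532<|a 94313267144845<|a 82132128572177<|a 192810280048817<|a 194799940934683<|c)<|
 d (a 29558858605192<|a 145187217087488<|a 40850320593430<|a 72109526309675<|a 155501627354021<|a 191042310720260<|a 164617775098720<|a 72867113704242<|a 36720404703331<|c)<|
 f);
 (d (a 29146541744264<|a 74784108977152<|a 16291492737411<|a 127717805088004<|a 142560858648594<|a 41276806277315<|a 110764262951192<|a 114489136897389<|a 26601200096397<|c)<|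
 d (a 29215261224072<|a 74775519042560<|a 59551924040968<|a 235128363177024<|a 199137995443205<|a 168845748123819<|a 197018982733589<|a 127545906938501<|a 88529161110388<|c)<|
 d (a 29146541744264<|a 109951303293952<|a 100285184019844<|a 9071431093618<|a 15756836617616<|a 25534213055284<|a 38393324394086<|a 224581135419033<|a 237782520338602<|c)<|
 d (a 29215261224072<|a 110002842901504<|a 217642087270<|a 233253711341918<|a 112980480373873<|a 156964374252032<|a 230692413285184<|a 180760196164766<|a 59827016376864<|c)<|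
 d (a 29283980700296<|a 109994252966912<|a 130960093193753<|a 153124846084300<|a 130194913707155<|a 46772978245724<|a 5872381597195<|a 227135688914580<|a 107291288751250<|c)<|
 f));
 (let f:=(d (a 29352700176520<|a 39591144856576<|a 141579625581581<|a 85661060572874<|a 11910804574348<|a 9058717539522<|a 212229982290328<|a 153952354167987<|a 38646419919530<|c)<|
 d (a 29283980700296<|a 74766929107968<|a 213945376585491<|a 181990709695602<|a 94822762030501<|a 179035379024670<|a 57546612499555<|a 202523318261078<|a 124475277267165<|c)<|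
 d (a 29352700176520<|a 74818468715520<|a 193814713986221<|a 39654539316060<|a 179358565294636<|a 84479859970982<|a 186481853426292<|a 218133441504905<|a 58438811204658<|c)<|
 d c<|
 d (a 29490139128968<|a 74801288846336<|a 200503867638109<|a 113388833323338<|a 154914918650594<|a 181303731898762<|a 128190317144369<|a 94172985633308<|a 24007362314844<|c)<|
 d (a 29558858605192<|a 74792698911744<|a 161235039497310<|a 191063529399136<|a 147429222476515<|a 59207899578714<|a 148129896356395<|a 85926371255328<|a 217610292515184<|c)<|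
 f);
 (d (a 29490139128968<|a 39634094529536<|a 111695784333531<|a 148272113957609<|a 112401979900213<|a 11237405527180<|a 212485138420625<|a 17782868382946<|a 15087340226150<|c)<|
 d (a 29558858605192<|a 39625504594944<|a 13664087555365<|a 198095756529702<|a 196043191765593<|a 98977708149594<|a 47608131508075<|a 197254976722018<|a 50217364884609<|c)<|
 d (a 29146541744264<|a 39616914660352<|a 37199010733084<|a 14616216299268<|a 23093608287552<|a 152443905683682<|a 54257031778332<|a 121264416653589<|a 37590404184837<|c)<|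
 d (a 29215261224072<|a 39608324725760<|a 36713871567754<|a 53496874042164<|a 13380529214376<|a 132570714475785<|a 16571339311521<|a 37505557818637<|a 203007644708894<|c)<|
 d (a 29283980700296<|a 39599734791168<|a 63349526441332<|a 55848779965594<|a 41037901908033<|a 84489054078057<|a 151264264569485<|a 82580571010835<|a 236673811448433<|c)<|
 f)));
 (let f:=(let f:=(d (a 29215261224072<|a 4441130408960<|a 128792472694092<|a 135527442229844<|a 217240231269390<|a 91647497807281<|a 46640321897142<|a 235883405523364<|a 233958369408677<|c)<|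
 d (a 29283980700296<|a 4432540474368<|a 18876389214000<|a 187548099224216<|a 146356845348450<|a 78218224282867<|a 80146022213022<|a 14884804937634<|a 126447822178411<|c)<|
 d (a 29352700176520<|a 4423950539776<|a 142492026030808<|a 153980159010522<|a 176664378975434<|a 186534132122414<|a 164080020483173<|a 30060101888168<|a 190791679923779<|c)<|
 d c<|
 d (a 29490139128968<|a 4406770670592<|a 218376295448756<|a 23653068985355<|a 218550178632452<|a 93513837824357<|a 187611085975852<|a 81255955798861<|a 22799461832776<|c)<|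
 d c<|
 f);
 (d (a 29971190146632<|a 215530195655680<|a 47324151229337<|a 25678814253802<|a 108049065653028<|a 106499771337365<|a 189234333958994<|a 227176399422067<|a 204067337312270<|c)<|
 d (a 30039909622856<|a 215521605721088<|a 150518607700019<|a 123959271561955<|a 25156462783899<|a 57980408523088<|a 183195183409450<|a 91632604039769<|a 861465272915<|c)<|
 d (a 30108629099080<|a 215513015786496<|a 128509188180233<|a 57731316298385<|a 92584600583284<|a 150931631252659<|a 229955510766230<|a 233349004399948<|a 158963222012177<|c)<|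
 d (a 29558858605192<|a 4398180736000<|a 88052284740376<|a 181459922293509<|a 230463887187361<|a 90600607993165<|a 46509452281257<|a 196413464710189<|a 54472108158346<|c)<|
 d (a 29146541744264<|a 4449720343552<|a 109065131637857<|a 233420042299051<|a 108991307371344<|a 110057619298828<|a 189696246921025<|a 76864220433318<|a 63660864386779<|c)<|
 f));
 (let f:=(d c<|d c<|
 d (a 29765031717960<|a 215555965459456<|a 223560339229186<|a 16059765690643<|a 123321541642961<|a 27050061390221<|a 214496073847857<|a 59833599081290<|a 176116417725002<|c)<|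
 d (a 29833751194184<|a 215547375524864<|a 220531042091612<|a 92997451690696<|a 20344937557141<|a 85600577564706<|a 186587574997508<|a 205641189299357<|a 41530507488076<|c)<|
 d (a 29902470670408<|a 215538785590272<|a 196881999846293<|a 162981448694428<|a 154088834718068<|a 70487724935689<|a 149565638033729<|a 55884848149139<|a 77658978189512<|c)<|
 f);
 (d (a 29833751194184<|a 180371591273472<|a 227762491248979<|a 231896395082640<|a 236732375128<|a 14333549663315<|a 1826057639050<|a 71840508728737<|a 11871615203078<|c)<|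
 d (a 29902470670408<|a 180363001338880<|a 182912014759197<|a 153207427764432<|a 159726673980609<|a 83709545321006<|a 80866794985029<|a 158433873233<|a 191461760213608<|c)<|
 d (a 29971190146632<|a 180354411404288<|a 57274215796821<|a 182404848670554<|a 94886901666184<|a 230239379772033<|a 63947127274064<|a 119195647041819<|a 5897570486794<|c)<|
 d (a 30039909622856<|a 180345821469696<|a 7994921464857<|a 92526659942444<|a 2243688446156<|a 37750347307626<|a 215833620075853<|a 36358655122085<|a 72127630496438<|c)<|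
 d (a 30108629099080<|a 180337231535104<|a 110958520157869<|a 76215021054681<|a 203826911959326<|a 108872773883593<|a 119187984902361<|a 25606631334954<|a 164004057736577<|c)<|
 f)))));
 (let f:=(let f:=(let f:=(let f:=(d (a 29971190146632<|a 145178627152896<|a 119604247579971<|a 180636027628789<|a 184752749515813<|a 192716764028193<|a 235178641876900<|a 121655026543262<|a 44309209191114<|c)<|
 d (a 30039909622856<|a 145170037218304<|a 40512473179533<|a 200423008330406<|a 187477491465126<|a 86016682945733<|a 186691123582872<|a 204371869382510<|a 97696870913070<|c)<|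
 d (a 30108629099080<|a 145161447283712<|a 98247656101976<|a 2391955421716<|a 41693933158616<|a 220728113803925<|a 97976934079570<|a 56487689329765<|a 146814909120658<|c)<|
 d c<|
 d (a 29765031717960<|a 145144267414528<|a 93149859891397<|a 90917653796778<|a 110193934658064<|a 25367877192278<|a 3170978358602<|a 197946554307829<|a 123320493025395<|c)<|
 d (a 29765031717960<|a 180320051665920<|a 154054809797402<|a 236153190400853<|a 6847808879542<|a 125555560457765<|a 156449104893124<|a 201378847008564<|a 226862534683952<|c)<|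
 f);
 (d c<|
 d (a 29765031717960<|a 109968483163136<|a 60521609828083<|a 81614123244821<|a 202628412357700<|a 99372291368792<|a 117966066946283<|a 49874023362585<|a 159180523767115<|c)<|
 d (a 29833751194184<|a 109959893228544<|a 58456089487470<|a 29231910498542<|a 203420670483803<|a 61824638132779<|a 218817130332741<|a 2598473067274<|a 148312228834316<|c)<|
 d (a 29833751194184<|a 145135677479936<|a 154742346393393<|a 154282423665690<|a 192604139643298<|a 221166598759426<|a 98048924568704<|a 1252591764996<|a 126558059649585<|c)<|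
 d (a 29902470670408<|a 145187217087488<|a 112549145731156<|a 192198195075422<|a 142834193361251<|a 170191144014109<|a 197161389512227<|a 49139168262914<|a 5809215279902<|c)<|
 f));
 (let f:=(d (a 29833751194184<|a 74784108977152<|a 116920913794710<|a 55399283327644<|a 152535974456360<|a 43064255690032<|a 5408797570726<|a 180493327321830<|a 165569030666158<|c)<|
 d (a 29902470670408<|a 74775519042560<|a 237787312909573<|a 11599230862370<|a 85047240144946<|a 70675493243608<|a 8834442947419<|a 63467483752875<|a 229067799220397<|c)<|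
 d (a 29902470670408<|a 109951303293952<|a 117445698927003<|a 114982870801472<|a 228056567913541<|a 191765514588948<|a 23919151815266<|a 164618692864620<|a 112440097332661<|c)<|
 d (a 29971190146632<|a 110002842901504<|a 63464856282917<|a 16401871622230<|a 83635550750410<|a 19147791405394<|a 107929408228394<|a 8087986029761<|a 155748603963096<|c)<|
 d (a 30039909622856<|a 109994252966912<|a 13387599223313<|a 95755319434270<|a 22305388981158<|a 176699336335939<|a 57246019328584<|a 220024539977222<|a 73542547936132<|c)<|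
 d (a 30108629099080<|a 109985663032320<|a 99684128343710<|a 6707234386547<|a 231146640836753<|a 121919467639890<|a 85591489372298<|a 51286401148624<|a 116438738234230<|c)<|
 f);
 (d (a 29971190146632<|a 74766929107968<|a 94227970492324<|a 61768689896013<|a 177876528797092<|a 147099079717996<|a 123906143590029<|a 80474270241627<|a 147003379189985<|c)<|
 d (a 30039909622856<|a 74818468715520<|a 51922348918557<|a 156684209142694<|a 17692689347755<|a 4851169106995<|a 572044788102<|a 148194679073545<|a 125141686157608<|c)<|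
 d (a 30108629099080<|a 74809878780928<|a 157380540224746<|a 169432620685156<|a 58961412934800<|a 211808063499460<|a 202397868381592<|a 143497882833813<|a 194968271874802<|c)<|
 d c<|
 d (a 29765031717960<|a 74792698911744<|a 189224528404891<|a 112861717037165<|a 76877382946898<|a 83569063713624<|a 221603907200875<|a 90326618946774<|a 28267469247370<|c)<|
 f)));
 (let f:=(let f:=(d (a 30108629099080<|a 39634094529536<|a 38227195626014<|a 227146661321372<|a 224306969032093<|a 41469657028821<|a 5183719713562<|a 116422377921067<|a 37289792767857<|c)<|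
 d c<|
 d (a 29765031717960<|a 39616914660352<|a 221238480561884<|a 18377691268611<|a 94742153947228<|a 18233044325968<|a 72673642423498<|a 177422171806093<|a 160758078420819<|c)<|
 d (a 29833751194184<|a 39608324725760<|a 87297562430616<|a 199135135916900<|a 123614621501984<|a 19474283124402<|a 178364727381206<|a 180919118284467<|a 59387969651084<|c)<|
 d (a 29902470670408<|a 39599734791168<|a 167300057716874<|a 125098616620892<|a 233218437092132<|a 160376449010731<|a 125608753939333<|a 204105884701718<|a 150279618424136<|c)<|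
 d (a 29971190146632<|a 39591144856576<|a 60362651916083<|a 60836779973806<|a 2367875055652<|a 50141976642274<|a 217391146900572<|a 40713086161068<|a 154793353358337<|c)<|
 f);
 (d (a 29833751194184<|a 4432540474368<|a 111407479825185<|a 37619446597445<|a 204373394002997<|a 15683364017329<|a 37127612719254<|a 143790713982259<|a 226389164426282<|c)<|
 d (a 29902470670408<|a 4423950539776<|a 81670167658524<|a 177119137502772<|a 169709329771618<|a 55320618536210<|a 6915077318562<|a 99817809813761<|a 2425120777552<|c)<|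
 d (a 29971190146632<|a 4415360605184<|a 44531633702018<|a 9601173291438<|a 79540488543477<|a 180701425146602<|a 163299400890717<|a 143899501810290<|a 198266571789140<|c)<|
 d (a 30039909622856<|a 4406770670592<|a 76248018508179<|a 187914865973486<|a 26444878501172<|a 49665568768291<|a 41409754346020<|a 55211956574434<|a 168481548189970<|c)<|
 d (a 30039909622856<|a 39582554921984<|a 29768586627858<|a 165339256921203<|a 163281876893851<|a 170837167463629<|a 162074962806169<|a 200142390675544<|a 194773357909101<|c)<|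
 f));
 (let f:=(d (a 26672552502792<|a 215521605721088<|a 239053676093958<|a 54466057880777<|a 60598153161616<|a 185315141786254<|a 199137788583249<|a 7148108147585<|a 35615614454492<|c)<|
 d (a 26741271979016<|a 215513015786496<|a 18406796703136<|a 125036192814125<|a 235611489769058<|a 94726991780258<|a 152612724164404<|a 134280847043185<|a 98975856908900<|c)<|
 d (a 30108629099080<|a 4398180736000<|a 99536163902133<|a 89911657976229<|a 178407247758229<|a 15402621774373<|a 1959691654468<|a 85027144958261<|a 47666898593006<|c)<|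
 d c<|
 d (a 29765031717960<|a 4441130408960<|a 213060722189697<|a 215849245436645<|a 116322802940066<|a 221564249880451<|a 133300182916336<|a 20170482836072<|a 180784247429782<|c)<|
 f);
 (d (a 26809991455240<|a 215504425851904<|a 236303927564098<|a 64540745337779<|a 217456632234354<|a 130092986883242<|a 86596014089109<|a 60555442541729<|a 127715471739628<|c)<|
 d (a 26397674594312<|a 215555965459456<|a 196179528091251<|a 222120449263168<|a 164673514214738<|a 188168295156611<|a 234653045522800<|a 148030831518361<|a 113503446337243<|c)<|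
 d c<|
 d (a 26535113550344<|a 215538785590272<|a 160862068318306<|a 238422565356894<|a 126497281181900<|a 45381119902421<|a 40848420046938<|a 214019435588657<|a 6764660590872<|c)<|
 d (a 26603833026568<|a 215530195655680<|a 461100103718<|a 25474837830937<|a 107302956950946<|a 203034060065792<|a 130940961612672<|a 29843666382944<|a 143383734193299<|c)<|
 f))));
 (let f:=(let f:=(let f:=(d (a 26397674594312<|a 180371591273472<|a 129659934418645<|a 240062939323637<|a 2205509388330<|a 86871532064916<|a 81253457586194<|a 49373554193293<|a 120217418131537<|c)<|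
 d c<|
 d (a 26535113550344<|a 180354411404288<|a 218401998136677<|a 163398164362501<|a 185362270131121<|a 226614018081284<|a 204240029061696<|a 110753593301803<|a 186527850447219<|c)<|
 d (a 26603833026568<|a 180345821469696<|a 189421137379549<|a 134436567454737<|a 229280013521100<|a 186716866093982<|a 234445844990067<|a 20103698651553<|a 15208320218630<|c)<|
 d (a 26672552502792<|a 180337231535104<|a 226006963806219<|a 211980590704025<|a 89885412547729<|a 14942196521041<|a 212982605420298<|a 55993282151000<|a 769707807576<|c)<|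
 d (a 26741271979016<|a 180328641600512<|a 182596656114914<|a 218651844708435<|a 14386138029076<|a 64211695492523<|a 148721006908853<|a 182972930992541<|a 226642791259282<|c)<|
 f);
 (d (a 26535113550344<|a 145170037218304<|a 211888784435291<|a 97356323117248<|a 152664833448472<|a 201645813847213<|a 95565883070101<|a 158370319935593<|a 147045961556267<|c)<|
 d (a 26603833026568<|a 145161447283712<|a 123284430422124<|a 9120404254022<|a 90902289521030<|a 198132966627875<|a 165529874795332<|a 196538043531342<|a 7462691099677<|c)<|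
 d (a 26672552502792<|a 145152857349120<|a 169175023760689<|a 195254685079875<|a 84501424650781<|a 202617034921251<|a 25292765430436<|a 199717325916872<|a 91352034101824<|c)<|
 d (a 26741271979016<|a 145144267414528<|a 190791390685302<|a 150376671766409<|a 241137854143024<|a 142671387099806<|a 123352671529555<|a 129479350945832<|a 132560726574186<|c)<|
 d (a 26809991455240<|a 180320051665920<|a 240150571956469<|a 95970349067557<|a 58851959876960<|a 177720616073604<|a 127785360561456<|a 20375371666314<|a 157591147211040<|c)<|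
 f));
 (let f:=(d (a 26672552502792<|a 109968483163136<|a 20798720140381<|a 152120049568268<|a 26810801795483<|a 211401178147428<|a 26390779140428<|a 24931555452288<|a 204698146603528<|c)<|
 d (a 26741271979016<|a 109959893228544<|a 114956741655709<|a 154092214836436<|a 220625460302637<|a 199032767170824<|a 200843908111137<|a 223624267155506<|a 221902274750571<|c)<|
 d (a 26809991455240<|a 145135677479936<|a 198219491807310<|a 130158202667810<|a 189501268995492<|a 142737040001234<|a 88210865787674<|a 240405201331392<|a 5383079254147<|c)<|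
 d (a 26397674594312<|a 145187217087488<|a 226535638883557<|a 155390135427434<|a 7056672367771<|a 52807329032195<|a 6643874192640<|a 50361051401518<|a 226892540728355<|c)<|
 d c<|
 f);
 (d (a 26809991455240<|a 109951303293952<|a 149990788050073<|a 146061305972974<|a 216700666940744<|a 6446369020105<|a 141534698742041<|a 185479451773254<|a 59795921384469<|c)<|
 d (a 26397674594312<|a 110002842901504<|a 3448285438627<|a 61673354594861<|a 132815472923417<|a 59426352584246<|a 113015765881030<|a 195004006025817<|a 46421534890707<|c)<|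
 d c<|
 d (a 26535113550344<|a 109985663032320<|a 62337987596910<|a 224687161816745<|a 5816535584802<|a 233696354636913<|a 240326860508302<|a 154529713154787<|a 42775329190213<|c)<|
 d (a 26603833026568<|a 109977073097728<|a 106182141359808<|a 225662208350360<|a 143927208512193<|a 88695158041770<|a 187025928775061<|a 13496085931021<|a 118770719833196<|c)<|
 f)));
 (let f:=(let f:=(d (a 26397674594312<|a 74818468715520<|a 204664657302156<|a 87279435593922<|a 42247599956251<|a 146626048699701<|a 229391543141286<|a 231504320411306<|a 236605238838902<|c)<|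
 d c<|
 d (a 26535113550344<|a 74801288846336<|a 220153989747920<|a 50813990281345<|a 126207661586026<|a 148561043042397<|a 88973242685963<|a 93018819777066<|a 84703669486250<|c)<|
 d (a 26603833026568<|a 74792698911744<|a 112377630045256<|a 114630201268254<|a 92644889185542<|a 182160815216521<|a 128340391745777<|a 87185308362867<|a 205612755010643<|c)<|
 d (a 26672552502792<|a 74784108977152<|a 114372592888603<|a 120841860437905<|a 222801877545187<|a 190360002342150<|a 164532484452768<|a 157424002939993<|a 195382512782194<|c)<|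
 d (a 26741271979016<|a 74775519042560<|a 26640883235864<|a 119599306424325<|a 228703398413398<|a 60492176511842<|a 183500562377836<|a 87285325268108<|a 212773962320940<|c)<|
 f);
 (d (a 26535113550344<|a 39616914660352<|a 48692875571438<|a 155968305059757<|a 239367963613397<|a 217591786647891<|a 27173214013994<|a 163971251780148<|a 18776180050306<|c)<|
 d (a 26603833026568<|a 39608324725760<|a 53241847341217<|a 220473766790173<|a 169636217771632<|a 201092623641514<|a 201024068176757<|a 92382944597580<|a 24067398702784<|c)<|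
 d (a 26672552502792<|a 39599734791168<|a 196839179725715<|a 164071822972565<|a 237662177764077<|a 14307666548645<|a 36981416145140<|a 146031229830502<|a 77819637236613<|c)<|
 d (a 26741271979016<|a 39591144856576<|a 216829122433307<|a 73344513084067<|a 64401503824390<|a 18050919583910<|a 178152453488660<|a 133759784011483<|a 19458645742478<|c)<|
 d (a 26809991455240<|a 74766929107968<|a 204523430677932<|a 25190201936912<|a 44324266633744<|a 187882106392602<|a 23485254912003<|a 188295804218249<|a 240555863498158<|c)<|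
 f));
 (let f:=(d (a 26672552502792<|a 4415360605184<|a 14448449938755<|a 57324629088522<|a 216828244796434<|a 108477138613904<|a 189472912836818<|a 214061919563142<|a 92570188473441<|c)<|
 d (a 26741271979016<|a 4406770670592<|a 48799884397273<|a 165396377254765<|a 214457386645019<|a 218529144851212<|a 168027874238817<|a 3122593346368<|a 190889841439643<|c)<|
 d (a 26809991455240<|a 39582554921984<|a 123914941137829<|a 88268295295260<|a 73411198378029<|a 201388673606478<|a 95576688117353<|a 90545058287795<|a 217329257620141<|c)<|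
 d (a 26397674594312<|a 39634094529536<|a 54197497516277<|a 190448552000626<|a 48517585078627<|a 82760476074121<|a 80730979363345<|a 64679880120897<|a 18288149108827<|c)<|
 d c<|
 f);
 (a (a 26809991455240<|a 4398180736000<|a 13902443812656<|a 181285427918252<|a 221032195960950<|a 41330507332790<|a 216306909881238<|a 211359942664809<|a 154484777853849<|c)<|
 a (a 26397674594312<|a 4449720343552<|a 72123075582258<|a 141093380582682<|a 27334840616110<|a 3736668842115<|a 35642863662352<|a 227515202586316<|a 161809236245298<|c)<|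
 a c<|
 a (a 26535113550344<|a 4432540474368<|a 193544739300421<|a 236419253113989<|a 76282587718882<|a 133869468870417<|a 227831324107490<|a 198855276814740<|a 75130797144333<|c)<|
 a (a 26603833026568<|a 4423950539776<|a 107547686627714<|a 81676010105954<|a 75982879677709<|a 82463869150915<|a 221431396048088<|a 93620448998318<|a 110321028450950<|c)<|
 f))))))))

/-- table -/
def tab2 : List (List Nat) := (beta% delta% lq26c7747f93 fun a c d _ _ _ _ _ _ =>
 (let f:=(let f:=(let f:=(let f:=(let f:=(let f:=(d (a 26396869025800<|a 211130001854512<|a 158886373492550<|a 14967583029808<|a 56532855334053<|a 227122813798468<|a 90541339503520<|a 40209678403795<|a 122074035658009<|c)<|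
 d (a 26396869025800<|a 211138591789104<|a 9466851834720<|a 214204694534532<|a 192708071315114<|a 24885352481886<|a 117476382018483<|a 29560607878044<|a 9453906036405<|c)<|
 d (a 26396869025800<|a 211147181723696<|a 150923516789988<|a 49741517167843<|a 220165235314850<|a 234871038294174<|a 150336024200003<|a 129763250968866<|a 130520611666499<|c)<|
 d (a 26396869025800<|a 211155771658288<|a 185491824327025<|a 81713577004300<|a 38294433065157<|a 25062657803336<|a 221923171571073<|a 27092985235569<|a 185501006369025<|c)<|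
 d (a 26396869025800<|a 211164361592880<|a 218144617289444<|a 111907991060578<|a 232260760122437<|a 133906930475288<|a 78273436008651<|a 99617692718356<|a 218121078983757<|c)<|c);
 (d (a 26396869025800<|a 105592985423920<|a 52778365575221<|a 26537556645417<|a 43262771070045<|a 48448395187214<|a 40722067674113<|a 167376642128033<|a 74807928641350<|c)<|
 d (a 26396869025800<|a 105601575358512<|a 199026808674307<|a 46645512508442<|a 162097472280970<|a 220028377083014<|a 13774146842840<|a 130694266514260<|a 160013324668002<|c)<|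
 d (a 26396869025800<|a 105610165293104<|a 236082096523099<|a 111843775974171<|a 116179472890454<|a 152323778262880<|a 156511508280588<|a 237622069478995<|a 191215458171594<|c)<|
 d (a 26396869025800<|a 211112821985328<|a 199641055499866<|a 46061564575126<|a 61965461010626<|a 79978227657956<|a 165581806807316<|a 20595449104669<|a 199668221190290<|c)<|
 d (a 26396869025800<|a 211121411919920<|a 190823414319275<|a 222226224943643<|a 189790413707355<|a 230018552806614<|a 122194426377490<|a 221196226534485<|a 190778496955990<|c)<|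
 f));
 (let f:=(d (a 26396869025800<|a 70424717365296<|a 205523247390858<|a 220316092110929<|a 129035286654276<|a 5923859143030<|a 123324089934726<|a 238900344466331<|a 227834930353669<|c)<|
 d (a 26396869025800<|a 105558625685552<|a 220528003630981<|a 6448687369131<|a 240555166915242<|a 236608183514179<|a 54883311607144<|a 29860818074764<|a 194801286271274<|c)<|
 d (a 26396869025800<|a 105567215620144<|a 63368385302620<|a 61573883356518<|a 23379365114464<|a 5069140814049<|a 166143433198700<|a 108075637985504<|a 95979449991789<|c)<|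
 d (a 26396869025800<|a 105575805554736<|a 240522001782616<|a 6349732296902<|a 27793449114792<|a 112775700178788<|a 199384000497444<|a 7299642244213<|a 199658457894243<|c)<|
 d (a 26396869025800<|a 105584395489328<|a 235515337581713<|a 40718803226893<|a 183169245209836<|a 151035344638762<|a 120003755677093<|a 21239102507144<|a 190099921376098<|c)<|
 f);
 (d (a 26396869025800<|a 70390357626928<|a 238045093022940<|a 8110422475299<|a 98660779413531<|a 6191348593251<|a 54635765189388<|a 141526458122628<|a 159986135976200<|c)<|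
 d (a 26396869025800<|a 70398947561520<|a 235577412832660<|a 7751083047139<|a 143929461557642<|a 223207446427436<|a 76883833503893<|a 55396641463656<|a 133189152978155<|c)<|
 d (a 26396869025800<|a 70407537496112<|a 224384705506068<|a 42525100422565<|a 92503156212453<|a 231299379516972<|a 45401867437101<|a 88919787332<|a 127837173363348<|c)<|
 d (a 26396869025800<|a 70416127430704<|a 151854783326059<|a 226239244576153<|a 46222458578539<|a 60280459072277<|a 98220074941090<|a 94129775805552<|a 205288338012517<|c)<|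
 f)));
 (let f:=(let f:=(d (a 26396869025800<|a 175959586312240<|a 223212970083214<|a 40232926093872<|a 149679922816648<|a 131244371413941<|a 75733393270038<|a 80588009571376<|a 169327622298729<|c)<|
 d (a 26396869025800<|a 175968176246832<|a 28332864000220<|a 70739672798434<|a 146362440936338<|a 111987015950566<|a 13435335753860<|a 203214042620506<|a 16114785307139<|c)<|
 d (a 26396869025800<|a 175976766181424<|a 53379783480628<|a 238606469498402<|a 156371490463050<|a 50931473457736<|a 44817396581569<|a 167750436950179<|a 129245912021057<|c)<|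
 d (a 26396869025800<|a 70373177757744<|a 64696170754842<|a 132879410110612<|a 234918765998252<|a 182967520018789<|a 161409275372444<|a 60179775230382<|a 123818726236316<|c)<|
 d (a 26396869025800<|a 70381767692336<|a 14375081514346<|a 36452072614806<|a 37738067336385<|a 125946388112017<|a 223553682055794<|a 74085000590941<|a 22873765402509<|c)<|
 f);
 (d (a 26396869025800<|a 175925226573872<|a 203171953136134<|a 150101619638514<|a 167128019052941<|a 74867454977088<|a 118775010125512<|a 165207406591027<|a 54807586935346<|c)<|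
 d (a 26396869025800<|a 175933816508464<|a 240456235048990<|a 4725559384369<|a 91180082414877<|a 215579500944226<|a 118803504980596<|a 212214807421843<|a 122445390538291<|c)<|
 d (a 26396869025800<|a 175942406443056<|a 19411651017440<|a 108563277152580<|a 212946303228273<|a 226190494549720<|a 81587373113987<|a 70732029641842<|a 23548019182849<|c)<|
 d (a 26396869025800<|a 175950996377648<|a 217923017974948<|a 40723062591781<|a 54110919910290<|a 168490091828510<|a 229415906002259<|a 27507852856604<|a 124615578502037<|c)<|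
 f));
 (let f:=(d (a 26396869025800<|a 140756958515248<|a 22726223514139<|a 178990639327579<|a 121682552776267<|a 184804181391461<|a 123712547273908<|a 217459164713539<|a 14614888860238<|c)<|
 d (a 26396869025800<|a 140765548449840<|a 73352287192694<|a 129210042237744<|a 216272599260196<|a 71367864288587<|a 176021393829065<|a 119766316003972<|a 107849621924362<|c)<|
 d (a 26396869025800<|a 140774138384432<|a 80912533946761<|a 127644040463752<|a 28065133184670<|a 130947216868592<|a 16385706464678<|a 190641790532755<|a 119666749511330<|c)<|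
 d (a 26396869025800<|a 140782728319024<|a 196420134720648<|a 80628641468738<|a 203969126130970<|a 84780139161462<|a 132099999632070<|a 107075954910285<|a 169553150118404<|c)<|
 d (a 26396869025800<|a 140791318253616<|a 224922937169457<|a 6146213234574<|a 108535638614643<|a 123564707078731<|a 42362813747361<|a 190956631517494<|a 203582582352222<|c)<|
 f);
 (d (a 26396869025800<|a 35228532019248<|a 170812326130197<|a 189675526766764<|a 74807696831561<|a 40017016310187<|a 216608860035501<|a 107355034427714<|a 110640071007080<|c)<|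
 d (a 26396869025800<|a 35237121953840<|a 23445802387097<|a 36999290805384<|a 81417167560080<|a 115569613899426<|a 117811702176412<|a 218299336040690<|a 11713087380062<|c)<|
 d (a 26396869025800<|a 140739778646064<|a 51437221046298<|a 169672778040017<|a 170116653701379<|a 17963066135907<|a 7724963735276<|a 190858203322536<|a 98509997103504<|c)<|
 d (a 26396869025800<|a 140748368580656<|a 15199003380781<|a 38925342254760<|a 36157874385134<|a 123403158326485<|a 75317248151962<|a 134575656069364<|a 5228078488475<|c)<|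
 f))));
 (let f:=(let f:=(let f:=(d (a 26396869025800<|a 35185582346288<|a 53671737469195<|a 28668398725277<|a 241039030510277<|a 50647840445553<|a 192167356707406<|a 125142768378212<|a 53710452376433<|c)<|
 d (a 26396869025800<|a 35194172280880<|a 235673817069875<|a 147749665193116<|a 129412240688345<|a 11440078048012<|a 223525458229041<|a 192627358348561<|a 45811657553013<|c)<|
 d (a 26396869025800<|a 35202762215472<|a 218414812108572<|a 76818269451110<|a 187830828925977<|a 240087098352996<|a 64053065368932<|a 233380294549860<|a 218392267993370<|c)<|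
 d (a 26396869025800<|a 35211352150064<|a 47558014998603<|a 28824779922654<|a 212673368452452<|a 128232100586422<|a 199133131225486<|a 143240827822213<|a 47568314387633<|c)<|
 d (a 26396869025800<|a 35219942084656<|a 183648318505618<|a 115000262084627<|a 64335159560262<|a 133425147229099<|a 65031286891949<|a 167429656861357<|a 183663251083666<|c)<|
 f);
 (d (a 26396869025800<|a 211130001821744<|a 42675345460032<|a 29212967182464<|a 30062357392220<|a 29413379409733<|a 8047335637120<|a 124986453533020<|a 42674857183813<|c)<|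
 d (a 26396869025800<|a 211138591756336<|a 225653442546825<|a 184001049711368<|a 128316957891224<|a 159796576685234<|a 225547278685014<|a 187536996185219<|a 225615920272725<|c)<|
 d (a 26396869025800<|a 211147181690928<|a 94199415187989<|a 236002078700909<|a 110696562190060<|a 79450810536172<|a 235893609353501<|a 9400040720182<|a 187284301455716<|c)<|
 d (a 26396869025800<|a 211155771625520<|a 35967763691757<|a 134218241448748<|a 189680824516748<|a 37281904903766<|a 106908638663082<|a 49246987380277<|a 35987607443307<|c)<|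
 d (a 26396869025800<|a 211164361560112<|a 170000654559916<|a 227230888921505<|a 176933663084947<|a 181432665905488<|a 239834497435274<|a 29327456785996<|a 169944753554635<|c)<|
 f));
 (let f:=(d (a 26396869025800<|a 105592985391152<|a 629836048173<|a 37263783926697<|a 165201967097697<|a 73032189777494<|a 141030295427946<|a 65114227500446<|a 1258063845933<|c)<|
 d (a 26396869025800<|a 105601575325744<|a 117963209736304<|a 158790490465984<|a 75071247799819<|a 198628302652301<|a 53422152057521<|a 125526377773578<|a 49926630836811<|c)<|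
 d (a 26396869025800<|a 105610165260336<|a 133318341993355<|a 18435970212061<|a 186387733808321<|a 78413000726709<|a 95530118492406<|a 155183427426698<|a 235378186958001<|c)<|
 d (a 26396869025800<|a 211112821952560<|a 151359567020058<|a 154383699528531<|a 237922757064458<|a 162826533811939<|a 116586216857908<|a 133688074224984<|a 151358942586610<|c)<|
 d (a 26396869025800<|a 211121411887152<|a 77363956456025<|a 236281431713422<|a 169974724572964<|a 97730125423393<|a 112826151902420<|a 147911426924634<|a 204108881094505<|c)<|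
 f);
 (d (a 26396869025800<|a 105558625652784<|a 85232177506190<|a 94168058741297<|a 159443743837430<|a 91648782701811<|a 132958698661462<|a 3350856403888<|a 110513275476073<|c)<|
 d (a 26396869025800<|a 105567215587376<|a 19271028774604<|a 107300556674086<|a 87172472425626<|a 120637683295990<|a 5179806073974<|a 226852474198104<|a 26973142462536<|c)<|
 d (a 26396869025800<|a 105575805521968<|a 49091753690921<|a 133801742872907<|a 237604576757390<|a 20170845502036<|a 240566970357058<|a 219184702426468<|a 183299247794496<|c)<|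
 d (a 26396869025800<|a 105584395456560<|a 155893684950921<|a 155749243201226<|a 229978778576113<|a 126611968797429<|a 169787238322246<|a 141026840488813<|a 64986084317889<|c)<|
 f)));
 (let f:=(let f:=(d (a 26396869025800<|a 70390357594160<|a 117811171215797<|a 125350502148971<|a 91338390131443<|a 25326763031949<|a 62042469522161<|a 165094057781800<|a 182047866136078<|c)<|
 d (a 26396869025800<|a 70398947528752<|a 203519764730506<|a 150479909980054<|a 185186184017645<|a 216979373385392<|a 197000185095782<|a 78228685723224<|a 225148105348507<|c)<|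
 d (a 26396869025800<|a 70407537463344<|a 142611304759574<|a 83984414495027<|a 195201220314930<|a 37774255406314<|a 106423250447725<|a 183313290880746<|a 73481656899667<|c)<|
 d (a 26396869025800<|a 70416127397936<|a 16647293396994<|a 72572062675281<|a 2000051835741<|a 17635539751300<|a 222118716908752<|a 77563924073638<|a 23758305778984<|c)<|
 d (a 26396869025800<|a 70424717332528<|a 178031923871074<|a 188266304397908<|a 118919684504961<|a 178830830816473<|a 212565207556955<|a 95669142061684<|a 36568607108440<|c)<|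
 f);
 (d (a 26396869025800<|a 175968176214064<|a 27740208805461<|a 177941788306220<|a 54033744938667<|a 110862277984429<|a 154567888490893<|a 44333867149869<|a 21075414656628<|c)<|
 d (a 26396869025800<|a 175976766148656<|a 158790470810525<|a 192117932659308<|a 115080446936608<|a 192505067260966<|a 116983537127940<|a 71128604745889<|a 198233968486657<|c)<|
 d (a 26396869025800<|a 70373177724976<|a 229441105074451<|a 217939051112286<|a 98632313813923<|a 121167947359337<|a 25575921561893<|a 19553691780640<|a 164797938218592<|c)<|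
 d (a 26396869025800<|a 70381767659568<|a 155406743815902<|a 120512904013491<|a 106946470887946<|a 195202613195429<|a 222911567030876<|a 85568283359572<|a 93336460466017<|c)<|
 f));
 (let f:=(d (a 26396869025800<|a 175925226541104<|a 55631643327588<|a 170797059154340<|a 179655062229150<|a 119461463605597<|a 223324908077643<|a 40702869295425<|a 128315205203889<|c)<|
 d (a 26396869025800<|a 175933816475696<|a 192720757342427<|a 114740540311771<|a 164761492947629<|a 195546682604960<|a 92600978157868<|a 133323039749779<|a 234922967938606<|c)<|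
 d (a 26396869025800<|a 175942406410288<|a 166058011271880<|a 119411340261381<|a 152609055660552<|a 186819106854836<|a 99184866820902<|a 57506967865928<|a 98428993175781<|c)<|
 d (a 26396869025800<|a 175950996344880<|a 110243433205930<|a 88105149458642<|a 158576646607706<|a 27808932637713<|a 20532771301906<|a 194651699079380<|a 193703747168915<|c)<|
 d (a 26396869025800<|a 175959586279472<|a 142152349520780<|a 154868815005926<|a 117520254319691<|a 179526186198192<|a 214316291313062<|a 126562497672501<|a 179587812636507<|c)<|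
 f);
 (d (a 26396869025800<|a 140765548417072<|a 22334477015571<|a 2957143788702<|a 142080092607849<|a 9002600228395<|a 232006383450125<|a 202654278518184<|a 17877275065419<|c)<|
 d (a 26396869025800<|a 140774138351664<|a 221363978294033<|a 75674728866442<|a 14137445091854<|a 59767458933421<|a 192738642533645<|a 213928739539844<|a 195941958083509<|c)<|
 d (a 26396869025800<|a 140782728286256<|a 145463230686470<|a 225827822262513<|a 71097177920676<|a 63991414987778<|a 58567345989160<|a 5957364030184<|a 44093856813204<|c)<|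
 d (a 26396869025800<|a 140791318220848<|a 205824592564644<|a 44128390236962<|a 204769687878467<|a 43006676836763<|a 221460333645155<|a 217597441366277<|a 130728268771481<|c)<|
 f)))));
 (let f:=(let f:=(let f:=(let f:=(d (a 26396869025800<|a 35228531986480<|a 12450500294424<|a 37002861201028<|a 195976849599009<|a 130206856137123<|a 165777362290580<|a 128872650951267<|a 12477526838637<|c)<|
 d (a 26396869025800<|a 35237121921072<|a 154176618890897<|a 155825995855112<|a 80268259014376<|a 159528579533868<|a 91427854948357<|a 170497026850973<|a 154174806745986<|c)<|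
 d (a 26396869025800<|a 140739778613296<|a 55788644191348<|a 241183002152227<|a 162972098538585<|a 189881759448395<|a 134770195710145<|a 191490953885356<|a 76883223426880<|c)<|
 d (a 26396869025800<|a 140748368547888<|a 108426670932549<|a 229695021411240<|a 60598814658739<|a 141437328592193<|a 212857079059168<|a 19263785174772<|a 37754023205156<|c)<|
 d (a 26396869025800<|a 140756958482480<|a 20687842073174<|a 3052799604402<|a 199301352350620<|a 119366056878444<|a 61650005746925<|a 82237288835904<|a 28877525442605<|c)<|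
 f);
 (d (a 26396869025800<|a 35185582313520<|a 216399161125517<|a 7574451185321<|a 224953498132702<|a 62678897432689<|a 133202138814038<|a 55907284572045<|a 216444362501293<|c)<|
 d (a 26396869025800<|a 35194172248112<|a 63567987246466<|a 27850519373456<|a 112520451021924<|a 78341988747969<|a 78530743018192<|a 92994851073124<|a 217897789564498<|c)<|
 d (a 26396869025800<|a 35202762182704<|a 110559497763381<|a 231711381853740<|a 179648072049161<|a 237644103730766<|a 169345495882817<|a 141014594640235<|a 170445620073664<|c)<|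
 d (a 26396869025800<|a 35211352117296<|a 98559251012099<|a 60388421950298<|a 80689387128973<|a 215970580113602<|a 75869025877192<|a 36407000731842<|a 182868795996491<|c)<|
 d (a 26396869025800<|a 35219942051888<|a 168820321114029<|a 191128027715114<|a 125194900387981<|a 78499694161106<|a 182944335486178<|a 134399866196170<|a 168832102903066<|c)<|
 f));
 (let f:=(d (a 26396869025800<|a 211130001788976<|a 22460939227460<|a 211504261513314<|a 88723060053066<|a 222934606424067<|a 24585076000288<|a 83739137678611<|a 22454526560998<|c)<|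
 d (a 26396869025800<|a 211138591723568<|a 200704376001206<|a 185270218215986<|a 38663918452845<|a 10262558222154<|a 165616321357953<|a 133069284891976<|a 200664633008774<|c)<|
 d (a 26396869025800<|a 211147181658160<|a 7049786631178<|a 141886504079445<|a 79635374188756<|a 202748897613110<|a 180372341662414<|a 131229639939844<|a 7063296060427<|c)<|
 d (a 26396869025800<|a 211155771592752<|a 22570758212100<|a 108338515289120<|a 36500551576874<|a 149980530738245<|a 234754492417944<|a 79838690319427<|a 22550165865245<|c)<|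
 d (a 26396869025800<|a 211164361527344<|a 164014840201296<|a 189513514437955<|a 106412704367840<|a 220817201050795<|a 198542654770029<|a 128304117068106<|a 163976147436973<|c)<|
 f);
 (d (a 26396869025800<|a 105601575292976<|a 163198128167817<|a 227378555051086<|a 223532404875933<|a 223351515963442<|a 156008558565390<|a 83975409710813<|a 48734502688009<|c)<|
 d (a 26396869025800<|a 105610165227568<|a 2557060581545<|a 37564109981832<|a 200467088566065<|a 177279565596944<|a 2937821532586<|a 99648017307566<|a 807479709865<|c)<|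
 d (a 26396869025800<|a 211112821919792<|a 161630632098397<|a 16238420283436<|a 216931527822182<|a 84460850826146<|a 159544382675572<|a 113047319987124<|a 119318794349194<|c)<|
 d (a 26396869025800<|a 211121411854384<|a 235142711715123<|a 216683863296669<|a 113159180817074<|a 46470181541067<|a 163004565238049<|a 99216308451341<|a 235092657257509<|c)<|
 f)));
 (let f:=(let f:=(d (a 26396869025800<|a 105558625620016<|a 183354045110283<|a 46331989635294<|a 148583382836469<|a 61698766398324<|a 117154548887846<|a 127572663199900<|a 116123123104421<|c)<|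
 d (a 26396869025800<|a 105567215554608<|a 51551195636835<|a 62831257584733<|a 236210854838979<|a 88701497889624<|a 240919032149787<|a 114976334693022<|a 98802992559198<|c)<|
 d (a 26396869025800<|a 105575805489200<|a 54982770639632<|a 27199502358531<|a 109156234310667<|a 226501349881134<|a 42663095174053<|a 47421414927730<|a 75374699544739<|c)<|
 d (a 26396869025800<|a 105584395423792<|a 119411517280789<|a 194085339612074<|a 164012496659225<|a 88188298896491<|a 167720455362405<|a 194479937040405<|a 42696836293211<|c)<|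
 d (a 26396869025800<|a 105592985358384<|a 214408849860930<|a 6967154464277<|a 223575971866925<|a 108446219326338<|a 108141155036320<|a 49644462688554<|a 178718799832292<|c)<|
 f);
 (d (a 26396869025800<|a 70398947495984<|a 160739477099830<|a 14606719194934<|a 213080249345764<|a 156410553002766<|a 163563180713617<|a 25432200093952<|a 200810614186390<|c)<|
 d (a 26396869025800<|a 70407537430576<|a 76031066056724<|a 129894918199653<|a 151094872607936<|a 61884532676782<|a 190225497803349<|a 82692174694761<|a 53452233423530<|c)<|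
 d (a 26396869025800<|a 70416127365168<|a 221848701818770<|a 76456653843154<|a 107821668860504<|a 166282354566377<|a 135157456905037<|a 1495191345308<|a 112850022882674<|c)<|
 d (a 26396869025800<|a 70424717299760<|a 22380868355305<|a 177187177289355<|a 12527836246381<|a 116153857389074<|a 112906331331634<|a 39867699038048<|a 4471888188084<|c)<|
 f));
 (let f:=(d (a 26396869025800<|a 175968176181296<|a 234755804013393<|a 40487254827021<|a 188481532679189<|a 47062943062253<|a 204908706076837<|a 110923711910949<|a 146249504973086<|c)<|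
 d (a 26396869025800<|a 175976766115888<|a 192743700256692<|a 221642685372130<|a 5340905128526<|a 91617665886090<|a 58739256836361<|a 157042090795208<|a 46532825234611<|c)<|
 d (a 26396869025800<|a 70373177692208<|a 1539254470550<|a 107349261227123<|a 19393357433068<|a 38655331088046<|a 979861824597<|a 16585019200932<|a 799577380457<|c)<|
 d (a 26396869025800<|a 70381767626800<|a 163695322944917<|a 14545766126186<|a 148555153992276<|a 188227682479214<|a 111466041758989<|a 184759465907102<|a 182248638340426<|c)<|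
 d (a 26396869025800<|a 70390357561392<|a 119644141150864<|a 18378523214977<|a 152724147222952<|a 124592509688424<|a 149711120270085<|a 200269715838986<|a 80920642651142<|c)<|
 f);
 (d (a 26396869025800<|a 175933816442928<|a 195438396572945<|a 10311716374728<|a 47639990153324<|a 15536667528424<|a 81107723228309<|a 100485840279947<|a 222811365906192<|c)<|
 d (a 26396869025800<|a 175942406377520<|a 161981797534856<|a 51895289046656<|a 150389115217265<|a 49534065970097<|a 11147079649550<|a 72583576758958<|a 200231865485106<|c)<|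
 d (a 26396869025800<|a 175950996312112<|a 224460599309998<|a 76807254756724<|a 223204541109166<|a 195007132158995<|a 198054710241834<|a 16365649238162<|a 127614927432747<|c)<|
 d (a 26396869025800<|a 175959586246704<|a 130461915507058<|a 125811003445585<|a 97103122652422<|a 222689106402634<|a 27326784384065<|a 231725007587638<|a 205721242640770<|c)<|
 f))));
 (let f:=(let f:=(let f:=(d (a 26396869025800<|a 140765548384304<|a 225276058221273<|a 42645212223052<|a 82851681114888<|a 160312127177826<|a 183289384574092<|a 234611992181580<|a 77664596367502<|c)<|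
 d (a 26396869025800<|a 140774138318896<|a 40313785239954<|a 204593740468563<|a 238273112411046<|a 64958663834730<|a 128533390011565<|a 163462765791968<|a 80576948654163<|c)<|
 d (a 26396869025800<|a 140782728253488<|a 218377262688541<|a 218148463286185<|a 82061872804379<|a 134499475821926<|a 94323317559500<|a 27872225569050<|a 94941352154891<|c)<|
 d (a 26396869025800<|a 140791318188080<|a 6476837962406<|a 71062651011699<|a 94021608920500<|a 27531632128216<|a 92514380473739<|a 148812628091062<|a 12484108194865<|c)<|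
 d (a 26396869025800<|a 175925226508336<|a 146687655192099<|a 155836489294429<|a 164772353483912<|a 202478249694873<|a 160534415324595<|a 202368309277458<|a 192694487993097<|c)<|
 f);
 (d (a 26396869025800<|a 35237121888304<|a 229128217594422<|a 77518896063600<|a 155249164003651<|a 13656121608713<|a 156145717505049<|a 204659894469669<|a 48459858272475<|c)<|
 d (a 26396869025800<|a 140739778580528<|a 117245568699752<|a 56364624435523<|a 135676748674931<|a 60047058286930<|a 120747121772258<|a 81950281360593<|a 230626358265562<|c)<|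
 d (a 26396869025800<|a 140748368515120<|a 85006415217702<|a 23506430862003<|a 93092010114358<|a 17869902133405<|a 145148508988691<|a 110331670368990<|a 169587498913834<|c)<|
 d (a 26396869025800<|a 140756958449712<|a 127760031623048<|a 54781045430021<|a 86552259450585<|a 47609216520754<|a 159333032067086<|a 132377638984809<|a 52882883250057<|c)<|
 f));
 (let f:=(d (a 26396869025800<|a 35194172215344<|a 62306356840298<|a 204330625567059<|a 142263739065745<|a 113131092523600<|a 75661428761170<|a 238950106307115<|a 219151972344724<|c)<|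
 d (a 26396869025800<|a 35202762149936<|a 154584574941512<|a 156273124892034<|a 97212773194868<|a 20646408495218<|a 232345443107414<|a 89242351222098<|a 154557425059756<|c)<|
 d (a 26396869025800<|a 35211352084528<|a 195835908850862<|a 221091317318576<|a 190336844501909<|a 85020726987024<|a 227742479640874<|a 177894895019534<|a 85626133867117<|c)<|
 d (a 26396869025800<|a 35219942019120<|a 94027851635117<|a 94715627352110<|a 53018722116978<|a 82715114400468<|a 80696322316994<|a 234036225235537<|a 94053700283008<|c)<|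
 d (a 26396869025800<|a 35228531953712<|a 229982426327901<|a 183167131949417<|a 60021924376731<|a 121726194586278<|a 87263179821740<|a 5704627707273<|a 51527959302764<|c)<|
 f);
 (d (a 26396869025800<|a 211147181625392<|a 27361685749781<|a 35408861271659<|a 110193322623885<|a 75093282043502<|a 98965047170973<|a 40582229680837<|a 7819575339302<|c)<|
 d (a 26396869025800<|a 211155771559984<|a 225097181778610<|a 145947621006098<|a 225574690245253<|a 230105904390222<|a 192553966938537<|a 238085124483846<|a 225058990271598<|c)<|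
 d (a 26396869025800<|a 211164361494576<|a 231493077853429<|a 181577739602985<|a 163622318467442<|a 85511419106632<|a 229464355134601<|a 204244129188390<|a 231457738937736<|c)<|
 d (a 26396869025800<|a 35185582280752<|a 147028365569120<|a 157460091505409<|a 45095318246493<|a 97337056695000<|a 133698602240203<|a 110874388507666<|a 147020442076915<|c)<|
 f)));
 (let f:=(let f:=(d (a 26396869025800<|a 105610165194800<|a 147215207765645<|a 85631276465262<|a 145725257312336<|a 27879199400692<|a 8957365442654<|a 176918310204928<|a 47640371319324<|c)<|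
 d (a 26396869025800<|a 211112821887024<|a 179449527126896<|a 82300891513603<|a 125095256037890<|a 178925421476235<|a 143832327685233<|a 29984882759710<|a 179430072190134<|c)<|
 d (a 26396869025800<|a 211121411821616<|a 240797648739618<|a 8076204074002<|a 213877045272964<|a 147547331046297<|a 28356471040579<|a 121732446444938<|a 240836748124419<|c)<|
 d (a 26396869025800<|a 211130001756208<|a 196953472359434<|a 12192340822866<|a 125974111628528<|a 118752871263667<|a 124814189207622<|a 199238258902098<|a 84502460455618<|c)<|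
 d (a 26396869025800<|a 211138591690800<|a 203655958081808<|a 149578233234180<|a 29596437202147<|a 182893669271723<|a 62443062298949<|a 98612695179470<|a 203665790012288<|c)<|
 f);
 (d (a 26396869025800<|a 105575805456432<|a 202665953210905<|a 44969488396428<|a 64497538065545<|a 110421210613796<|a 163866122950156<|a 53614750377763<|a 149839073668273<|c)<|
 d (a 26396869025800<|a 105584395391024<|a 55940905804646<|a 27036467479157<|a 84671566882486<|a 121704175587675<|a 181219542460195<|a 37051217773474<|a 204652570841688<|c)<|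
 d (a 26396869025800<|a 105592985325616<|a 134840958064718<|a 55286117730166<|a 127959695936078<|a 146084109707632<|a 201315111265046<|a 222537737409957<|a 235057294140500<|c)<|
 d (a 26396869025800<|a 105601575260208<|a 142610823905922<|a 84319077926672<|a 134998158137142<|a 1147636090048<|a 214583647772760<|a 50838645115125<|a 38930659944540<|c)<|
 f));
 (let f:=(d (a 26396869025800<|a 70407537397808<|a 24904595950996<|a 109077961706339<|a 190540671046227<|a 82566664568168<|a 113138858475957<|a 238511443321566<|a 5390265306288<|c)<|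
 d (a 26396869025800<|a 70416127332400<|a 4661177387339<|a 213424088852248<|a 169123341544841<|a 205274177699893<|a 50930184305206<|a 125347218548618<|a 17988739352846<|c)<|
 d (a 26396869025800<|a 70424717266992<|a 177380175254181<|a 44925663458478<|a 239362561055787<|a 212400935201948<|a 72754710074435<|a 28201583944333<|a 38600249594051<|c)<|
 d (a 26396869025800<|a 105558625587248<|a 222266782913165<|a 110661276043630<|a 51544284222161<|a 93912506491184<|a 196420377270670<|a 55643052129601<|a 87116412822896<|c)<|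
 d (a 26396869025800<|a 105567215521840<|a 180597496766558<|a 8957397664497<|a 159689645527822<|a 97724551599648<|a 45745703444524<|a 240420687348556<|a 114467388383529<|c)<|
 f);
 (d (a 26396869025800<|a 70373177659440<|a 161521666561894<|a 120641014076022<|a 105985136446224<|a 156994546131806<|a 163091385115531<|a 124676795206434<|a 198757269793289<|c)<|
 d (a 26396869025800<|a 70381767594032<|a 6095136560147<|a 177337112007710<|a 9700664163036<|a 167349831460590<|a 14844168354669<|a 72272176921434<|a 14294393633580<|c)<|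
 d (a 26396869025800<|a 70390357528624<|a 62020841171475<|a 170296566965337<|a 234270491169610<|a 39746990872617<|a 161676304398341<|a 108109054415516<|a 123466932108357<|c)<|
 d (a 26396869025800<|a 70398947463216<|a 119380538635051<|a 53580285007260<|a 132064341767309<|a 195837428351570<|a 80038293550378<|a 59628928012626<|a 200406006057044<|c)<|
 f))))));
 (let f:=(let f:=(let f:=(let f:=(let f:=(d (a 26396869025800<|a 175942406344752<|a 235315899447707<|a 77200712654876<|a 237877979699460<|a 117766325649697<|a 29580029243724<|a 95744176608590<|a 147918697154421<|c)<|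
 d (a 26396869025800<|a 175950996279344<|a 8025151394660<|a 212023946641634<|a 58595355263053<|a 99790109942168<|a 160322911161099<|a 71022205387686<|a 15741353573110<|c)<|
 d (a 26396869025800<|a 175959586213936<|a 64515076140124<|a 241240986205541<|a 189712091580421<|a 145901277829988<|a 49000628012148<|a 105920691808089<|a 124109123631181<|c)<|
 d (a 26396869025800<|a 175968176148528<|a 54740969542289<|a 167722055962826<|a 15006646306721<|a 190586758670062<|a 46329523477677<|a 169880827681493<|a 129039320147220<|c)<|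
 d (a 26396869025800<|a 175976766083120<|a 28783163770950<|a 213701607843184<|a 119516479964268<|a 216063066704129<|a 226619705091416<|a 26669306908800<|a 14415261098205<|c)<|
 f);
 (d (a 26396869025800<|a 140774138286128<|a 42499067486948<|a 132601130662757<|a 48688039421838<|a 169017544694620<|a 130518520612571<|a 1444259763982<|a 81135704060773<|c)<|
 d (a 26396869025800<|a 140782728220720<|a 199721100806987<|a 82294506316632<|a 79717076522819<|a 152743301186289<|a 160910191375286<|a 178672561246617<|a 122351644265224<|c)<|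
 d (a 26396869025800<|a 140791318155312<|a 25413746793654<|a 214785164002230<|a 222319416293545<|a 150710574082443<|a 52922741580145<|a 177107715270656<|a 16132991130636<|c)<|
 d (a 26396869025800<|a 175925226475568<|a 150674619793810<|a 154401720591888<|a 179663901645321<|a 236631246308521<|a 148860756500885<|a 227261310091561<|a 205664576526766<|c)<|
 d (a 26396869025800<|a 175933816410160<|a 74915171199396<|a 59810458511713<|a 221142843989378<|a 100453271870493<|a 161540622075427<|a 226271461763713<|a 52891928381093<|c)<|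
 f));
 (let f:=(d (a 26396869025800<|a 35237121855536<|a 44377588714578<|a 241082113809555<|a 44971837723974<|a 58077819253290<|a 164455535782965<|a 120835861941257<|a 233246550205234<|c)<|
 d (a 26396869025800<|a 140739778547760<|a 91110419475718<|a 236854077556917<|a 22237301265781<|a 191532079209792<|a 64609758275304<|a 99856187467363<|a 147044197734225<|c)<|
 d (a 26396869025800<|a 140748368482352<|a 15806692761856<|a 357089157189<|a 53967110312224<|a 55250493136133<|a 112975493562480<|a 15233322175824<|a 27284871054667<|c)<|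
 d (a 26396869025800<|a 140756958416944<|a 158902570358630<|a 85602600625718<|a 182938395856166<|a 191912600626781<|a 169686711069355<|a 60352973882594<|a 40729469096213<|c)<|
 d (a 26396869025800<|a 140765548351536<|a 164617512988708<|a 154208654467364<|a 134508406249992<|a 8826209321181<|a 229824908411267<|a 222720569297138<|a 229343737561922<|c)<|
 f);
 (d (a 26396869025800<|a 35202762117168<|a 46808052471645<|a 63580186186670<|a 98305546175105<|a 60114010302822<|a 94946234784100<|a 76459322828166<|a 234657206884582<|c)<|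
 d (a 26396869025800<|a 35211352051760<|a 87251817637384<|a 199797609130629<|a 79309100627563<|a 123233964152753<|a 54471401541014<|a 196973445715844<|a 87223479503084<|c)<|
 d (a 26396869025800<|a 35219941986352<|a 11428214153305<|a 70537561627725<|a 115809727677990<|a 128548467956514<|a 128754806888708<|a 140898690796630<|a 11428305726086<|c)<|
 d (a 26396869025800<|a 35228531920944<|a 70968077557130<|a 201263043626518<|a 156767851317914<|a 214699113278579<|a 176388562757206<|a 64533719285851<|a 70933081969704<|c)<|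
 f)));
 (let f:=(let f:=(d (a 26396869025800<|a 211147181592624<|a 224609922373914<|a 147476833215698<|a 63984587956617<|a 19823913151013<|a 192175144086044<|a 228052214279576<|a 224612538491034<|c)<|
 d (a 26396869025800<|a 211155771527216<|a 148308992840523<|a 49029912772698<|a 169078055811166<|a 134884354271091<|a 39938336404614<|a 177997896263090<|a 148312018957826<|c)<|
 d (a 26396869025800<|a 211164361461808<|a 15508736923473<|a 177670594580874<|a 2228463438408<|a 125911900398890<|a 83915407038189<|a 37181104625257<|a 19708003412502<|c)<|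
 d (a 26396869025800<|a 35185582247984<|a 111628029641998<|a 124260461890099<|a 203629606741316<|a 64084815066355<|a 202606047716070<|a 231740467719018<|a 169344307882022<|c)<|
 d (a 26396869025800<|a 35194172182576<|a 57726113963364<|a 29904493740066<|a 196665156888809<|a 47142836249688<|a 46541364644955<|a 81053024069251<|a 223225352437980<|c)<|
 f);
 (d (a 26396869025800<|a 211112821854256<|a 151058362537505<|a 50067592853582<|a 64721494172202<|a 163127698448540<|a 114387534354787<|a 129274506426277<|a 130390283117596<|c)<|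
 d (a 26396869025800<|a 211121411788848<|a 48796679898276<|a 27604130351200<|a 222695823694897<|a 195027729254427<|a 155201547354139<|a 143646952919304<|a 48819824380765<|c)<|
 d (a 26396869025800<|a 211130001723440<|a 140858555261581<|a 225262826467753<|a 115060442161924<|a 1525537215028<|a 178820124823566<|a 165282373984326<|a 140816947925646<|c)<|
 d (a 26396869025800<|a 211138591658032<|a 179221167814562<|a 10446260542484<|a 164691297505691<|a 3648050513310<|a 35634081180787<|a 97531334394717<|a 70945587188232<|c)<|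
 f));
 (let f:=(d (a 26396869025800<|a 105575805423664<|a 108409494559147<|a 160838827297690<|a 9026318962885<|a 144409076804947<|a 70808762957106<|a 189919213019368<|a 212924993551412<|c)<|
 d (a 26396869025800<|a 105584395358256<|a 90804338451984<|a 129539471126913<|a 58011760514641<|a 13368657714540<|a 75337158004005<|a 106405341796110<|a 146945651835810<|c)<|
 d (a 26396869025800<|a 105592985292848<|a 225969298776436<|a 74857745442341<|a 152902204663849<|a 91102805908169<|a 98236639593569<|a 111205531395702<|a 205648672801124<|c)<|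
 d (a 26396869025800<|a 105601575227440<|a 234924010984726<|a 146701605229938<|a 8823273017354<|a 222202974118122<|a 190535705879653<|a 235047144687694<|a 88740075576473<|c)<|
 d (a 26396869025800<|a 105610165162032<|a 1390106513835<|a 35305515561182<|a 184729140147088<|a 214731286504596<|a 36180951676626<|a 163854182296144<|a 2089065729131<|c)<|
 f);
 (d (a 26396869025800<|a 70416127299632<|a 11391916433818<|a 211533322634897<|a 88333525813541<|a 60481753126691<|a 169205349919892<|a 196628093752112<|a 5957354935021<|c)<|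
 d (a 26396869025800<|a 70424717234224<|a 51689630616493<|a 64352361561131<|a 146841935823748<|a 126702890169748<|a 12520536429810<|a 235625553636451<|a 164429220357512<|c)<|
 d (a 26396869025800<|a 105558625554480<|a 162908279773326<|a 191729858823542<|a 13343025685856<|a 10329821506611<|a 224453169668630<|a 217503210969393<|a 48663263503379<|c)<|
 d (a 26396869025800<|a 105567215489072<|a 92499284895633<|a 23659743897421<|a 123718777275441<|a 82878380954665<|a 190081771048981<|a 223607024710<|a 154208728323989<|c)<|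
 f))));
 (let f:=(let f:=(let f:=(d (a 26396869025800<|a 70373177626672<|a 128804688318482<|a 88152118483794<|a 55194333550152<|a 220154750641322<|a 183650253021277<|a 17955304814131<|a 78505559796312<|c)<|
 d (a 26396869025800<|a 70381767561264<|a 157335000029845<|a 156762374488494<|a 217233317987524<|a 54250102777259<|a 116138370260213<|a 232016467007635<|a 94286516759243<|c)<|
 d (a 26396869025800<|a 70390357495856<|a 85488384653506<|a 24271335219412<|a 115217435874342<|a 54703355153089<|a 82696700536144<|a 222862141499716<|a 60098058673067<|c)<|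
 d (a 26396869025800<|a 70398947430448<|a 93650124696989<|a 236690102140265<|a 112758769198664<|a 82817905498276<|a 41121247416948<|a 29021909466164<|a 62227401288840<|c)<|
 d (a 26396869025800<|a 70407537365040<|a 79200450465188<|a 166178494485539<|a 203698623518626<|a 60638718213150<|a 238475670636547<|a 2875969856229<|a 237513349942658<|c)<|
 f);
 (d (a 26396869025800<|a 175942406311984<|a 134231419184209<|a 89096090100105<|a 96762183751337<|a 146007012184877<|a 227670670448469<|a 53098915891414<|a 90922909623208<|c)<|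
 d (a 26396869025800<|a 175950996246576<|a 18842162254107<|a 35497371341146<|a 119441573587995<|a 156182242503846<|a 11287715459492<|a 178130929867824<|a 25744068462362<|c)<|
 d (a 26396869025800<|a 175959586181168<|a 130674976134517<|a 159672615790254<|a 105840117827864<|a 152655694063433<|a 167497648790129<|a 132410179371925<|a 75424300837390<|c)<|
 d (a 26396869025800<|a 175968176115760<|a 177894436537061<|a 185448552082664<|a 86107166779149<|a 177800737620189<|a 177796312421539<|a 129495781448861<|a 214012049382177<|c)<|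
 d (a 26396869025800<|a 175976766050352<|a 4793291936545<|a 211937879272590<|a 170753296213278<|a 28734200012829<|a 20616224346635<|a 45515222029040<|a 18004673959050<|c)<|
 f));
 (let f:=(d (a 26396869025800<|a 140774138253360<|a 24425783696200<|a 108751479428358<|a 215534038099301<|a 152660608052018<|a 88330740336710<|a 64754390151258<|a 14193177331717<|c)<|
 d (a 26396869025800<|a 140782728187952<|a 44578913231084<|a 202702547766309<|a 211708913539250<|a 199923257727571<|a 51937707936402<|a 43277578044574<|a 191923466718292<|c)<|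
 d (a 26396869025800<|a 140791318122544<|a 160950723546281<|a 51826599560264<|a 226733531026190<|a 49671519371536<|a 99670244825162<|a 47100546389096<|a 240962224427660<|c)<|
 d (a 26396869025800<|a 175925226442800<|a 84029046047505<|a 233943163036235<|a 4950642600589<|a 90377707371561<|a 93740453338133<|a 231230448012362<|a 220179549054632<|c)<|
 d (a 26396869025800<|a 175933816377392<|a 59815641506834<|a 133068885918801<|a 7922511146280<|a 114591476815144<|a 135278132865349<|a 199579057018449<|a 168470633326659<|c)<|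
 f);
 (d (a 26396869025800<|a 140739778514992<|a 154494105299318<|a 50951983139893<|a 5376015024641<|a 126362681823816<|a 146038748897945<|a 8110564546930<|a 62728910183520<|c)<|
 d (a 26396869025800<|a 140748368449584<|a 36065965869660<|a 240286409803488<|a 10325274728172<|a 176618994532451<|a 105676235490996<|a 188036952905109<|a 71549379556364<|c)<|
 d (a 26396869025800<|a 140756958384176<|a 35293404797001<|a 169436619249038<|a 181009887971681<|a 176567688422966<|a 106216880935478<|a 235530417233025<|a 70527447952458<|c)<|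
 d (a 26396869025800<|a 140765548318768<|a 116111413304683<|a 197033456736154<|a 96070127773742<|a 60287591492822<|a 155931087584650<|a 163334863315529<|a 49275905422092<|c)<|
 f)));
 (let f:=(let f:=(d (a 26396869025800<|a 35202762084400<|a 71694515643139<|a 93338777951517<|a 93845377617289<|a 72613700424838<|a 211942517161112<|a 23559755442859<|a 71732594229861<|c)<|
 d (a 26396869025800<|a 35211352018992<|a 154591752885459<|a 155293650060702<|a 239191294389293<|a 230790811738728<|a 20053694821477<|a 113636826048438<|a 126908051044065<|c)<|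
 d (a 26396869025800<|a 35219941953584<|a 237616451247024<|a 218675936434562<|a 27657878521251<|a 43239878436366<|a 146155893295129<|a 149857334484076<|a 40050045420955<|c)<|
 d (a 26396869025800<|a 35228531888176<|a 203661648462682<|a 185698996304144<|a 159105381867934<|a 77676388877476<|a 181811715024052<|a 36714835195033<|a 77835850327414<|c)<|
 d (a 26396869025800<|a 35237121822768<|a 146824292753965<|a 154590969496105<|a 134538567444486<|a 167362898858704<|a 204007167578306<|a 129881589998353<|a 146807464208578<|c)<|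
 f);
 (d (a 26396869025800<|a 211155771494448<|a 121888460931648<|a 194386149780608<|a 88360207409740<|a 194428669528389<|a 13268069712000<|a 2502005317741<|a 159566706246146<|c)<|
 d (a 26396869025800<|a 211164361429040<|a 52058909525675<|a 168874165571739<|a 60097152758362<|a 124547173561750<|a 190411810617426<|a 225155842381449<|a 52074958732629<|c)<|
 d (a 26396869025800<|a 35185582215216<|a 78379665798425<|a 164280901406924<|a 41392849635404<|a 169353396667302<|a 61858890161036<|a 211212992264588<|a 203081863239694<|c)<|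
 d (a 26396869025800<|a 35194172149808<|a 194905806133555<|a 81711253104346<|a 162002696701604<|a 15579363519629<|a 14625761146033<|a 76260071467589<|a 194897737730696<|c)<|
 f));
 (let f:=(d (a 26396869025800<|a 211112821821488<|a 211494093527828<|a 183421462731942<|a 204063707355156<|a 37613491350570<|a 71221070022173<|a 233409160301152<|a 211481433034136<|c)<|
 d (a 26396869025800<|a 211121411756080<|a 183660117079254<|a 150691574532148<|a 46825127742517<|a 239519194629035<|a 147577718792269<|a 45095721030169<|a 97336922642738<|c)<|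
 d (a 26396869025800<|a 211130001690672<|a 220069102003990<|a 111769649490293<|a 233926940791958<|a 130196121803309<|a 116309527062533<|a 177199219099758<|a 220078963518209<|c)<|
 d (a 26396869025800<|a 211138591625264<|a 198281635640598<|a 115726318916788<|a 49075135744692<|a 11173010033706<|a 94886660826653<|a 128134497866406<|a 79313645768996<|c)<|
 d (a 26396869025800<|a 211147181559856<|a 88893816425836<|a 166408136345763<|a 134798056253130<|a 156777220551251<|a 123528780563330<|a 99071127995185<|a 192581772852227<|c)<|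
 f);
 (d (a 26396869025800<|a 105584395325488<|a 231320717769865<|a 43313976359500<|a 110812500084249<|a 84857978146100<|a 6222083694006<|a 77655722076172<|a 100218904732365<|c)<|
 d (a 26396869025800<|a 105592985260080<|a 147528544735964<|a 225097502549346<|a 177778168583988<|a 168788797826337<|a 115679414996356<|a 81796290382512<|a 236647527625344<|c)<|
 d (a 26396869025800<|a 105601575194672<|a 109019750568867<|a 123936390399838<|a 23414343010861<|a 144074484344731<|a 74107214445747<|a 147761669550389<|a 214161937807989<|c)<|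
 d (a 26396869025800<|a 105610165129264<|a 47102256562352<|a 132316507361923<|a 115902012938597<|a 129090646980938<|a 123873033914145<|a 148531797764528<|a 89855514840481<|c)<|
 f)))));
 (let f:=(let f:=(let f:=(let f:=(d (a 26396869025800<|a 70416127266864<|a 213598138018816<|a 78477756465861<|a 54733163319835<|a 461862884096<|a 553806889632<|a 130341976497002<|a 143830078721442<|c)<|
 d (a 26396869025800<|a 70424717201456<|a 122443992773653<|a 229956907257004<|a 159313465391622<|a 88179668075435<|a 9368896920781<|a 124336520376403<|a 200016872515699<|c)<|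
 d (a 26396869025800<|a 105558625521712<|a 86017833043337<|a 199343127444744<|a 73550803773857<|a 232017015900980<|a 63638079183798<|a 110879693037636<|a 168094959442226<|c)<|
 d (a 26396869025800<|a 105567215456304<|a 59734428231597<|a 98684122333869<|a 106217516615376<|a 12139241328912<|a 225268162451378<|a 150253443111334<|a 84320299177397<|c)<|
 d (a 26396869025800<|a 105575805390896<|a 40753980150492<|a 27176809639334<|a 106573716317771<|a 133592623243429<|a 80527919563980<|a 61827543901506<|a 81558479161163<|c)<|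
 f);
 (d (a 26396869025800<|a 70373177593904<|a 230131438258830<|a 218445536091376<|a 211821574774957<|a 225415281968818<|a 95300399491190<|a 51170482589901<|a 115047600167242<|c)<|
 d (a 26396869025800<|a 70381767528496<|a 126809686794387<|a 88342421392537<|a 59267817759437<|a 155214796133803<|a 59018366565581<|a 194064636561749<|a 94685524210443<|c)<|
 d (a 26396869025800<|a 70390357463088<|a 224576737232243<|a 5648660250843<|a 99588171148566<|a 55944852387851<|a 221907902641705<|a 198854997141707<|a 127739401650899<|c)<|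
 d (a 26396869025800<|a 70398947397680<|a 116716987071026<|a 126148628399444<|a 213131893805068<|a 198224893005067<|a 167681065593489<|a 161671836623690<|a 181492739267691<|c)<|
 d (a 26396869025800<|a 70407537332272<|a 130612373155083<|a 196832467132633<|a 77900580446244<|a 81453116136309<|a 218568227991990<|a 161738203553140<|a 75695641376946<|c)<|
 f));
 (let f:=(d (a 26396869025800<|a 175942406279216<|a 89991647897832<|a 165368493695109<|a 39729310042194<|a 120562299460305<|a 46444226153634<|a 187588871989440<|a 234274568603420<|c)<|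
 d (a 26396869025800<|a 175950996213808<|a 168546877877133<|a 191961241018605<|a 37209048684781<|a 113615139952305<|a 225851975783814<|a 86088530271396<|a 197189167423619<|c)<|
 d (a 26396869025800<|a 175959586148400<|a 71506919993958<|a 163518180909108<|a 184058817020246<|a 141522192515225<|a 143596430910883<|a 29861655988585<|a 35772063705253<|c)<|
 d (a 26396869025800<|a 175968176082992<|a 91268366736420<|a 60682557326374<|a 157238814148254<|a 13385471257496<|a 44563259638035<|a 73027559113832<|a 45662041427346<|c)<|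
 d (a 26396869025800<|a 175976766017584<|a 53022106065129<|a 169431571531534<|a 39908906566454<|a 155883127497744<|a 150851789724690<|a 190011003771459<|a 149889888459601<|c)<|
 f);
 (d (a 26396869025800<|a 140782728155184<|a 57611221259573<|a 98185647448170<|a 86393305032516<|a 222146094081033<|a 56378383817217<|a 48551522609040<|a 193684424578627<|c)<|
 d (a 26396869025800<|a 140791318089776<|a 121954727547762<|a 194506891405394<|a 14568771637916<|a 126052752239949<|a 4756915922121<|a 144364322345259<|a 41927826678286<|c)<|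
 d (a 26396869025800<|a 175925226410032<|a 63382749202176<|a 98794461988163<|a 152096787876072<|a 182563529568960<|a 121800380189336<|a 156380891751632<|a 156779936745117<|c)<|
 d (a 26396869025800<|a 175933816344624<|a 231895695506162<|a 148102764509268<|a 163460861615473<|a 50335213503820<|a 80501149740113<|a 212413218364564<|a 163589051700910<|c)<|
 f)));
 (let f:=(let f:=(d (a 26396869025800<|a 140739778482224<|a 76222150617620<|a 60367954064549<|a 147442805061739<|a 132132811462828<|a 200150214558493<|a 59760483844403<|a 129504213288670<|c)<|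
 d (a 26396869025800<|a 140748368416816<|a 131244046507186<|a 232119737996434<|a 23833234518765<|a 221426204878730<|a 231626136167273<|a 145187412822748<|a 54186579012269<|c)<|
 d (a 26396869025800<|a 140756958351408<|a 1326344987558<|a 71288728465713<|a 25455803873832<|a 109101599365788<|a 37263782535947<|a 202886568396187<|a 2656248895218<|c)<|
 d (a 26396869025800<|a 140765548286000<|a 27287868181856<|a 3480732984960<|a 14072220560427<|a 183275069375065<|a 46008118610587<|a 155100966828553<|a 23323084425442<|c)<|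
 d (a 26396869025800<|a 140774138220592<|a 28399719494067<|a 70791585814172<|a 64910115916163<|a 43130085296842<|a 152197275890577<|a 53929046614166<|a 25508683498281<|c)<|
 f);
 (d (a 26396869025800<|a 35211351986224<|a 71566650293672<|a 130937290940804<|a 41876678158504<|a 109300711703697<|a 70818131936922<|a 59582616185203<|a 179123152128029<|c)<|
 d (a 26396869025800<|a 35219941920816<|a 4791450162921<|a 177767025119370<|a 211476899971862<|a 239436458141718<|a 205317493791770<|a 200762680589348<|a 26580301552798<|c)<|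
 d (a 26396869025800<|a 35228531855408<|a 120175770146394<|a 230369336333526<|a 147347455262760<|a 88660478093478<|a 89733756561540<|a 190806714032808<|a 161342097301761<|c)<|
 d (a 26396869025800<|a 35237121790000<|a 180786506977360<|a 220132349646402<|a 133405411676438<|a 97733128234542<|a 167775520096821<|a 97455010619749<|a 180771719121998<|c)<|
 f));
 (let f:=(d (a 26396869025800<|a 211155771461680<|a 186494228978256<|a 223051850536322<|a 236630559195395<|a 234072804174570<|a 152912009759501<|a 78498735235347<|a 186448433448523<|c)<|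
 d (a 26396869025800<|a 211164361396272<|a 94037933929549<|a 128808463155756<|a 213857878033257<|a 115348546438387<|a 58924353050374<|a 64137580432099<|a 94040964258052<|c)<|
 d (a 26396869025800<|a 35185582182448<|a 213659279051938<|a 43164768287379<|a 41812666998036<|a 36616939320604<|a 108446330956571<|a 196381396743201<|a 213652346361697<|c)<|
 d (a 26396869025800<|a 35194172117040<|a 150482236594995<|a 227424434077850<|a 239496260965257<|a 129755559601739<|a 199291359050353<|a 231264288348190<|a 150432660637323<|c)<|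
 d (a 26396869025800<|a 35202762051632<|a 84136074733621<|a 94673995261993<|a 97062883771309<|a 193628374995529<|a 230393643161673<|a 231875297362258<|a 84136704385780<|c)<|
 f);
 (d (a 26396869025800<|a 211121411723312<|a 203438678902092<|a 115888604111904<|a 108647783177365<|a 112946520916145<|a 29509195679566<|a 115144880626867<|a 203435929815176<|c)<|
 d (a 26396869025800<|a 211130001657904<|a 121737397331629<|a 160327166240041<|a 177869127860485<|a 18927422968661<|a 225043605737602<|a 223041793248085<|a 121754914313092<|c)<|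
 d (a 26396869025800<|a 211138591592496<|a 56355848817588<|a 29527655271648<|a 178269683066226<|a 192484643572107<|a 195041759972441<|a 10131605867602<|a 56361542700380<|c)<|
 d (a 26396869025800<|a 211147181527088<|a 50608087647748<|a 133629358127651<|a 106331777634986<|a 158503094335748<|a 190247935822528<|a 92789821582709<|a 50606163116867<|c)<|
 f))));
 (let f:=(let f:=(let f:=(d (a 26396869025800<|a 105584395292720<|a 128209980033100<|a 196093373111712<|a 198609695494421<|a 150310347211378<|a 16588435310454<|a 239459604646945<|a 55903939935630<|c)<|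
 d (a 26396869025800<|a 105592985227312<|a 70656526276331<|a 59271052178138<|a 96093118092608<|a 142853316386836<|a 785113201690<|a 6197309608139<|a 105999986936929<|c)<|
 d (a 26396869025800<|a 105601575161904<|a 220471251717214<|a 78216972307507<|a 112317337774677<|a 58186300338784<|a 126566397013324<|a 126260432340805<|a 86323628744116<|c)<|
 d (a 26396869025800<|a 105610165096496<|a 117882094095217<|a 126260919861512<|a 25126807137122<|a 95214359317384<|a 90513396603569<|a 54332470974745<|a 231874173014771<|c)<|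
 d (a 26396869025800<|a 211112821788720<|a 146994964758685<|a 13364154723624<|a 128474796450370<|a 133388896994529<|a 75458019218196<|a 80511347903024<|a 134418301067884<|c)<|
 f);
 (d (a 26396869025800<|a 70424717168688<|a 156344008235165<|a 15449327512362<|a 15860304839430<|a 230008797963557<|a 185425067594420<|a 205712966113629<|a 93851250730570<|c)<|
 d (a 26396869025800<|a 105558625488944<|a 86531836740326<|a 58046986979120<|a 141659178325326<|a 195630181056856<|a 134909064275243<|a 75914714044662<|a 112274451829588<|c)<|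
 d (a 26396869025800<|a 105567215423536<|a 235135598244894<|a 181516123613876<|a 201475044512102<|a 114648492490981<|a 156734178910828<|a 235010719965386<|a 192675592659114<|c)<|
 d (a 26396869025800<|a 105575805358128<|a 170130986321617<|a 190818296617739<|a 238753821414693<|a 217175569773418<|a 57980527087901<|a 125124622070194<|a 222188415411809<|c)<|
 f));
 (let f:=(d (a 26396869025800<|a 70381767495728<|a 45241886358797<|a 100319226029420<|a 151812914605318<|a 235545877201585<|a 168556557292622<|a 6048071734793<|a 135707323586894<|c)<|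
 d (a 26396869025800<|a 70390357430320<|a 234528390390109<|a 215825035672301<|a 72232847673640<|a 187894143571620<|a 111947663464556<|a 94089202993253<|a 148782533957418<|c)<|
 d (a 26396869025800<|a 70398947364912<|a 36432913314476<|a 62208605590884<|a 45821468136458<|a 71590500254358<|a 38676563806810<|a 191476230965492<|a 109322640737374<|c)<|
 d (a 26396869025800<|a 70407537299504<|a 13642696238133<|a 141849947996269<|a 121670816806544<|a 53009157902856<|a 150100602116097<|a 233169833253985<|a 9091913306500<|c)<|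
 d (a 26396869025800<|a 70416127234096<|a 240695893462252<|a 148890838540896<|a 116804136390814<|a 182070259615573<|a 17828026564994<|a 188228934588563<|a 122286328853505<|c)<|
 f);
 (d (a 26396869025800<|a 175959586115632<|a 90026183314094<|a 24905784677491<|a 29516670391598<|a 120124149807314<|a 82642188820618<|a 120856196101960<|a 46975226144842<|c)<|
 d (a 26396869025800<|a 175968176050224<|a 72299715109977<|a 23210176396493<|a 93762838369872<|a 211796359961316<|a 2824430327988<|a 94166156337945<|a 38071232206514<|c)<|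
 d (a 26396869025800<|a 175976765984816<|a 48810911270220<|a 97878791985760<|a 193743160827012<|a 91166731535414<|a 130639169636878<|a 85131889363490<|a 114627621633393<|c)<|
 d (a 26396869025800<|a 70373177561136<|a 212549886804616<|a 5154238922880<|a 14998032147997<|a 1106827019952<|a 140921467635798<|a 116989703448353<|a 144151453139989<|c)<|
 f)));
 (let f:=(let f:=(d (a 26396869025800<|a 140791318057008<|a 164449695388436<|a 13909867191202<|a 169206747306245<|a 116828306810090<|a 196591228438925<|a 190782852448852<|a 229646082854027<|c)<|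
 d (a 26396869025800<|a 175925226377264<|a 115325990166915<|a 52963199965273<|a 97421888695701<|a 201540359263298<|a 216486350960368<|a 7439657633697<|a 182743746493360<|c)<|
 d (a 26396869025800<|a 175933816311856<|a 55975446395664<|a 170110252308548<|a 142573256102571<|a 121042186292586<|a 115770341066845<|a 7796726719777<|a 153086067804507<|c)<|
 d (a 26396869025800<|a 175942406246448<|a 44891287707026<|a 100405335376530<|a 90275271150785<|a 25332961323627<|a 183519418001133<|a 73206824486992<|a 133691144065872<|c)<|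
 d (a 26396869025800<|a 175950996181040<|a 239321447307396<|a 147447593577318<|a 89378275896358<|a 181520865585349<|a 118940588524200<|a 54525877026960<|a 159854194077718<|c)<|
 f);
 (d (a 26396869025800<|a 140756958318640<|a 182766464197537<|a 150554517857545<|a 64468959301005<|a 241099890267929<|a 164277780846683<|a 76746924253776<|a 115341863020195<|c)<|
 d (a 26396869025800<|a 140765548253232<|a 192332230635675<|a 220276344872028<|a 160280959469866<|a 124602416483170<|a 148618091312348<|a 18604017533529<|a 147518487377499<|c)<|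
 d (a 26396869025800<|a 140774138187824<|a 85565552309992<|a 59180777128068<|a 939550366258<|a 54548803112147<|a 147046865732994<|a 122119353031926<|a 110830933672194<|c)<|
 d (a 26396869025800<|a 140782728122416<|a 51302358102281<|a 167225122678092<|a 51420598829589<|a 125508714283377<|a 216906859319526<|a 59449465149045<|a 182752017159526<|c)<|
 f));
 (let f:=(d (a 26396869025800<|a 35219941888048<|a 187752779154588<|a 45240273195744<|a 165161686614261<|a 93653593622882<|a 129361284809052<|a 190931073304388<|a 93694783504668<|c)<|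
 d (a 26396869025800<|a 35228531822640<|a 131268194909548<|a 56533178573924<|a 2806009857896<|a 187521648968081<|a 221357539740074<|a 110025321362505<|a 150162321622379<|c)<|
 d (a 26396869025800<|a 35237121757232<|a 59997946268739<|a 30075750201755<|a 112859707664109<|a 185681277729092<|a 151253467905352<|a 166138555738256<|a 221418294099212<|c)<|
 d (a 26396869025800<|a 140739778449456<|a 4756920941429<|a 38197998607532<|a 191016859540392<|a 240432618064906<|a 94936398745641<|a 165687796983701<|a 22304934811370<|c)<|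
 d (a 26396869025800<|a 140748368384048<|a 149835462387115<|a 120067692077789<|a 97451276518949<|a 60512535436309<|a 192321215445010<|a 205756903737078<|a 52868323557741<|c)<|
 f);
 (a (a 26396869025800<|a 35185582149680<|a 203519201516293<|a 152472984499118<|a 50853637707550<|a 217872235946116<|a 113572941680808<|a 50215328586561<|a 77975159591016<|c)<|
 a (a 26396869025800<|a 35194172084272<|a 189917122639619<|a 186526673161500<|a 198704163738712<|a 90183136559171<|a 125659012674152<|a 156486216340578<|a 91573156065512<|c)<|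
 a (a 26396869025800<|a 35202762018864<|a 192217540629219<|a 44947261236382<|a 126071943283267<|a 19367908206429<|a 160199701280067<|a 146591531998123<|a 89210047314180<|c)<|
 a (a 26396869025800<|a 35211351953456<|a 53715817121173<|a 203843238961323<|a 161497896531089<|a 87086519202413<|a 119186509223005<|a 90169859200809<|a 227766735294489<|c)<|
 f))))))))

/-- table -/
def tab3 : List (List Nat) := (beta% delta% lq26c7747f93 fun a c d _ _ _ _ _ _ =>
 (let f:=(let f:=(let f:=(let f:=(let f:=(let f:=(d (a 22007412449288<|a 215555818852400<|a 119163286759190<|a 6375354754741<|a 211545570069225<|a 124248394519081<|a 16114755955789<|a 226267679040347<|a 15221874843916<|c)<|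
 d (a 17617955872776<|a 215555818852400<|a 49684497115867<|a 20415536029021<|a 17675317700441<|a 18555782681506<|a 105673702191180<|a 75343575721193<|a 3104209781302<|c)<|
 d (a 13228499296264<|a 215555818852400<|a 195074747491476<|a 216661073926433<|a 57752284680224<|a 191681581423214<|a 236122870465373<|a 14483207426784<|a 200181216265309<|c)<|
 d (a 8839042719752<|a 215555818852400<|a 44079929822410<|a 47541471187088<|a 239902030382931<|a 164206750533174<|a 193673826576598<|a 211558887377193<|a 155079746476589<|c)<|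
 d (a 4449586143240<|a 215555818852400<|a 25413386100942<|a 35284651133041<|a 121597532378706<|a 152153537056883<|a 55303883222062<|a 51909324383918<|a 228962727682856<|c)<|c);
 (d (a 17617955872776<|a 180371446763568<|a 16313562130214<|a 72049745337265<|a 112298770089248<|a 56178989799518<|a 40050816740139<|a 76573633944746<|a 110834373256744<|c)<|
 d (a 13228499296264<|a 180371446763568<|a 13765649673281<|a 38639894290445<|a 140915395641993<|a 159678612954369<|a 89237911280560<|a 95138470173760<|a 89100585800630<|c)<|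
 d (a 8839042719752<|a 180371446763568<|a 220557398902577<|a 235051296700552<|a 40936230022315<|a 95209401123148<|a 185631801283601<|a 62035075816790<|a 149897352515729<|c)<|
 d (a 4449586143240<|a 180371446763568<|a 164530318625822<|a 232423282292915<|a 64169331085364<|a 220233953131812<|a 28087317359540<|a 30079167633572<|a 65120642394866<|c)<|
 d (a 26396869025800<|a 215555818852400<|a 85644150162222<|a 93343167203955<|a 194970922209605<|a 90618200537811<|a 46459839245650<|a 51005556747352<|a 200799549198637<|c)<|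
 f));
 (let f:=(d (a 13228499296264<|a 145187074674736<|a 40175477366184<|a 227603003649030<|a 229667638403592<|a 29224312270101<|a 36080585313666<|a 216728509573324<|a 73256407466753<|c)<|
 d (a 8839042719752<|a 145187074674736<|a 237678837039765<|a 163429251880744<|a 188452516878051<|a 113548759041582<|a 156562633874141<|a 29875814058733<|a 89452153579938<|c)<|
 d (a 4449586143240<|a 145187074674736<|a 78190223053320<|a 44831971247682<|a 35844534069814<|a 167549029590128<|a 123713606287502<|a 23385165279947<|a 230094352190026<|c)<|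
 d (a 26396869025800<|a 180371446763568<|a 158351753440070<|a 86349923227697<|a 124393682937904<|a 156727928624646<|a 124594498331336<|a 203996811343003<|a 90439289170760<|c)<|
 d (a 22007412449288<|a 180371446763568<|a 92525566559378<|a 225662250063056<|a 76285665944163<|a 115142474664494<|a 226057920358749<|a 134698768581138<|a 162073421469093<|c)<|
 f);
 (d (a 4449586143240<|a 110002702585904<|a 147197539281229<|a 19793047240105<|a 200906531144396<|a 27630075811636<|a 36997330164454<|a 189212695650841<|a 1750561249510<|c)<|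
 d (a 26396869025800<|a 145187074674736<|a 211941659069075<|a 42692312127195<|a 89424534185097<|a 71801424949354<|a 44708903304197<|a 84495509390194<|a 233398360000577<|c)<|
 d (a 22007412449288<|a 145187074674736<|a 93538026216203<|a 86419624989530<|a 195194185465896<|a 80661821366582<|a 220055229249046<|a 85605851278422<|a 233360929538602<|c)<|
 d (a 17617955872776<|a 145187074674736<|a 125076407654210<|a 23745420089494<|a 161980843463388<|a 226847061797506<|a 29447203006824<|a 199313602387096<|a 6691702199894<|c)<|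
 f)));
 (let f:=(let f:=(d (a 26396869025800<|a 110002702585904<|a 112906872503372<|a 20897409309988<|a 230910537044249<|a 27353720964470<|a 35288275174038<|a 80311023686349<|a 1195883835950<|c)<|
 d (a 22007412449288<|a 110002702585904<|a 157662179009110<|a 168123483908789<|a 214869995532491<|a 90345118062441<|a 80029263718605<|a 225786506262632<|a 80716732129612<|c)<|
 d (a 17617955872776<|a 110002702585904<|a 123216745505952<|a 23487324515589<|a 148757092671592<|a 85559570617369<|a 117888331091099<|a 28941829420112<|a 11171483222237<|c)<|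
 d (a 13228499296264<|a 110002702585904<|a 154921104351344<|a 198223718213893<|a 6718916067358<|a 54258431974153<|a 215654740330857<|a 134175628764722<|a 169246174250514<|c)<|
 d (a 8839042719752<|a 110002702585904<|a 124385960991565<|a 29147496765742<|a 182212673461093<|a 119575925681394<|a 225503201055670<|a 91632780017717<|a 15222919453492<|c)<|
 f);
 (d (a 17617955872776<|a 74818330497072<|a 110553643624746<|a 165094869862421<|a 239267460984131<|a 65158084907216<|a 112615404611626<|a 62965715077355<|a 61653407060816<|c)<|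
 d (a 13228499296264<|a 74818330497072<|a 236466712563126<|a 21176176022259<|a 155874657324065<|a 82264028297422<|a 81716899670785<|a 213978248337942<|a 12246476089154<|c)<|
 d (a 8839042719752<|a 74818330497072<|a 4521608209544<|a 71547997965441<|a 58044947163162<|a 135454893019187<|a 16373782347822<|a 23928559383201<|a 53025711786262<|c)<|
 d (a 4449586143240<|a 74818330497072<|a 179550414875032<|a 59546294395653<|a 62994363667090<|a 106392282223717<|a 225504248792748<|a 195259335221470<|a 55626711827282<|c)<|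
 f));
 (let f:=(d (a 13228499296264<|a 39633958408240<|a 191015724136683<|a 218015092879516<|a 205963555679457<|a 56098548206932<|a 146134494360458<|a 108553239564552<|a 181457344443080<|c)<|
 d (a 8839042719752<|a 39633958408240<|a 108497696199196<|a 97461505721638<|a 57522030994136<|a 211393480648992<|a 239188149158172<|a 167222681194850<|a 239050466379675<|c)<|
 d (a 4449586143240<|a 39633958408240<|a 149718427828899<|a 88676357004440<|a 28215180858446<|a 165841753178650<|a 231286700126803<|a 23992232268296<|a 194177420375827<|c)<|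
 d (a 26396869025800<|a 74818330497072<|a 109026689539412<|a 161654667297634<|a 20496283790665<|a 108399743607211<|a 225223547077173<|a 179662458728597<|a 154027389439414<|c)<|
 d (a 22007412449288<|a 74818330497072<|a 7530226464094<|a 36590589170484<|a 54976138186101<|a 205910214656226<|a 165394336081932<|a 231207032947740<|a 163057650494859<|c)<|
 f);
 (d (a 4449586143240<|a 4449586319408<|a 227971066307371<|a 167997184070493<|a 203203694367470<|a 89857363138642<|a 115118298316058<|a 132932883987224<|a 116973605403225<|c)<|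
 d (a 26396869025800<|a 39633958408240<|a 239726572943406<|a 112615146574388<|a 95423745599810<|a 215614222451474<|a 205656374536282<|a 194994761155420<|a 135354392962651<|c)<|
 d (a 22007412449288<|a 39633958408240<|a 53407322341957<|a 93241757414248<|a 80908813427042<|a 121274260423300<|a 16817806728280<|a 35489814200752<|a 50346045233821<|c)<|
 d (a 17617955872776<|a 39633958408240<|a 154722132927566<|a 185891795551093<|a 188399447860648<|a 20509042890995<|a 105951682487086<|a 28808128937347<|a 141687452395052<|c)<|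
 f))));
 (let f:=(let f:=(let f:=(d (a 26396869025800<|a 4449586319408<|a 234300489751322<|a 148170505304978<|a 143583603762378<|a 46349470476964<|a 181156657343348<|a 201608471904266<|a 146590164690356<|c)<|
 d (a 22007412449288<|a 4449586319408<|a 232205947812244<|a 11036814566500<|a 240490665327117<|a 85631586158953<|a 152497474454797<|a 185384899584334<|a 11625614100745<|c)<|
 d (a 17617955872776<|a 4449586319408<|a 82572022736268<|a 181429928254241<|a 7780409049630<|a 199246228887858<|a 93642575660854<|a 215678258785565<|a 117874062998410<|c)<|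
 d (a 13228499296264<|a 4449586319408<|a 234388317706886<|a 126213344993718<|a 197172120695916<|a 116770062689861<|a 189401147731152<|a 117977183756310<|a 224861631308821<|c)<|
 d (a 8839042719752<|a 4449586319408<|a 163711382052162<|a 113373950264658<|a 180414775347504<|a 150405935079747<|a 194713471263776<|a 47290352666771<|a 189224685424859<|c)<|
 f);
 (d (a 22007412449288<|a 215555818819632<|a 156217448338738<|a 168433161013078<|a 205338574341524<|a 18945947296840<|a 105738987776169<|a 124874367357347<|a 176630189051924<|c)<|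
 d (a 17617955872776<|a 215555818819632<|a 45705340315785<|a 20033125526793<|a 108013138963289<|a 234815774300853<|a 132199925551462<|a 131185517791555<|a 6952586798620<|c)<|
 d (a 13228499296264<|a 215555818819632<|a 7371865830122<|a 36047044398228<|a 223594215056514<|a 65327237516179<|a 6482948728642<|a 124439860892917<|a 204140027401030<|c)<|
 d (a 8839042719752<|a 215555818819632<|a 204655772247634<|a 190976958469909<|a 142305689965858<|a 6311143101358<|a 214094272438381<|a 52857327978309<|a 37547684472042<|c)<|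
 d (a 4449586143240<|a 215555818819632<|a 78346421035678<|a 9570549861169<|a 150678359022990<|a 205473579211872<|a 130678972015028<|a 107793720625474<|a 25473537665910<|c)<|
 f));
 (let f:=(d (a 17617955872776<|a 180371446730800<|a 125070338206218<|a 24741202420373<|a 64633376782629<|a 13403924551345<|a 142971062627534<|a 18231569075037<|a 3680092857994<|c)<|
 d (a 13228499296264<|a 180371446730800<|a 119025163495211<|a 10662833202521<|a 14922597828428<|a 88788941772821<|a 220555725258026<|a 231874882726561<|a 12405685007592<|c)<|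
 d (a 8839042719752<|a 180371446730800<|a 133715285120226<|a 97913897893014<|a 182804321341713<|a 146384444022876<|a 194220184448035<|a 115556571868593<|a 48633402742620<|c)<|
 d (a 4449586143240<|a 180371446730800<|a 185165412840873<|a 128783340438412<|a 126320684186497<|a 22708871547408<|a 72115902781786<|a 183084398493736<|a 143930232052958<|c)<|
 d (a 26396869025800<|a 215555818819632<|a 191355845628178<|a 150002304090642<|a 232155356600356<|a 231066038247720<|a 169655247611429<|a 159578185929803<|a 110377003045657<|c)<|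
 f);
 (d (a 8839042719752<|a 145187074641968<|a 141631740661995<|a 4604646037722<|a 237867832864128<|a 1516216626006<|a 2362514289506<|a 200293070511460<|a 3668356019809<|c)<|
 d (a 4449586143240<|a 145187074641968<|a 179610670117964<|a 93905359528804<|a 218861711697712<|a 109149450290801<|a 192305596549326<|a 151838531258024<|a 191206009390925<|c)<|
 d (a 26396869025800<|a 180371446730800<|a 114571162206355<|a 53108690479899<|a 155057398076134<|a 234525677433897<|a 170620261676701<|a 83667499526533<|a 216754652891045<|c)<|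
 d (a 22007412449288<|a 180371446730800<|a 181056698194325<|a 125805838807790<|a 163025517061507<|a 239304507845292<|a 135491274331461<|a 47282513337704<|a 203182262800514<|c)<|
 f)));
 (let f:=(let f:=(d (a 4449586143240<|a 110002702553136<|a 35972906013221<|a 146037570691306<|a 220091759235174<|a 211279324030873<|a 169913226450627<|a 168433326082829<|a 147365088567426<|c)<|
 d (a 26396869025800<|a 145187074641968<|a 86779470603408<|a 234432580118081<|a 193654794868234<|a 124668612973929<|a 50733320701597<|a 43339824344222<|a 54195587023142<|c)<|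
 d (a 22007412449288<|a 145187074641968<|a 220023135854770<|a 184790181683537<|a 211211234110797<|a 22829950376973<|a 71031784023937<|a 99318402324852<|a 36853253463170<|c)<|
 d (a 17617955872776<|a 145187074641968<|a 195762093640009<|a 63783152704523<|a 122269338255377<|a 191750035520882<|a 127846839819142<|a 72987406454998<|a 80645953645570<|c)<|
 d (a 13228499296264<|a 145187074641968<|a 194425901114573<|a 40790890698345<|a 23313670576555<|a 52069455533874<|a 42208179638982<|a 112839618926514<|a 75744269884228<|c)<|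
 f);
 (d (a 22007412449288<|a 110002702553136<|a 133695132096107<|a 41319892687194<|a 181819007305412<|a 42085639366550<|a 76195975870178<|a 55191247209886<|a 135044787683614<|c)<|
 d (a 17617955872776<|a 110002702553136<|a 216412429848670<|a 118760284474806<|a 80299598193454<|a 205116915017443<|a 94951001681116<|a 79557627135577<|a 60659216015516<|c)<|
 d (a 13228499296264<|a 110002702553136<|a 88082773361245<|a 132805986199275<|a 62373884912298<|a 49695698105381<|a 4545917541516<|a 233558367287625<|a 63892300112433<|c)<|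
 d (a 8839042719752<|a 110002702553136<|a 9631794894758<|a 177739477426806<|a 200324567090456<|a 95022546905437<|a 44296636326171<|a 81763337044757<|a 236147075030051<|c)<|
 f));
 (let f:=(d (a 17617955872776<|a 74818330464304<|a 159442815955165<|a 114669673351724<|a 180406645566292<|a 154812123631008<|a 194148367097268<|a 131950306665115<|a 55811322534192<|c)<|
 d (a 13228499296264<|a 74818330464304<|a 179034798740884<|a 40931885934690<|a 240258612762344<|a 108625519847337<|a 224692339359965<|a 97427421422132<|a 197248531476516<|c)<|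
 d (a 8839042719752<|a 74818330464304<|a 234197508243812<|a 22380759110179<|a 195353471427429<|a 44605485759706<|a 6674517968307<|a 157043417962312<|a 28913955353995<|c)<|
 d (a 4449586143240<|a 74818330464304<|a 41960298625155<|a 112297614788252<|a 205824913155676<|a 240545589479619<|a 237884893182752<|a 19074218633060<|a 111830940010524<|c)<|
 d (a 26396869025800<|a 110002702553136<|a 189343977835840<|a 82708944402688<|a 3724032568027<|a 161470580001284<|a 56449983054680<|a 121140337814435<|a 192107195665824<|c)<|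
 f);
 (d (a 8839042719752<|a 39633958375472<|a 230657094494898<|a 236258982569557<|a 205336106023453<|a 16869346333773<|a 143387320558209<|a 84357662444629<|a 109225956400005<|c)<|
 d (a 4449586143240<|a 39633958375472<|a 107625141446819<|a 226894856197021<|a 155063172488404<|a 38263414446878<|a 39958434132819<|a 90422434416029<|a 238698402005547<|c)<|
 d (a 26396869025800<|a 74818330464304<|a 124370991367456<|a 229913367290243<|a 181162141440556<|a 191327607731869<|a 25617015900379<|a 121664387205925<|a 235347670862427<|c)<|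
 d (a 22007412449288<|a 74818330464304<|a 116926235826907<|a 42403542698266<|a 109204060387662<|a 24768196747360<|a 72940650708020<|a 47290958272705<|a 140906563746225<|c)<|
 f)))));
 (let f:=(let f:=(let f:=(let f:=(d (a 4449586143240<|a 4449586286640<|a 86472868406688<|a 186036270801029<|a 226557483927757<|a 229705907720861<|a 135357012183643<|a 143770952356570<|a 183639558422626<|c)<|
 d (a 26396869025800<|a 39633958375472<|a 45711106783506<|a 64147044763028<|a 230514674228521<|a 130139024868072<|a 189990888483429<|a 19417186556336<|a 51860330327457<|c)<|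
 d (a 22007412449288<|a 39633958375472<|a 165314070358321<|a 134420186753805<|a 108334883116465<|a 10261443434569<|a 178854068229921<|a 60135106019595<|a 179128784591648<|c)<|
 d (a 17617955872776<|a 39633958375472<|a 165511532495030<|a 184724685013043<|a 42212120597388<|a 10819022830667<|a 177832047373201<|a 195836084946632<|a 143540492132689<|c)<|
 d (a 13228499296264<|a 39633958375472<|a 9438727987873<|a 35766714372297<|a 182564248390549<|a 235682707315486<|a 62446232539987<|a 142201283978501<|a 181988129893164<|c)<|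
 f);
 (d (a 26396869025800<|a 4449586286640<|a 239513878727821<|a 113388574267048<|a 50283507396997<|a 5882182796530<|a 214005363660934<|a 233651278906292<|a 142170350100804<|c)<|
 d (a 22007412449288<|a 4449586286640<|a 217885865982260<|a 116726039274724<|a 240611223035300<|a 98087092502601<|a 44129405455393<|a 63808893165993<|a 92824484493338<|c)<|
 d (a 17617955872776<|a 4449586286640<|a 117310023607475<|a 23443363551581<|a 158708923762468<|a 199840056597066<|a 94798993276249<|a 63113811060054<|a 11092486310755<|c)<|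
 d (a 13228499296264<|a 4449586286640<|a 387784646853<|a 211209823455341<|a 4712881513240<|a 38843776947712<|a 7011816394944<|a 113160899178928<|a 180938416608065<|c)<|
 d (a 8839042719752<|a 4449586286640<|a 37017664251941<|a 151878654112041<|a 124388833858801<|a 105777814740060<|a 15447158283683<|a 99323376510886<|a 190817436325476<|c)<|
 f));
 (let f:=(d (a 22007412449288<|a 215555818786864<|a 158980940424781<|a 239468203518313<|a 236038517774937<|a 226813290126517<|a 205390078991790<|a 178437165015854<|a 147143006036693<|c)<|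
 d (a 17617955872776<|a 215555818786864<|a 129849413101912<|a 200547829910273<|a 91084653809904<|a 116714892172640<|a 83850406856596<|a 196707429240134<|a 156969437857809<|c)<|
 d (a 13228499296264<|a 215555818786864<|a 179540692908196<|a 218124497607524<|a 186162304733785<|a 72728605773018<|a 184995223620507<|a 118940102563728<|a 186026283386906<|c)<|
 d (a 8839042719752<|a 215555818786864<|a 42195936570484<|a 12191466462049<|a 176941749933701<|a 98751443505550<|a 220160217891369<|a 94432722062747<|a 8917875116590<|c)<|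
 d (a 4449586143240<|a 215555818786864<|a 61866202925203<|a 182577256295704<|a 64402193235142<|a 42581930116649<|a 182327076108525<|a 75369332654186<|a 204978982929685<|c)<|
 f);
 (d (a 13228499296264<|a 180371446698032<|a 224507847713952<|a 18934640285317<|a 27030803001453<|a 54982450107934<|a 40965998707443<|a 166371028914705<|a 29808913648202<|c)<|
 d (a 8839042719752<|a 180371446698032<|a 48765520947778<|a 152495164768981<|a 216851066539228<|a 19604196645891<|a 105779378365856<|a 55700366346881<|a 177799593994276<|c)<|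
 d (a 4449586143240<|a 180371446698032<|a 39943554024275<|a 181215032333659<|a 60237003999285<|a 27944354690090<|a 36453294356133<|a 110248024724515<|a 178843961445722<|c)<|
 d (a 26396869025800<|a 215555818786864<|a 181709843555592<|a 45276009389249<|a 92591478577763<|a 240026089429170<|a 99813122835214<|a 84580293024004<|a 217809429663094<|c)<|
 f)));
 (let f:=(let f:=(d (a 8839042719752<|a 145187074609200<|a 14123416531122<|a 211568229566676<|a 233103491993612<|a 56307080842571<|a 4857084914569<|a 19690339650893<|a 147171534646283<|c)<|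
 d (a 4449586143240<|a 145187074609200<|a 216248134183346<|a 64211659484309<|a 72912476604818<|a 168103523212681<|a 126007297812889<|a 120568411443464<|a 232113347176796<|c)<|
 d (a 26396869025800<|a 180371446698032<|a 161101041058317<|a 84502458700843<|a 211713677637713<|a 189370246279542<|a 59379238425638<|a 224384680499984<|a 92503195833060<|c)<|
 d (a 22007412449288<|a 180371446698032<|a 198299070409459<|a 126036331406621<|a 199796615185224<|a 11773819343373<|a 177960523414129<|a 195439697724011<|a 177685828417136<|c)<|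
 d (a 17617955872776<|a 180371446698032<|a 187237156717960<|a 63137938709120<|a 185286501973044<|a 93687827138934<|a 187649878131494<|a 201392090331485<|a 95886548337752<|c)<|
 f);
 (d (a 26396869025800<|a 145187074609200<|a 218880449219158<|a 42612723902384<|a 160652269869282<|a 27271221676969<|a 35294611890541<|a 60359056998930<|a 36530871953964<|c)<|
 d (a 22007412449288<|a 145187074609200<|a 9368243299546<|a 141917995502097<|a 130573764071853<|a 165863913231520<|a 159280050482324<|a 220165936633030<|a 189747959058600<|c)<|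
 d (a 17617955872776<|a 145187074609200<|a 141988483247149<|a 117656351314541<|a 23197983324837<|a 176321966035350<|a 234254854574610<|a 97893185052680<|a 57571599898710<|c)<|
 d (a 13228499296264<|a 145187074609200<|a 111347170976073<|a 44207756058957<|a 176370477301859<|a 169233540765301<|a 126681943841006<|a 133395261836324<|a 192452988987606<|c)<|
 f));
 (let f:=(d (a 22007412449288<|a 110002702520368<|a 230985734108379<|a 150811742690140<|a 108003672385707<|a 86361972787810<|a 118014535315780<|a 112290010121972<|a 201325613829441<|c)<|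
 d (a 17617955872776<|a 110002702520368<|a 190394111712656<|a 205924199649858<|a 234775643457539<|a 229967197905834<|a 29862593464421<|a 95452529174643<|a 112863337680157<|c)<|
 d (a 13228499296264<|a 110002702520368<|a 88981312516697<|a 132728685968140<|a 125715851083813<|a 225754917948708<|a 63369785905580<|a 194148296567690<|a 42658720015184<|c)<|
 d (a 8839042719752<|a 110002702520368<|a 110261793885276<|a 240838351364704<|a 75024550701449<|a 63594912155685<|a 145397180091172<|a 94459541476499<|a 134978846995994<|c)<|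
 d (a 4449586143240<|a 110002702520368<|a 14845994462241<|a 3757048744457<|a 121162429797940<|a 88374163576603<|a 79715234061011<|a 188483993476169<|a 10588466058836<|c)<|
 f);
 (d (a 13228499296264<|a 74818330431536<|a 57957904285868<|a 189495371530400<|a 163346239743234<|a 46283709090576<|a 5227388423498<|a 49832992642660<|a 112150924937933<|c)<|
 d (a 8839042719752<|a 74818330431536<|a 88241952829597<|a 17971493856364<|a 147569535737220<|a 192416787645985<|a 24094907653324<|a 15150909972657<|a 9981941654642<|c)<|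
 d (a 4449586143240<|a 74818330431536<|a 185008173089354<|a 233932031298320<|a 128417486399523<|a 236726999122992<|a 30105603975326<|a 147166468562973<|a 218597223518305<|c)<|
 d (a 26396869025800<|a 110002702520368<|a 192419956369512<|a 11454913103365<|a 113292804237414<|a 194481913614739<|a 165562991575594<|a 73711999436197<|a 22217019001005<|c)<|
 f))));
 (let f:=(let f:=(let f:=(d (a 8839042719752<|a 39633958342704<|a 235484620145731<|a 93874171427611<|a 160291493717904<|a 10460589045124<|a 178895206037144<|a 155187161400022<|a 211744375192285<|c)<|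
 d (a 4449586143240<|a 39633958342704<|a 121241790208627<|a 191971261101338<|a 109071114603137<|a 126834298692300<|a 227484782672449<|a 213464324322321<|a 84474853799236<|c)<|
 d (a 26396869025800<|a 74818330431536<|a 87234622280209<|a 128260684187786<|a 236500670057610<|a 123457585588136<|a 85268771180789<|a 188044469549704<|a 160195951125706<|c)<|
 d (a 22007412449288<|a 74818330431536<|a 2065511482283<|a 602141001880<|a 221298811090806<|a 107271514851728<|a 226706288981258<|a 126662885057284<|a 19042606073973<|c)<|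
 d (a 17617955872776<|a 74818330431536<|a 164263009402005<|a 223559817697516<|a 118087685794978<|a 186483915802542<|a 59637192806597<|a 100078619756693<|a 185346163125058<|c)<|
 f);
 (d (a 26396869025800<|a 39633958342704<|a 117932987590552<|a 54509353423557<|a 133958315596715<|a 60665979753890<|a 110945928283780<|a 5267544272016<|a 42430426089349<|c)<|
 d (a 22007412449288<|a 39633958342704<|a 9052282704784<|a 106149867227714<|a 220255738598488<|a 235038203718696<|a 62348624039349<|a 29227098236141<|a 76529384458381<|c)<|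
 d (a 17617955872776<|a 39633958342704<|a 226641729208725<|a 13311993783403<|a 143312344365906<|a 159435666666861<|a 18288644577421<|a 239805583197195<|a 20006798185228<|c)<|
 d (a 13228499296264<|a 39633958342704<|a 194765729663744<|a 148354090157952<|a 238486719439702<|a 189723242398275<|a 94641828135008<|a 161159865771780<|a 60349771415904<|c)<|
 f));
 (let f:=(d (a 22007412449288<|a 4449586253872<|a 204135983254411<|a 55605712970456<|a 28420230127825<|a 147022286783409<|a 230024649552470<|a 239991030202980<|a 121202270489389<|c)<|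
 d (a 17617955872776<|a 4449586253872<|a 80560372407190<|a 218546997385906<|a 240340301198406<|a 128688388255146<|a 84298995917733<|a 190303316267910<|a 194839384069337<|c)<|
 d (a 13228499296264<|a 4449586253872<|a 64402452480918<|a 154873108974832<|a 156832551679732<|a 112822026438059<|a 227451092984477<|a 98558865145962<|a 231050614054307<|c)<|
 d (a 8839042719752<|a 4449586253872<|a 59288553963616<|a 79580565744451<|a 221189142652587<|a 10592525236829<|a 177830442175811<|a 12318449623966<|a 36160908395076<|c)<|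
 d (a 4449586143240<|a 4449586253872<|a 135676060975669<|a 189955764328875<|a 121935195396886<|a 215688100360782<|a 240283039161449<|a 81030577272206<|a 97548524278124<|c)<|
 f);
 (d (a 13228499296264<|a 215555818754096<|a 40524976752672<|a 226622899618880<|a 166210186792998<|a 202466725726488<|a 130329549999379<|a 1817086679397<|a 201524940768848<|c)<|
 d (a 8839042719752<|a 215555818754096<|a 220565157362265<|a 165592622015116<|a 37578477241508<|a 59054527924581<|a 43140908522244<|a 141208014422102<|a 99791239012486<|c)<|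
 d (a 4449586143240<|a 215555818754096<|a 126195996366736<|a 155843791509766<|a 146343932735588<|a 49103749800618<|a 110574802339957<|a 199340009573028<|a 170702963903881<|c)<|
 d (a 26396869025800<|a 4449586253872<|a 165810201114140<|a 226415656670436<|a 5037438069850<|a 219915769234278<|a 202337193477212<|a 43109185890948<|a 240958727897626<|c)<|
 f)));
 (let f:=(let f:=(d (a 8839042719752<|a 180371446665264<|a 163099945994800<|a 42703811446464<|a 12258065586500<|a 79410563384840<|a 46201746227929<|a 145535545918797<|a 164215411214240<|c)<|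
 d (a 4449586143240<|a 180371446665264<|a 28907748155997<|a 70968102983465<|a 214204028556906<|a 78288805598950<|a 80155255790324<|a 75944887111962<|a 186673575352432<|c)<|
 d (a 26396869025800<|a 215555818754096<|a 47717240808221<|a 132909426377325<|a 183180425257382<|a 24431672352160<|a 71765122733484<|a 58728062308617<|a 144494205741203<|c)<|
 d (a 22007412449288<|a 215555818754096<|a 109253714454581<|a 182630646223661<|a 79408227461809<|a 211187487920974<|a 64898789134945<|a 126170305809781<|a 42023459531099<|c)<|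
 d (a 17617955872776<|a 215555818754096<|a 233141990525646<|a 51391938729520<|a 198814598304836<|a 79876164094518<|a 115021833987438<|a 230954991991526<|a 186492205720875<|c)<|
 f);
 (d (a 26396869025800<|a 180371446665264<|a 133958506562486<|a 88976481528499<|a 57985729752340<|a 219055976560333<|a 62549191355113<|a 154826131592410<|a 99315435136942<|c)<|
 d (a 22007412449288<|a 180371446665264<|a 24340427647307<|a 72787577837789<|a 48594749333617<|a 153296686666870<|a 161515289326766<|a 81142240270547<|a 225241866126548<|c)<|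
 d (a 17617955872776<|a 180371446665264<|a 231767640066406<|a 50700635215027<|a 165134660365558<|a 86129299372638<|a 9107631826779<|a 224349609797786<|a 94859543812129<|c)<|
 d (a 13228499296264<|a 180371446665264<|a 92498992781507<|a 28803554351514<|a 198552554486806<|a 82603790672902<|a 45535747651208<|a 39812538612973<|a 10564286561160<|c)<|
 f));
 (let f:=(d (a 22007412449288<|a 145187074576432<|a 106173412697818<|a 6271129715537<|a 100365202689306<|a 38074116806816<|a 148812610314540<|a 12484015986734<|a 27724073819477<|c)<|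
 d (a 17617955872776<|a 145187074576432<|a 121407387954486<|a 60899973602033<|a 46630487836189<|a 197177346300750<|a 96115419898721<|a 157425860725584<|a 199885342336228<|c)<|
 d (a 13228499296264<|a 145187074576432<|a 99026624845483<|a 28145270294238<|a 123952776701841<|a 41852534121104<|a 112468706571378<|a 94953986382923<|a 7606981279092<|c)<|
 d (a 8839042719752<|a 145187074576432<|a 85493646119285<|a 17891453503082<|a 218285921757442<|a 229319081632840<|a 238706372858009<|a 150302012359450<|a 8063885551334<|c)<|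
 d (a 4449586143240<|a 145187074576432<|a 86868187223755<|a 10732514629662<|a 62754457762125<|a 231174945498226<|a 238362821767318<|a 205514930213254<|a 27738013217876<|c)<|
 f);
 (d (a 13228499296264<|a 110002702487600<|a 241031691324562<|a 197186548732051<|a 16949065921922<|a 218019318545646<|a 132822176211861<|a 192184158657291<|a 133097090261716<|c)<|
 d (a 8839042719752<|a 110002702487600<|a 4608311743026<|a 629301013906<|a 120646461876130<|a 132010733021705<|a 122046004208465<|a 155810378310020<|a 16772352912211<|c)<|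
 d (a 4449586143240<|a 110002702487600<|a 37776687941805<|a 76974734371691<|a 25029293427726<|a 214148691965137<|a 169714231203498<|a 119035748516491<|a 77881119419093<|c)<|
 d (a 26396869025800<|a 145187074576432<|a 80405641046049<|a 24357910219597<|a 47734813190571<|a 127820872603288<|a 14886947428051<|a 148832271510038<|a 15780221688082<|c)<|
 f))))));
 (let f:=(let f:=(let f:=(let f:=(let f:=(d (a 8839042719752<|a 74818330398768<|a 38733955898062<|a 152463224382390<|a 169789454683357<|a 36646560688821<|a 75482412802934<|a 180927147154798<|a 183856236651186<|c)<|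
 d (a 4449586143240<|a 74818330398768<|a 141951313208557<|a 89309978481769<|a 181997802776754<|a 73001882523474<|a 153109584696034<|a 112324173191254<|a 186714900322720<|c)<|
 d (a 26396869025800<|a 110002702487600<|a 158798181242902<|a 226949364521590<|a 56285892005982<|a 154219821099566<|a 89662997062485<|a 28728284435587<|a 51276278832365<|c)<|
 d (a 22007412449288<|a 110002702487600<|a 24018327045874<|a 36907084365072<|a 164130796628544<|a 11845852267916<|a 178485320163505<|a 169552082753715<|a 144261516307889<|c)<|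
 d (a 17617955872776<|a 110002702487600<|a 232071243688540<|a 15953881312033<|a 217620764025361<|a 192146513729829<|a 200463632188164<|a 81800544144429<|a 12358069662532<|c)<|
 f);
 (d (a 4449586143240<|a 39633958309936<|a 128232994035379<|a 14892071856794<|a 54340701046896<|a 82123409696141<|a 11923155596969<|a 106458300996442<|a 10067997571944<|c)<|
 d (a 26396869025800<|a 74818330398768<|a 170719240161546<|a 85918231078608<|a 147338014839828<|a 77357149652405<|a 114681590000310<|a 226549639297628<|a 199298619758094<|c)<|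
 d (a 22007412449288<|a 74818330398768<|a 239193926526829<|a 116044352374313<|a 128553896199267<|a 219032869575059<|a 168133789504794<|a 36563410629284<|a 205448895978328<|c)<|
 d (a 17617955872776<|a 74818330398768<|a 7572433308524<|a 108762184196320<|a 58481990722700<|a 169445537221205<|a 90484819281226<|a 227789565699459<|a 54474575366794<|c)<|
 d (a 13228499296264<|a 74818330398768<|a 26672873228849<|a 143937239202635<|a 204045901543571<|a 39634540474380<|a 39632292286513<|a 213039022343344<|a 39838046951984<|c)<|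
 f));
 (let f:=(d (a 26396869025800<|a 39633958309936<|a 216712038856107<|a 146276684827036<|a 1498293555505<|a 170525915202192<|a 195613441571954<|a 39692126592296<|a 161940439216946<|c)<|
 d (a 22007412449288<|a 39633958309936<|a 90902693621002<|a 192541780646613<|a 3343155104400<|a 119858103408886<|a 16683067810606<|a 167748047911425<|a 227513658812590<|c)<|
 d (a 17617955872776<|a 39633958309936<|a 45107253877932<|a 91355317962278<|a 185566232065754<|a 59203614043024<|a 112387305721202<|a 28714550362465<|a 111699596855473<|c)<|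
 d (a 13228499296264<|a 39633958309936<|a 89937061919123<|a 134284042658652<|a 123834188220313<|a 15954515182953<|a 141683696515205<|a 159850872221041<|a 212947860797634<|c)<|
 d (a 8839042719752<|a 39633958309936<|a 23934010415188<|a 108193639892578<|a 59789200608650<|a 80994818730088<|a 9051011139341<|a 181784183088180<|a 201022429117491<|c)<|
 f);
 (d (a 17617955872776<|a 4449586221104<|a 216201712593448<|a 121869809392705<|a 7600494676677<|a 61768538002646<|a 42347100047490<|a 153092025106851<|a 41934813038977<|c)<|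
 d (a 13228499296264<|a 4449586221104<|a 190246185667370<|a 183432203916304<|a 108698301735654<|a 159332083763794<|a 125434721938786<|a 97956129291179<|a 125641361107297<|c)<|
 d (a 8839042719752<|a 4449586221104<|a 37529532147200<|a 186642166195461<|a 199811051906606<|a 396920639877<|a 1158389760528<|a 230929696603440<|a 35648721388821<|c)<|
 d (a 4449586143240<|a 4449586221104<|a 199459469199657<|a 129868604543880<|a 160240283373640<|a 45867586847062<|a 183845607805954<|a 142594166411435<|a 132058809460803<|c)<|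
 f)));
 (let f:=(let f:=(d (a 13228499296264<|a 215555818721328<|a 151581913142490<|a 128692701999698<|a 114387237229984<|a 131130051601252<|a 225281564811876<|a 141401670629725<|a 54269792377114<|c)<|
 d (a 8839042719752<|a 215555818721328<|a 42960415791837<|a 187838701609134<|a 187292536199397<|a 98047493857445<|a 221146635196956<|a 14879086810358<|a 233103735007972<|c)<|
 d (a 4449586143240<|a 215555818721328<|a 2312236388894<|a 70970149803634<|a 56440809233643<|a 35270412412646<|a 218848203498196<|a 127728112482091<|a 182288933579668<|c)<|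
 d (a 26396869025800<|a 4449586221104<|a 159880733889778<|a 155412747207766<|a 239443180032928<|a 155680388769419<|a 159115481983681<|a 17779128675603<|a 160695820692864<|c)<|
 d (a 22007412449288<|a 4449586221104<|a 145414175973979<|a 27338744119705<|a 229806987160715<|a 134282573618211<|a 50328613466516<|a 239391113075925<|a 19276968381353<|c)<|
 f);
 (d (a 4449586143240<|a 180371446632496<|a 37756311021862<|a 147575624845685<|a 97410066329702<|a 107238414308571<|a 51931190943899<|a 49774158753128<|a 120102344353176<|c)<|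
 d (a 26396869025800<|a 215555818721328<|a 50473190147867<|a 133853256730715<|a 184041121026646<|a 231139646485219<|a 170171508569708<|a 45164053967661<|a 135535703210156<|c)<|
 d (a 22007412449288<|a 215555818721328<|a 221650211130666<|a 223256185854803<|a 236676069865909<|a 128959089292690<|a 224476676795538<|a 167176075600712<|a 158980935342633<|c)<|
 d (a 17617955872776<|a 215555818721328<|a 199647307578478<|a 240868360903988<|a 117249659437267<|a 11937506345106<|a 179054193469970<|a 11737292493662<|a 176297103399017<|c)<|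
 f));
 (let f:=(d (a 26396869025800<|a 180371446632496<|a 191004057848849<|a 117703686841099<|a 113084891046798<|a 229150601296105<|a 202873068001045<|a 168225618481707<|a 147804339235438<|c)<|
 d (a 22007412449288<|a 180371446632496<|a 13619693902930<|a 73677186074258<|a 160998533799286<|a 160786939455016<|a 91008424288989<|a 154871514044173<|a 54242832622877<|c)<|
 d (a 17617955872776<|a 180371446632496<|a 90531175732022<|a 75551212255670<|a 99301226533889<|a 51782652489036<|a 77417491425705<|a 151908458763108<|a 168322063441238<|c)<|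
 d (a 13228499296264<|a 180371446632496<|a 29401673827417<|a 107026485449864<|a 119722417918196<|a 217025171981734<|a 64503214053524<|a 94384429238476<|a 239468271735381<|c)<|
 d (a 8839042719752<|a 180371446632496<|a 41451602629544<|a 185322274745730<|a 196902241775955<|a 169721552448081<|a 19531573135194<|a 168985102818305<|a 225108543472741<|c)<|
 f);
 (d (a 17617955872776<|a 145187074543664<|a 164949136630786<|a 221188727523345<|a 142199032535756<|a 149650157934403<|a 20913878835424<|a 223241126908126<|a 91689033149156<|c)<|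
 d (a 13228499296264<|a 145187074543664<|a 11805079450714<|a 106874005740692<|a 133265897497499<|a 93879827778978<|a 117271585892788<|a 76047984526629<|a 221384311942256<|c)<|
 d (a 8839042719752<|a 145187074543664<|a 241217907544290<|a 198063953433426<|a 94955490665693<|a 111246115677850<|a 155210198886115<|a 155912791724882<|a 51371349779749<|c)<|
 d (a 4449586143240<|a 145187074543664<|a 123811450329998<|a 86548800638070<|a 106682226361614<|a 154571238762416<|a 229362080902382<|a 63432704584795<|a 86198739997078<|c)<|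
 f))));
 (let f:=(let f:=(let f:=(d (a 13228499296264<|a 110002702454832<|a 168326451374100<|a 200484821997285<|a 415842710403<|a 215818691303022<|a 133603796042469<|a 186824403849435<|a 132916663371940<|c)<|
 d (a 8839042719752<|a 110002702454832<|a 191648440199067<|a 85648958921309<|a 121597751152965<|a 231049571718054<|a 30005800515668<|a 162832601076017<|a 41661460005033<|c)<|
 d (a 4449586143240<|a 110002702454832<|a 43041032184617<|a 181163400008845<|a 89641707932021<|a 204209794895958<|a 94220468231210<|a 239049512904054<|a 184858409003796<|c)<|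
 d (a 26396869025800<|a 145187074543664<|a 83895148239154<|a 235549434788050<|a 117101550519155<|a 195724286175244<|a 93202196538665<|a 3396583294179<|a 46431522839122<|c)<|
 d (a 22007412449288<|a 145187074543664<|a 230780784379307<|a 150829395274392<|a 54541098740953<|a 120584271398801<|a 85974349987034<|a 111638081975128<|a 85080573393817<|c)<|
 f);
 (d (a 8839042719752<|a 74818330366000<|a 189778778759844<|a 154668540510373<|a 156452551481452<|a 56235634874715<|a 182435256059675<|a 48495824261302<|a 99520462827619<|c)<|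
 d (a 4449586143240<|a 74818330366000<|a 183539539601779<|a 59384037580185<|a 213446017424668<|a 238814691432590<|a 238217355509017<|a 36718973705603<|a 41677044106149<|c)<|
 d (a 26396869025800<|a 110002702454832<|a 152354344175821<|a 15630913299880<|a 187889028455016<|a 129403545354609<|a 155813142975526<|a 125729569942534<|a 17975116770011<|c)<|
 d (a 22007412449288<|a 110002702454832<|a 56522955941465<|a 58985101773449<|a 79347395364945<|a 50673478046051<|a 4685454152748<|a 86054280742817<|a 145556649645614<|c)<|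
 d (a 17617955872776<|a 110002702454832<|a 22428745636593<|a 73399334545102<|a 124522940422493<|a 9655513049613<|a 178787338523489<|a 27775892544672<|a 143371684342875<|c)<|
 f));
 (let f:=(d (a 4449586143240<|a 39633958277168<|a 220008111200644<|a 134529975086178<|a 216421962461853<|a 93216456452097<|a 152389142923568<|a 170727245270058<|a 129635574888078<|c)<|
 d (a 26396869025800<|a 74818330366000<|a 186766395042914<|a 223369585901713<|a 176206063037138<|a 128107281978075<|a 49582740450395<|a 36611149410929<|a 227640560986460<|c)<|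
 d (a 22007412449288<|a 74818330366000<|a 224453011628707<|a 79758989863129<|a 235504549796148<|a 229512726813213<|a 64998754924363<|a 6431748582146<|a 62318518614666<|c)<|
 d (a 17617955872776<|a 74818330366000<|a 196109352934428<|a 170795867949990<|a 130468381939800<|a 48461923377507<|a 218838341076012<|a 47378934991745<|a 61811661615378<|c)<|
 d (a 13228499296264<|a 74818330366000<|a 41561645221102<|a 119893360561008<|a 65096036665548<|a 135387447496019<|a 15266255135114<|a 165230652110984<|a 225614704338570<|c)<|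
 f);
 (d (a 22007412449288<|a 39633958277168<|a 92827286055445<|a 192152630023341<|a 45997184642115<|a 149956858665514<|a 88563853744973<|a 1257843045568<|a 52100239371445<|c)<|
 d (a 17617955872776<|a 39633958277168<|a 161660797524769<|a 82225635678222<|a 155201095929865<|a 227912867439386<|a 132908493936739<|a 86213634624365<|a 147956494626011<|c)<|
 d (a 13228499296264<|a 39633958277168<|a 79443754576910<|a 29805032558961<|a 14578487208843<|a 127889447524402<|a 190259304491294<|a 75620114088054<|a 16537968764827<|c)<|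
 d (a 8839042719752<|a 39633958277168<|a 1412447254709<|a 213589079305324<|a 60836081506340<|a 108946455448781<|a 121387901212577<|a 6167994958426<|a 125588760471966<|c)<|
 f)));
 (let f:=(let f:=(d (a 17617955872776<|a 4449586188336<|a 155111239569476<|a 114749893527842<|a 77589819868065<|a 90971762206083<|a 114725563351712<|a 211212318720160<|a 46622642031137<|c)<|
 d (a 13228499296264<|a 4449586188336<|a 204344654845210<|a 76103119635026<|a 37264941199370<|a 216497912097120<|a 239233633953036<|a 201670015356324<|a 170580570647693<|c)<|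
 d (a 8839042719752<|a 4449586188336<|a 180738322974448<|a 15086567768899<|a 38837515487402<|a 203484497720843<|a 58979250471153<|a 107316244588698<|a 10214616106572<|c)<|
 d (a 4449586143240<|a 4449586188336<|a 100070131847788<|a 220613368796706<|a 201581752629547<|a 183809742088274<|a 235207459294482<|a 223366678907763<|a 221782193287470<|c)<|
 d (a 26396869025800<|a 39633958277168<|a 238826159768778<|a 111327116044560<|a 107627778584961<|a 6432444452021<|a 211909476493702<|a 217364705137441<|a 144266218393668<|c)<|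
 f);
 (d (a 8839042719752<|a 215555818688560<|a 142212141097197<|a 40029601829101<|a 155598625529864<|a 177334955990230<|a 95301574613914<|a 36108404804465<|a 129249693326552<|c)<|
 d (a 4449586143240<|a 215555818688560<|a 55989804599977<|a 42610730645384<|a 22571627730196<|a 16090767329428<|a 142774606009130<|a 42678130414990<|a 213627204967662<|c)<|
 d (a 26396869025800<|a 4449586188336<|a 165297242291312<|a 122331625121412<|a 119689271686738<|a 44912664396041<|a 182618547914249<|a 72605098218900<|a 167440998236979<|c)<|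
 d (a 22007412449288<|a 4449586188336<|a 44742096525165<|a 23737992139374<|a 71362761563507<|a 201418181371538<|a 93922525600466<|a 220592531985249<|a 23422410609875<|c)<|
 f));
 (let f:=(d (a 4449586143240<|a 180371446599728<|a 126181844395096<|a 225430084096261<|a 18217850917184<|a 157285193109670<|a 126914444462636<|a 147958137144228<|a 52832716032941<|c)<|
 d (a 26396869025800<|a 215555818688560<|a 37208889771936<|a 133771948067971<|a 111279135599860<|a 179600060070104<|a 93343410946331<|a 231569432595228<|a 151846530679396<|c)<|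
 d (a 22007412449288<|a 215555818688560<|a 4794353903624<|a 178212151797505<|a 183455916346669<|a 61581969854517<|a 4451013165070<|a 217006049595625<|a 61718686533174<|c)<|
 d (a 17617955872776<|a 215555818688560<|a 229490625107350<|a 190656610895218<|a 110822245020296<|a 49579581449960<|a 110685401539309<|a 71867173004302<|a 148688149768491<|c)<|
 d (a 13228499296264<|a 215555818688560<|a 119329715325061<|a 187288854993960<|a 217812394653592<|a 231142066390278<|a 167955069063816<|a 28670483803032<|a 147477004299573<|c)<|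
 f);
 (d (a 22007412449288<|a 180371446599728<|a 179532428125321<|a 54116875807629<|a 44604589250410<|a 71225367387509<|a 116646592485774<|a 157007983191808<|a 152175276233612<|c)<|
 d (a 17617955872776<|a 180371446599728<|a 204384368400995<|a 134848225629918<|a 213389346552754<|a 113169643988634<|a 16877941046475<|a 81936604619178<|a 229687005136692<|c)<|
 d (a 13228499296264<|a 180371446599728<|a 53096103722182<|a 227914020824948<|a 133265802961641<|a 52039274416645<|a 75748634093904<|a 187918342428564<|a 98521016440106<|c)<|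
 d (a 8839042719752<|a 180371446599728<|a 48819176532778<|a 46899501656913<|a 200125160531765<|a 91089574108177<|a 220293953267082<|a 5166193456875<|a 165362889741873<|c)<|
 f)))));
 (let f:=(let f:=(let f:=(let f:=(d (a 17617955872776<|a 145187074510896<|a 230727894383014<|a 191781901048244<|a 180457567239590<|a 85107152732318<|a 186559847557667<|a 125924824897<|a 127626453031578<|c)<|
 d (a 13228499296264<|a 145187074510896<|a 203639508066925<|a 40368617469097<|a 227301908728238<|a 216858960236628<|a 100207589743658<|a 92750384249630<|a 180580119030484<|c)<|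
 d (a 8839042719752<|a 145187074510896<|a 77073407555336<|a 230401954318468<|a 151564667896533<|a 170315460658608<|a 126817181729974<|a 115588520011376<|a 159253905049972<|c)<|
 d (a 4449586143240<|a 145187074510896<|a 213335166446436<|a 169978350404129<|a 151406877174424<|a 106968998091992<|a 192032912294299<|a 185967000790210<|a 122486103885660<|c)<|
 d (a 26396869025800<|a 180371446599728<|a 119926495056722<|a 53760782307734<|a 64322024155776<|a 90765293873838<|a 223053458023797<|a 594615370992<|a 235860977702219<|c)<|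
 f);
 (d (a 13228499296264<|a 110002702422064<|a 121921544295641<|a 150996456416014<|a 216062831822449<|a 161958320991653<|a 54304287562676<|a 190921638164648<|a 227445994317898<|c)<|
 d (a 8839042719752<|a 110002702422064<|a 84015231919515<|a 229839611217753<|a 6157027675154<|a 196084726339619<|a 166304515177228<|a 169207544620073<|a 117446780798130<|c)<|
 d (a 4449586143240<|a 110002702422064<|a 212906380841092<|a 237932924116130<|a 150089952068748<|a 143819241302278<|a 194456931877640<|a 106737215032706<|a 226384724374450<|c)<|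
 d (a 26396869025800<|a 145187074510896<|a 1423169372830<|a 176721000519411<|a 181741182902370<|a 177039431645346<|a 234344527290644<|a 130202353111691<|a 199777269179732<|c)<|
 d (a 22007412449288<|a 145187074510896<|a 18567726850867<|a 71002792335513<|a 93751118193419<|a 155083141127310<|a 229967632872337<|a 60786372610382<|a 55140404113621<|c)<|
 f));
 (let f:=(d (a 8839042719752<|a 74818330333232<|a 234658290219145<|a 164947511250252<|a 63617461536345<|a 223293484614384<|a 135147892120694<|a 192506980144843<|a 204831831135987<|c)<|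
 d (a 4449586143240<|a 74818330333232<|a 178267662586689<|a 233784369743502<|a 188209299831114<|a 1500191976128<|a 2343735988544<|a 75621307113621<|a 38208099586821<|c)<|
 d (a 26396869025800<|a 110002702422064<|a 62798398415114<|a 237951415265681<|a 155352223500693<|a 182597340174005<|a 23933450494158<|a 5661405068067<|a 235587563990286<|c)<|
 d (a 22007412449288<|a 110002702422064<|a 234763646682416<|a 150706751736835<|a 58195172307113<|a 10152023439752<|a 179380896271625<|a 185109296000162<|a 73343501012107<|c)<|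
 d (a 17617955872776<|a 110002702422064<|a 221841997719153<|a 120706991325833<|a 126458082650661<|a 236247648344712<|a 237888275225929<|a 202408025086638<|a 217865128569904<|c)<|
 f);
 (d (a 26396869025800<|a 74818330333232<|a 178857072822805<|a 187853374562664<|a 121943438773016<|a 176288309871981<|a 128696585477253<|a 54292288936105<|a 200717606408514<|c)<|
 d (a 22007412449288<|a 74818330333232<|a 221806341329451<|a 115340348919902<|a 122198580842739<|a 198073624422294<|a 200706837590234<|a 108451190754121<|a 81936227845348<|c)<|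
 d (a 17617955872776<|a 74818330333232<|a 230385317660578<|a 190785502204947<|a 125027995835683<|a 120017228214426<|a 118888831068683<|a 196993616493776<|a 154142642939913<|c)<|
 d (a 13228499296264<|a 74818330333232<|a 198158656301081<|a 77362087710857<|a 43166580094227<|a 185162281816610<|a 57736551208020<|a 169581047202027<|a 165492144837328<|c)<|
 f)));
 (let f:=(let f:=(d (a 22007412449288<|a 39633958244400<|a 204539873042721<|a 228984591370765<|a 215681632446117<|a 146549747276891<|a 126087635245955<|a 186600496899989<|a 155661661759171<|c)<|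
 d (a 17617955872776<|a 39633958244400<|a 214014831832324<|a 227642504124517<|a 239835286625067<|a 144223534208582<|a 160998685361352<|a 37125778400139<|a 91727059763849<|c)<|
 d (a 13228499296264<|a 39633958244400<|a 230944372235122<|a 231839899278358<|a 59059737796784<|a 120764359598730<|a 16177075694705<|a 55821165991528<|a 89232597635467<|c)<|
 d (a 8839042719752<|a 39633958244400<|a 75005369475662<|a 53620764614065<|a 125372521812016<|a 239455748953142<|a 29914784523398<|a 154024278844689<|a 132784016648002<|c)<|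
 d (a 4449586143240<|a 39633958244400<|a 141674426277981<|a 88029807359341<|a 54238092039321<|a 3732349049252<|a 458228259588<|a 83823468391132<|a 72173353577472<|c)<|
 f);
 (d (a 13228499296264<|a 4449586155568<|a 183836957479429<|a 145937692360878<|a 166122363598448<|a 132067711707840<|a 51701300287808<|a 73371493965844<|a 230392577665734<|c)<|
 d (a 8839042719752<|a 4449586155568<|a 90346959551393<|a 161372468295436<|a 141666792039200<|a 226863166309788<|a 170744922116787<|a 205113506242947<|a 78430972797580<|c)<|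
 d (a 4449586143240<|a 4449586155568<|a 27282045601576<|a 1793694536000<|a 237503643339033<|a 6047751473046<|a 212961847149274<|a 117899379564970<|a 1651187551448<|c)<|
 d (a 26396869025800<|a 39633958244400<|a 54848126621742<|a 63783507764854<|a 57246837117218<|a 48500253878997<|a 183668291954018<|a 7458752138049<|a 240541428160920<|c)<|
 f));
 (let f:=(d (a 8839042719752<|a 215555818655792<|a 5140734810227<|a 72716154241822<|a 182232780545077<|a 133943138576200<|a 190475126750401<|a 76041811790548<|a 227309559166214<|c)<|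
 d (a 4449586143240<|a 215555818655792<|a 226867094662555<|a 205827492390749<|a 152459048321758<|a 229642027259621<|a 168325788021460<|a 177652309623598<|a 98711079859861<|c)<|
 d (a 26396869025800<|a 4449586155568<|a 58002236573185<|a 28194360546504<|a 170164963126366<|a 79303975666242<|a 187519153511528<|a 61993659768946<|a 22897754137425<|c)<|
 d (a 22007412449288<|a 4449586155568<|a 195005821163372<|a 124964951724838<|a 16513481941016<|a 192781053224726<|a 163709563881178<|a 176044482554541<|a 82167380652709<|c)<|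
 d (a 17617955872776<|a 4449586155568<|a 919739929299<|a 70987734403998<|a 152972025157408<|a 721868678379<|a 3371586435221<|a 126047161954820<|a 142593146143020<|c)<|
 f);
 (d (a 26396869025800<|a 215555818655792<|a 94215668310593<|a 22825791411981<|a 81004576761376<|a 44739389873346<|a 147446865664936<|a 183081886835628<|a 29983449310994<|c)<|
 d (a 22007412449288<|a 215555818655792<|a 51990043350225<|a 58327185318282<|a 28813487453509<|a 126265329233257<|a 14666342504373<|a 196525895096413<|a 124829276758285<|c)<|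
 d (a 17617955872776<|a 215555818655792<|a 193665632045619<|a 135113268724824<|a 163876983715941<|a 189379557820424<|a 235328028292865<|a 166477739797110<|a 223517450748736<|c)<|
 d (a 13228499296264<|a 215555818655792<|a 116774366754820<|a 46332065887908<|a 106357970350160<|a 92749607619204<|a 9953155596632<|a 79605951701896<|a 81827775661468<|c)<|
 f))));
 (let f:=(let f:=(let f:=(d (a 22007412449288<|a 180371446566960<|a 181451974808657<|a 230052550500878<|a 53189994226840<|a 239734104319785<|a 132229940680949<|a 130639626945618<|a 148146017200137<|c)<|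
 d (a 17617955872776<|a 180371446566960<|a 120519604437684<|a 163747007508768<|a 123151582566635<|a 89828520758412<|a 222326069150105<|a 124712236212556<|a 222669461736600<|c)<|
 d (a 13228499296264<|a 180371446566960<|a 155598883081651<|a 60888516857883<|a 148783089784861<|a 20732109240654<|a 107002298774281<|a 29503983622387<|a 176475510981236<|c)<|
 d (a 8839042719752<|a 180371446566960<|a 128002950294579<|a 170753941260121<|a 874741357196<|a 149554426384395<|a 158332550590497<|a 87219432074054<|a 83910811764254<|c)<|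
 d (a 4449586143240<|a 180371446566960<|a 198155572416932<|a 127798633189606<|a 123587081325158<|a 79745782803482<|a 44078720927147<|a 73943588301139<|a 152865068434990<|c)<|
 f);
 (d (a 13228499296264<|a 145187074478128<|a 45392922830173<|a 84712554610025<|a 123469921163366<|a 129426034955364<|a 15636964790428<|a 161540794279186<|a 125507595804838<|c)<|
 d (a 8839042719752<|a 145187074478128<|a 5817743655493<|a 141521549532267<|a 122356696503901<|a 98492823811270<|a 82680609397384<|a 181012607111576<|a 185556699207499<|c)<|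
 d (a 4449586143240<|a 145187074478128<|a 236124726035380<|a 27244952492832<|a 212837677080708<|a 150227431589006<|a 20418699480201<|a 241111682041558<|a 18837898217800<|c)<|
 d (a 26396869025800<|a 180371446566960<|a 169426356192925<|a 120518234450859<|a 189585440711753<|a 217055412008741<|a 62281534036180<|a 203164414673556<|a 146966761057388<|c)<|
 f));
 (let f:=(d (a 8839042719752<|a 110002702389296<|a 182713439414093<|a 85386879871785<|a 49179532301680<|a 203149431444917<|a 94121886175382<|a 229148856047816<|a 233763299972497<|c)<|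
 d (a 4449586143240<|a 110002702389296<|a 191219131071046<|a 130578956175284<|a 231124195751856<|a 232028838251267<|a 26838670633312<|a 237688211646643<|a 111283212391963<|c)<|
 d (a 26396869025800<|a 145187074478128<|a 94365371295841<|a 59685223931017<|a 114903852144786<|a 150412368320222<|a 19325796422859<|a 83858901469104<|a 55396866070793<|c)<|
 d (a 22007412449288<|a 145187074478128<|a 81833237877776<|a 190244558804102<|a 11293895965040<|a 198267237853806<|a 58292483689293<|a 72763613861974<|a 233739439374542<|c)<|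
 d (a 17617955872776<|a 145187074478128<|a 222757094370454<|a 192742315070261<|a 98134722647368<|a 94384745045102<|a 115710529725837<|a 231208484689708<|a 128792651012018<|c)<|
 f);
 (d (a 26396869025800<|a 110002702389296<|a 118774612190920<|a 125014072417281<|a 164107665838755<|a 54670181537842<|a 217931415489326<|a 230720618633548<|a 112031729223401<|c)<|
 d (a 22007412449288<|a 110002702389296<|a 170814474889012<|a 133644916838693<|a 176129548703065<|a 111347296785226<|a 50184585300585<|a 196354416233749<|a 90204204216722<|c)<|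
 d (a 17617955872776<|a 110002702389296<|a 77218852222981<|a 42146516716908<|a 59382421889298<|a 131960921312579<|a 118784330948000<|a 7366301321037<|a 192041233439268<|c)<|
 d (a 13228499296264<|a 110002702389296<|a 150396302901403<|a 92820999096155<|a 169490848754077<|a 130047356024099<|a 155902624543908<|a 87329713901873<|a 156040021261475<|c)<|
 f)));
 (let f:=(let f:=(d (a 22007412449288<|a 74818330300464<|a 22200890857588<|a 2624397189734<|a 186123167515315<|a 151802064824845<|a 232272320317265<|a 183791107847508<|a 18418623794326<|c)<|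
 d (a 17617955872776<|a 74818330300464<|a 129351845340577<|a 234314991545417<|a 228784940823942<|a 150954725118621<|a 230491242041427<|a 217895549920145<|a 192214930418862<|c)<|
 d (a 13228499296264<|a 74818330300464<|a 189133239046826<|a 40340849596946<|a 110145749292904<|a 20183823491094<|a 106976721149962<|a 51907565725510<|a 70622166820746<|c)<|
 d (a 8839042719752<|a 74818330300464<|a 61626446333713<|a 81120708350987<|a 88040058295029<|a 77663381270570<|a 117452013441069<|a 123590725946586<|a 57298178205460<|c)<|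
 d (a 4449586143240<|a 74818330300464<|a 121051175990106<|a 119696063039060<|a 97943167878726<|a 54317602392800<|a 181036389343556<|a 177625001058840<|a 148187196533316<|c)<|
 f);
 (d (a 13228499296264<|a 39633958211632<|a 186494531540629<|a 111976580199662<|a 163850276350339<|a 235378372963180<|a 65173340082525<|a 220206018923115<|a 240000665475870<|c)<|
 d (a 8839042719752<|a 39633958211632<|a 237936261640862<|a 58082203903860<|a 154481705457190<|a 113497303632933<|a 86221681192340<|a 189281453280404<|a 160892055852459<|c)<|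
 d (a 4449586143240<|a 39633958211632<|a 224596564240593<|a 204822093579017<|a 91021986650797<|a 125600483286059<|a 226831660162469<|a 129502332435792<|a 87326559377697<|c)<|
 d (a 26396869025800<|a 74818330300464<|a 89656465696268<|a 199659155929637<|a 24577689048604<|a 119110828708084<|a 119866303793182<|a 21313536604070<|a 88145001659554<|c)<|
 f));
 (let f:=(d (a 8839042719752<|a 4449586122800<|a 227516642336873<|a 92511686017357<|a 83823539435156<|a 125084498189587<|a 120613154920354<|a 221847993201579<|a 225962810054053<|c)<|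
 d (a 4449586143240<|a 4449586122800<|a 81462432899201<|a 149845238089805<|a 60722630286440<|a 130328710929600<|a 83954142091648<|a 168484601939558<|a 122300771342341<|c)<|
 d (a 26396869025800<|a 39633958211632<|a 25359026913664<|a 80352651136<|a 45737698283940<|a 47622705908101<|a 217016250927888<|a 147440866047746<|a 28868958489768<|c)<|
 d (a 22007412449288<|a 39633958211632<|a 93473366192243<|a 83661897550364<|a 20425044206981<|a 187383041606923<|a 128409333512865<|a 185068670307533<|a 220550028381339<|c)<|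
 d (a 17617955872776<|a 39633958211632<|a 140952661764182<|a 116892001978229<|a 16632827876996<|a 3010964445739<|a 2566807972709<|a 114371012726058<|a 213761000117594<|c)<|
 f);
 (a (a 26396869025800<|a 4449586122800<|a 41462062797546<|a 97571432478482<|a 166484370567838<|a 239600999147220<|a 62385984284890<|a 135090333346165<|a 182254182684773<|c)<|
 a (a 22007412449288<|a 4449586122800<|a 85858700715627<|a 226328827303257<|a 117405622853777<|a 90471629429334<|a 116321443069258<|a 22915824259718<|a 115015439268425<|c)<|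
 a (a 17617955872776<|a 4449586122800<|a 161891625304737<|a 150163126373192<|a 87070402047277<|a 190847185617691<|a 166259967923811<|a 117262701517059<|a 234500049736416<|c)<|
 a (a 13228499296264<|a 4449586122800<|a 182554904894499<|a 78446509568030<|a 99820616810910<|a 61604125338268<|a 39603255950171<|a 124966907794480<|a 147358595824158<|c)<|
 f))))))))

/-- table -/
def tab4 : List (List Nat) := (beta% delta% lq26c7747f93 fun a c _ _ _ _ _ _ _ =>
 (a (a 26396869025800<|a 35185445834800<|a 151767703215374<|a 157236163561522<|a 116047876574433<|a 24563060778291<|a 23394712216870<|a 113112687106674<|a 129218718523746<|c)<|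
 a (a 26396869025800<|a 211112674988080<|a 205835849308937<|a 82078511446286<|a 182931601080853<|a 112473744140212<|a 169069549230174<|a 143395628696961<|a 75639127239393<|c)<|
 a (a 26396869025800<|a 35185445867568<|a 217516245705265<|a 75537818264713<|a 223656815126368<|a 61897798357709<|a 63271684543193<|a 97612172322153<|a 63958725891352<|c)<|
 a (a 26396869025800<|a 211112675020848<|a 80091287800665<|a 130418441042059<|a 240688559234250<|a 235882129437284<|a 47104424058244<|a 124144311823602<|a 80091286967938<|c)<|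
 a (a 26396869025800<|a 35185445900336<|a 214185457929502<|a 219241450676467<|a 81744200491610<|a 107767323898725<|a 106392934245212<|a 221992604551897<|a 36503075021725<|c)<|
 a (a 26396869025800<|a 211112675053616<|a 218903231129001<|a 111444511613833<|a 163979399024676<|a 205787623888785<|a 76855449524314<|a 22269112427721<|a 62571745209569<|c)<|
 a (a 26396869025800<|a 35185445933104<|a 9371760650393<|a 108032691904521<|a 92801604066077<|a 23261995900005<|a 24361910213700<|a 151631769788819<|a 9371760616194<|c)<|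
 a (a 26396869025800<|a 211112675086384<|a 190081655833766<|a 10132152523376<|a 236711139026794<|a 124457090222686<|a 155721108448667<|a 202690781310293<|a 91333196093156<|c)<|
 a (a 26396869025800<|a 35185445965872<|a 84810128613653<|a 57394228177769<|a 63129722366857<|a 55166786508461<|a 53105537767053<|a 98106794934480<|a 84810119686197<|c)<|
 a (a 26396869025800<|a 211112675119152<|a 240396652907932<|a 42934402136928<|a 185340116706994<|a 218929661608804<|a 63094701771948<|a 178279505244172<|a 240396665473389<|c)<|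
 a (a 26396869025800<|a 35185445998640<|a 195212458809676<|a 187307429761570<|a 93279913152861<|a 191887766070006<|a 191682027078366<|a 192634866252894<|a 195212461421348<|c)<|
 a (a 26396869025800<|a 211112675151920<|a 123450078606549<|a 124274253847788<|a 41805082699809<|a 120572227797546<|a 161865056410645<|a 107771812536612<|a 154176603727784<|c)<|
 a (a 26396869025800<|a 35185446031408<|a 232355144014925<|a 42996037106350<|a 50871389337285<|a 189930142361524<|a 190891996862374<|a 189240763824986<|a 232355134120155<|c)<|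
 a (a 26396869025800<|a 211112675184688<|a 178911984519816<|a 152626323317504<|a 46816045895835<|a 1474552660849<|a 174395755654<|a 193887502681267<|a 178911990810112<|c)<|c))

/-- table -/
def tab5 : List (List Nat) := [

  [26396869025800,211112675016705,48702532471444,205518861845219,60119009547308,195044416827947,85124403313707,161923547617516,48702544295275]]

end Cfsg.Agent.H309.SF.T7
end

-- part: H309/SF/Eng7
section
set_option autoImplicit false
set_option maxRecDepth 100000

/-!
# The tables for `PSp_4(7)`: kernel checks (helper309)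
-/

namespace Cfsg.Agent.H309.SF.T7

open Matrix

/-- entry -/
def ent (A k : Nat) : Nat := Nat.mod (Nat.div A (Nat.pow 8 k)) 8

/-- entry of the product -/
def dot (A B i j : Nat) : Nat :=
  (beta% delta% lq26c7747f93 fun _ _ _ g h _ n _ _ =>
 n (h (h (g (ent A (g 4 i)) (ent B j))
 (g (ent A (h (g 4 i) 1)) (ent B (h 4 j))))
 (h (g (ent A (h (g 4 i) 2)) (ent B (h 8 j)))
 (g (ent A (h (g 4 i) 3)) (ent B (h 12 j))))) 7)

/-- entry of the product `Aᵀ B` -/
def dotT (A B i j : Nat) : Nat :=
  (beta% delta% lq26c7747f93 fun _ _ _ g h _ n _ _ =>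
 n (h (h (g (ent A i) (ent B j))
 (g (ent A (h 4 i)) (ent B (h 4 j))))
 (h (g (ent A (h 8 i)) (ent B (h 8 j)))
 (g (ent A (h 12 i)) (ent B (h 12 j))))) 7)

/-- all pairs -/
def allP (f : Nat → Nat → Bool) : Bool := [0, 1, 2, 3].all fun i => [0, 1, 2, 3].all fun j => f i j

/-- `A B = Z` -/
def chkMul (A B Z : Nat) : Bool := allP fun i j => Nat.beq (dot A B i j) (ent Z (Nat.add (Nat.mul 4 i) j))

/-- `Aᵀ B = Z` -/
def chkMulT (A B Z : Nat) : Bool := allP fun i j => Nat.beq (dotT A B i j) (ent Z (Nat.add (Nat.mul 4 i) j))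

/-- entries -/
def chkE (A : Nat) (l : List Nat) : Bool :=
  allP fun i j => Nat.beq (ent A (Nat.add (Nat.mul 4 i) j)) (Nat.mod (l.getD (Nat.add (Nat.mul 4 i) j) 0) 7)

/-- an off-diagonal entry -/
def off (A : Nat) : Bool :=
  (beta% delta% lq26c7747f93 fun a c _ _ _ _ n o _ =>
 (a 1<|a 2<|a 3<|a 4<|a 6<|a 7<|a 8<|a 9<|a 11<|a 12<|a 13<|a 14<|c).any fun k => !(o (n (ent A k) 7) 0))

/-- the code of the identity -/
def oneC : Nat := 1 + 8 ^ 5 + 8 ^ 10 + 8 ^ 15

/-- the check of a row -/
def core (gl cl : List Nat) (row : List Nat) : Bool :=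
  match row with
  | [G, C, X, XG, X2, X4, Y0, Y2, Y4] =>
    chkE G gl && (chkE C cl && (chkMulT X G XG && (chkMul XG X G && (chkMul X X X2 && (chkMul X2 X2 X4 &&
      (chkMul X4 X oneC && (chkMul X4 C Y0 && (chkMul Y0 Y0 Y2 && (chkMul Y2 Y2 Y4 &&
        ((chkMul Y4 Y0 oneC || chkMul Y4 Y0 (6 * oneC)) && (off X && off Y0)))))))))))
  | _ => false

/-- go through a list -/
def go (chk : Nat → List Nat → Bool) : Nat → List (List Nat) → Bool
  | _, [] => true
  | n, r :: rs => chk n r && go chk (n + 1) rs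

theorem go_spec (chk : Nat → List Nat → Bool) : ∀ (l : List (List Nat)) (n : Nat), go chk n l = true →
    ∀ k < l.length, chk (n + k) (l.getD k []) = true
  | [], _, _, k, hk => absurd hk (by simp)
  | r :: rs, n, h, k, hk => by
    simp only [go, Bool.and_eq_true] at h
    rcases k with _ | k
    · simpa using h.1
    · have := go_spec chk rs (n + 1) h.2 k (by simpa using hk)
      rw [show n + (k + 1) = n + 1 + k by ring]
      simpa only [_root_.List.getD_eq_getElem?_getD, _root_.List.getElem?_cons_succ] using this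

/-- lists of entries -/
def gl1 (b s p : Nat) : List Nat :=
  (beta% delta% lq26c7747f93 fun a c _ _ _ _ _ _ _ =>
 (a 0<|a 1<|a b<|a (s * b + 6 * p + 1)<|a 6<|a 0<|a 1<|a b<|a (6 * b)<|a 6<|a 0<|a 1<|a (6 * (s * b + 6 * p + 1))<|a (6 * b)<|a 6<|a 0<|c))
/-- lists of entries -/
def cl1 (s p : Nat) : List Nat := (beta% delta% lq26c7747f93 fun a c _ _ _ _ _ _ _ =>
 (a 0<|a 0<|a 0<|a 6<|a 1<|a 0<|a 0<|a s<|a 0<|a 1<|a 0<|a (6 * p)<|a 0<|a 0<|a 1<|a s<|c))
/-- lists of entries -/
def gl2 (e : Nat) : List Nat := (beta% delta% lq26c7747f93 fun a c _ _ _ _ _ _ _ =>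
 (a 0<|a 1<|a 0<|a 0<|a 6<|a 0<|a 0<|a 0<|a 0<|a 0<|a 0<|a e<|a 0<|a 0<|a (6 * e)<|a 0<|c))
/-- lists of entries -/
def cl2 (b l y : Nat) : List Nat := (beta% delta% lq26c7747f93 fun a c _ _ _ _ _ _ _ =>
 (a 0<|a 6<|a 0<|a 0<|a 1<|a b<|a 0<|a (l ^ 5)<|a 0<|a 1<|a l<|a y<|a 0<|a 0<|a 0<|a (l ^ 5)<|c))
/-- lists of entries -/
def cl3 (b b' : Nat) : List Nat := (beta% delta% lq26c7747f93 fun a c _ _ _ _ _ _ _ =>
 (a 0<|a 6<|a 0<|a 0<|a 1<|a b<|a 0<|a 0<|a 0<|a 0<|a 0<|a 6<|a 0<|a 0<|a 1<|a b'<|c))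
/-- lists of entries -/
def cl4 (b e : Nat) : List Nat := (beta% delta% lq26c7747f93 fun a c _ _ _ _ _ _ _ =>
 (a 0<|a 6<|a 0<|a 0<|a 1<|a b<|a 0<|a 0<|a 0<|a 0<|a e<|a 0<|a 0<|a 0<|a 0<|a e<|c))
/-- lists of entries -/
def cl5 : List Nat := (beta% delta% lq26c7747f93 fun a c _ _ _ _ _ _ _ =>
 (a 1<|a 0<|a 0<|a 0<|a 0<|a 1<|a 0<|a 0<|a 0<|a 0<|a 6<|a 0<|a 0<|a 0<|a 0<|a 6<|c))

/-- the checks -/
def chk1 (n : Nat) (row : List Nat) : Bool :=
  Nat.beq ((1 + 6 * (n / 49) * (n / 49) + (n / 7 % 7 * (n / 49) + 6 * (n % 7) + 1)) % 7) 0 ||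
    core (gl1 (n / 49) (n / 7 % 7) (n % 7)) (cl1 (n / 7 % 7) (n % 7)) row
/-- the checks -/
def chk2 (n : Nat) (row : List Nat) : Bool := core (gl2 1) (cl2 (n / 42) (n / 7 % 6 + 1) (n % 7)) row
/-- the checks -/
def chk3 (n : Nat) (row : List Nat) : Bool := core (gl2 (n % 6 + 1)) (cl3 (n / 42) (n / 6 % 7)) row
/-- the checks -/
def chk4 (n : Nat) (row : List Nat) : Bool := core (gl2 1) (cl4 (n / 2) (5 * (n % 2) + 1)) row
/-- the checks -/
def chk5 (_ : Nat) (row : List Nat) : Bool := core (gl2 1) cl5 row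

private theorem band (a b : Bool) : @Bool.rec (fun _ => Bool) false b a = (a && b) := by cases a <;> rfl

private def en (A k : Nat) : Nat := Nat.land (Nat.shiftRight A k) 7

private theorem en_eq (A k : Nat) : ent A k = en A (3 * k) := by
  show A / (2 ^ 3) ^ k % 2 ^ 3 = (A >>> (3 * k)) &&& (2 ^ 3 - 1)
  rw [Nat.and_two_pow_sub_one_eq_mod, Nat.shiftRight_eq_div_pow, pow_mul]

private noncomputable def mulF (a0 a1 a2 a3 a4 a5 a6 a7 a8 a9 a10 a11 a12 a13 a14 a15 b0 b1 b2 b3 b4 b5 b6 b7 b8 b9 b10 b11 b12 b13 b14 b15 z0 z1 z2 z3 z4 z5 z6 z7 z8 z9 z10 z11 z12 z13 z14 z15 : Nat) : Bool :=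
  (@Bool.rec (fun _ => Bool) false
   (@Bool.rec (fun _ => Bool) false
   (@Bool.rec (fun _ => Bool) false
   (@Bool.rec (fun _ => Bool) false
   (@Bool.rec (fun _ => Bool) false
   (@Bool.rec (fun _ => Bool) false
   (@Bool.rec (fun _ => Bool) false
   (@Bool.rec (fun _ => Bool) false
   (@Bool.rec (fun _ => Bool) false
   (@Bool.rec (fun _ => Bool) false
   (@Bool.rec (fun _ => Bool) false
   (@Bool.rec (fun _ => Bool) false
   (@Bool.rec (fun _ => Bool) false
   (@Bool.rec (fun _ => Bool) false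
   (@Bool.rec (fun _ => Bool) false
   (Nat.beq (Nat.mod (Nat.add (Nat.add (Nat.mul a12 b3) (Nat.mul a13 b7)) (Nat.add (Nat.mul a14 b11) (Nat.mul a15 b15))) 7) z15) (Nat.beq (Nat.mod (Nat.add (Nat.add (Nat.mul a12 b2) (Nat.mul a13 b6)) (Nat.add (Nat.mul a14 b10) (Nat.mul a15 b14))) 7) z14)) (Nat.beq (Nat.mod (Nat.add (Nat.add (Nat.mul a12 b1) (Nat.mul a13 b5)) (Nat.add (Nat.mul a14 b9) (Nat.mul a15 b13))) 7) z13)) (Nat.beq (Nat.mod (Nat.add (Nat.add (Nat.mul a12 b0) (Nat.mul a13 b4)) (Nat.add (Nat.mul a14 b8) (Nat.mul a15 b12))) 7) z12)) (Nat.beq (Nat.mod (Nat.add (Nat.add (Nat.mul a8 b3) (Nat.mul a9 b7)) (Nat.add (Nat.mul a10 b11) (Nat.mul a11 b15))) 7) z11)) (Nat.beq (Nat.mod (Nat.add (Nat.add (Nat.mul a8 b2) (Nat.mul a9 b6)) (Nat.add (Nat.mul a10 b10) (Nat.mul a11 b14))) 7) z10)) (Nat.beq (Nat.mod (Nat.add (Nat.add (Nat.mul a8 b1) (Nat.mul a9 b5)) (Nat.add (Nat.mul a10 b9) (Nat.mul a11 b13))) 7) z9)) (Nat.beq (Nat.mod (Nat.add (Nat.add (Nat.mul a8 b0) (Nat.mul a9 b4)) (Nat.add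 (Nat.mul a10 b8) (Nat.mul a11 b12))) 7) z8)) (Nat.beq (Nat.mod (Nat.add (Nat.add (Nat.mul a4 b3) (Nat.mul a5 b7)) (Nat.add (Nat.mul a6 b11) (Nat.mul a7 b15))) 7) z7)) (Nat.beq (Nat.mod (Nat.add (Nat.add (Nat.mul a4 b2) (Nat.mul a5 b6)) (Nat.add (Nat.mul a6 b10) (Nat.mul a7 b14))) 7) z6)) (Nat.beq (Nat.mod (Nat.add (Nat.add (Nat.mul a4 b1) (Nat.mul a5 b5)) (Nat.add (Nat.mul a6 b9) (Nat.mul a7 b13))) 7) z5)) (Nat.beq (Nat.mod (Nat.add (Nat.add (Nat.mul a4 b0) (Nat.mul a5 b4)) (Nat.add (Nat.mul a6 b8) (Nat.mul a7 b12))) 7) z4)) (Nat.beq (Nat.mod (Nat.add (Nat.add (Nat.mul a0 b3) (Nat.mul a1 b7)) (Nat.add (Nat.mul a2 b11) (Nat.mul a3 b15))) 7) z3)) (Nat.beq (Nat.mod (Nat.add (Nat.add (Nat.mul a0 b2) (Nat.mul a1 b6)) (Nat.add (Nat.mul a2 b10) (Nat.mul a3 b14))) 7) z2)) (Nat.beq (Nat.mod (Nat.add (Nat.add (Nat.mul a0 b1) (Nat.mul a1 b5)) (Nat.add (Nat.mul a2 b9) (Nat.mul a3 b13))) 7) z1)) (Nat.beq (Nat.mod (Nat.add (Nat.add (Nat.mul a0 b0) (Nat.mul a1 b4)) (Nat.add (Nat.mul a2 b8) (Nat.mul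 a3 b12))) 7) z0))

private noncomputable def entF (a0 a1 a2 a3 a4 a5 a6 a7 a8 a9 a10 a11 a12 a13 a14 a15 l0 l1 l2 l3 l4 l5 l6 l7 l8 l9 l10 l11 l12 l13 l14 l15 : Nat) : Bool :=
  (@Bool.rec (fun _ => Bool) false
   (@Bool.rec (fun _ => Bool) false
   (@Bool.rec (fun _ => Bool) false
   (@Bool.rec (fun _ => Bool) false
   (@Bool.rec (fun _ => Bool) false
   (@Bool.rec (fun _ => Bool) false
   (@Bool.rec (fun _ => Bool) false
   (@Bool.rec (fun _ => Bool) false
   (@Bool.rec (fun _ => Bool) false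
   (@Bool.rec (fun _ => Bool) false
   (@Bool.rec (fun _ => Bool) false
   (@Bool.rec (fun _ => Bool) false
   (@Bool.rec (fun _ => Bool) false
   (@Bool.rec (fun _ => Bool) false
   (@Bool.rec (fun _ => Bool) false
   (Nat.beq a15 (Nat.mod l15 7)) (Nat.beq a14 (Nat.mod l14 7))) (Nat.beq a13 (Nat.mod l13 7))) (Nat.beq a12 (Nat.mod l12 7))) (Nat.beq a11 (Nat.mod l11 7))) (Nat.beq a10 (Nat.mod l10 7))) (Nat.beq a9 (Nat.mod l9 7))) (Nat.beq a8 (Nat.mod l8 7))) (Nat.beq a7 (Nat.mod l7 7))) (Nat.beq a6 (Nat.mod l6 7))) (Nat.beq a5 (Nat.mod l5 7))) (Nat.beq a4 (Nat.mod l4 7))) (Nat.beq a3 (Nat.mod l3 7))) (Nat.beq a2 (Nat.mod l2 7))) (Nat.beq a1 (Nat.mod l1 7))) (Nat.beq a0 (Nat.mod l0 7)))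

private theorem mul_eq (A B Z : Nat) : chkMul A B Z = mulF (en A (nat_lit 0)) (en A (nat_lit 3)) (en A (nat_lit 6)) (en A (nat_lit 9)) (en A (nat_lit 12)) (en A (nat_lit 15)) (en A (nat_lit 18)) (en A (nat_lit 21)) (en A (nat_lit 24)) (en A (nat_lit 27)) (en A (nat_lit 30)) (en A (nat_lit 33)) (en A (nat_lit 36)) (en A (nat_lit 39)) (en A (nat_lit 42)) (en A (nat_lit 45))
    (en B (nat_lit 0)) (en B (nat_lit 3)) (en B (nat_lit 6)) (en B (nat_lit 9)) (en B (nat_lit 12)) (en B (nat_lit 15)) (en B (nat_lit 18)) (en B (nat_lit 21)) (en B (nat_lit 24)) (en B (nat_lit 27)) (en B (nat_lit 30)) (en B (nat_lit 33)) (en B (nat_lit 36)) (en B (nat_lit 39)) (en B (nat_lit 42)) (en B (nat_lit 45))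
    (en Z (nat_lit 0)) (en Z (nat_lit 3)) (en Z (nat_lit 6)) (en Z (nat_lit 9)) (en Z (nat_lit 12)) (en Z (nat_lit 15)) (en Z (nat_lit 18)) (en Z (nat_lit 21)) (en Z (nat_lit 24)) (en Z (nat_lit 27)) (en Z (nat_lit 30)) (en Z (nat_lit 33)) (en Z (nat_lit 36)) (en Z (nat_lit 39)) (en Z (nat_lit 42)) (en Z (nat_lit 45)) := by
  have e : chkMul A B Z = mulF (ent A 0) (ent A 1) (ent A 2) (ent A 3) (ent A 4) (ent A 5) (ent A 6) (ent A 7) (ent A 8) (ent A 9) (ent A 10) (ent A 11) (ent A 12) (ent A 13) (ent A 14) (ent A 15)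
      (ent B 0) (ent B 1) (ent B 2) (ent B 3) (ent B 4) (ent B 5) (ent B 6) (ent B 7) (ent B 8) (ent B 9) (ent B 10) (ent B 11) (ent B 12) (ent B 13) (ent B 14) (ent B 15)
      (ent Z 0) (ent Z 1) (ent Z 2) (ent Z 3) (ent Z 4) (ent Z 5) (ent Z 6) (ent Z 7) (ent Z 8) (ent Z 9) (ent Z 10) (ent Z 11) (ent Z 12) (ent Z 13) (ent Z 14) (ent Z 15) := by
    unfold mulF
    simp only [band, ← Bool.and_assoc]
    refine Eq.trans (b := ((beta% delta% lq26c7747f93 fun _ _ _ g h m n o q =>
 m (m (o (n (h (h (g (ent A 0) (ent B 0)) (g (ent A 1) (ent B 4))) (h (g (ent A 2) (ent B 8)) (g (ent A 3) (ent B 12)))) 7) (ent Z 0))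
 (m (o (n (h (h (g (ent A 0) (ent B 1)) (g (ent A 1) (ent B 5))) (h (g (ent A 2) (ent B 9)) (g (ent A 3) (ent B 13)))) 7) (ent Z 1))
 (m (o (n (h (h (g (ent A 0) (ent B 2)) (g (ent A 1) (ent B 6))) (h (g (ent A 2) (ent B 10)) (g (ent A 3) (ent B 14)))) 7) (ent Z 2))
 (m (o (n (h (h (g (ent A 0) (ent B 3)) (g (ent A 1) (ent B 7))) (h (g (ent A 2) (ent B 11)) (g (ent A 3) (ent B 15)))) 7) (ent Z 3))
 q))))
 (m (m (o (n (h (h (g (ent A 4) (ent B 0)) (g (ent A 5) (ent B 4))) (h (g (ent A 6) (ent B 8)) (g (ent A 7) (ent B 12)))) 7) (ent Z 4))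
 (m (o (n (h (h (g (ent A 4) (ent B 1)) (g (ent A 5) (ent B 5))) (h (g (ent A 6) (ent B 9)) (g (ent A 7) (ent B 13)))) 7) (ent Z 5))
 (m (o (n (h (h (g (ent A 4) (ent B 2)) (g (ent A 5) (ent B 6))) (h (g (ent A 6) (ent B 10)) (g (ent A 7) (ent B 14)))) 7) (ent Z 6))
 (m (o (n (h (h (g (ent A 4) (ent B 3)) (g (ent A 5) (ent B 7))) (h (g (ent A 6) (ent B 11)) (g (ent A 7) (ent B 15)))) 7) (ent Z 7))
 q))))
 (m (m (o (n (h (h (g (ent A 8) (ent B 0)) (g (ent A 9) (ent B 4))) (h (g (ent A 10) (ent B 8)) (g (ent A 11) (ent B 12)))) 7) (ent Z 8))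
 (m (o (n (h (h (g (ent A 8) (ent B 1)) (g (ent A 9) (ent B 5))) (h (g (ent A 10) (ent B 9)) (g (ent A 11) (ent B 13)))) 7) (ent Z 9))
 (m (o (n (h (h (g (ent A 8) (ent B 2)) (g (ent A 9) (ent B 6))) (h (g (ent A 10) (ent B 10)) (g (ent A 11) (ent B 14)))) 7) (ent Z 10))
 (m (o (n (h (h (g (ent A 8) (ent B 3)) (g (ent A 9) (ent B 7))) (h (g (ent A 10) (ent B 11)) (g (ent A 11) (ent B 15)))) 7) (ent Z 11))
 q))))
 (m (m (o (n (h (h (g (ent A 12) (ent B 0)) (g (ent A 13) (ent B 4))) (h (g (ent A 14) (ent B 8)) (g (ent A 15) (ent B 12)))) 7) (ent Z 12))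
 (m (o (n (h (h (g (ent A 12) (ent B 1)) (g (ent A 13) (ent B 5))) (h (g (ent A 14) (ent B 9)) (g (ent A 15) (ent B 13)))) 7) (ent Z 13))
 (m (o (n (h (h (g (ent A 12) (ent B 2)) (g (ent A 13) (ent B 6))) (h (g (ent A 14) (ent B 10)) (g (ent A 15) (ent B 14)))) 7) (ent Z 14))
 (m (o (n (h (h (g (ent A 12) (ent B 3)) (g (ent A 13) (ent B 7))) (h (g (ent A 14) (ent B 11)) (g (ent A 15) (ent B 15)))) 7) (ent Z 15))
 q))))
 q))) :
 Bool))) rfl ?_
    simp only [Bool.and_true, ← Bool.and_assoc]
  rw [e]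
  simp only [en_eq]

private theorem mulT_eq (A B Z : Nat) : chkMulT A B Z = mulF (en A (nat_lit 0)) (en A (nat_lit 12)) (en A (nat_lit 24)) (en A (nat_lit 36)) (en A (nat_lit 3)) (en A (nat_lit 15)) (en A (nat_lit 27)) (en A (nat_lit 39)) (en A (nat_lit 6)) (en A (nat_lit 18)) (en A (nat_lit 30)) (en A (nat_lit 42)) (en A (nat_lit 9)) (en A (nat_lit 21)) (en A (nat_lit 33)) (en A (nat_lit 45))
    (en B (nat_lit 0)) (en B (nat_lit 3)) (en B (nat_lit 6)) (en B (nat_lit 9)) (en B (nat_lit 12)) (en B (nat_lit 15)) (en B (nat_lit 18)) (en B (nat_lit 21)) (en B (nat_lit 24)) (en B (nat_lit 27)) (en B (nat_lit 30)) (en B (nat_lit 33)) (en B (nat_lit 36)) (en B (nat_lit 39)) (en B (nat_lit 42)) (en B (nat_lit 45))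
    (en Z (nat_lit 0)) (en Z (nat_lit 3)) (en Z (nat_lit 6)) (en Z (nat_lit 9)) (en Z (nat_lit 12)) (en Z (nat_lit 15)) (en Z (nat_lit 18)) (en Z (nat_lit 21)) (en Z (nat_lit 24)) (en Z (nat_lit 27)) (en Z (nat_lit 30)) (en Z (nat_lit 33)) (en Z (nat_lit 36)) (en Z (nat_lit 39)) (en Z (nat_lit 42)) (en Z (nat_lit 45)) := by
  have e : chkMulT A B Z = mulF (ent A 0) (ent A 4) (ent A 8) (ent A 12) (ent A 1) (ent A 5) (ent A 9) (ent A 13) (ent A 2) (ent A 6) (ent A 10) (ent A 14) (ent A 3) (ent A 7) (ent A 11) (ent A 15)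
      (ent B 0) (ent B 1) (ent B 2) (ent B 3) (ent B 4) (ent B 5) (ent B 6) (ent B 7) (ent B 8) (ent B 9) (ent B 10) (ent B 11) (ent B 12) (ent B 13) (ent B 14) (ent B 15)
      (ent Z 0) (ent Z 1) (ent Z 2) (ent Z 3) (ent Z 4) (ent Z 5) (ent Z 6) (ent Z 7) (ent Z 8) (ent Z 9) (ent Z 10) (ent Z 11) (ent Z 12) (ent Z 13) (ent Z 14) (ent Z 15) := by
    unfold mulF
    simp only [band, ← Bool.and_assoc]
    refine Eq.trans (b := ((beta% delta% lq26c7747f93 fun _ _ _ g h m n o q =>
 m (m (o (n (h (h (g (ent A 0) (ent B 0)) (g (ent A 4) (ent B 4))) (h (g (ent A 8) (ent B 8)) (g (ent A 12) (ent B 12)))) 7) (ent Z 0))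
 (m (o (n (h (h (g (ent A 0) (ent B 1)) (g (ent A 4) (ent B 5))) (h (g (ent A 8) (ent B 9)) (g (ent A 12) (ent B 13)))) 7) (ent Z 1))
 (m (o (n (h (h (g (ent A 0) (ent B 2)) (g (ent A 4) (ent B 6))) (h (g (ent A 8) (ent B 10)) (g (ent A 12) (ent B 14)))) 7) (ent Z 2))
 (m (o (n (h (h (g (ent A 0) (ent B 3)) (g (ent A 4) (ent B 7))) (h (g (ent A 8) (ent B 11)) (g (ent A 12) (ent B 15)))) 7) (ent Z 3))
 q))))
 (m (m (o (n (h (h (g (ent A 1) (ent B 0)) (g (ent A 5) (ent B 4))) (h (g (ent A 9) (ent B 8)) (g (ent A 13) (ent B 12)))) 7) (ent Z 4))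
 (m (o (n (h (h (g (ent A 1) (ent B 1)) (g (ent A 5) (ent B 5))) (h (g (ent A 9) (ent B 9)) (g (ent A 13) (ent B 13)))) 7) (ent Z 5))
 (m (o (n (h (h (g (ent A 1) (ent B 2)) (g (ent A 5) (ent B 6))) (h (g (ent A 9) (ent B 10)) (g (ent A 13) (ent B 14)))) 7) (ent Z 6))
 (m (o (n (h (h (g (ent A 1) (ent B 3)) (g (ent A 5) (ent B 7))) (h (g (ent A 9) (ent B 11)) (g (ent A 13) (ent B 15)))) 7) (ent Z 7))
 q))))
 (m (m (o (n (h (h (g (ent A 2) (ent B 0)) (g (ent A 6) (ent B 4))) (h (g (ent A 10) (ent B 8)) (g (ent A 14) (ent B 12)))) 7) (ent Z 8))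
 (m (o (n (h (h (g (ent A 2) (ent B 1)) (g (ent A 6) (ent B 5))) (h (g (ent A 10) (ent B 9)) (g (ent A 14) (ent B 13)))) 7) (ent Z 9))
 (m (o (n (h (h (g (ent A 2) (ent B 2)) (g (ent A 6) (ent B 6))) (h (g (ent A 10) (ent B 10)) (g (ent A 14) (ent B 14)))) 7) (ent Z 10))
 (m (o (n (h (h (g (ent A 2) (ent B 3)) (g (ent A 6) (ent B 7))) (h (g (ent A 10) (ent B 11)) (g (ent A 14) (ent B 15)))) 7) (ent Z 11))
 q))))
 (m (m (o (n (h (h (g (ent A 3) (ent B 0)) (g (ent A 7) (ent B 4))) (h (g (ent A 11) (ent B 8)) (g (ent A 15) (ent B 12)))) 7) (ent Z 12))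
 (m (o (n (h (h (g (ent A 3) (ent B 1)) (g (ent A 7) (ent B 5))) (h (g (ent A 11) (ent B 9)) (g (ent A 15) (ent B 13)))) 7) (ent Z 13))
 (m (o (n (h (h (g (ent A 3) (ent B 2)) (g (ent A 7) (ent B 6))) (h (g (ent A 11) (ent B 10)) (g (ent A 15) (ent B 14)))) 7) (ent Z 14))
 (m (o (n (h (h (g (ent A 3) (ent B 3)) (g (ent A 7) (ent B 7))) (h (g (ent A 11) (ent B 11)) (g (ent A 15) (ent B 15)))) 7) (ent Z 15))
 q))))
 q))) :
 Bool))) rfl ?_
    simp only [Bool.and_true, ← Bool.and_assoc]
  rw [e]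
  simp only [en_eq]

private theorem ent_eq (A l0 l1 l2 l3 l4 l5 l6 l7 l8 l9 l10 l11 l12 l13 l14 l15 : Nat) : (beta% delta% lq26c7747f93 fun a c _ _ _ _ _ _ _ =>
 chkE A (a l0<|a l1<|a l2<|a l3<|a l4<|a l5<|a l6<|a l7<|a l8<|a l9<|a l10<|a l11<|a l12<|a l13<|a l14<|a l15<|c) :
 Bool) = entF (en A (nat_lit 0)) (en A (nat_lit 3)) (en A (nat_lit 6)) (en A (nat_lit 9)) (en A (nat_lit 12)) (en A (nat_lit 15)) (en A (nat_lit 18)) (en A (nat_lit 21)) (en A (nat_lit 24)) (en A (nat_lit 27)) (en A (nat_lit 30)) (en A (nat_lit 33)) (en A (nat_lit 36)) (en A (nat_lit 39)) (en A (nat_lit 42)) (en A (nat_lit 45))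
    l0 l1 l2 l3 l4 l5 l6 l7 l8 l9 l10 l11 l12 l13 l14 l15 := by
  have e : (beta% delta% lq26c7747f93 fun a c _ _ _ _ _ _ _ =>
 chkE A (a l0<|a l1<|a l2<|a l3<|a l4<|a l5<|a l6<|a l7<|a l8<|a l9<|a l10<|a l11<|a l12<|a l13<|a l14<|a l15<|c) :
 Bool) = entF (ent A 0) (ent A 1) (ent A 2) (ent A 3) (ent A 4) (ent A 5) (ent A 6) (ent A 7) (ent A 8) (ent A 9) (ent A 10) (ent A 11) (ent A 12) (ent A 13) (ent A 14) (ent A 15)
      l0 l1 l2 l3 l4 l5 l6 l7 l8 l9 l10 l11 l12 l13 l14 l15 := by
    unfold entF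
    simp only [band, ← Bool.and_assoc]
    refine Eq.trans (b := ((beta% delta% lq26c7747f93 fun _ _ _ _ _ m n o q =>
 m (m (o (ent A 0) (n l0 7))
 (m (o (ent A 1) (n l1 7))
 (m (o (ent A 2) (n l2 7))
 (m (o (ent A 3) (n l3 7))
 q))))
 (m (m (o (ent A 4) (n l4 7))
 (m (o (ent A 5) (n l5 7))
 (m (o (ent A 6) (n l6 7))
 (m (o (ent A 7) (n l7 7))
 q))))
 (m (m (o (ent A 8) (n l8 7))
 (m (o (ent A 9) (n l9 7))
 (m (o (ent A 10) (n l10 7))
 (m (o (ent A 11) (n l11 7))
 q))))
 (m (m (o (ent A 12) (n l12 7))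
 (m (o (ent A 13) (n l13 7))
 (m (o (ent A 14) (n l14 7))
 (m (o (ent A 15) (n l15 7))
 q))))
 q))) :
 Bool))) rfl ?_
    simp only [Bool.and_true, ← Bool.and_assoc]
  rw [e]
  simp only [en_eq]

private noncomputable def bodyF (o : Bool) (g0 g1 g2 g3 g4 g5 g6 g7 g8 g9 g10 g11 g12 g13 g14 g15
    c0 c1 c2 c3 c4 c5 c6 c7 c8 c9 c10 c11 c12 c13 c14 c15
    m0 m1 m2 m3 m4 m5 m6 m7 m8 m9 m10 m11 m12 m13 m14 m15
    d0 d1 d2 d3 d4 d5 d6 d7 d8 d9 d10 d11 d12 d13 d14 d15
    x0 x1 x2 x3 x4 x5 x6 x7 x8 x9 x10 x11 x12 x13 x14 x15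
    t0 t1 t2 t3 t4 t5 t6 t7 t8 t9 t10 t11 t12 t13 t14 t15
    u0 u1 u2 u3 u4 u5 u6 u7 u8 u9 u10 u11 u12 u13 u14 u15
    v0 v1 v2 v3 v4 v5 v6 v7 v8 v9 v10 v11 v12 v13 v14 v15
    y0 y1 y2 y3 y4 y5 y6 y7 y8 y9 y10 y11 y12 y13 y14 y15
    p0 p1 p2 p3 p4 p5 p6 p7 p8 p9 p10 p11 p12 p13 p14 p15
    q0 q1 q2 q3 q4 q5 q6 q7 q8 q9 q10 q11 q12 q13 q14 q15 : Nat) : Bool :=
  entF m0 m1 m2 m3 m4 m5 m6 m7 m8 m9 m10 m11 m12 m13 m14 m15 g0 g1 g2 g3 g4 g5 g6 g7 g8 g9 g10 g11 g12 g13 g14 g15 &&
    (entF d0 d1 d2 d3 d4 d5 d6 d7 d8 d9 d10 d11 d12 d13 d14 d15 c0 c1 c2 c3 c4 c5 c6 c7 c8 c9 c10 c11 c12 c13 c14 c15 &&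
    (mulF x0 x4 x8 x12 x1 x5 x9 x13 x2 x6 x10 x14 x3 x7 x11 x15 m0 m1 m2 m3 m4 m5 m6 m7 m8 m9 m10 m11 m12 m13 m14 m15 t0 t1 t2 t3 t4 t5 t6 t7 t8 t9 t10 t11 t12 t13 t14 t15 &&
    (mulF t0 t1 t2 t3 t4 t5 t6 t7 t8 t9 t10 t11 t12 t13 t14 t15 x0 x1 x2 x3 x4 x5 x6 x7 x8 x9 x10 x11 x12 x13 x14 x15 m0 m1 m2 m3 m4 m5 m6 m7 m8 m9 m10 m11 m12 m13 m14 m15 &&
    (mulF x0 x1 x2 x3 x4 x5 x6 x7 x8 x9 x10 x11 x12 x13 x14 x15 x0 x1 x2 x3 x4 x5 x6 x7 x8 x9 x10 x11 x12 x13 x14 x15 u0 u1 u2 u3 u4 u5 u6 u7 u8 u9 u10 u11 u12 u13 u14 u15 &&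
    (mulF u0 u1 u2 u3 u4 u5 u6 u7 u8 u9 u10 u11 u12 u13 u14 u15 u0 u1 u2 u3 u4 u5 u6 u7 u8 u9 u10 u11 u12 u13 u14 u15 v0 v1 v2 v3 v4 v5 v6 v7 v8 v9 v10 v11 v12 v13 v14 v15 &&
    (mulF v0 v1 v2 v3 v4 v5 v6 v7 v8 v9 v10 v11 v12 v13 v14 v15 x0 x1 x2 x3 x4 x5 x6 x7 x8 x9 x10 x11 x12 x13 x14 x15 1 0 0 0 0 1 0 0 0 0 1 0 0 0 0 1 &&
    (mulF v0 v1 v2 v3 v4 v5 v6 v7 v8 v9 v10 v11 v12 v13 v14 v15 d0 d1 d2 d3 d4 d5 d6 d7 d8 d9 d10 d11 d12 d13 d14 d15 y0 y1 y2 y3 y4 y5 y6 y7 y8 y9 y10 y11 y12 y13 y14 y15 &&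
    (mulF y0 y1 y2 y3 y4 y5 y6 y7 y8 y9 y10 y11 y12 y13 y14 y15 y0 y1 y2 y3 y4 y5 y6 y7 y8 y9 y10 y11 y12 y13 y14 y15 p0 p1 p2 p3 p4 p5 p6 p7 p8 p9 p10 p11 p12 p13 p14 p15 &&
    (mulF p0 p1 p2 p3 p4 p5 p6 p7 p8 p9 p10 p11 p12 p13 p14 p15 p0 p1 p2 p3 p4 p5 p6 p7 p8 p9 p10 p11 p12 p13 p14 p15 q0 q1 q2 q3 q4 q5 q6 q7 q8 q9 q10 q11 q12 q13 q14 q15 &&
    ((mulF q0 q1 q2 q3 q4 q5 q6 q7 q8 q9 q10 q11 q12 q13 q14 q15 y0 y1 y2 y3 y4 y5 y6 y7 y8 y9 y10 y11 y12 y13 y14 y15 1 0 0 0 0 1 0 0 0 0 1 0 0 0 0 1 ||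
      mulF q0 q1 q2 q3 q4 q5 q6 q7 q8 q9 q10 q11 q12 q13 q14 q15 y0 y1 y2 y3 y4 y5 y6 y7 y8 y9 y10 y11 y12 y13 y14 y15 6 0 0 0 0 6 0 0 0 0 6 0 0 0 0 6) &&
    (o)))))))))))

private noncomputable def coreF (g0 g1 g2 g3 g4 g5 g6 g7 g8 g9 g10 g11 g12 g13 g14 g15 c0 c1 c2 c3 c4 c5 c6 c7 c8 c9 c10 c11 c12 c13 c14 c15 : Nat) (row : List Nat) : Bool :=
  match row with
  | [G, C, X, XG, X2, X4, Y0, Y2, Y4] =>
    bodyF (off X && off Y0) g0 g1 g2 g3 g4 g5 g6 g7 g8 g9 g10 g11 g12 g13 g14 g15 c0 c1 c2 c3 c4 c5 c6 c7 c8 c9 c10 c11 c12 c13 c14 c15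
      (en G (nat_lit 0)) (en G (nat_lit 3)) (en G (nat_lit 6)) (en G (nat_lit 9)) (en G (nat_lit 12)) (en G (nat_lit 15)) (en G (nat_lit 18)) (en G (nat_lit 21)) (en G (nat_lit 24)) (en G (nat_lit 27)) (en G (nat_lit 30)) (en G (nat_lit 33)) (en G (nat_lit 36)) (en G (nat_lit 39)) (en G (nat_lit 42)) (en G (nat_lit 45))
      (en C (nat_lit 0)) (en C (nat_lit 3)) (en C (nat_lit 6)) (en C (nat_lit 9)) (en C (nat_lit 12)) (en C (nat_lit 15)) (en C (nat_lit 18)) (en C (nat_lit 21)) (en C (nat_lit 24)) (en C (nat_lit 27)) (en C (nat_lit 30)) (en C (nat_lit 33)) (en C (nat_lit 36)) (en C (nat_lit 39)) (en C (nat_lit 42)) (en C (nat_lit 45))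
      (en X (nat_lit 0)) (en X (nat_lit 3)) (en X (nat_lit 6)) (en X (nat_lit 9)) (en X (nat_lit 12)) (en X (nat_lit 15)) (en X (nat_lit 18)) (en X (nat_lit 21)) (en X (nat_lit 24)) (en X (nat_lit 27)) (en X (nat_lit 30)) (en X (nat_lit 33)) (en X (nat_lit 36)) (en X (nat_lit 39)) (en X (nat_lit 42)) (en X (nat_lit 45))
      (en XG (nat_lit 0)) (en XG (nat_lit 3)) (en XG (nat_lit 6)) (en XG (nat_lit 9)) (en XG (nat_lit 12)) (en XG (nat_lit 15)) (en XG (nat_lit 18)) (en XG (nat_lit 21)) (en XG (nat_lit 24)) (en XG (nat_lit 27)) (en XG (nat_lit 30)) (en XG (nat_lit 33)) (en XG (nat_lit 36)) (en XG (nat_lit 39)) (en XG (nat_lit 42)) (en XG (nat_lit 45))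
      (en X2 (nat_lit 0)) (en X2 (nat_lit 3)) (en X2 (nat_lit 6)) (en X2 (nat_lit 9)) (en X2 (nat_lit 12)) (en X2 (nat_lit 15)) (en X2 (nat_lit 18)) (en X2 (nat_lit 21)) (en X2 (nat_lit 24)) (en X2 (nat_lit 27)) (en X2 (nat_lit 30)) (en X2 (nat_lit 33)) (en X2 (nat_lit 36)) (en X2 (nat_lit 39)) (en X2 (nat_lit 42)) (en X2 (nat_lit 45))
      (en X4 (nat_lit 0)) (en X4 (nat_lit 3)) (en X4 (nat_lit 6)) (en X4 (nat_lit 9)) (en X4 (nat_lit 12)) (en X4 (nat_lit 15)) (en X4 (nat_lit 18)) (en X4 (nat_lit 21)) (en X4 (nat_lit 24)) (en X4 (nat_lit 27)) (en X4 (nat_lit 30)) (en X4 (nat_lit 33)) (en X4 (nat_lit 36)) (en X4 (nat_lit 39)) (en X4 (nat_lit 42)) (en X4 (nat_lit 45))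
      (en Y0 (nat_lit 0)) (en Y0 (nat_lit 3)) (en Y0 (nat_lit 6)) (en Y0 (nat_lit 9)) (en Y0 (nat_lit 12)) (en Y0 (nat_lit 15)) (en Y0 (nat_lit 18)) (en Y0 (nat_lit 21)) (en Y0 (nat_lit 24)) (en Y0 (nat_lit 27)) (en Y0 (nat_lit 30)) (en Y0 (nat_lit 33)) (en Y0 (nat_lit 36)) (en Y0 (nat_lit 39)) (en Y0 (nat_lit 42)) (en Y0 (nat_lit 45))
      (en Y2 (nat_lit 0)) (en Y2 (nat_lit 3)) (en Y2 (nat_lit 6)) (en Y2 (nat_lit 9)) (en Y2 (nat_lit 12)) (en Y2 (nat_lit 15)) (en Y2 (nat_lit 18)) (en Y2 (nat_lit 21)) (en Y2 (nat_lit 24)) (en Y2 (nat_lit 27)) (en Y2 (nat_lit 30)) (en Y2 (nat_lit 33)) (en Y2 (nat_lit 36)) (en Y2 (nat_lit 39)) (en Y2 (nat_lit 42)) (en Y2 (nat_lit 45))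
      (en Y4 (nat_lit 0)) (en Y4 (nat_lit 3)) (en Y4 (nat_lit 6)) (en Y4 (nat_lit 9)) (en Y4 (nat_lit 12)) (en Y4 (nat_lit 15)) (en Y4 (nat_lit 18)) (en Y4 (nat_lit 21)) (en Y4 (nat_lit 24)) (en Y4 (nat_lit 27)) (en Y4 (nat_lit 30)) (en Y4 (nat_lit 33)) (en Y4 (nat_lit 36)) (en Y4 (nat_lit 39)) (en Y4 (nat_lit 42)) (en Y4 (nat_lit 45))
  | _ => false

private theorem core_eq (g0 g1 g2 g3 g4 g5 g6 g7 g8 g9 g10 g11 g12 g13 g14 g15 c0 c1 c2 c3 c4 c5 c6 c7 c8 c9 c10 c11 c12 c13 c14 c15 : Nat) (row : List Nat) :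
    (beta% delta% lq26c7747f93 fun a c _ _ _ _ _ _ _ =>
 core (a g0<|a g1<|a g2<|a g3<|a g4<|a g5<|a g6<|a g7<|a g8<|a g9<|a g10<|a g11<|a g12<|a g13<|a g14<|a g15<|c) (a c0<|a c1<|a c2<|a c3<|a c4<|a c5<|a c6<|a c7<|a c8<|a c9<|a c10<|a c11<|a c12<|a c13<|a c14<|a c15<|c) row :
 Bool) = coreF g0 g1 g2 g3 g4 g5 g6 g7 g8 g9 g10 g11 g12 g13 g14 g15 c0 c1 c2 c3 c4 c5 c6 c7 c8 c9 c10 c11 c12 c13 c14 c15 row := by
  unfold core coreF
  split
  · simp only [mul_eq, mulT_eq, ent_eq]
    rfl
  · rfl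

private theorem chk1_eq : chk1 = fun n row =>
    Nat.beq ((1 + 6 * (n / 49) * (n / 49) + (n / 7 % 7 * (n / 49) + 6 * (n % 7) + 1)) % 7) 0 ||
    coreF (0) (1) ((n / 49)) ((n / 7 % 7) * (n / 49) + 6 * (n % 7) + 1) (6) (0) (1) ((n / 49)) (6 * (n / 49)) (6) (0) (1) (6 * ((n / 7 % 7) * (n / 49) + 6 * (n % 7) + 1)) (6 * (n / 49)) (6) (0)
      (0) (0) (0) (6) (1) (0) (0) ((n / 7 % 7)) (0) (1) (0) (6 * (n % 7)) (0) (0) (1) ((n / 7 % 7)) row := by
  funext n row
  rw [← core_eq]
  rfl

private theorem chk2_eq : chk2 = fun n row => coreF (0) (1) (0) (0) (6) (0) (0) (0) (0) (0) (0) (1) (0) (0) (6 * 1) (0)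
      (0) (6) (0) (0) (1) ((n / 42)) (0) ((n / 7 % 6 + 1) ^ 5) (0) (1) ((n / 7 % 6 + 1)) ((n % 7)) (0) (0) (0) ((n / 7 % 6 + 1) ^ 5) row := by
  funext n row
  rw [← core_eq]
  rfl

private theorem chk3_eq : chk3 = fun n row => coreF (0) (1) (0) (0) (6) (0) (0) (0) (0) (0) (0) ((n % 6 + 1)) (0) (0) (6 * (n % 6 + 1)) (0)
      (0) (6) (0) (0) (1) ((n / 42)) (0) (0) (0) (0) (0) (6) (0) (0) (1) ((n / 6 % 7)) row := by
  funext n row
  rw [← core_eq]
  rfl

theorem len1 : tab1.length = 343 := by decide +kernel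
theorem len2 : tab2.length = 294 := by decide +kernel
theorem len3 : tab3.length = 294 := by decide +kernel
theorem len4 : tab4.length = 14 := by decide +kernel
theorem len5 : tab5.length = 1 := by decide +kernel

theorem ok5 : go chk5 0 tab5 = true := by decide +kernel
theorem ok4 : go chk4 0 tab4 = true := by decide +kernel
theorem ok2 : go chk2 0 tab2 = true := by rw [chk2_eq]; decide +kernel
theorem ok3 : go chk3 0 tab3 = true := by rw [chk3_eq]; decide +kernel
theorem ok1 : go chk1 0 tab1 = true := by rw [chk1_eq]; decide +kernel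

end Cfsg.Agent.H309.SF.T7
end

-- part: H309/SF/Good7
section
set_option autoImplicit false
set_option maxRecDepth 100000

/-!
# The normal forms over a field with seven elements (helper309)
-/

namespace Cfsg.Agent.H309.SF.T7

open Matrix

variable {F : Type*} [Field F]

/-- factorization of `C` into elements of order five preserving `Γ` -/
def Good (C Γ : Matrix (Fin 4) (Fin 4) F) : Prop :=
  ∃ X Y : Matrix (Fin 4) (Fin 4) F, Xᵀ * Γ * X = Γ ∧ X ^ 5 = 1 ∧ X ≠ 1 ∧ Y ^ 5 = 1 ∧ Y ≠ 1 ∧
    (C = X * Y ∨ C = -(X * Y))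

/-- the matrix of a code -/
def toM (F : Type*) [Field F] (A : ℕ) : Matrix (Fin 4) (Fin 4) F := of fun i j => (ent A (4 * i.val + j.val) : F)

/-- the matrix of a list -/
def toL (F : Type*) [Field F] (l : List ℕ) : Matrix (Fin 4) (Fin 4) F :=
  of fun i j => ((l.getD (4 * i.val + j.val) 0 : ℕ) : F)

theorem cast_mod (h7 : (7 : F) = 0) (n : ℕ) : ((Nat.mod n 7 : ℕ) : F) = n := by
  show ((n % 7 : ℕ) : F) = n
  conv_rhs => rw [← Nat.div_add_mod n 7]
  push_cast
  rw [h7]; ring

theorem allP_iff (f : ℕ → ℕ → Bool) : allP f = true ↔ ∀ i j : Fin 4, f i.val j.val = true := by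
  constructor
  · intro h i j
    simp only [allP, List.all_cons, List.all_nil, Bool.and_true, Bool.and_eq_true] at h
    fin_cases i <;> fin_cases j <;> simp_all only []
  · intro h
    simp only [allP, List.all_cons, List.all_nil, Bool.and_true, Bool.and_eq_true]
    exact ⟨⟨h 0 0, h 0 1, h 0 2, h 0 3⟩, ⟨h 1 0, h 1 1, h 1 2, h 1 3⟩, ⟨h 2 0, h 2 1, h 2 2, h 2 3⟩,
      ⟨h 3 0, h 3 1, h 3 2, h 3 3⟩⟩

theorem chkMul_spec (h7 : (7 : F) = 0) {A B Z : ℕ} (h : chkMul A B Z = true) : toM F A * toM F B = toM F Z := by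
  rw [chkMul, allP_iff] at h
  ext i j
  have h1 := Nat.eq_of_beq_eq_true (h i j)
  rw [Matrix.mul_apply, Fin.sum_univ_four]
  simp only [toM, of_apply]
  have h2 : ((ent Z (4 * i.val + j.val) : ℕ) : F) = ((dot A B i.val j.val : ℕ) : F) := by
    rw [h1]; rfl
  rw [h2, dot, cast_mod h7]
  simp only [Nat.add_eq, Nat.mul_eq, Nat.cast_add, Nat.cast_mul]
  simp only [_root_.Fin.isValue, _root_.Fin.coe_ofNat_eq_mod, _root_.Nat.zero_mod, _root_.add_zero, _root_.MulZeroClass.mul_zero, _root_.zero_add, _root_.Nat.one_mod, _root_.mul_one, _root_.Nat.reduceMod, _root_.Nat.reduceMul, _root_.Nat.mod_succ]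
  ring

theorem chkMulT_spec (h7 : (7 : F) = 0) {A B Z : ℕ} (h : chkMulT A B Z = true) : (toM F A)ᵀ * toM F B = toM F Z := by
  rw [chkMulT, allP_iff] at h
  ext i j
  have h1 := Nat.eq_of_beq_eq_true (h i j)
  rw [Matrix.mul_apply, Fin.sum_univ_four]
  simp only [toM, of_apply, transpose_apply]
  have h2 : ((ent Z (4 * i.val + j.val) : ℕ) : F) = ((dotT A B i.val j.val : ℕ) : F) := by
    rw [h1]; rfl
  rw [h2, dotT, cast_mod h7]
  simp only [Nat.add_eq, Nat.mul_eq, Nat.cast_add, Nat.cast_mul]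
  simp only [_root_.Fin.isValue, _root_.Fin.coe_ofNat_eq_mod, _root_.Nat.zero_mod, _root_.MulZeroClass.mul_zero, _root_.zero_add, _root_.Nat.one_mod, _root_.mul_one, _root_.Nat.reduceMod, _root_.Nat.reduceMul, _root_.Nat.mod_succ]
  ring

theorem chkE_spec (h7 : (7 : F) = 0) {A : ℕ} {l : List ℕ} (h : chkE A l = true) : toM F A = toL F l := by
  rw [chkE, allP_iff] at h
  ext i j
  have h1 := Nat.eq_of_beq_eq_true (h i j)
  simp only [toM, toL, of_apply]
  have h2 : ((ent A (4 * i.val + j.val) : ℕ) : F) = ((Nat.mod (l.getD (4 * i.val + j.val) 0) 7 : ℕ) : F) := by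
    rw [← show ent A (Nat.add (Nat.mul 4 i.val) j.val) = ent A (4 * i.val + j.val) from rfl, h1]; rfl
  rw [h2, cast_mod h7]

theorem toM_one (h7 : (7 : F) = 0) : toM F oneC = 1 := by
  rw [chkE_spec h7 (l := (beta% delta% lq26c7747f93 fun a c _ _ _ _ _ _ _ =>
 (a 1<|a 0<|a 0<|a 0<|a 0<|a 1<|a 0<|a 0<|a 0<|a 0<|a 1<|a 0<|a 0<|a 0<|a 0<|a 1<|c))) (by decide +kernel)]
  ext i j
  (revert i j; simp only [toL, _root_.Fin.forall_fin_succ, _root_.List.getD_eq_getElem?_getD, _root_.Matrix.of_apply, Fin.isValue, _root_.Fin.coe_ofNat_eq_mod, _root_.Nat.zero_mod, _root_.add_zero, _root_.Fin.val_succ, _root_.zero_add, _root_.List.getElem?_cons_succ, Nat.reduceAdd, _root_.Fin.val_eq_zero, _root_.IsEmpty.forall_iff, _root_.and_true, _root_.MulZeroClass.mul_zero, _root_.List.length_cons, _root_.List.length_nil, _root_.Nat.ofNat_pos, _root_.getElem?_pos, _root_.List.getElem_cons_zero, _root_.Option.getD_some, _root_.Nat.cast_one, _root_.Matrix.one_apply_eq, _root_.Nat.cast_zero, _root_.Fin.succ_zero_eq_one,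 _root_.ne_eq, _root_.zero_ne_one, _root_.not_false_eq_true, _root_.Matrix.one_apply_ne, _root_.Fin.succ_one_eq_two, Fin.reduceEq, Fin.reduceSucc, _root_.and_self, _root_.Fin.succ_ne_zero, _root_.mul_one, Nat.reduceLT, _root_.List.getElem_cons_succ, Nat.reduceMul, _root_.Nat.lt_add_one, _root_.true_and])

theorem six_eq (h7 : (7 : F) = 0) : (6 : F) = -1 := by linear_combination h7

theorem toM_neg (h7 : (7 : F) = 0) : toM F (6 * oneC) = -1 := by
  rw [chkE_spec h7 (l := (beta% delta% lq26c7747f93 fun a c _ _ _ _ _ _ _ =>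
 (a 6<|a 0<|a 0<|a 0<|a 0<|a 6<|a 0<|a 0<|a 0<|a 0<|a 6<|a 0<|a 0<|a 0<|a 0<|a 6<|c))) (by decide +kernel)]
  ext i j
  (revert i j; simp only [toL, six_eq h7, _root_.Fin.forall_fin_succ, _root_.List.getD_eq_getElem?_getD, _root_.Matrix.of_apply, _root_.Matrix.neg_apply, Fin.isValue, _root_.Fin.coe_ofNat_eq_mod, _root_.Nat.zero_mod, _root_.add_zero, _root_.Fin.val_succ, _root_.zero_add, _root_.List.getElem?_cons_succ, Nat.reduceAdd, _root_.Fin.val_eq_zero, _root_.IsEmpty.forall_iff, _root_.and_true, _root_.MulZeroClass.mul_zero, _root_.List.length_cons, _root_.List.length_nil, _root_.Nat.ofNat_pos, _root_.getElem?_pos, _root_.List.getElem_cons_zero, _root_.Option.getD_some, _root_.Nat.cast_ofNat, _root_.Matrix.one_apply_eq, _root_.Nat.cast_zero, _root_.Fin.succ_zero_eq_one, _root_.ne_eq, _root_.zero_ne_one, _root_.not_false_eq_true, _root_.Matrix.one_apply_ne, _root_.neg_zero, _root_.Fin.succ_one_eq_two, Fin.reduceEq, Fin.reduceSucc, _root_.and_self, _root_.Fin.succ_ne_zero, _root_.mul_one,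 Nat.reduceLT, _root_.List.getElem_cons_succ, Nat.reduceMul, _root_.zero_eq_neg, _root_.Nat.lt_add_one, _root_.neg_inj, _root_.true_and])

theorem off_spec [CharP F 7] {A : ℕ} (h : off A = true) : toM F A ≠ 1 ∧ toM F A ≠ -1 := by
  have key : ∃ i j : Fin 4, i ≠ j ∧ (toM F A) i j ≠ 0 := by
    simp only [off, List.any_cons, List.any_nil, Bool.or_false, Bool.or_eq_true, Bool.not_eq_true'] at h
    have h0 : ∀ i j : Fin 4, (Nat.mod (ent A (4 * i.val + j.val)) 7).beq 0 = false → (toM F A) i j ≠ 0 := by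
      intro i j hij h1
      have h2 : (7 : ℕ) ∣ ent A (4 * i.val + j.val) := (CharP.cast_eq_zero_iff F 7 _).1 h1
      have h3 : Nat.mod (ent A (4 * i.val + j.val)) 7 = 0 := Nat.mod_eq_zero_of_dvd h2
      rw [h3] at hij
      exact absurd hij (by decide)
    rcases h with h | h | h | h | h | h | h | h | h | h | h | h
    · exact ⟨0, 1, by decide, h0 0 1 h⟩
    · exact ⟨0, 2, by decide, h0 0 2 h⟩
    · exact ⟨0, 3, by decide, h0 0 3 h⟩
    · exact ⟨1, 0, by decide, h0 1 0 h⟩
    · exact ⟨1, 2, by decide, h0 1 2 h⟩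
    · exact ⟨1, 3, by decide, h0 1 3 h⟩
    · exact ⟨2, 0, by decide, h0 2 0 h⟩
    · exact ⟨2, 1, by decide, h0 2 1 h⟩
    · exact ⟨2, 3, by decide, h0 2 3 h⟩
    · exact ⟨3, 0, by decide, h0 3 0 h⟩
    · exact ⟨3, 1, by decide, h0 3 1 h⟩
    · exact ⟨3, 2, by decide, h0 3 2 h⟩
  obtain ⟨i, j, hij, h1⟩ := key
  constructor
  · intro h2
    rw [h2, Matrix.one_apply_ne hij] at h1
    exact h1 rfl
  · intro h2
    rw [h2, Matrix.neg_apply, Matrix.one_apply_ne hij, neg_zero] at h1
    exact h1 rfl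

theorem pow5 {M : Type*} [Monoid M] (x : M) : x ^ 5 = (x * x) * (x * x) * x := by
  simp only [pow_succ, pow_zero, one_mul, mul_assoc]

theorem core_spec [CharP F 7] {gl cl row : List ℕ} (h : core gl cl row = true) : Good (toL F cl) (toL F gl) := by
  have h7 : (7 : F) = 0 := by exact_mod_cast CharP.cast_eq_zero F 7
  unfold core at h
  split at h
  · next G C X XG X2 X4 Y0 Y2 Y4 =>
    simp only [Bool.and_eq_true, Bool.or_eq_true] at h
    obtain ⟨hG, hC, h1, h2, h3, h4, h5, h6, h8, h9, h10, hX, hY⟩ := h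
    have eG := chkE_spec h7 hG
    have eC := chkE_spec h7 hC
    have e1 := chkMulT_spec h7 h1
    have e2 := chkMul_spec h7 h2
    have e3 := chkMul_spec h7 h3
    have e4 := chkMul_spec h7 h4
    have e5 := chkMul_spec h7 h5
    have e6 := chkMul_spec h7 h6
    have e8 := chkMul_spec h7 h8
    have e9 := chkMul_spec h7 h9
    rw [toM_one h7] at e5
    have f1 : toM F X ^ 5 = 1 := by rw [pow5, e3, e4, e5]
    have f2 : toM F X * toM F Y0 = toM F C := by
      rw [← e6, ← Matrix.mul_assoc, ← e4, ← e3]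
      have : toM F X * (toM F X * toM F X * (toM F X * toM F X)) = toM F X ^ 5 := by
        simp only [pow_succ, pow_zero, one_mul, Matrix.mul_assoc]
      rw [this, f1, Matrix.one_mul]
    have f3 : toM F Y0 ^ 5 = toM F Y4 * toM F Y0 := by rw [pow5, e8, e9]
    rw [← eG, ← eC]
    obtain ⟨hX1, -⟩ := off_spec (F := F) hX
    obtain ⟨hY1, hY2⟩ := off_spec (F := F) hY
    rcases h10 with h10 | h10
    · have e10 := chkMul_spec h7 h10
      rw [toM_one h7] at e10
      exact ⟨toM F X, toM F Y0, by rw [e1, e2], f1, hX1, by rw [f3, e10], hY1, Or.inl f2.symm⟩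
    · have e10 := chkMul_spec h7 h10
      rw [toM_neg h7] at e10
      refine ⟨toM F X, -toM F Y0, by rw [e1, e2], f1, hX1, ?_, fun h => hY2 ?_, Or.inr ?_⟩
      · rw [Odd.neg_pow (by decide), f3, e10, neg_neg]
      · rw [← h, neg_neg]
      · rw [Matrix.mul_neg, neg_neg, f2]
  · exact absurd h (by simp)

/-- every element is a natural number below seven -/
theorem exists_nat [Finite F] (hF : Nat.card F = 7) (x : F) : ∃ n : ℕ, n < 7 ∧ x = (n : F) := by
  have : Fintype F := Fintype.ofFinite F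
  have hc : Fintype.card F = 7 := by rw [← Nat.card_eq_fintype_card, hF]
  have : Fact (Nat.Prime 7) := ⟨by norm_num⟩
  have : CharP F 7 := charP_of_card_eq_prime hc
  have hinj : Function.Injective (fun n : Fin 7 => ((n : ℕ) : F)) := by
    intro a b hab
    have h1 := (CharP.natCast_injOn_Iio F 7) (by simpa using a.2) (by simpa using b.2) hab
    exact Fin.ext h1
  have hbij := (Fintype.bijective_iff_injective_and_card (fun n : Fin 7 => ((n : ℕ) : F))).2 ⟨hinj, by simp [hc]⟩
  obtain ⟨n, hn⟩ := hbij.2 x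
  exact ⟨n, n.2, hn.symm⟩

theorem good_of_NF [Finite F] (hF : Nat.card F = 7) {C Γ : Matrix (Fin 4) (Fin 4) F} (h : NF C Γ) : Good C Γ := by
  have : Fintype F := Fintype.ofFinite F
  have hc : Fintype.card F = 7 := by rw [← Nat.card_eq_fintype_card, hF]
  have : Fact (Nat.Prime 7) := ⟨by norm_num⟩
  have hchar : CharP F 7 := charP_of_card_eq_prime hc
  have h7 : (7 : F) = 0 := by exact_mod_cast CharP.cast_eq_zero F 7
  have h6 := six_eq h7
  rcases h with ⟨b, s, p, a, ha, hP, rfl, rfl⟩ | ⟨β, l, l', y, hl, rfl, rfl⟩ | ⟨β, β', ε, hε, rfl, rfl⟩ |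
    ⟨β, ε, hε, rfl, rfl⟩ | ⟨rfl, rfl⟩
  · obtain ⟨nb, hnb, rfl⟩ := exists_nat hF b
    obtain ⟨ns, hns, rfl⟩ := exists_nat hF s
    obtain ⟨np, hnp, rfl⟩ := exists_nat hF p
    have h1 := go_spec chk1 tab1 0 ok1 (nb * 49 + ns * 7 + np) (by rw [len1]; omega)
    rw [zero_add, chk1, Bool.or_eq_true, show (nb * 49 + ns * 7 + np) / 49 = nb by omega,
      show (nb * 49 + ns * 7 + np) / 7 % 7 = ns by omega, show (nb * 49 + ns * 7 + np) % 7 = np by omega] at h1
    rcases h1 with h1 | h1
    · exfalso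
      apply hP
      have h2 := Nat.eq_of_beq_eq_true h1
      have h4 : (((1 + 6 * nb * nb + (ns * nb + 6 * np + 1)) % 7 : ℕ) : F) =
        ((1 + 6 * nb * nb + (ns * nb + 6 * np + 1) : ℕ) : F) := cast_mod h7 _
      have h5 : ((1 + 6 * nb * nb + (ns * nb + 6 * np + 1) : ℕ) : F) = 0 := by
        rw [← h4, h2, Nat.cast_zero]
      push_cast at h5
      rw [ha]
      linear_combination h5 - ((nb : F) * nb + np) * h7
    · have h2 := core_spec (F := F) h1
      convert h2 using 1
      · ext i j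
        (revert i j; simp only [toL, cl1, h6, _root_.Fin.forall_fin_succ, _root_.Matrix.of_apply, _root_.Matrix.cons_val', _root_.Matrix.cons_val_fin_one, _root_.List.getD_eq_getElem?_getD, Fin.isValue, _root_.Matrix.cons_val_zero, _root_.Fin.coe_ofNat_eq_mod, _root_.Nat.zero_mod, _root_.add_zero, _root_.Matrix.cons_val_succ, _root_.Fin.val_succ, _root_.zero_add, _root_.List.getElem?_cons_succ, Nat.reduceAdd, _root_.Fin.val_eq_zero, _root_.forall_const, _root_.MulZeroClass.mul_zero, _root_.List.length_cons, _root_.List.length_nil, _root_.Nat.ofNat_pos, _root_.getElem?_pos, _root_.List.getElem_cons_zero, _root_.Option.getD_some, _root_.Nat.cast_zero, _root_.Nat.cast_ofNat, _root_.and_self, _root_.mul_one, Nat.reduceLT, _root_.List.getElem_cons_succ, _root_.Nat.cast_one, Nat.reduceMul, _root_.Nat.cast_mul, _root_.neg_mul, _root_.one_mul, _root_.Nat.lt_add_one, _root_.implies_true])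
      · ext i j
        (revert i j; simp only [toL, gl1, T1, h6, ha, _root_.Fin.forall_fin_succ, _root_.neg_add_rev, _root_.neg_sub, _root_.Matrix.of_apply, _root_.Matrix.cons_val', _root_.Matrix.cons_val_fin_one, _root_.List.getD_eq_getElem?_getD, Fin.isValue, _root_.Matrix.cons_val_zero, _root_.Fin.coe_ofNat_eq_mod, _root_.Nat.zero_mod, _root_.add_zero, _root_.Matrix.cons_val_succ, _root_.Fin.val_succ, _root_.zero_add, _root_.List.getElem?_cons_succ, Nat.reduceAdd, _root_.Fin.val_eq_zero, _root_.forall_const, _root_.MulZeroClass.mul_zero, _root_.List.length_cons, _root_.List.length_nil, _root_.Nat.ofNat_pos, _root_.getElem?_pos, _root_.List.getElem_cons_zero, _root_.Option.getD_some, _root_.Nat.cast_zero, _root_.Nat.cast_one, _root_.Nat.cast_add, _root_.Nat.cast_mul, _root_.Nat.cast_ofNat, _root_.neg_mul, _root_.one_mul, _root_.add_left_inj, _root_.true_and, _root_.mul_one, Nat.reduceLT, _root_.List.getElem_cons_succ, _root_.and_self, Nat.reduceMul, _root_.neg_neg, _root_.add_right_inj,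 _root_.Nat.lt_add_one, _root_.and_true]) <;> (repeat' with_reducible apply And.intro) <;> ring
  · obtain ⟨nb, hnb, rfl⟩ := exists_nat hF β
    obtain ⟨nl, hnl, rfl⟩ := exists_nat hF l
    obtain ⟨ny, hny, rfl⟩ := exists_nat hF y
    have hl0 : (nl : F) ≠ 0 := left_ne_zero_of_mul (by rw [hl]; exact one_ne_zero)
    have hnl0 : nl ≠ 0 := by
      rintro rfl
      exact hl0 Nat.cast_zero
    have hl' : l' = ((nl ^ 5 : ℕ) : F) := by
      have h1 : (nl : F) ^ (Fintype.card F - 1) = 1 := FiniteField.pow_card_sub_one_eq_one _ hl0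
      rw [hc] at h1
      apply mul_left_cancel₀ hl0
      rw [hl]
      push_cast
      rw [← h1]
      ring
    have h1 := go_spec chk2 tab2 0 ok2 (nb * 42 + (nl - 1) * 7 + ny) (by rw [len2]; omega)
    rw [zero_add, chk2, show (nb * 42 + (nl - 1) * 7 + ny) / 42 = nb by omega,
      show (nb * 42 + (nl - 1) * 7 + ny) / 7 % 6 + 1 = nl by omega,
      show (nb * 42 + (nl - 1) * 7 + ny) % 7 = ny by omega] at h1
    have h2 := core_spec (F := F) h1
    convert h2 using 1
    · ext i j
      (revert i j; simp only [toL, cl2, h6, hl', _root_.Fin.forall_fin_succ, _root_.Nat.cast_pow, _root_.Matrix.of_apply, _root_.Matrix.cons_val', _root_.Matrix.cons_val_fin_one, _root_.List.getD_eq_getElem?_getD, Fin.isValue, _root_.Matrix.cons_val_zero, _root_.Fin.coe_ofNat_eq_mod, _root_.Nat.zero_mod, _root_.add_zero, _root_.Matrix.cons_val_succ, _root_.Fin.val_succ, _root_.zero_add, _root_.List.getElem?_cons_succ, Nat.reduceAdd, _root_.Fin.val_eq_zero, _root_.forall_const, _root_.MulZeroClass.mul_zero,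 _root_.List.length_cons, _root_.List.length_nil, _root_.Nat.ofNat_pos, _root_.getElem?_pos, _root_.List.getElem_cons_zero, _root_.Option.getD_some, _root_.Nat.cast_zero, _root_.Nat.cast_ofNat, _root_.and_self, _root_.mul_one, Nat.reduceLT, _root_.List.getElem_cons_succ, _root_.Nat.cast_one, Nat.reduceMul, _root_.Nat.lt_add_one, _root_.implies_true])
    · ext i j
      (revert i j; simp only [toL, gl2, H2, h6, _root_.Fin.forall_fin_succ, _root_.Matrix.of_apply, _root_.Matrix.cons_val', _root_.Matrix.cons_val_fin_one, _root_.mul_one, _root_.List.getD_eq_getElem?_getD, Fin.isValue, _root_.Matrix.cons_val_zero, _root_.Fin.coe_ofNat_eq_mod, _root_.Nat.zero_mod, _root_.add_zero, _root_.Matrix.cons_val_succ, _root_.Fin.val_succ, _root_.zero_add, _root_.List.getElem?_cons_succ, Nat.reduceAdd, _root_.Fin.val_eq_zero, _root_.forall_const, _root_.MulZeroClass.mul_zero, _root_.List.length_cons, _root_.List.length_nil, _root_.Nat.ofNat_pos, _root_.getElem?_pos, _root_.List.getElem_cons_zero,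 _root_.Option.getD_some, _root_.Nat.cast_zero, _root_.Nat.cast_one, _root_.and_self, Nat.reduceLT, _root_.List.getElem_cons_succ, _root_.Nat.cast_ofNat, Nat.reduceMul, _root_.Nat.lt_add_one, _root_.implies_true])
  · obtain ⟨nb, hnb, rfl⟩ := exists_nat hF β
    obtain ⟨nb', hnb', rfl⟩ := exists_nat hF β'
    obtain ⟨ne, hne, rfl⟩ := exists_nat hF ε
    have hne0 : ne ≠ 0 := by
      rintro rfl
      exact hε Nat.cast_zero
    have h1 := go_spec chk3 tab3 0 ok3 (nb * 42 + nb' * 6 + (ne - 1)) (by rw [len3]; omega)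
    rw [zero_add, chk3, show (nb * 42 + nb' * 6 + (ne - 1)) / 42 = nb by omega,
      show (nb * 42 + nb' * 6 + (ne - 1)) / 6 % 7 = nb' by omega,
      show (nb * 42 + nb' * 6 + (ne - 1)) % 6 + 1 = ne by omega] at h1
    have h2 := core_spec (F := F) h1
    convert h2 using 1
    · ext i j
      (revert i j; simp only [toL, cl3, h6, _root_.Fin.forall_fin_succ, _root_.Matrix.of_apply, _root_.Matrix.cons_val', _root_.Matrix.cons_val_fin_one, _root_.List.getD_eq_getElem?_getD, Fin.isValue, _root_.Matrix.cons_val_zero, _root_.Fin.coe_ofNat_eq_mod, _root_.Nat.zero_mod, _root_.add_zero, _root_.Matrix.cons_val_succ, _root_.Fin.val_succ, _root_.zero_add, _root_.List.getElem?_cons_succ, Nat.reduceAdd, _root_.Fin.val_eq_zero, _root_.forall_const, _root_.MulZeroClass.mul_zero, _root_.List.length_cons, _root_.List.length_nil, _root_.Nat.ofNat_pos, _root_.getElem?_pos, _root_.List.getElem_cons_zero, _root_.Option.getD_some, _root_.Nat.cast_zero, _root_.Nat.cast_ofNat, _root_.and_self, _root_.mul_one,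 Nat.reduceLT, _root_.List.getElem_cons_succ, _root_.Nat.cast_one, Nat.reduceMul, _root_.Nat.lt_add_one, _root_.implies_true])
    · ext i j
      (revert i j; simp only [toL, gl2, H2, h6, _root_.Fin.forall_fin_succ, _root_.Matrix.of_apply, _root_.Matrix.cons_val', _root_.Matrix.cons_val_fin_one, _root_.List.getD_eq_getElem?_getD, Fin.isValue, _root_.Matrix.cons_val_zero, _root_.Fin.coe_ofNat_eq_mod, _root_.Nat.zero_mod, _root_.add_zero, _root_.Matrix.cons_val_succ, _root_.Fin.val_succ, _root_.zero_add, _root_.List.getElem?_cons_succ, Nat.reduceAdd, _root_.Fin.val_eq_zero, _root_.forall_const, _root_.MulZeroClass.mul_zero, _root_.List.length_cons, _root_.List.length_nil, _root_.Nat.ofNat_pos, _root_.getElem?_pos, _root_.List.getElem_cons_zero, _root_.Option.getD_some, _root_.Nat.cast_zero, _root_.Nat.cast_one, _root_.and_self, _root_.mul_one, Nat.reduceLT, _root_.List.getElem_cons_succ, _root_.Nat.cast_ofNat, Nat.reduceMul, _root_.Nat.cast_mul, _root_.neg_mul, _root_.one_mul, _root_.Nat.lt_add_one,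 _root_.implies_true])
  · obtain ⟨nb, hnb, rfl⟩ := exists_nat hF β
    rcases hε with rfl | rfl
    · have h1 := go_spec chk4 tab4 0 ok4 (nb * 2) (by rw [len4]; omega)
      rw [zero_add, chk4, show nb * 2 / 2 = nb by omega, show nb * 2 % 2 = 0 by omega] at h1
      have h2 := core_spec (F := F) h1
      convert h2 using 1
      · ext i j
        (revert i j; simp only [toL, cl4, h6, _root_.Fin.forall_fin_succ, _root_.Matrix.of_apply, _root_.Matrix.cons_val', _root_.Matrix.cons_val_fin_one, _root_.MulZeroClass.mul_zero, _root_.zero_add, _root_.List.getD_eq_getElem?_getD, Fin.isValue, _root_.Matrix.cons_val_zero, _root_.Fin.coe_ofNat_eq_mod, _root_.Nat.zero_mod, _root_.add_zero, _root_.Matrix.cons_val_succ, _root_.Fin.val_succ, _root_.List.getElem?_cons_succ, Nat.reduceAdd, _root_.Fin.val_eq_zero, _root_.forall_const, _root_.List.length_cons, _root_.List.length_nil, _root_.Nat.ofNat_pos, _root_.getElem?_pos, _root_.List.getElem_cons_zero, _root_.Option.getD_some, _root_.Nat.cast_zero,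 _root_.Nat.cast_ofNat, _root_.and_self, _root_.mul_one, Nat.reduceLT, _root_.List.getElem_cons_succ, _root_.Nat.cast_one, Nat.reduceMul, _root_.Nat.lt_add_one, _root_.implies_true])
      · ext i j
        (revert i j; simp only [toL, gl2, H2, h6, _root_.Fin.forall_fin_succ, _root_.Matrix.of_apply, _root_.Matrix.cons_val', _root_.Matrix.cons_val_fin_one, _root_.mul_one, _root_.List.getD_eq_getElem?_getD, Fin.isValue, _root_.Matrix.cons_val_zero, _root_.Fin.coe_ofNat_eq_mod, _root_.Nat.zero_mod, _root_.add_zero, _root_.Matrix.cons_val_succ, _root_.Fin.val_succ, _root_.zero_add, _root_.List.getElem?_cons_succ, Nat.reduceAdd, _root_.Fin.val_eq_zero, _root_.forall_const, _root_.MulZeroClass.mul_zero, _root_.List.length_cons, _root_.List.length_nil, _root_.Nat.ofNat_pos, _root_.getElem?_pos, _root_.List.getElem_cons_zero, _root_.Option.getD_some, _root_.Nat.cast_zero, _root_.Nat.cast_one, _root_.and_self, Nat.reduceLT, _root_.List.getElem_cons_succ, _root_.Nat.cast_ofNat, Nat.reduceMul,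 _root_.Nat.lt_add_one, _root_.implies_true])
    · have h1 := go_spec chk4 tab4 0 ok4 (nb * 2 + 1) (by rw [len4]; omega)
      rw [zero_add, chk4, show (nb * 2 + 1) / 2 = nb by omega, show (nb * 2 + 1) % 2 = 1 by omega] at h1
      have h2 := core_spec (F := F) h1
      convert h2 using 1
      · ext i j
        (revert i j; simp only [toL, cl4, h6, _root_.Fin.forall_fin_succ, _root_.Matrix.of_apply, _root_.Matrix.cons_val', _root_.Matrix.cons_val_fin_one, _root_.mul_one, Nat.reduceAdd, _root_.List.getD_eq_getElem?_getD, Fin.isValue, _root_.Matrix.cons_val_zero, _root_.Fin.coe_ofNat_eq_mod, _root_.Nat.zero_mod, _root_.add_zero, _root_.Matrix.cons_val_succ, _root_.Fin.val_succ, _root_.zero_add, _root_.List.getElem?_cons_succ, _root_.Fin.val_eq_zero, _root_.forall_const, _root_.MulZeroClass.mul_zero, _root_.List.length_cons, _root_.List.length_nil, _root_.Nat.ofNat_pos, _root_.getElem?_pos, _root_.List.getElem_cons_zero, _root_.Option.getD_some, _root_.Nat.cast_zero, _root_.Nat.cast_ofNat,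 _root_.and_self, Nat.reduceLT, _root_.List.getElem_cons_succ, _root_.Nat.cast_one, Nat.reduceMul, _root_.Nat.lt_add_one, _root_.implies_true])
      · ext i j
        (revert i j; simp only [toL, gl2, H2, h6, _root_.Fin.forall_fin_succ, _root_.Matrix.of_apply, _root_.Matrix.cons_val', _root_.Matrix.cons_val_fin_one, _root_.mul_one, _root_.List.getD_eq_getElem?_getD, Fin.isValue, _root_.Matrix.cons_val_zero, _root_.Fin.coe_ofNat_eq_mod, _root_.Nat.zero_mod, _root_.add_zero, _root_.Matrix.cons_val_succ, _root_.Fin.val_succ, _root_.zero_add, _root_.List.getElem?_cons_succ, Nat.reduceAdd, _root_.Fin.val_eq_zero, _root_.forall_const, _root_.MulZeroClass.mul_zero, _root_.List.length_cons, _root_.List.length_nil, _root_.Nat.ofNat_pos, _root_.getElem?_pos, _root_.List.getElem_cons_zero, _root_.Option.getD_some, _root_.Nat.cast_zero, _root_.Nat.cast_one, _root_.and_self, Nat.reduceLT, _root_.List.getElem_cons_succ, _root_.Nat.cast_ofNat, Nat.reduceMul, _root_.Nat.lt_add_one, _root_.implies_true])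
  · have h1 := go_spec chk5 tab5 0 ok5 0 (by rw [len5]; omega)
    rw [chk5] at h1
    have h2 := core_spec (F := F) h1
    convert h2 using 1
    · ext i j
      (revert i j; simp only [toL, cl5, h6, _root_.Fin.forall_fin_succ, _root_.Matrix.of_apply, _root_.Matrix.cons_val', _root_.Matrix.cons_val_fin_one, _root_.List.getD_eq_getElem?_getD, Fin.isValue, _root_.Matrix.cons_val_zero, _root_.Fin.coe_ofNat_eq_mod, _root_.Nat.zero_mod, _root_.add_zero, _root_.Matrix.cons_val_succ, _root_.Fin.val_succ, _root_.zero_add, _root_.List.getElem?_cons_succ, Nat.reduceAdd, _root_.Fin.val_eq_zero, _root_.forall_const, _root_.MulZeroClass.mul_zero, _root_.List.length_cons, _root_.List.length_nil, _root_.Nat.ofNat_pos, _root_.getElem?_pos, _root_.List.getElem_cons_zero, _root_.Option.getD_some, _root_.Nat.cast_one, _root_.Nat.cast_zero, _root_.and_self, _root_.mul_one, Nat.reduceLT, _root_.List.getElem_cons_succ, Nat.reduceMul, _root_.Nat.cast_ofNat, _root_.Nat.lt_add_one, _root_.implies_true])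
    · ext i j
      (revert i j; simp only [toL, gl2, H2, h6, _root_.Fin.forall_fin_succ, _root_.Matrix.of_apply, _root_.Matrix.cons_val', _root_.Matrix.cons_val_fin_one, _root_.mul_one, _root_.List.getD_eq_getElem?_getD, Fin.isValue, _root_.Matrix.cons_val_zero, _root_.Fin.coe_ofNat_eq_mod, _root_.Nat.zero_mod, _root_.add_zero, _root_.Matrix.cons_val_succ, _root_.Fin.val_succ, _root_.zero_add, _root_.List.getElem?_cons_succ, Nat.reduceAdd, _root_.Fin.val_eq_zero, _root_.forall_const, _root_.MulZeroClass.mul_zero, _root_.List.length_cons, _root_.List.length_nil, _root_.Nat.ofNat_pos, _root_.getElem?_pos, _root_.List.getElem_cons_zero, _root_.Option.getD_some, _root_.Nat.cast_zero, _root_.Nat.cast_one, _root_.and_self, Nat.reduceLT, _root_.List.getElem_cons_succ, _root_.Nat.cast_ofNat, Nat.reduceMul, _root_.Nat.lt_add_one, _root_.implies_true])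

end Cfsg.Agent.H309.SF.T7
end

-- part: H309/SF/Row7
section
set_option autoImplicit false

/-!
# S2464, S2452: `PSp_4(7)` (helper309)
-/

namespace Cfsg.Agent.H309.SF

open Matrix Polynomial

/-- transfer of a factorization of the matrix of `g` in a basis -/
theorem fac_of {F : Type*} [Field F] {g : symplecticGroup (Fin 2) F} {w : Fin 4 → Ix → F} {a : F}
    {C Γ G' X Y : Matrix (Fin 4) (Fin 4) F} (ha : a ≠ 0) (hgram : gram w = a • Γ) (hg : g.1 * mat w = mat w * C)
    (hG' : G' * Γ = 1) (hX : Xᵀ * Γ * X = Γ) (hC : C = X * Y ∨ C = -(X * Y)) :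
    ∃ (A B : symplecticGroup (Fin 2) F) (N : Matrix (Fin 4) Ix F), (A.1 * B.1 = g.1 ∨ A.1 * B.1 = -g.1) ∧
      N * mat w = 1 ∧ A.1 = mat w * X * N ∧ B.1 = mat w * Y * N := by
  have hinv := inv_of_gram (inv_smul_gram ha hgram hG')
  obtain ⟨N, hN⟩ : ∃ N, N = (a⁻¹ • G') * (mat w)ᵀ * J (Fin 2) F := ⟨_, rfl⟩
  rw [← hN] at hinv
  obtain ⟨h1, h2⟩ := hinv
  have hA : mat w * X * N ∈ symplecticGroup (Fin 2) F := by
    rw [SymplecticGroup.mem_iff']
    have e : (mat w * X * N)ᵀ * J (Fin 2) F * (mat w * X * N) =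
        Nᵀ * (Xᵀ * ((mat w)ᵀ * J (Fin 2) F * mat w) * X) * N := by
      simp only [transpose_mul, Matrix.mul_assoc]
    have e2 : Nᵀ * ((mat w)ᵀ * J (Fin 2) F * mat w) * N = (mat w * N)ᵀ * J (Fin 2) F * (mat w * N) := by
      simp only [transpose_mul, Matrix.mul_assoc]
    rw [e, gram_eq, hgram, mul_smul_comm, smul_mul_assoc, hX, ← hgram, ← gram_eq, e2, h2, transpose_one,
      Matrix.one_mul, Matrix.mul_one]
  obtain ⟨A, hA'⟩ : ∃ A : symplecticGroup (Fin 2) F, A.1 = mat w * X * N := ⟨⟨_, hA⟩, rfl⟩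
  have hgN : g.1 = mat w * C * N := by rw [← hg, Matrix.mul_assoc, h2, Matrix.mul_one]
  have hprod : (mat w * X * N) * (mat w * Y * N) = mat w * (X * Y) * N := by
    have : (mat w * X * N) * (mat w * Y * N) = mat w * X * (N * mat w) * Y * N := by simp only [Matrix.mul_assoc]
    rw [this, h1, Matrix.mul_one]
    simp only [Matrix.mul_assoc]
  have hgs : (mat w * X * N) * (mat w * Y * N) = g.1 ∨ (mat w * X * N) * (mat w * Y * N) = -g.1 := by
    rcases hC with hC | hC
    · left; rw [hprod, hgN, hC]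
    · right; rw [hprod, hgN, hC, Matrix.mul_neg, Matrix.neg_mul, neg_neg]
  have hAi : A⁻¹.1 * A.1 = 1 := by
    have := congrArg Subtype.val (inv_mul_cancel A)
    rwa [Submonoid.coe_mul] at this
  rcases hgs with h | h
  · refine ⟨A, A⁻¹ * g, N, Or.inl ?_, h1, hA', ?_⟩
    · rw [← Submonoid.coe_mul, mul_inv_cancel_left]
    · rw [Submonoid.coe_mul, ← h, ← hA', ← Matrix.mul_assoc, hAi, Matrix.one_mul]
  · obtain ⟨g', hg'⟩ : ∃ g' : symplecticGroup (Fin 2) F, g'.1 = -g.1 := ⟨⟨_, SymplecticGroup.neg_mem g.2⟩, rfl⟩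
    refine ⟨A, A⁻¹ * g', N, Or.inr ?_, h1, hA', ?_⟩
    · rw [← Submonoid.coe_mul, mul_inv_cancel_left, hg']
    · rw [Submonoid.coe_mul, hg', ← h, ← hA', ← Matrix.mul_assoc, hAi, Matrix.one_mul]

theorem pow_conj {F : Type*} [Field F] {w : Fin 4 → Ix → F} {X : Matrix (Fin 4) (Fin 4) F} {N : Matrix (Fin 4) Ix F}
    (h1 : N * mat w = 1) (n : ℕ) : (mat w * X * N) ^ (n + 1) = mat w * X ^ (n + 1) * N := by
  induction n with
  | zero => simp
  | succ n ih =>
    rw [pow_succ, ih, pow_succ X (n + 1)]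
    have : mat w * X ^ (n + 1) * N * (mat w * X * N) = mat w * X ^ (n + 1) * (N * mat w) * X * N := by
      simp only [Matrix.mul_assoc]
    rw [this, h1, Matrix.mul_one]
    simp only [Matrix.mul_assoc]

variable {F : Type} [Field F] [Fintype F]

theorem charpoly_five (h4 : orderOf ((Fintype.card F : ℕ) : ZMod 5) = 4) {M : Matrix Ix Ix F} (hM : M ^ 5 = 1)
    (h1 : M ≠ 1) : M.charpoly = cyclotomic 5 F := by
  have h5 : Nat.Prime 5 := by norm_num
  have hirr := H812.TC.SpF.irr_charpoly h5 h4 (by simp) hM h1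
  have hmp := minpoly.eq_of_irreducible_of_monic hirr M.aeval_self_charpoly M.charpoly_monic
  have hdeg : M.charpoly.natDegree = 4 := by rw [M.charpoly_natDegree_eq_dim]; simp
  have hd : M.charpoly ∣ X ^ 5 - 1 := by
    rw [hmp]
    apply minpoly.dvd
    simp [hM]
  have : Fact (Nat.Prime 5) := ⟨h5⟩
  rw [← cyclotomic_prime_mul_X_sub_one F 5] at hd
  rcases hirr.prime.dvd_or_dvd hd with hd | hd
  · refine (eq_of_monic_of_dvd_of_natDegree_le M.charpoly_monic (cyclotomic.monic 5 F) hd ?_).symm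
    rw [natDegree_cyclotomic, hdeg, Nat.totient_prime h5]
  · exfalso
    rw [← C_1] at hd
    have h2 := natDegree_le_of_dvd hd (X_sub_C_ne_zero (1 : F))
    rw [hdeg, natDegree_X_sub_C] at h2
    omega

theorem conj_ne {F : Type*} [Field F] {w : Fin 4 → Ix → F} {X : Matrix (Fin 4) (Fin 4) F} {N : Matrix (Fin 4) Ix F}
    (h1 : N * mat w = 1) (hX : X ≠ 1) : mat w * X * N ≠ 1 := by
  intro h
  apply hX
  have : N * (mat w * X * N) * mat w = (N * mat w) * X * (N * mat w) := by simp only [Matrix.mul_assoc]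
  rw [h, Matrix.mul_one, h1, Matrix.one_mul, Matrix.mul_one] at this
  exact this.symm

theorem conj_pow {F : Type*} [Field F] {w : Fin 4 → Ix → F} {X : Matrix (Fin 4) (Fin 4) F} {N : Matrix (Fin 4) Ix F}
    (h1 : N * mat w = 1) {n : ℕ} (hX : X ^ (n + 1) = 1) : (mat w * X * N) ^ (n + 1) = 1 := by
  rw [pow_conj h1, hX, Matrix.mul_one]
  exact (Matrix.mul_eq_one_comm_of_card_eq _ _ _ (by simp)).1 h1

/-- **`PSp_4(7)`** -/
theorem row3_psp_two_seven (hF : Fintype.card F = 7) : H210.TC.Row3 (PSp 2 F) := by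
  have h5 : Nat.Prime 5 := by norm_num
  obtain ⟨r, hr, hr5, h4, x, hx⟩ := H812.TC.SpF.exists_elt (F := F) (by omega)
  have hr' : r = 5 := by
    have h1 : (((7 : ℕ) : ZMod r)) ^ 4 = 1 := by
      rw [← hF, ← h4]
      exact pow_orderOf_eq_one _
    have h2 : ((2400 : ℕ) : ZMod r) = 0 := by
      have h3 : ((7 ^ 4 : ℕ) : ZMod r) = 1 := by exact_mod_cast h1
      have h6 : ((2400 + 1 : ℕ) : ZMod r) = 1 := by
        rw [show 2400 + 1 = 7 ^ 4 by norm_num]; exact h3
      rw [Nat.cast_add, Nat.cast_one] at h6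
      exact left_eq_add.1 (by rw [add_comm] at h6; exact h6.symm)
    have h3 : r ∣ 2400 := (ZMod.natCast_eq_zero_iff _ _).1 h2
    have h6 : r ∣ 2 ^ 5 * 3 * 5 ^ 2 := by norm_num; exact h3
    rcases (hr.dvd_mul).1 h6 with h7 | h7
    · rcases (hr.dvd_mul).1 h7 with h8 | h8
      · have := Nat.le_of_dvd (by norm_num) (hr.dvd_of_dvd_pow h8); omega
      · have := Nat.le_of_dvd (by norm_num) h8; omega
    · have := Nat.le_of_dvd (by norm_num) (hr.dvd_of_dvd_pow h7); omega
  subst hr'
  have hx5 : x.1 ^ 5 = 1 := by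
    have h1 : x ^ 5 = 1 := by
      conv_lhs => rw [← hx]
      exact pow_orderOf_eq_one x
    have := congrArg Subtype.val h1
    rwa [SubmonoidClass.coe_pow] at this
  have hx1 : x.1 ≠ 1 := by
    intro h
    have h1 : x = 1 := Subtype.ext h
    rw [h1, orderOf_one] at hx
    omega
  have hchar : Nat.card F = 7 := by rw [Nat.card_eq_fintype_card, hF]
  have h2 : (2 : F) ≠ 0 := by
    have : Fact (Nat.Prime 7) := ⟨by norm_num⟩
    have : CharP F 7 := charP_of_card_eq_prime hF
    intro h
    have := (CharP.cast_eq_zero_iff F 7 2).1 (by exact_mod_cast h)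
    omega
  refine H812.TC.SpF.row3_sign h5 le_rfl h4 hx fun g hg => ?_
  have hg1 : g.1 ≠ 1 := fun h => hg (by
    rw [show g = 1 from Subtype.ext h]
    exact one_mem _)
  have hgm : g.1 ≠ -1 := fun h => hg (by
    rw [Subgroup.mem_center_iff]
    intro y
    apply Subtype.ext
    rw [Submonoid.coe_mul, Submonoid.coe_mul, h, Matrix.mul_neg, Matrix.neg_mul, Matrix.mul_one, Matrix.one_mul])
  obtain ⟨w, a, C, Γ, G', ha, hnf, hgram, hgm, hG'⟩ := nf h2 (SymplecticGroup.mem_iff'.1 g.2) hg1 hgm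
  obtain ⟨X, Y, hX, hX5, hX1, hY5, hY1, hC⟩ := T7.good_of_NF hchar hnf
  obtain ⟨A, B, N, hAB, hN, hA, hB⟩ := fac_of ha hgram hgm hG' hX hC
  refine ⟨A, B, hAB, ?_, ?_⟩
  · rw [charpoly_five h4 hx5 hx1]
    exact charpoly_five h4 (by rw [hA]; exact conj_pow hN hX5) (by rw [hA]; exact conj_ne hN hX1)
  · rw [charpoly_five h4 hx5 hx1]
    exact charpoly_five h4 (by rw [hB]; exact conj_pow hN hY5) (by rw [hB]; exact conj_ne hN hY1)

end Cfsg.Agent.H309.SF
end

private theorem dce_f70f506d6be7 : _root_.True := by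
  try have : _root_.True := by simp only [_root_.Cfsg.Agent.H309.SF.T7.cl2.eq_1]
  try have : _root_.True := by simp only [_root_.Cfsg.Agent.H309.SF.T7.allP.eq_1]
  try have : _root_.True := by simp only [_root_.Cfsg.Agent.H309.SF.T7.chk1.eq_1]
  try have : _root_.True := by simp only [_root_.Cfsg.Agent.H309.SF.T7.off.eq_1]
  try have : _root_.True := by simp only [_root_.Cfsg.Agent.H309.SF.T7.go.eq_2]
  try have : _root_.True := by simp only [_root_.Cfsg.Agent.H309.SF.T7.gl2.eq_1]
  try have : _root_.True := by simp only [_root_.Cfsg.Agent.H309.SF.T7.go.eq_1]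
  try have : _root_.True := by simp only [_root_.Cfsg.Agent.H309.SF.T7.core._sparseCasesOn_1.else_eq]
  try have : _root_.True := by simp only [_root_.Cfsg.Agent.H309.SF.T1.eq_1]
  try have : _root_.True := by simp only [_root_.Cfsg.Agent.H309.SF.T7.toM.eq_1]
  try have : _root_.True := by simp only [_root_.Cfsg.Agent.H309.SF.mat.eq_1]
  try have : _root_.True := by simp only [_root_.Cfsg.Agent.H309.SF.T7.chkMul.eq_1]
  try have : _root_.True := by simp only [_root_.Cfsg.Agent.H309.SF.T7.cl5.eq_1]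
  try have : _root_.True := by simp only [_root_.Cfsg.Agent.H309.SF.T7.chkMulT.eq_1]
  try have : _root_.True := by simp only [_root_.Cfsg.Agent.H309.SF.T7.cl4.eq_1]
  try have : _root_.True := by simp only [_root_.Cfsg.Agent.H309.SF.T7.core._sparseCasesOn_2.else_eq]
  try have : _root_.True := by simp only [_root_.Cfsg.Agent.H309.SF.T7.cl1.eq_1]
  try have : _root_.True := by simp only [_root_.Cfsg.Agent.H309.SF.T7.chk2.eq_1]
  try have : _root_.True := by simp only [_root_.Cfsg.Agent.H309.SF.T7.go.eq_def]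
  try have : _root_.True := by simp only [_root_.Cfsg.Agent.H309.SF.T7.toL.eq_1]
  try have : _root_.True := by simp only [_root_.Cfsg.Agent.H309.SF.T7.chk3.eq_1]
  try have : _root_.True := by simp only [_root_.Cfsg.Agent.H309.SF.T7.dot.eq_1]
  try have : _root_.True := by simp only [_root_.Cfsg.Agent.H309.SF.gram.eq_1]
  try have : _root_.True := by simp only [_root_.Cfsg.Agent.H309.SF.B.eq_1]
  try have : _root_.True := by simp only [_root_.Cfsg.Agent.H309.SF.T7.chk4.eq_1]
  try have : _root_.True := by simp only [_root_.Cfsg.Agent.H309.SF.T7.gl1.eq_1]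
  try have : _root_.True := by simp only [_root_.Cfsg.Agent.H309.SF.T7.cl3.eq_1]
  try have : _root_.True := by simp only [_root_.Cfsg.Agent.H309.SF.T7.dotT.eq_1]
  try have : _root_.True := by simp only [_root_.Cfsg.Agent.H309.SF.H2.eq_1]
  try have : _root_.True := by simp only [_root_.Cfsg.Agent.H309.SF.T7.chk5.eq_1]
  try have : _root_.True := by simp only [_root_.Cfsg.Agent.H309.SF.T7.chkE.eq_1]
  exact _root_.True.intro
end

-- part: H110/TC6/TwF
section
set_option linter.all false
open scoped Cfsg.Agent.FastGrp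

/-!
# S2464 (S2452): `²F₄(q)` and the Tits group (helper110)

* `raw_iso2F4` : `²F₄(q)`, `q = 2 ^ (2m+1) ≥ 8`: a class of elements of order dividing `5 (q - 1)`, prime to six;
* `row3_isoTits` : the Tits group, order 5.
-/

set_option autoImplicit false

namespace Cfsg.Agent.H110.TC6

theorem cop_six (m : ℕ) : Nat.Coprime (5 * (2 ^ (2 * m + 1) - 1)) 6 := by
  have h1 : 1 ≤ 2 ^ (2 * m) := Nat.one_le_two_pow
  have h4 : 2 ^ (2 * m) % 3 = 1 := by
    rw [pow_mul, Nat.pow_mod]
    norm_num
  refine Nat.Coprime.mul_left (by norm_num) ?_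
  rw [show (6 : ℕ) = 2 * 3 by norm_num, pow_succ]
  generalize 2 ^ (2 * m) = a at h1 h4 ⊢
  refine Nat.Coprime.mul_right ?_ ?_
  · rw [Nat.coprime_comm, Nat.Prime.coprime_iff_not_dvd Nat.prime_two]; omega
  · rw [Nat.coprime_comm, Nat.Prime.coprime_iff_not_dvd Nat.prime_three]; omega

section Main

open Cfsg.Agent.KFacts.TwF4 Cfsg.Agent.H84.GaussTwF4
open Cfsg.Agent.KFacts.TwF4.Inst Cfsg.Agent.ChevalleyStructure.TwF4.TwistedFix
open Cfsg.Lie Cfsg.Agent.H84.TwF4Cover

/-- `²F₄(q)`, `q ≥ 8` -/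
theorem raw_2f4 {K : Type*} [Field K] [Fintype K] {m : ℕ} (hm : 1 ≤ m) (hK : Fintype.card K = 2 ^ (2 * m + 1)) :
    ∃ x : ↥(twistedF4 K (2 ^ m)), Nat.Coprime (orderOf x) 6 ∧ ∀ g : ↥(twistedF4 K (2 ^ m)), g ≠ 1 →
      ∃ u v : ↥(twistedF4 K (2 ^ m)), g = (u * x * u⁻¹) * (v * x * v⁻¹) := by
  have hchar := Cfsg.Agent.ChevalleyStructure.TwF4.Twisted.charP_two hK
  obtain ⟨φ, hφ⟩ := exists_rln hK
  have hfin : Finite (Matrix.GeneralLinearGroup chevF4.Idx K) := inferInstance
  have hq : 2 ^ 3 ≤ 2 ^ (2 * m + 1) := Nat.pow_le_pow_right (by norm_num) (by omega)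
  have hcard : Nat.card Kˣ = 2 ^ (2 * m + 1) - 1 := by rw [Nat.card_units, Nat.card_eq_fintype_card, hK]
  obtain ⟨s, hs, hs5, hcov⟩ := LL_cover (full hK hφ) (k := 2 * m + 1) (by omega)
    (by rw [Nat.card_eq_fintype_card, hK])
  obtain ⟨d, hd⟩ : ∃ d : Kˣ, d ≠ 1 := by
    classical
    have h1 : 1 < Fintype.card Kˣ := by
      rw [Fintype.card_units, hK]
      omega
    exact Fintype.exists_ne_of_one_lt_card h1 1
  have hd5 : d ^ 5 ≠ 1 := by
    intro h
    have h1 := orderOf_dvd_of_pow_eq_one h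
    have h2 := orderOf_dvd_natCard d
    rw [hcard] at h2
    rcases (Nat.dvd_prime (by norm_num : Nat.Prime 5)).1 h1 with h3 | h3
    · exact hd (orderOf_eq_one_iff.1 h3)
    · rw [h3] at h2
      exact five_not_dvd m h2
  refine ⟨s * (full hK hφ).h 1 d, ?_, fun g hg => cover hs hs5 hcov hd5 hg⟩
  have h1 : (s * (full hK hφ).h 1 d) ^ (5 * (2 ^ (2 * m + 1) - 1)) = 1 := by
    have hc : Commute s ((full hK hφ).h 1 d) := (h_comm_LL d hs).symm
    rw [hc.mul_pow, pow_mul, hs5, one_pow, one_mul, h_pow', mul_comm, pow_mul, ← hcard, pow_card_eq_one', one_pow,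
      (full hK hφ).h_one]
  exact (cop_six m).coprime_dvd_left (orderOf_dvd_of_pow_eq_one h1)

theorem raw_transfer {G M : Type*} [Group G] [Group M] (e : M ≃* G)
    (h : ∃ x : G, Nat.Coprime (orderOf x) 6 ∧ ∀ g : G, g ≠ 1 → ∃ u v : G, g = (u * x * u⁻¹) * (v * x * v⁻¹)) :
    ∃ x : M, Nat.Coprime (orderOf x) 6 ∧ ∀ g : M, g ≠ 1 → ∃ u v : M, g = (u * x * u⁻¹) * (v * x * v⁻¹) := by
  obtain ⟨x, hx6, h⟩ := h
  have eo : ∀ z : G, orderOf (e.symm z) = orderOf z := fun z =>
    orderOf_injective (e.symm : G →* M) e.symm.injective z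
  refine ⟨e.symm x, by rwa [eo], fun g hg => ?_⟩
  obtain ⟨u, v, e'⟩ := h (e g) (by
    intro h1
    exact hg (e.injective (by rw [h1, map_one])))
  refine ⟨e.symm u, e.symm v, e.injective ?_⟩
  rw [e']
  simp

/-- **`²F₄(q)`** -/
theorem raw_iso2F4 {M : Type*} [Group M] (h : Cfsg.Lie.Iso2F4 M) :
    ∃ x : M, Nat.Coprime (orderOf x) 6 ∧ ∀ g : M, g ≠ 1 → ∃ u v : M, g = (u * x * u⁻¹) * (v * x * v⁻¹) := by
  obtain ⟨K, _, _, m, hm, hK, ⟨f⟩⟩ := h
  exact raw_transfer f (raw_2f4 hm hK)

/-- **`²F₄(q)`**, the form of S2464 -/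
theorem six_iso2F4 {M : Type*} [Group M] (h : Cfsg.Lie.Iso2F4 M) :
    ∃ x y : M, Nat.Coprime (orderOf x) 6 ∧ Nat.Coprime (orderOf y) 6 ∧
      ∀ g : M, g ≠ 1 → ∃ u v : M, g = (u * x * u⁻¹) * (v * y * v⁻¹) := by
  obtain ⟨x, hx, hc⟩ := raw_iso2F4 h
  exact ⟨x, x, hx, hx, hc⟩

end Main

section Tits

open Cfsg.Agent.ChevalleyStructure.Tits.Pack Cfsg.Agent.ChevalleyStructure.Tits.Data
  Cfsg.Agent.ChevalleyStructure.Tits.Cert Cfsg.Agent.ChevalleyStructure.Tits.Rank2
  Cfsg.Agent.ChevalleyStructure.Tits.Sat Cfsg.Agent.ChevalleyStructure.Tits.Final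
  Cfsg.Agent.ChevalleyStructure.Tits.Mat Cfsg.Agent.ChevalleyStructure.Tits.Order
  Cfsg.Agent.ChevalleyStructure.Tits.Table Cfsg.Agent.ChevalleyStructure.Tits.Main
open Cfsg.Agent.H246.TitsComp hiding go go_ok go_zero go_succ_even go_succ_odd sound
open Cfsg.Agent.H84.TitsCovData Cfsg.Agent.H84.TitsCovChk Cfsg.Agent.H84.TitsCov Cfsg.Agent.H84.TitsConj
open Cfsg.Agent.H210.TC

theorem tits_aux (K : Subgroup (Matrix.GeneralLinearGroup I52 (ZMod 2))) (hK : K = H0) (hF : ∀ t ∈ K, t ≠ 1 → Form t) :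
    Row3 (commutator K) := by
  subst hK
  obtain ⟨χ, h0, h1⟩ := exists_chi
  have hm := mem_commutator_iff χ (h1 7 (by norm_num) (by norm_num))
  have hf1 : f1 ∈ commutator H0 := (hm f1).2 (O5_sign χ O5_f1)
  have : Fact (Nat.Prime 5) := ⟨by norm_num⟩
  have h2 : orderOf (⟨f1, hf1⟩ : commutator H0) = 5 := by
    rw [← Subgroup.orderOf_coe]
    exact orderOf_eq_prime O5_f1.1 O5_f1.2
  refine Row3.of_sq (x := ⟨f1, hf1⟩) (by rw [h2]; norm_num) (by rw [h2]; norm_num) ?_
  intro g hg
  have h3 : ((g : H0) : Matrix.GeneralLinearGroup I52 (ZMod 2)) ≠ 1 := fun h => hg (Subtype.ext (Subtype.ext h))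
  obtain ⟨a, ha, b, hb, h⟩ := cover_H0 g.2 (hF _ (g : H0).2 h3)
  exact ⟨⟨a, ha⟩, ⟨b, hb⟩, Subtype.ext h⟩

theorem row3_tits : Row3 Cfsg.Lie.TitsGroup := by
  obtain ⟨φ, hφ⟩ := Cfsg.Agent.ChevalleyStructure.TwF4.TwistedFix.exists_rln Cfsg.Agent.H84.TitsLink.hK0
  refine tits_aux T0 T0_eq_H0 ?_
  intro t ht ht1
  obtain ⟨k, w, hw, v, hv, h⟩ := Cfsg.Agent.H84.TitsLink.form_of hφ (t := ⟨t, ht⟩) (fun h => ht1 (congrArg Subtype.val h))
  have hk : Cfsg.Agent.H84.TitsLink.cg k ∈ H0 := by rw [← T0_eq_H0]; exact k.2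
  exact ⟨Cfsg.Agent.H84.TitsLink.cg k, hk, w, hw, v, hv, h⟩

theorem row3_transfer {Γ : Type*} [Group Γ] (K : Subgroup Γ) {M : Type*} [Group M]
    (f : M ≃* commutator K) (h : Row3 (commutator K)) : Row3 M := h.of_equiv f

/-- **the Tits group** -/
theorem row3_isoTits {M : Type*} [Group M] (h : Cfsg.Lie.IsoTits M) : Row3 M := by
  obtain ⟨f⟩ : Nonempty (M ≃* Cfsg.Lie.TitsGroup) := h
  exact row3_transfer (Cfsg.Lie.twistedF4 (ZMod 2) 1) f row3_tits

end Tits

end Cfsg.Agent.H110.TC6
end

-- part: H641/TC6/GTor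
section
set_option linter.all false
open scoped Cfsg.Agent.FastGrp

/-!
# S2464, `G₂(q)`: the tori of order `q² ± q + 1` (helper641)

* `tor3_G2` : `TorD (G₂(q)) (q² + q + 1) ((q² + q + 1) / (3, q - 1)) 6 A T`, `q ≥ 3`;
* `tor6_G2` : `TorD (G₂(q)) (q² - q + 1) ((q² - q + 1) / (3, q + 1)) 6 A T`, `q ≥ 3`;
* `c3_six`, `c6_six` : the orders are prime to `6`.
-/

set_option autoImplicit false

namespace Cfsg.Agent.H641.TC6

open Subgroup Cfsg Cfsg.Lie Cfsg.Agent.H56.Exc Cfsg.Agent.H946.Num Cfsg.Agent.H983.KG2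
open Cfsg.Agent.H436 (Prim exists_prim)

universe u

variable {F : Type u} [Field F] [Fintype F] {q : ℕ}

theorem odd_N3' (q : ℕ) : ¬ 2 ∣ N3 q := by
  unfold N3
  have h : 2 ∣ q ^ 2 + q := by
    have := (Nat.even_mul_succ_self q).two_dvd
    have h2 : q * (q + 1) = q ^ 2 + q := by ring
    rwa [h2] at this
  omega

theorem odd_N6' (q : ℕ) : ¬ 2 ∣ N6 q := by
  intro h
  have h0 : (2 : ℤ) ∣ (q : ℤ) ^ 2 - q + 1 := by
    rw [← cast_N6]
    exact_mod_cast h
  have h1 : (2 : ℤ) ∣ (q : ℤ) * (q - 1) := (Int.even_mul_pred_self q).two_dvd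
  have h2 : (q : ℤ) ^ 2 - q + 1 = (q : ℤ) * (q - 1) + 1 := by ring
  rw [h2] at h0
  have h3 := (Int.dvd_add_right h1).1 h0
  norm_num at h3

/-- the orders are prime to `6` -/
theorem c3_six (q : ℕ) : (c3 q).Coprime 6 := by
  have h2 : (c3 q).Coprime 2 := ((Nat.Prime.coprime_iff_not_dvd Nat.prime_two).2
    fun h => odd_N3' q (h.trans (c3_dvd q))).symm
  have h3 : (c3 q).Coprime 3 := ((Nat.Prime.coprime_iff_not_dvd Nat.prime_three).2 (not_three_c3 q)).symm
  show Nat.Coprime _ (2 * 3)
  exact h2.mul_right h3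

theorem c6_six (q : ℕ) : (c6 q).Coprime 6 := by
  have h2 : (c6 q).Coprime 2 := ((Nat.Prime.coprime_iff_not_dvd Nat.prime_two).2
    fun h => odd_N6' q (h.trans (c6_dvd q))).symm
  have h3 : (c6 q).Coprime 3 := ((Nat.Prime.coprime_iff_not_dvd Nat.prime_three).2 (not_three_c6 q)).symm
  show Nat.Coprime _ (2 * 3)
  exact h2.mul_right h3

/-- **The torus of order `q² + q + 1`.** -/
theorem tor3_G2 (hq : Fintype.card F = q) (h3 : 3 ≤ q) :
    ∃ A T : Subgroup ↥(chevG2.group F), TorD ↥(chevG2.group F) (N3 q) (c3 q) 6 A T := by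
  obtain ⟨r, hr⟩ := exists_prim (q := q) (e := 3) (by omega) le_rfl (by omega)
  have hm : ((N3 q : ℕ) : ℤ) = 1 + (q : ℤ) + (q : ℤ) ^ 2 := by
    unfold N3; push_cast; ring
  have h7 : 6 < r := by
    have hlt := Cfsg.Agent.H56.Exc.prim_lt2 hr (by norm_num) (by norm_num)
    omega
  obtain ⟨T, h1, h2, h3', h4, h5⟩ := Cfsg.Agent.H129.CycCard.card_G2_3 hq hm hr.prime (prim_dvd_3 hr) (by omega)
  have hT : Nat.card ↥T = N3 q := Nat.dvd_antisymm h2 (by rwa [one_mul] at h3')
  obtain ⟨A, hA⟩ := exists_torD (G := ↥(chevG2.group F)) (w := 6) h1 hT (c3_dvd q)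
    (fun s hs hsn => ⟨6, big_G2_3 hq hm (prim_c3 (by omega) hs hsn)⟩) hr.prime (dvd_c3 (by omega) hr)
    (K := (q : ℤ) ^ 6 * ((q : ℤ) ^ 2 - 1) * ((q : ℤ) - 1) * ((q : ℤ) ^ 3 + 1))
    (by rw [ord_G2 hq, hm]; ring) (by push_cast; exact Kap.kap_G2_3 _ (prim_phi_3 hr)) h7
  exact ⟨A, T, hA⟩

/-- **The torus of order `q² - q + 1`.** -/
theorem tor6_G2 (hq : Fintype.card F = q) (h3 : 3 ≤ q) :
    ∃ A T : Subgroup ↥(chevG2.group F), TorD ↥(chevG2.group F) (N6 q) (c6 q) 6 A T := by
  obtain ⟨r, hr⟩ := exists_prim (q := q) (e := 6) (by omega) (by norm_num) (by omega)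
  have hm : ((N6 q : ℕ) : ℤ) = 1 - (q : ℤ) + (q : ℤ) ^ 2 := by
    rw [cast_N6]; ring
  have h7 : 6 < r := Cfsg.Agent.H56.Exc.prim_lt hr (by norm_num)
  obtain ⟨T, h1, h2, h3', h4, h5⟩ := Cfsg.Agent.H129.CycCard.card_G2_6 hq hm hr.prime (prim_dvd_6 hr) (by omega)
  have hT : Nat.card ↥T = N6 q := Nat.dvd_antisymm h2 (by rwa [one_mul] at h3')
  obtain ⟨A, hA⟩ := exists_torD (G := ↥(chevG2.group F)) (w := 6) h1 hT (c6_dvd q)
    (fun s hs hsn => ⟨6, big_G2_6 hq hm (prim_c6 (by omega) hs hsn)⟩) hr.prime (dvd_c6 (by omega) hr)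
    (K := (q : ℤ) ^ 6 * ((q : ℤ) ^ 2 - 1) * ((q : ℤ) + 1) * ((q : ℤ) ^ 3 - 1))
    (by rw [ord_G2 hq, hm]; ring) (by push_cast; exact Kap.kap_G2_6 _ (prim_phi_6 hr)) h7
  exact ⟨A, T, hA⟩

theorem N3_dvd (q : ℕ) : N3 q ∣ 3 * c3 q := by
  conv_lhs => rw [← c3_mul q]
  exact mul_dvd_mul_right (Nat.gcd_dvd_left _ _) _

theorem N6_dvd (q : ℕ) : N6 q ∣ 3 * c6 q := by
  conv_lhs => rw [← c6_mul q]
  exact mul_dvd_mul_right (Nat.gcd_dvd_left _ _) _

end Cfsg.Agent.H641.TC6
end

-- part: H446/TC6/GTwoCent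
section
set_option linter.all false
open scoped Cfsg.Agent.FastGrp

/-!
# Centralizers of unipotent elements of `G₂(q)` (helper446, S2464 row `G₂(q)`, box (G-a))

`card_cent_le`: `|C(u)| ≤ q⁶ (q² - 1)` for every `p`-element `u ≠ 1` of `G₂(q)`, `q = p ^ f`.
Borel–Tits: `C(u) ≤ P` with `P` a proper parabolic subgroup, `u ∈ U ≤ P`, `|P| ≤ q⁶ (q + 1) (q - 1)²`, and the torus
moves `u` through at least `q - 1` elements.
-/

set_option autoImplicit false
set_option linter.unusedSectionVars false

namespace Cfsg.Agent.H446.TC6.GTwoCent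

open Subgroup CoxeterSystem
open Cfsg Cfsg.Lie Cfsg.Lie.ChevalleyDatum
open Cfsg.Agent.ChevalleyStructure Cfsg.Agent.ChevalleyStructure.Elts Cfsg.Agent.ChevalleyStructure.CoxeterGeom
  Cfsg.Agent.ChevalleyStructure.RootVec Cfsg.Agent.ChevalleyStructure.RootVecTab
  Cfsg.Agent.ChevalleyStructure.CoxeterGeomTypes Cfsg.Agent.ChevalleyStructure.NPerm
open Cfsg.Agent.Tits.Roots Cfsg.Agent.Tits.Core Cfsg.Agent.Nodes Cfsg.Agent.Nodes.Reps Cfsg.Agent.Nodes.BNOf
  Cfsg.Agent.Nodes.RGDChev Cfsg.Agent.Nodes.Bruhat Cfsg.Agent.Nodes.StabComb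
open Cfsg.Agent.H35.ExcIdx Cfsg.Agent.H35.PoinNum Cfsg.Agent.Nodes.LeviDec Cfsg.Agent.KFacts.RgdBorelTits
open Cfsg.Agent.Omega.TwoF.GTwoLB (inG2 X H H_conj)

/-! ### counting -/

theorem count {F Y : Type*} [Field F] [Finite F] [Group Y] [Finite Y] (P : Subgroup Y) (u : Y)
    (hC : centralizer {u} ≤ P) (k : F → Y) (hk : ∀ c, c ≠ 0 → k c ∈ P)
    (hinj : ∀ c c', c ≠ 0 → c' ≠ 0 → k c * u * (k c)⁻¹ = k c' * u * (k c')⁻¹ → c = c') :
    (Nat.card F - 1) * Nat.card (centralizer {u}) ≤ Nat.card P := by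
  classical
  have := Fintype.ofFinite F
  have h1 : Nat.card Fˣ = Nat.card F - 1 := by
    rw [Nat.card_eq_fintype_card, Fintype.card_units, Nat.card_eq_fintype_card]
  rw [← h1, ← Nat.card_prod]
  refine Nat.card_le_card_of_injective (fun x : Fˣ × centralizer {u} =>
    (⟨k x.1 * x.2, P.mul_mem (hk _ x.1.ne_zero) (hC x.2.2)⟩ : P)) ?_
  rintro ⟨c, x⟩ ⟨c', x'⟩ h
  have h2 : k c * (x : Y) = k c' * (x' : Y) := congrArg Subtype.val h
  have hx : (x : Y) * u = u * x := (mem_centralizer_singleton_iff.1 x.2).symm ▸ rfl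
  have hx' : (x' : Y) * u = u * x' := (mem_centralizer_singleton_iff.1 x'.2).symm ▸ rfl
  have key : ∀ (a b : Y), b * u = u * b → (a * b) * u * (a * b)⁻¹ = a * u * a⁻¹ := by
    intro a b hb
    have : a * b * u = a * u * b := by rw [mul_assoc, hb, mul_assoc]
    rw [this]
    group
  have h3 := key (k c) x hx
  have h4 := key (k c') x' hx'
  rw [h2, h4] at h3
  have h5 : (c : F) = c' := hinj _ _ c.ne_zero c'.ne_zero h3.symm
  have h6 : c = c' := Units.ext h5
  subst h6
  have h7 := mul_left_cancel h2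
  rw [Subtype.ext h7]

/-! ### the coordinates of `U` and the torus -/

section Coord

universe u

variable {F : Type u} [Field F]

theorem posRoots_eq : chevG2.posRoots = [6, 7, 8, 9, 10, 11] := by decide +kernel

theorem conj_word {k : GL chevG2.Idx F} {e : ℕ → F} (hk : ∀ s < 12, ∀ t, k * xG inG2 s t * k⁻¹ = xG inG2 s (e s * t))
    (t : ℕ → F) (l : List ℕ) (hl : ∀ s ∈ l, s < 12) :
    k * wordG inG2 (l.map fun r => (r, t r)) * k⁻¹ = wordG inG2 (l.map fun r => (r, e r * t r)) := by
  induction l with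
  | nil => simp [wordG_nil]
  | cons s l ih =>
    rw [List.map_cons, List.map_cons, wordG_cons, wordG_cons, ← ih fun s hs => hl s (List.mem_cons_of_mem _ hs),
      ← hk s (hl s List.mem_cons_self)]
    group

/-- the torus separates the coordinates: a nonzero coordinate `s` on which `k c` acts by an injective function of `c`
makes `c ↦ k c u (k c)⁻¹` injective. -/
theorem inj_of_coord {k : F → GL chevG2.Idx F} {e : F → ℕ → F}
    (hk : ∀ c, c ≠ 0 → ∀ s < 12, ∀ t, k c * xG inG2 s t * (k c)⁻¹ = xG inG2 s (e c s * t))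
    {u : GL chevG2.Idx F} {t : ℕ → F} (ht0 : ∀ r, ¬ chevG2.IsPosRoot r → t r = 0)
    (ht : u = wordG inG2 (chevG2.posRoots.map fun r => (r, t r))) {s : ℕ} (hs : t s ≠ 0)
    (he : ∀ c c', c ≠ 0 → c' ≠ 0 → e c s = e c' s → c = c') {c c' : F} (hc : c ≠ 0) (hc' : c' ≠ 0)
    (h : k c * u * (k c)⁻¹ = k c' * u * (k c')⁻¹) : c = c' := by
  have hl : ∀ s ∈ chevG2.posRoots, s < 12 := by rw [posRoots_eq]; decide
  have h1 : k c * u * (k c)⁻¹ = wordG inG2 (chevG2.posRoots.map fun r => (r, e c r * t r)) := by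
    rw [ht]; exact conj_word (hk c hc) t _ hl
  have h2 : k c * u * (k c)⁻¹ = wordG inG2 (chevG2.posRoots.map fun r => (r, e c' r * t r)) := by
    rw [h, ht]; exact conj_word (hk c' hc') t _ hl
  have hmem : k c * u * (k c)⁻¹ ∈ chevG2.posUnipotent F := by
    rw [h1]
    refine mem_of_xG_mem inG2 fun p hp => ?_
    obtain ⟨r, hr, rfl⟩ := List.mem_map.1 hp
    refine xG_mem_posUnipotent inG2 ?_ _
    rw [ChevalleyDatum.posRoots, List.mem_filter] at hr
    exact of_decide_eq_true hr.2
  obtain ⟨v, -, hv⟩ := (Cfsg.Agent.S1026.result chevG2 (by simp)).1 _ hmem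
  have h3 := hv (fun r => e c r * t r) ⟨fun r hr => by simp only [ht0 r hr, mul_zero], (eq_wordG_iff inG2 _ _).1 h1⟩
  have h4 := hv (fun r => e c' r * t r) ⟨fun r hr => by simp only [ht0 r hr, mul_zero], (eq_wordG_iff inG2 _ _).1 h2⟩
  have h5 := congrFun (h3.trans h4.symm) s
  exact he c c' hc hc' (mul_right_cancel₀ hs h5)

/-- **The torus moves every `u ∈ U`, `u ≠ 1`, through `q - 1` elements.** -/
theorem torus {u : ↥(chevG2.group F)} (hu : (u : GL chevG2.Idx F) ∈ chevG2.posUnipotent F) (hu1 : u ≠ 1) :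
    ∃ k : F → ↥(chevG2.group F), (∀ c, c ≠ 0 → k c ∈ TT chevG2 F) ∧
      ∀ c c', c ≠ 0 → c' ≠ 0 → k c * u * (k c)⁻¹ = k c' * u * (k c')⁻¹ → c = c' := by
  obtain ⟨t, ⟨ht0, ht⟩, -⟩ := (Cfsg.Agent.S1026.result chevG2 (by simp)).1 _ hu
  have ht' := (eq_wordG_iff inG2 _ _).2 ht
  have hT : ∀ i < 2, ∀ c : F, c ≠ 0 → H i c ∈ TT chevG2 F := by
    intro i hi c hc
    rw [mem_subgroupOf]
    exact hG_mem_diagonal inG2 (by interval_cases i <;> decide) hc
  -- a nonzero coordinate
  obtain ⟨s, hs6, hs12, hs⟩ : ∃ s, 6 ≤ s ∧ s < 12 ∧ t s ≠ 0 := by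
    by_contra hcon
    push Not at hcon
    apply hu1
    apply Subtype.ext
    rw [ht', posRoots_eq]
    simp [wordG_cons, wordG_nil, hcon 6 (by norm_num) (by norm_num), hcon 7 (by norm_num) (by norm_num),
      hcon 8 (by norm_num) (by norm_num), hcon 9 (by norm_num) (by norm_num), hcon 10 (by norm_num) (by norm_num),
      hcon 11 (by norm_num) (by norm_num), xG_zero]
  -- the conjugations
  have hH : ∀ i < 2, ∀ c : F, c ≠ 0 → ∀ s < 12, ∀ t : F,
      (H i c : GL chevG2.Idx F) * xG inG2 s t * (H i c : GL chevG2.Idx F)⁻¹ =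
        xG inG2 s (c ^ (chevG2.cartan i s) * t) := by
    intro i hi c hc s hs t
    exact congrArg Subtype.val (H_conj hi hs hc t)
  have main : ∀ (k : F → ↥(chevG2.group F)) (e : F → ℕ → F),
      (∀ c, c ≠ 0 → ∀ s < 12, ∀ t, (k c : GL chevG2.Idx F) * xG inG2 s t * (k c : GL chevG2.Idx F)⁻¹ =
        xG inG2 s (e c s * t)) →
      (∀ c c', c ≠ 0 → c' ≠ 0 → e c s = e c' s → c = c') →
      ∀ c c', c ≠ 0 → c' ≠ 0 → k c * u * (k c)⁻¹ = k c' * u * (k c')⁻¹ → c = c' := by
    intro k e h1 h2 c c' hc hc' h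
    exact inj_of_coord (k := fun c => (k c : GL chevG2.Idx F)) h1 ht0 ht' hs h2 hc hc' (congrArg Subtype.val h)
  have single : ∀ i < 2, (chevG2.cartan i s = 1 ∨ chevG2.cartan i s = -1) →
      ∃ k : F → ↥(chevG2.group F), (∀ c, c ≠ 0 → k c ∈ TT chevG2 F) ∧
      ∀ c c', c ≠ 0 → c' ≠ 0 → k c * u * (k c)⁻¹ = k c' * u * (k c')⁻¹ → c = c' := by
    intro i hi h
    refine ⟨H i, hT i hi, main (H i) (fun c s => c ^ (chevG2.cartan i s)) (hH i hi) ?_⟩
    intro c c' _ _ he
    rcases h with h | h
    · simpa [h] using he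
    · simpa [h] using he
  interval_cases s
  · -- `s = 6`
    refine ⟨fun c => H 0 c * H 1 c, fun c hc => mul_mem (hT 0 (by norm_num) c hc) (hT 1 (by norm_num) c hc),
      main _ (fun c s => c ^ (chevG2.cartan 0 s) * c ^ (chevG2.cartan 1 s)) ?_ ?_⟩
    · intro c hc s hs t
      have e1 : ((H 0 c * H 1 c : ↥(chevG2.group F)) : GL chevG2.Idx F) * xG inG2 s t *
          ((H 0 c * H 1 c : ↥(chevG2.group F)) : GL chevG2.Idx F)⁻¹ =
          (H 0 c : GL chevG2.Idx F) * ((H 1 c : GL chevG2.Idx F) * xG inG2 s t * (H 1 c : GL chevG2.Idx F)⁻¹) *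
            (H 0 c : GL chevG2.Idx F)⁻¹ := by
        rw [Subgroup.coe_mul]; group
      rw [e1, hH 1 (by norm_num) c hc s hs, hH 0 (by norm_num) c hc s hs, mul_assoc]
    · intro c c' hc hc' he
      have e0 : chevG2.cartan 0 6 = -3 := by decide
      have e1 : chevG2.cartan 1 6 = 2 := by decide
      simp only [e0, e1, ← zpow_add₀ hc, ← zpow_add₀ hc'] at he
      simpa using he
  · exact single 1 (by norm_num) (by decide)
  · exact single 1 (by norm_num) (by decide)
  · exact single 0 (by norm_num) (by decide)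
  · exact single 1 (by norm_num) (by decide)
  · exact single 1 (by norm_num) (by decide)

end Coord

/-! ### the order of the parabolic subgroups -/

section Par

theorem hpG2 : IsType chevG2 2 CoxeterMatrix.G₂ := by simp [IsType, typeList]

theorem path_G2 : ∀ j : Fin 2, ∃ i : Fin 2, ({k | k ≠ j} : Set (Fin 2)) = {k | k ∈ ([i] : List (Fin 2))} ∧
    PathOK CoxeterMatrix.G₂ [i] [i] [] 0 := by
  intro j
  refine ⟨1 - j, ?_, ?_⟩
  · ext k
    revert j k
    decide
  · constructor
    · intro t ht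
      have : t = 0 := by simp at ht; omega
      subst this
      simp
    · intro t ht ht1
      simp at ht1
    · intro t ht s hs hst
      simp at ht
      omega
    · intro k hk h
      exfalso
      rw [List.mem_singleton] at hk
      exact h 0 (by simp) (by simp [hk])
    · intro s hs t ht _
      simp at hs ht
      omega
    · intro k
      constructor
      · intro hk
        exact absurd hk (List.not_mem_nil)
      · rintro ⟨hk, h⟩
        rw [List.mem_singleton] at hk
        exact absurd (by simp [hk]) (h 0 (by simp))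

variable (K : Type) [Field K] [Fintype K] (p : ℕ) [hp : Fact p.Prime] [CharP K p]

include hp in
theorem card_PJ (j : Fin 2) :
    Nat.card ↥(PJ CoxeterMatrix.G₂.toCoxeterSystem hpG2.isCartan (TT chevG2 K) (XX chevG2 2 K) {k | k ≠ j}) =
      Fintype.card K ^ 6 * ((1 + Fintype.card K) * (Fintype.card K - 1) ^ 2) := by
  obtain ⟨f, -, hK⟩ := FiniteField.card K p
  obtain ⟨f, hf0⟩ := f
  have hK : Fintype.card K = p ^ f := hK
  let cs := CoxeterMatrix.G₂.toCoxeterSystem
  have hfin := finite_W hpG2 cs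
  have R := rgd (K := K) hpG2 cs p
  obtain ⟨i, hi, hP⟩ := path_G2 j
  have hc : ∀ i : Fin 2, Nat.card (XX chevG2 2 K (sr i)) = p ^ f := fun i => by
    rw [card_XX hpG2 K cs (isRoot_sr cs _ i), Nat.card_eq_fintype_card, hK]
  have hFin : Finite ↥(chevG2.group K) := inferInstance
  have hN : Nat.card ↥(PJ cs hpG2.isCartan (TT chevG2 K) (XX chevG2 2 K) {k | k ≠ j}) =
      (1 + p ^ f) * Nat.card ↥(RGD.B cs hpG2.isCartan (TT chevG2 K) (XX chevG2 2 K)) := by
    rw [hi, card_step R hP (fun i _ => hc i) (card_nil R)]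
    simp [FA, Finset.sum_range_succ]
  have hpr : pr (p ^ f) [2, 6] = (((p ^ f) ^ 2 - 1) * ((p ^ f) ^ 6 - 1)) := by simp only [pr_cons, pr_nil, mul_one]
  have hidx : (PJ cs hpG2.isCartan (TT chevG2 K) (XX chevG2 2 K) {k | k ≠ j}).index * (1 + p ^ f) *
      (p ^ f - 1) ^ 2 = (((p ^ f) ^ 2 - 1) * ((p ^ f) ^ 6 - 1)) := by
    rw [← hpr]
    refine index_split hpG2 K hp.out hf0.ne' hK cs (d := 1) (fun h => hp.out.one_lt.ne' (Nat.dvd_one.1 h)) ?_
      ⟨f * 6, ?_⟩ (not_dvd_pr hp.out hf0.ne' _ (by simp)) hN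
    · rw [one_mul, ← hK]
      have := Cfsg.Agent.S1035.result (F := K) rfl (chevG2, 1) (by simp)
      rwa [one_mul] at this
    · rw [one_mul, Cfsg.Agent.S1059.result hK, hpr, pow_mul]
      ring
  have h1 := Subgroup.index_mul_card (PJ cs hpG2.isCartan (TT chevG2 K) (XX chevG2 2 K) {k | k ≠ j})
  rw [Cfsg.Agent.S1059.result hK, mul_assoc ((p ^ f) ^ 6), ← hidx] at h1
  rw [hK]
  refine Nat.eq_of_mul_eq_mul_left (Nat.pos_of_ne_zero (Subgroup.index_ne_zero_of_finite (H := PJ cs hpG2.isCartan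
    (TT chevG2 K) (XX chevG2 2 K) {k | k ≠ j}))) (h1.trans ?_)
  ring

theorem PJ_mono {I W Y : Type*} [Fintype I] [DecidableEq I] [Group W] [Group Y] {M : CoxeterMatrix I}
    {cs : CoxeterSystem M W} {A : I → I → ℤ} {h : IsCartan M A} {p : ℕ} {T : Subgroup Y} {n : I → Y}
    {X : (I → ℤ) → Subgroup Y} (R : RGD cs h p T n X) [Finite W] {K L : Set I} (hKL : K ⊆ L) :
    PJ cs h T X K ≤ PJ cs h T X L := by
  intro g hg
  obtain ⟨w, hw, hc⟩ := (mem_PJ_iff_cell R).1 hg
  exact (mem_PJ_iff_cell R).2 ⟨w, Subgroup.closure_mono (Set.image_mono hKL) hw, hc⟩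

/-- **`|C(u)| ≤ q⁶ (q² - 1)` for every `p`-element `u ≠ 1` of `G₂(q)`, `q = p ^ f`.** -/
theorem card_cent_le {u : ↥(chevG2.group K)} (hu : u ≠ 1) (hup : ∃ k, orderOf u = p ^ k) :
    Nat.card ↥(centralizer ({u} : Set ↥(chevG2.group K))) ≤ Fintype.card K ^ 6 * (Fintype.card K ^ 2 - 1) := by
  have hW := finite_W hpG2 CoxeterMatrix.G₂.toCoxeterSystem
  have hfin : Finite ↥(chevG2.group K) := inferInstance
  have hFil := KFacts.RgdFiltChev.filt (K := K) hpG2 CoxeterMatrix.G₂.toCoxeterSystem p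
  have hG := H35.ExcIdx.GG_eq_top hpG2 K CoxeterMatrix.G₂.toCoxeterSystem
  have R := rgd (K := K) hpG2 CoxeterMatrix.G₂.toCoxeterSystem p
  have hK : IsPGroup p (zpowers u) := by
    obtain ⟨k, hk⟩ := hup
    exact IsPGroup.of_card (n := k) (by rw [Nat.card_zpowers, hk])
  obtain ⟨g, J, hJ, hle, hN⟩ := borel_tits hFil hG hK (by rw [Ne, zpowers_eq_bot]; exact hu)
  obtain ⟨j, hj⟩ : ∃ j, j ∉ J := by
    by_contra hcon
    push Not at hcon
    exact hJ (Set.eq_univ_of_forall hcon)
  have hJj : J ⊆ {k | k ≠ j} := by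
    rintro k hk rfl
    exact hj hk
  have hN' := hN.trans (Subgroup.map_mono (f := (MulAut.conj g).toMonoidHom) (PJ_mono R hJj))
  obtain ⟨v, hv, hvu⟩ : ∃ v ∈ VJ CoxeterMatrix.G₂.toCoxeterSystem hpG2.isCartan (XX chevG2 2 K) J, g * v * g⁻¹ = u := by
    obtain ⟨v, hv, hvu⟩ := hle (mem_zpowers u)
    exact ⟨v, hv, hvu⟩
  have hvU : (v : GL chevG2.Idx K) ∈ chevG2.posUnipotent K := by
    have h1 := VJ_le_U J hv
    rw [H115.sup_pos_eq hpG2 CoxeterMatrix.G₂.toCoxeterSystem, mem_subgroupOf] at h1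
    exact h1
  have hv1 : v ≠ 1 := by
    rintro rfl
    apply hu
    rw [← hvu]
    group
  obtain ⟨k, hkT, hk⟩ := torus hvU hv1
  have h1 := count (F := K) (cj g (PJ CoxeterMatrix.G₂.toCoxeterSystem hpG2.isCartan (TT chevG2 K) (XX chevG2 2 K)
    {k | k ≠ j})) u ?_ (fun c => g * k c * g⁻¹) ?_ ?_
  · have h2 : Nat.card ↥(cj g (PJ CoxeterMatrix.G₂.toCoxeterSystem hpG2.isCartan (TT chevG2 K) (XX chevG2 2 K)
        {k | k ≠ j})) = Fintype.card K ^ 6 * ((1 + Fintype.card K) * (Fintype.card K - 1) ^ 2) := by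
      rw [← card_PJ K p j]
      exact Nat.card_congr (Subgroup.equivMapOfInjective _ _ (MulAut.conj g).injective).symm.toEquiv
    rw [h2, Nat.card_eq_fintype_card] at h1
    have hq : 1 < Fintype.card K := Fintype.one_lt_card
    obtain ⟨m, hm⟩ : ∃ m, Fintype.card K = m + 1 := ⟨Fintype.card K - 1, by omega⟩
    rw [hm] at h1 hq ⊢
    have h3 : (m + 1) ^ 2 - 1 = m * (m + 2) := by
      have : (m + 1) ^ 2 = m * (m + 2) + 1 := by ring
      rw [this, Nat.add_sub_cancel]
    rw [h3]
    rw [Nat.add_sub_cancel] at h1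
    refine Nat.le_of_mul_le_mul_left (h1.trans (le_of_eq ?_)) (show 0 < m by omega)
    ring
  · refine le_trans ?_ hN'
    intro x hx
    have hx' := mem_centralizer_singleton_iff.1 hx
    refine Subgroup.centralizer_le_normalizer _ ?_
    rw [mem_centralizer_iff]
    rintro y ⟨n, rfl⟩
    exact (Commute.zpow_left (show Commute u x from hx'.symm) n)
  · intro c hc
    refine ⟨k c, ?_, rfl⟩
    exact B_le_PJ (RGD.T_le_B (hkT c hc))
  · intro c c' hc hc' h
    refine hk c c' hc hc' ?_
    rw [← hvu] at h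
    have e : ∀ a : ↥(chevG2.group K), g * a * g⁻¹ * (g * v * g⁻¹) * (g * a * g⁻¹)⁻¹ = g * (a * v * a⁻¹) * g⁻¹ := by
      intro a; group
    simp only [e] at h
    exact mul_left_cancel (mul_right_cancel h)

end Par

end Cfsg.Agent.H446.TC6.GTwoCent

private theorem dce_c1f25fc6c265 : _root_.True := by
  try have : _root_.True := by simp only [_root_.Cfsg.Lie.ChevalleyDatum.posRoots.eq_1]
  try have : _root_.True := by simp only [_root_.Cfsg.Agent.H35.ExcIdx.FA.eq_1]
  try have : _root_.True := by simp only [_root_.Cfsg.Agent.Nodes.BNOf.RGD.B.congr_simp]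
  exact _root_.True.intro
end

-- part: H781/TC6/Def
section
set_option linter.all false

/-!
# S2464, `Ω_(2n+1)(q)`, `q` odd: interface (helper781)

* `GF n N f` : `f` is a good polynomial: monic irreducible of degree `n`, prime to its reverse, dividing `X ^ N - 1`,
  of constant term `(-1) ^ n`.
* `TLf n f` : every nonscalar matrix of determinant `1` is a product of two matrices of characteristic polynomial `f`.
-/

set_option autoImplicit false

namespace Cfsg.Agent.H781.TC6

open Matrix Polynomial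

/-- good polynomials -/
structure GF {F : Type*} [Field F] (n N : ℕ) (f : F[X]) : Prop where
  monic : f.Monic
  irr : Irreducible f
  deg : f.natDegree = n
  cop : IsCoprime f f.reverse
  dvd : f ∣ Polynomial.X ^ N - 1
  c0 : (-1) ^ n * f.coeff 0 = 1
  /-- the exception of Theorem L does not occur -/
  ex : ∀ (X : Matrix (Fin n) (Fin n) F) (c : F), X.charpoly = f → (c • X⁻¹).charpoly ≠ f
  /-- the centraliser contains elements of nonsquare determinant -/
  nsq : ∀ X : Matrix (Fin n) (Fin n) F, X.charpoly = f →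
    ∃ Z : GL (Fin n) F, (Z : Matrix (Fin n) (Fin n) F) * X = X * (Z : Matrix (Fin n) (Fin n) F) ∧
      ¬ IsSquare (Z : Matrix (Fin n) (Fin n) F).det

/-- Theorem L for `f, f`, determinant `1` -/
def TLf {F : Type*} [Field F] (n : ℕ) (f : F[X]) : Prop :=
  ∀ A : Matrix (Fin n) (Fin n) F, A.det = 1 → (∀ c : F, A ≠ c • (1 : Matrix (Fin n) (Fin n) F)) →
    ∃ X Y : Matrix (Fin n) (Fin n) F, X * Y = A ∧ X.charpoly = f ∧ Y.charpoly = f

/-- Theorem L (general form: `f`, `g` irreducible) -/
def TL (F : Type*) [Field F] (n : ℕ) : Prop :=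
  ∀ (f g : F[X]), f.Monic → g.Monic → f.natDegree = n → g.natDegree = n → Irreducible f → Irreducible g →
    (∀ (X : Matrix (Fin n) (Fin n) F) (c : F), X.charpoly = f → (c • X⁻¹).charpoly ≠ g) →
    ∀ A : Matrix (Fin n) (Fin n) F, A.det = f.coeff 0 * g.coeff 0 → A.det ≠ 0 →
      (∀ c : F, A ≠ c • (1 : Matrix (Fin n) (Fin n) F)) →
      ∃ X Y : Matrix (Fin n) (Fin n) F, X * Y = A ∧ X.charpoly = f ∧ Y.charpoly = g

end Cfsg.Agent.H781.TC6
end

-- part: H937/TC/RankOne
section
set_option linter.all false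
open scoped Cfsg.Agent.FastGrp

/-!
# S4173, S2464, S2452: groups of rank one (helper937)

* `row3_psl_two` : `PSL₂(q)`, `q ≠ 7, 17` (elements of prime order `≥ 5`);
* `s2452_psl_two` : `PSL₂(q)`, `q = 7, 17` (elements of order three), form of S2452;
* `row3_sz`, `row3_ree` : Suzuki groups (order 5) and Ree groups (order 7).
-/

set_option autoImplicit false

namespace Cfsg.Agent.H937.TC

open Cfsg.Agent.H210.TC Cfsg.Agent.H538.Pw

/-- a prime `≥ 5` dividing `q² - 1` -/
theorem exists_prime_sq {q : ℕ} (h4 : 4 ≤ q) (h5 : q ≠ 5) (h7 : q ≠ 7) (h17 : q ≠ 17) :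
    ∃ l : ℕ, l.Prime ∧ 5 ≤ l ∧ l ∣ q ^ 2 - 1 := by
  by_contra hcon
  push Not at hcon
  have hsq : q ^ 2 - 1 = (q + 1) * (q - 1) := by
    have := Nat.sq_sub_sq q 1
    rwa [one_pow] at this
  have key : ∀ m : ℕ, m ∣ q ^ 2 - 1 → ∀ l : ℕ, l.Prime → 5 ≤ l → ¬ l ∣ m := fun m hm l hl h5 h => hcon l hl h5 (h.trans hm)
  have d1 : q - 1 ∣ q ^ 2 - 1 := by rw [hsq]; exact dvd_mul_left _ _
  have d2 : q + 1 ∣ q ^ 2 - 1 := by rw [hsq]; exact dvd_mul_right _ _
  rcases Nat.even_or_odd' q with ⟨k, rfl | rfl⟩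
  · obtain ⟨a, ha⟩ := eq_pow_of (r := 2) (s := 3) (m := 2 * k - 1) (Or.inl ⟨rfl, rfl⟩) (by omega) (by omega) (key _ d1)
    obtain ⟨b, hb⟩ := eq_pow_of (r := 2) (s := 3) (m := 2 * k + 1) (Or.inl ⟨rfl, rfl⟩) (by omega) (by omega) (key _ d2)
    rcases Nat.eq_zero_or_pos a with rfl | ha0
    · rw [pow_zero] at ha
      omega
    · have e1 : 3 ∣ 2 * k - 1 := by rw [ha]; exact dvd_pow_self 3 (by omega)
      rcases Nat.eq_zero_or_pos b with rfl | hb0
      · rw [pow_zero] at hb
        omega
      · have e2 : 3 ∣ 2 * k + 1 := by rw [hb]; exact dvd_pow_self 3 (by omega)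
        omega
  · have d1' : k ∣ (2 * k + 1) ^ 2 - 1 := Dvd.dvd.trans (Dvd.intro_left 2 (by omega)) d1
    have d2' : k + 1 ∣ (2 * k + 1) ^ 2 - 1 := Dvd.dvd.trans (Dvd.intro_left 2 (by omega)) d2
    rcases Nat.even_or_odd' k with ⟨j, rfl | rfl⟩
    · -- `k` even
      obtain ⟨b, hb⟩ := eq_pow_of (r := 2) (s := 3) (m := 2 * j + 1) (Or.inl ⟨rfl, rfl⟩) (by omega) (by omega) (key _ d2')
      have hb0 : 0 < b := by
        rcases Nat.eq_zero_or_pos b with rfl | hb0
        · rw [pow_zero] at hb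
          omega
        · exact hb0
      have e2 : 3 ∣ 2 * j + 1 := by rw [hb]; exact dvd_pow_self 3 (by omega)
      obtain ⟨c, hc⟩ := eq_pow_of (r := 3) (s := 2) (m := 2 * j) (Or.inr ⟨rfl, rfl⟩) (by omega) (by omega) (key _ d1')
      rcases Nat.lt_or_ge c 4 with h | h
      · interval_cases c
        · omega
        · omega
        · have : b = 0 ∨ b = 1 ∨ 2 ≤ b := by omega
          rcases this with rfl | rfl | h2
          · omega
          · norm_num at hb; omega
          · have : 3 ^ 2 ≤ 3 ^ b := Nat.pow_le_pow_right (by norm_num) h2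
            omega
        · omega
      · exact no_three (a := b) (b := c) (by omega) h
    · -- `k` odd
      obtain ⟨a, ha⟩ := eq_pow_of (r := 2) (s := 3) (m := 2 * j + 1) (Or.inl ⟨rfl, rfl⟩) (by omega) (by omega) (key _ d1')
      have ha0 : 0 < a := by
        rcases Nat.eq_zero_or_pos a with rfl | ha0
        · rw [pow_zero] at ha
          omega
        · exact ha0
      have e1 : 3 ∣ 2 * j + 1 := by rw [ha]; exact dvd_pow_self 3 (by omega)
      obtain ⟨c, hc⟩ := eq_pow_of (r := 3) (s := 2) (m := 2 * j + 1 + 1) (Or.inr ⟨rfl, rfl⟩) (by omega) (by omega)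
        (key _ d2')
      rcases Nat.lt_or_ge c 3 with h | h
      · interval_cases c <;> omega
      · exact no_two (a := a) (b := c) (by omega) h

theorem cop6 {l : ℕ} (hl : l.Prime) (h5 : 5 ≤ l) : Nat.Coprime l 6 := by
  rw [show (6 : ℕ) = 2 * 3 by norm_num]
  refine Nat.Coprime.mul_right ?_ ?_
  · rw [Nat.coprime_primes hl Nat.prime_two]; omega
  · rw [Nat.coprime_primes hl Nat.prime_three]; omega

section psl

variable {F : Type*} [Field F] [Fintype F]

theorem dvd_card_psl_two {l : ℕ} (hl : l.Prime) (h3 : 3 ≤ l) (h : l ∣ Fintype.card F ^ 2 - 1) :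
    l ∣ Nat.card (Matrix.ProjectiveSpecialLinearGroup (Fin 2) F) := by
  have hq : 2 ≤ Fintype.card F := Fintype.one_lt_card
  have h1 := S0243.result (F := F) rfl 2 le_rfl
  rw [Fin.prod_univ_two] at h1
  simp only [Fin.val_zero, Fin.val_one, pow_zero, pow_one] at h1
  have h2 : Fintype.card F ^ 2 - Fintype.card F = Fintype.card F * (Fintype.card F - 1) := by
    rw [Nat.mul_sub, mul_one, pow_two]
  rw [h2] at h1
  have h3' : Nat.gcd 2 (Fintype.card F - 1) * Nat.card (Matrix.ProjectiveSpecialLinearGroup (Fin 2) F) =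
      (Fintype.card F ^ 2 - 1) * Fintype.card F := by
    apply Nat.eq_of_mul_eq_mul_left (show 0 < Fintype.card F - 1 by omega)
    linear_combination h1
  have h4 : l ∣ Nat.gcd 2 (Fintype.card F - 1) * Nat.card (Matrix.ProjectiveSpecialLinearGroup (Fin 2) F) := by
    rw [h3']; exact h.mul_right _
  refine (Nat.Coprime.dvd_mul_left ?_).1 h4
  have h5 : Nat.Coprime l 2 := by rw [Nat.coprime_primes hl Nat.prime_two]; omega
  exact h5.coprime_dvd_right (Nat.gcd_dvd_left _ _)

theorem exists_psl_two {l : ℕ} (hl : l.Prime) (h3 : 3 ≤ l) (h : l ∣ Fintype.card F ^ 2 - 1) :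
    ∃ x : Matrix.ProjectiveSpecialLinearGroup (Fin 2) F, orderOf x = l := by
  have : Fact l.Prime := ⟨hl⟩
  have : Finite (Matrix.ProjectiveSpecialLinearGroup (Fin 2) F) :=
    inferInstanceAs (Finite (Matrix.SpecialLinearGroup (Fin 2) F ⧸ _))
  exact exists_prime_orderOf_dvd_card' l (dvd_card_psl_two hl h3 h)

/-- odd `q` -/
theorem psl_two_odd (h2 : (2 : F) ≠ 0) (h5 : 5 ≤ Fintype.card F) {l : ℕ} (hl : l.Prime) (h3 : 3 ≤ l)
    (h : l ∣ Fintype.card F ^ 2 - 1) : ∃ x : Matrix.ProjectiveSpecialLinearGroup (Fin 2) F, orderOf x = l ∧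
      ∀ g, g ≠ 1 → ∃ u v, g = (u * x * u⁻¹) * (v * x * v⁻¹) := by
  obtain ⟨p, hp⟩ := CharP.exists F
  have hpp : p.Prime := (CharP.char_is_prime_or_zero F p).resolve_right (CharP.char_ne_zero_of_finite F p)
  have : Fact p.Prime := ⟨hpp⟩
  obtain ⟨x, hx⟩ := exists_psl_two hl h3 h
  have hp2 : p ≠ 2 := by
    rintro rfl
    exact h2 (CharP.cast_eq_zero F 2)
  refine ⟨x, hx, fun g hg => S2455.result p hp2 h5 x (by rw [hx]; omega) ?_ g hg⟩
  rw [hx]
  intro hd
  have h6 : p = l := (Nat.prime_dvd_prime_iff_eq hpp hl).1 hd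
  have h7 : l ∣ Fintype.card F := by
    rw [← h6]
    obtain ⟨n, -, hn⟩ := FiniteField.card F p
    rw [hn]
    exact dvd_pow_self p n.pos.ne'
  have h8 : l ∣ Fintype.card F ^ 2 := h7.trans (dvd_pow_self _ two_ne_zero)
  have h9 : 1 ≤ Fintype.card F ^ 2 := Nat.one_le_pow _ _ (by omega)
  have h10 : l ∣ 1 := by
    have := Nat.dvd_sub h8 h
    rwa [Nat.sub_sub_self h9] at this
  exact hl.one_lt.ne' (Nat.dvd_one.1 h10)

/-- **`PSL₂(q)`, `q ≠ 7, 17`.** -/
theorem row3_psl_two (h4 : 4 ≤ Fintype.card F) (h7 : Fintype.card F ≠ 7) (h17 : Fintype.card F ≠ 17) :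
    Row3 (Matrix.ProjectiveSpecialLinearGroup (Fin 2) F) := by
  by_cases e4 : Fintype.card F = 4
  · obtain ⟨e⟩ := S0252.result e4
    exact Row3.of_equiv e (H459.TC.row3_alt le_rfl)
  by_cases e5 : Fintype.card F = 5
  · obtain ⟨e⟩ := S0253.result e5
    exact Row3.of_equiv e (H459.TC.row3_alt le_rfl)
  by_cases h2 : (2 : F) = 0
  · have : CharP F 2 := CharTwo.of_one_ne_zero_of_two_eq_zero one_ne_zero h2
    obtain ⟨n, -, hn⟩ := FiniteField.card F 2
    have hn3 : 3 ≤ (n : ℕ) := by
      by_contra hlt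
      have h6 : 2 ^ (n : ℕ) ≤ 2 ^ 2 := Nat.pow_le_pow_right (by norm_num) (by omega)
      omega
    obtain ⟨l, hl, hl5, hld⟩ := ell_minus (Or.inl rfl) hn3
    rw [← hn] at hld
    have hq : 2 ≤ Fintype.card F := Fintype.one_lt_card
    have hsq : Fintype.card F ^ 2 - 1 = (Fintype.card F + 1) * (Fintype.card F - 1) := by
      have := Nat.sq_sub_sq (Fintype.card F) 1
      rwa [one_pow] at this
    obtain ⟨x, hx⟩ := exists_psl_two hl (by omega) (F := F) (by rw [hsq]; exact hld.mul_left _)
    refine Row3.of_sq (by rw [hx]; exact hl) (by rw [hx]; exact cop6 hl hl5)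
      (S2456.result h4 x (by rw [hx]; omega) ?_)
    rw [hx]
    intro h
    have h6 : l ∣ 2 := by
      have := Nat.dvd_sub h hld
      have e : Fintype.card F + 1 - (Fintype.card F - 1) = 2 := by omega
      rwa [e] at this
    have := Nat.le_of_dvd (by norm_num) h6
    omega
  · obtain ⟨l, hl, hl5, hld⟩ := exists_prime_sq h4 e5 h7 h17
    obtain ⟨x, hx, h⟩ := psl_two_odd h2 (by omega) hl (by omega) hld
    exact Row3.of_sq (by rw [hx]; exact hl) (by rw [hx]; exact cop6 hl hl5) h

end psl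

/-- **Suzuki groups.** -/
theorem row3_sz {G : Type*} [Group G] (h : Cfsg.Lie.IsoSuzuki G) : Row3 G := by
  obtain ⟨F, _, _, m, hm, hF, ⟨e⟩⟩ := h
  refine Row3.of_equiv e ?_
  have hc := (S1163.result hm hF).1
  have h5 : 5 ∣ Nat.card ↥(Cfsg.Lie.Sz F (2 ^ (m + 1))) := by
    rw [hc]
    refine Dvd.dvd.mul_left ?_ _
    have h1 : (2 ^ (2 * m + 1)) ^ 2 = 4 * 16 ^ m := by
      rw [← pow_mul, show (2 * m + 1) * 2 = 2 + 4 * m by ring, pow_add, pow_mul]
      norm_num
    have h2 : 16 ^ m % 5 = 1 := by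
      rw [Nat.pow_mod]
      norm_num
    omega
  have : Fact (Nat.Prime 5) := ⟨Nat.prime_five⟩
  have : Finite ↥(Cfsg.Lie.Sz F (2 ^ (m + 1))) := inferInstance
  obtain ⟨x, hx⟩ := exists_prime_orderOf_dvd_card' 5 h5
  exact Row3.of_sq (by rw [hx]; exact Nat.prime_five) (by rw [hx]; norm_num)
    (S2457.result m hm hF x (by rw [hx]; norm_num))

/-- **Ree groups.** -/
theorem row3_ree {G : Type*} [Group G] (h : Cfsg.Lie.IsoRee G) : Row3 G := by
  obtain ⟨K, _, _, m, hm, hK, ⟨e⟩⟩ := h
  refine Row3.of_equiv e ?_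
  have hc := Cfsg.Agent.LieRecognition.ReeFinal.card hK
  have h7 : 7 ∣ Nat.card ↥(Cfsg.Lie.twistedG2 K (3 ^ m)) := by
    rw [hc]
    refine Dvd.dvd.mul_left ?_ _
    have h1 : (3 ^ (2 * m + 1)) ^ 3 = 27 * 729 ^ m := by
      rw [← pow_mul, show (2 * m + 1) * 3 = 3 + 6 * m by ring, pow_add, pow_mul]
      norm_num
    have h2 : 729 ^ m % 7 = 1 := by
      rw [Nat.pow_mod]
      norm_num
    omega
  have : Fact (Nat.Prime 7) := ⟨by norm_num⟩
  have : Finite ↥(Cfsg.Lie.twistedG2 K (3 ^ m)) := by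
    apply Nat.finite_of_card_ne_zero
    rw [hc]
    have h1 : 0 < 3 ^ (2 * m + 1) := by positivity
    have h2 : 0 < 3 ^ (2 * m + 1) - 1 := by
      have : 3 ^ 1 ≤ 3 ^ (2 * m + 1) := Nat.pow_le_pow_right (by norm_num) (by omega)
      omega
    positivity
  obtain ⟨x, hx⟩ := exists_prime_orderOf_dvd_card' 7 h7
  exact Row3.of_sq (by rw [hx]; norm_num) (by rw [hx]; norm_num)
    (S2458.result m hm hK x (by rw [hx]; norm_num) (by rw [hx]; norm_num))

end Cfsg.Agent.H937.TC
end
end
end
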